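import Mathlib
import Cfsg.Agent.H758.EPX.TK_m3
import Cfsg.Agent.H59.EP.UBGen
import Cfsg.Agent.H357.EP.Signs_m3
import Cfsg.Agent.S0494
import Cfsg.Agent.S0496
import Cfsg.Agent.S2119
import Cfsg.Agent.H947.Sy.Psl2A
import Cfsg.Agent.H417.EP.ASix
import Cfsg.Agent.H957.EP.RowSixUB_m3
import Cfsg.Agent.SectRankFour.AutAlt
import Cfsg.Agent.S0813
import Cfsg.Agent.TwoFusion.SLTwoFacts
import Cfsg.Agent.Lib.FastPerm
import Cfsg.Agent.H36.EPL.Bound
import Cfsg.Agent.Lib.SolvableMinNormal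
import Cfsg.Agent.ClassicalGeometry.PSL2Solvable
import Cfsg.Agent.ClassicalGeometry.SL2Outer
import Cfsg.Agent.H104.EP.U42_m3
import Cfsg.Agent.S0293
import Cfsg.Agent.H528.EP.UB3_m3
import Cfsg.Agent.H347.HX.G23.Main
import Cfsg.Agent.H972.CS.LinkOf_m3
import Cfsg.Agent.S0713
import Cfsg.Agent.H364.OutLie
import Cfsg.Agent.S0254
import Cfsg.Agent.S2066
import Cfsg.Agent.H867.TitsOut
import Cfsg.Agent.H130.F4Graph
import Cfsg.Agent.H209.EPX.Defs_m3
import Cfsg.Agent.H470.EPK.ParOfVJ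
import Cfsg.Agent.H296.FFourPar
import Cfsg.Agent.H23.OZ.FourTwo
import Cfsg.Agent.FourTwo.Par
import Cfsg.Agent.KFacts.RgdCharP
import Mathlib.GroupTheory.Sylow
import Mathlib.Data.ZMod.Basic
import Cfsg.Agent.H891.TE6.Elt
import Cfsg.Agent.KFacts.TwESix.Tor
import Cfsg.Agent.H898.TE6Facts
import Cfsg.Agent.UGT.U2.FOne.TwESixEnd
import Cfsg.Agent.Nodes.OppDec
import Cfsg.Agent.Nodes.Unique
import Cfsg.Agent.OddHalf.Quat.KTwoOf_m3
import Cfsg.Agent.H568.OwnCharTw
import Cfsg.Agent.H976.Cop.TwE6Par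
import Cfsg.Agent.ChevFast.E6
import Cfsg.Agent.H286.EPK.TwEsix
import Cfsg.Agent.H347.HX.D42.Main
import Cfsg.Agent.LThreeFi22.Inst
import Cfsg.Agent.R08.AutT
import Cfsg.Agent.S0283
import Cfsg.Agent.S0215
import Cfsg.Agent.H836.Cent
import Cfsg.Agent.R08.X4Gamma_m3
import Cfsg.Prelude.Def_Classification2
import Cfsg.Prelude.Def_Classical
import Cfsg.Prelude.Def_G2
import Cfsg.Agent.H638.G2Iso
import Cfsg.Agent.PermutationGroups.OnanScott
import Cfsg.Agent.FastGrp
import Cfsg.Agent.Prune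
set_option linter.all false

section
prune_inst 0x7ffcbcf9afb83ddedfff7e7ffed1dffe39901fffefdff94bffe061ef0bdf030209e5f9850de000ff0ec2e09410387813f97eceffaa6bdc7ffffd5df41ffbec0f8566b108519488340f3c0ff603f0778a7f3fffffffffffffffffffffffffffbefffdffbfffff

-- part: H805/EPX/Sieve
section
set_option linter.all false
open scoped Cfsg.Agent.FastGrp

/-!
# S5745, sporadic socles: the order sieve (helper805)
-/

set_option autoImplicit false

namespace Cfsg.Agent.H805.EPX

/-- the families -/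
inductive Fm
  | e8 | e7 | e6 | te6 | f4 | td4

/-- numerator of the order -/
def nm : Fm → ℕ → ℕ
  | .e8, q => q ^ 120 * (q ^ 2 - 1) * (q ^ 8 - 1) * (q ^ 12 - 1) * (q ^ 14 - 1) *
      (q ^ 18 - 1) * (q ^ 20 - 1) * (q ^ 24 - 1) * (q ^ 30 - 1)
  | .e7, q => q ^ 63 * (q ^ 2 - 1) * (q ^ 6 - 1) * (q ^ 8 - 1) *
      (q ^ 10 - 1) * (q ^ 12 - 1) * (q ^ 14 - 1) * (q ^ 18 - 1)
  | .e6, q => q ^ 36 * (q ^ 2 - 1) * (q ^ 5 - 1) * (q ^ 6 - 1) * (q ^ 8 - 1) * (q ^ 9 - 1) * (q ^ 12 - 1)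
  | .te6, q => q ^ 36 * (q ^ 2 - 1) * (q ^ 5 + 1) * (q ^ 6 - 1) * (q ^ 8 - 1) * (q ^ 9 + 1) * (q ^ 12 - 1)
  | .f4, q => q ^ 24 * (q ^ 2 - 1) * (q ^ 6 - 1) * (q ^ 8 - 1) * (q ^ 12 - 1)
  | .td4, q => q ^ 12 * (q ^ 2 - 1) * (q ^ 6 - 1) * (q ^ 8 + q ^ 4 + 1)

/-- denominator -/
def dn : Fm → ℕ → ℕ
  | .e8, _ => 1
  | .e7, q => Nat.gcd 2 (q - 1)
  | .e6, q => Nat.gcd 3 (q - 1)
  | .te6, q => Nat.gcd 3 (q + 1)
  | .f4, _ => 1
  | .td4, _ => 1

theorem nm_mono (f : Fm) : Monotone (nm f) := by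
  intro a b h
  cases f <;> simp only [nm] <;> gcongr

theorem dn_le (f : Fm) (q : ℕ) : dn f q ≤ 3 := by
  cases f <;> simp only [dn]
  · omega
  · exact (Nat.gcd_le_left _ (by norm_num)).trans (by norm_num)
  · exact Nat.gcd_le_left _ (by norm_num)
  · exact Nat.gcd_le_left _ (by norm_num)
  · omega
  · omega

/-- necessary for prime powers -/
def pp (q : ℕ) : Bool := [2, 3, 5, 7, 11, 13].all fun p => !(Nat.beq (q % p) 0) || Nat.beq (p ^ 40 % q) 0

theorem pp_of {q : ℕ} (hq : IsPrimePow q) (hlt : q < 2 ^ 40) : pp q = true := by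
  unfold pp
  rw [List.all_eq_true]
  intro p hp
  by_cases h : q % p = 0
  · obtain ⟨r, k, hr, hk, rfl⟩ := hq
    have hpp : p.Prime := by
      simp only [List.mem_cons, List.not_mem_nil, or_false] at hp
      rcases hp with rfl | rfl | rfl | rfl | rfl | rfl <;> norm_num
    have h1 := hpp.dvd_of_dvd_pow (Nat.dvd_of_mod_eq_zero h)
    rw [Nat.prime_dvd_prime_iff_eq hpp hr.nat_prime] at h1
    subst h1
    have h2 : k < 40 := by
      by_contra hcon
      push Not at hcon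
      have h3 : 2 ^ k ≤ p ^ k := Nat.pow_le_pow_left hpp.two_le k
      have h4 : 2 ^ 40 ≤ 2 ^ k := Nat.pow_le_pow_right (by norm_num) hcon
      omega
    rw [Bool.or_eq_true]
    right
    rw [Nat.beq_eq]
    exact Nat.mod_eq_zero_of_dvd (pow_dvd_pow _ h2.le)
  · rw [Bool.or_eq_true]
    left
    rw [Bool.not_eq_true']
    exact Bool.eq_false_iff.2 fun h2 => h (by rw [Nat.beq_eq] at h2; exact h2)

/-- a single `q` is excluded or in the list -/
def okq (f : Fm) (n B : ℕ) (L : List ℕ) (q : ℕ) : Bool :=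
  Nat.ble q 1 || !(pp q) || !(Nat.beq (nm f q % (dn f q * n)) 0) || Nat.blt (dn f q * B) (nm f q) ||
    L.any (Nat.beq q)

theorem mem_of_okq {f : Fm} {n B : ℕ} {L : List ℕ} {q : ℕ} (h : okq f n B L q = true) (hq : IsPrimePow q)
    (hlt : q < 2 ^ 40) {C : ℕ} (hC : dn f q * C = nm f q) (hn : n ∣ C) (hB : C ≤ B) : q ∈ L := by
  unfold okq at h
  rw [Bool.or_eq_true, Bool.or_eq_true, Bool.or_eq_true, Bool.or_eq_true] at h
  rcases h with (((h | h) | h) | h) | h
  · have := Nat.le_of_ble_eq_true h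
    have := hq.two_le
    omega
  · rw [pp_of hq hlt] at h
    exact absurd h (by decide)
  · exfalso
    have h1 : nm f q % (dn f q * n) = 0 := by
      rw [← hC]
      exact Nat.mod_eq_zero_of_dvd (Nat.mul_dvd_mul_left _ hn)
    rw [h1] at h
    exact absurd h (by decide)
  · exfalso
    have h1 : dn f q * B < nm f q := by
      unfold Nat.blt at h
      exact Nat.le_of_ble_eq_true h
    have h2 : dn f q * C ≤ dn f q * B := Nat.mul_le_mul_left _ hB
    omega
  · obtain ⟨x, hx, h1⟩ := List.any_eq_true.1 h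
    rw [Nat.beq_eq] at h1
    exact h1 ▸ hx

/-- `∀ i < k` -/
def allb (p : ℕ → Bool) : ℕ → Bool
  | 0 => true
  | k + 1 => p k && allb p k

theorem allb_iff {p : ℕ → Bool} {k : ℕ} (h : allb p k = true) {i : ℕ} (hi : i < k) : p i = true := by
  induction k with
  | zero => omega
  | succ k ih =>
    rw [allb, Bool.and_eq_true] at h
    rcases (by omega : i = k ∨ i < k) with rfl | h1
    · exact h.1
    · exact ih h.2 h1

theorem lt_of_bound {f : Fm} {B Q : ℕ} (hm : 3 * B < nm f Q) {q C : ℕ} (hC : dn f q * C = nm f q) (hB : C ≤ B) :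
    q < Q := by
  by_contra hcon
  push Not at hcon
  have h1 := nm_mono f hcon
  have h2 : dn f q * C ≤ 3 * B := Nat.mul_le_mul (dn_le f q) hB
  omega

end Cfsg.Agent.H805.EPX

private theorem dce_e76cf20432c3 : _root_.True := by
  try have : _root_.True := by simp only [_root_.Cfsg.Agent.H805.EPX.nm.eq_3]
  try have : _root_.True := by simp only [_root_.Cfsg.Agent.H805.EPX.dn.eq_4]
  try have : _root_.True := by simp only [_root_.Cfsg.Agent.H805.EPX.nm.eq_6]
  try have : _root_.True := by simp only [_root_.Cfsg.Agent.H805.EPX.nm.eq_5]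
  try have : _root_.True := by simp only [_root_.Cfsg.Agent.H805.EPX.dn.eq_2]
  try have : _root_.True := by simp only [_root_.Cfsg.Agent.H805.EPX.dn.eq_6]
  try have : _root_.True := by simp only [_root_.Cfsg.Agent.H805.EPX.allb.eq_2]
  try have : _root_.True := by simp only [_root_.Cfsg.Agent.H805.EPX.dn.eq_1]
  try have : _root_.True := by simp only [_root_.Cfsg.Agent.H805.EPX.allb.eq_1]
  try have : _root_.True := by simp only [_root_.Cfsg.Agent.H805.EPX.allb.eq_def]
  try have : _root_.True := by simp only [_root_.Cfsg.Agent.H805.EPX.nm.eq_4]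
  try have : _root_.True := by simp only [_root_.Cfsg.Agent.H805.EPX.dn.eq_3]
  try have : _root_.True := by simp only [_root_.Cfsg.Agent.H805.EPX.nm.eq_1]
  try have : _root_.True := by simp only [_root_.Cfsg.Agent.H805.EPX.dn.eq_5]
  try have : _root_.True := by simp only [_root_.Cfsg.Agent.H805.EPX.nm.eq_2]
  exact _root_.True.intro
end

-- part: H805/EPX/Sieve2
section
set_option linter.all false
open scoped Cfsg.Agent.FastGrp

/-!
# S5745, sporadic socles: the order sieve for large `q` (helper805)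
-/

set_option autoImplicit false

namespace Cfsg.Agent.H805.EPX

theorem dvd_of_consec {a m : ℕ} (h : 2 ^ a ∣ m * (m + 1)) : 2 ^ a ∣ m ∨ 2 ^ a ∣ m + 1 := by
  rcases Nat.even_or_odd m with he | ho
  · left
    refine Nat.Coprime.dvd_of_dvd_mul_right (Nat.Coprime.pow_left a ?_) h
    exact (Nat.coprime_two_left).2 he.add_one
  · right
    refine Nat.Coprime.dvd_of_dvd_mul_left (Nat.Coprime.pow_left a ?_) h
    exact (Nat.coprime_two_left).2 ho

theorem pm {q k : ℕ} (hq : Odd q) (h : 2 ^ (k + 2) ∣ q ^ 2 - 1) : ∃ j, q = 2 ^ (k + 1) * j + 1 ∨ q + 1 = 2 ^ (k + 1) * j := by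
  obtain ⟨m, rfl⟩ := hq
  have h1 : (2 * m + 1) ^ 2 - 1 = 4 * (m * (m + 1)) := by
    have : (2 * m + 1) ^ 2 = 4 * (m * (m + 1)) + 1 := by ring
    omega
  have h2 : (2 : ℕ) ^ (k + 2) = 4 * 2 ^ k := by ring
  rw [h1, h2] at h
  have h3 := Nat.dvd_of_mul_dvd_mul_left (by norm_num) h
  rcases dvd_of_consec h3 with ⟨j, hj⟩ | ⟨j, hj⟩
  · refine ⟨j, Or.inl ?_⟩
    rw [hj]
    ring
  · refine ⟨j, Or.inr ?_⟩
    have : 2 * m + 1 + 1 = 2 * (m + 1) := by ring
    rw [this, hj]
    ring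

/-- the identity for `³D₄` -/
theorem td4_eq {q : ℕ} (hq : 1 ≤ q) : nm .td4 q = q ^ 12 * (q ^ 4 + 1 - q ^ 2) * (q ^ 6 - 1) ^ 2 := by
  simp only [nm]
  have h2 : 1 ≤ q ^ 2 := Nat.one_le_pow _ _ hq
  have h6 : 1 ≤ q ^ 6 := Nat.one_le_pow _ _ hq
  have h42 : q ^ 2 ≤ q ^ 4 + 1 := (Nat.pow_le_pow_right hq (by norm_num)).trans (Nat.le_succ _)
  zify [h2, h6, h42]
  ring

theorem td4_odd {q e : ℕ} (hq : Odd q) (h : 2 ^ (2 * e) ∣ nm .td4 q) : 2 ^ e ∣ q ^ 2 - 1 := by
  have h0 : 1 ≤ q := hq.pos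
  have h2 : 1 ≤ q ^ 2 := Nat.one_le_pow _ _ h0
  have h6 : 1 ≤ q ^ 6 := Nat.one_le_pow _ _ h0
  have h42 : q ^ 2 ≤ q ^ 4 + 1 := (Nat.pow_le_pow_right h0 (by norm_num)).trans (Nat.le_succ _)
  have e1 : nm .td4 q = (q ^ 12 * (q ^ 4 + 1 - q ^ 2) * (q ^ 4 + q ^ 2 + 1) ^ 2) * (q ^ 2 - 1) ^ 2 := by
    rw [td4_eq h0]
    zify [h2, h6, h42]
    ring
  have o1 : Odd (q ^ 4 + q ^ 2 + 1) := by
    have := (hq.pow (n := 4)).add_odd (hq.pow (n := 2))
    exact this.add_one
  have o2 : Odd (q ^ 4 + 1 - q ^ 2) := by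
    rw [Nat.odd_sub h42]
    constructor
    · intro h; exfalso
      have := (hq.pow (n := 4)).add_odd odd_one
      exact (Nat.not_odd_iff_even.2 this) h
    · intro h; exfalso
      exact (Nat.not_even_iff_odd.2 (hq.pow (n := 2))) h
  have o3 : Odd (q ^ 12 * (q ^ 4 + 1 - q ^ 2) * (q ^ 4 + q ^ 2 + 1) ^ 2) := ((hq.pow).mul o2).mul o1.pow
  rw [e1] at h
  have h3 := Nat.Coprime.dvd_of_dvd_mul_left (Nat.Coprime.pow_left (2 * e) ((Nat.coprime_two_left).2 o3)) h
  rw [mul_comm 2 e, pow_mul] at h3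
  exact (Nat.pow_dvd_pow_iff (by norm_num)).1 h3

theorem f4_odd {q e : ℕ} (hq : Odd q) (h : 2 ^ (4 * e + 3) ∣ nm .f4 q) : 2 ^ e ∣ q ^ 2 - 1 := by
  have h0 : 1 ≤ q := hq.pos
  have h2 : 1 ≤ q ^ 2 := Nat.one_le_pow _ _ h0
  have h6 : 1 ≤ q ^ 6 := Nat.one_le_pow _ _ h0
  have h8 : 1 ≤ q ^ 8 := Nat.one_le_pow _ _ h0
  have h12 : 1 ≤ q ^ 12 := Nat.one_le_pow _ _ h0
  have h42 : q ^ 2 ≤ q ^ 4 + 1 := (Nat.pow_le_pow_right h0 (by norm_num)).trans (Nat.le_succ _)
  obtain ⟨u, hu, hu1⟩ : ∃ u, q ^ 2 + 1 = 2 * u ∧ Odd u := by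
    obtain ⟨m, rfl⟩ := hq
    exact ⟨2 * m * (m + 1) + 1, by ring, ⟨m * (m + 1), by ring⟩⟩
  obtain ⟨v, hv, hv1⟩ : ∃ v, q ^ 4 + 1 = 2 * v ∧ Odd v := by
    obtain ⟨m, hm⟩ := hq.pow (n := 2)
    refine ⟨2 * m * (m + 1) + 1, ?_, ⟨m * (m + 1), by ring⟩⟩
    have : q ^ 4 = (q ^ 2) ^ 2 := by ring
    rw [this, hm]
    ring
  have e1 : nm .f4 q = (q ^ 24 * (q ^ 4 + q ^ 2 + 1) ^ 2 * (q ^ 4 + 1 - q ^ 2) * u ^ 2 * v) * (2 ^ 3 * (q ^ 2 - 1) ^ 4) := by
    have e2 : (q ^ 24 * (q ^ 4 + q ^ 2 + 1) ^ 2 * (q ^ 4 + 1 - q ^ 2) * u ^ 2 * v) * (2 ^ 3 * (q ^ 2 - 1) ^ 4) =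
        q ^ 24 * (q ^ 4 + q ^ 2 + 1) ^ 2 * (q ^ 4 + 1 - q ^ 2) * (2 * u) ^ 2 * (2 * v) * (q ^ 2 - 1) ^ 4 := by ring
    rw [e2, ← hu, ← hv]
    simp only [nm]
    zify [h2, h6, h8, h12, h42]
    ring
  have o1 : Odd (q ^ 4 + q ^ 2 + 1) := by
    have := (hq.pow (n := 4)).add_odd (hq.pow (n := 2))
    exact this.add_one
  have o2 : Odd (q ^ 4 + 1 - q ^ 2) := by
    rw [Nat.odd_sub h42]
    constructor
    · intro h; exfalso
      have := (hq.pow (n := 4)).add_odd odd_one
      exact (Nat.not_odd_iff_even.2 this) h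
    · intro h; exfalso
      exact (Nat.not_even_iff_odd.2 (hq.pow (n := 2))) h
  have o3 : Odd (q ^ 24 * (q ^ 4 + q ^ 2 + 1) ^ 2 * (q ^ 4 + 1 - q ^ 2) * u ^ 2 * v) :=
    ((((hq.pow).mul o1.pow).mul o2).mul hu1.pow).mul hv1
  rw [e1] at h
  have h3 := Nat.Coprime.dvd_of_dvd_mul_left (Nat.Coprime.pow_left (4 * e + 3) ((Nat.coprime_two_left).2 o3)) h
  rw [show 2 ^ (4 * e + 3) = 2 ^ 3 * (2 ^ e) ^ 4 by rw [← pow_mul]; ring] at h3
  exact (Nat.pow_dvd_pow_iff (by norm_num)).1 (Nat.dvd_of_mul_dvd_mul_left (by norm_num) h3)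

theorem nm_modEq19 (f : Fm) {m a b : ℕ} (ha : 1 ≤ a) (hb : 1 ≤ b) (h : a ≡ b [MOD m]) :
    nm f a ≡ nm f b [MOD m] := by
  have hp : ∀ k, a ^ k ≡ b ^ k [MOD m] := fun k => h.pow k
  have hs : ∀ k, a ^ k - 1 ≡ b ^ k - 1 [MOD m] := fun k => by
    apply Nat.ModEq.add_right_cancel' 1
    rw [Nat.sub_add_cancel (Nat.one_le_pow _ _ ha), Nat.sub_add_cancel (Nat.one_le_pow _ _ hb)]
    exact hp k
  have h1 : ∀ k, a ^ k + 1 ≡ b ^ k + 1 [MOD m] := fun k => (hp k).add_right 1
  cases f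
  · exact ((((((((hp _).mul (hs _)).mul (hs _)).mul (hs _)).mul (hs _)).mul (hs _)).mul (hs _)).mul (hs _)).mul (hs _)
  · exact (((((((hp _).mul (hs _)).mul (hs _)).mul (hs _)).mul (hs _)).mul (hs _)).mul (hs _)).mul (hs _)
  · exact ((((((hp _).mul (hs _)).mul (hs _)).mul (hs _)).mul (hs _)).mul (hs _)).mul (hs _)
  · exact ((((((hp _).mul (hs _)).mul (h1 _)).mul (hs _)).mul (hs _)).mul (h1 _)).mul (hs _)
  · exact ((((hp _).mul (hs _)).mul (hs _)).mul (hs _)).mul (hs _)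
  · exact (((hp _).mul (hs _)).mul (hs _)).mul (((hp _).add (hp _)).add_right 1)

/-- the sieve by residues -/
def svGo19 (f : Fm) (p : ℕ → Bool) (Q : ℕ) : List ℕ → ℕ → ℕ → Bool
  | [], M, r => allb (fun t => p (r + M * t)) (Q / M + 1)
  | m :: ms, M, r => allb (fun t => !(Nat.beq (nm f (r + M * t + M * m) % m) 0) || svGo19 f p Q ms (M * m) (r + M * t)) m

theorem svGo19_ok {f : Fm} {p : ℕ → Bool} {Q q : ℕ} (hq : 1 ≤ q) (hQ : q < Q) (ms : List ℕ) :
    ∀ (M r t : ℕ), 0 < M → (∀ m ∈ ms, 0 < m ∧ m ∣ nm f q) → svGo19 f p Q ms M r = true → q = r + M * t →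
      p q = true := by
  induction ms with
  | nil =>
    intro M r t hM _ h ht
    have h1 : t < Q / M + 1 := by
      apply Nat.lt_succ_of_le
      rw [Nat.le_div_iff_mul_le hM, Nat.mul_comm]
      omega
    rw [ht]
    exact allb_iff h h1
  | cons m ms ih =>
    intro M r t hM hm h ht
    obtain ⟨hm0, hmd⟩ := hm m List.mem_cons_self
    have h1 := allb_iff h (Nat.mod_lt t hm0)
    have h2 : q = r + M * (t % m) + M * m * (t / m) := by
      rw [ht, Nat.add_assoc, Nat.mul_assoc, ← Nat.mul_add, Nat.mod_add_div]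
    rcases (Bool.or_eq_true _ _).mp h1 with h3 | h3
    · exfalso
      have h4 : r + M * (t % m) + M * m ≡ q [MOD m] := by
        rw [h2, Nat.mul_comm M m, Nat.mul_assoc]
        exact (Nat.add_mul_mod_self_left _ _ _).trans (Nat.add_mul_mod_self_left _ _ _).symm
      have h5 : nm f (r + M * (t % m) + M * m) % m = nm f q % m :=
        nm_modEq19 f (Nat.le_add_left_of_le (Nat.mul_pos hM hm0)) hq h4
      rw [h5, Nat.mod_eq_zero_of_dvd hmd] at h3
      exact absurd h3 (by decide)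
    · exact ih _ _ _ (Nat.mul_pos hM hm0) (fun x hx => hm x (List.mem_cons_of_mem _ hx)) h3 h2

/-- the side conditions -/
def side19 (f : Fm) (n B : ℕ) (ms : List ℕ) (Q : ℕ) : Bool :=
  Nat.blt (3 * B) (nm f Q) && Nat.ble Q (2 ^ 40) && ms.all fun m => Nat.blt 0 m && Nat.beq (n % m) 0

theorem side19_ok {f : Fm} {n B : ℕ} {ms : List ℕ} {Q : ℕ} (h : side19 f n B ms Q = true) {q C : ℕ}
    (hC : dn f q * C = nm f q) (hn : n ∣ C) (hB : C ≤ B) :
    q < Q ∧ q < 2 ^ 40 ∧ ∀ m ∈ ms, 0 < m ∧ m ∣ nm f q := by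
  unfold side19 at h
  rw [Bool.and_eq_true, Bool.and_eq_true, List.all_eq_true] at h
  have h1 := lt_of_bound (Nat.le_of_ble_eq_true h.1.1) hC hB
  refine ⟨h1, h1.trans_le (Nat.le_of_ble_eq_true h.1.2), fun m hm => ?_⟩
  have h2 := h.2 m hm
  rw [Bool.and_eq_true] at h2
  exact ⟨Nat.le_of_ble_eq_true h2.1,
    (Nat.dvd_of_mod_eq_zero (Nat.eq_of_beq_eq_true h2.2)).trans (hC ▸ hn.mul_left _)⟩

/-- the whole range `q < Q` -/
def chk19 (f : Fm) (n B : ℕ) (L ms : List ℕ) (Q : ℕ) : Bool :=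
  side19 f n B ms Q && svGo19 f (okq f n B L) Q ms 1 0

theorem surv19 {f : Fm} {n B : ℕ} {L ms : List ℕ} {Q : ℕ} (h : chk19 f n B L ms Q = true) {q : ℕ}
    (hq : IsPrimePow q) {C : ℕ} (hC : dn f q * C = nm f q) (hn : n ∣ C) (hB : C ≤ B) : q ∈ L := by
  unfold chk19 at h
  rw [Bool.and_eq_true] at h
  obtain ⟨h1, h2, h3⟩ := side19_ok h.1 hC hn hB
  exact mem_of_okq (svGo19_ok hq.one_lt.le h1 ms 1 0 q Nat.one_pos h3 h.2 (by omega)) hq h2 hC hn hB

/-- powers of two and `q = ±1 mod 2 ^ k` -/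
def chk29 (f : Fm) (n B k : ℕ) (ms : List ℕ) (Q : ℕ) : Bool :=
  side19 f n B ms Q && allb (fun i => okq f n B [] (2 ^ i)) 40 &&
    svGo19 f (okq f n B []) Q ms (2 ^ k) 1 && svGo19 f (okq f n B []) Q ms (2 ^ k) (2 ^ k - 1)

theorem surv29 {f : Fm} {n B : ℕ} (k : ℕ) {ms : List ℕ} {Q : ℕ} (h : chk29 f n B (k + 1) ms Q = true)
    (hd : ∀ q, Odd q → n ∣ nm f q → 2 ^ (k + 2) ∣ q ^ 2 - 1) {q : ℕ} (hq : IsPrimePow q)
    {C : ℕ} (hC : dn f q * C = nm f q) (hn : n ∣ C) (hB : C ≤ B) : False := by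
  unfold chk29 at h
  rw [Bool.and_eq_true, Bool.and_eq_true, Bool.and_eq_true] at h
  obtain ⟨⟨⟨h0, ha⟩, hb⟩, hc⟩ := h
  obtain ⟨h1, hlt, h3⟩ := side19_ok h0 hC hn hB
  have hdv : n ∣ nm f q := hC ▸ hn.mul_left _
  have hpos : 0 < 2 ^ (k + 1) := Nat.two_pow_pos _
  refine List.not_mem_nil (mem_of_okq (f := f) (n := n) (B := B) ?_ hq hlt hC hn hB)
  rcases Nat.even_or_odd q with he | ho
  · obtain ⟨r, i, hr, hi, rfl⟩ := hq
    have h2 := Nat.prime_two.dvd_of_dvd_pow (even_iff_two_dvd.1 he)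
    rw [Nat.prime_dvd_prime_iff_eq Nat.prime_two hr.nat_prime] at h2
    subst h2
    exact allb_iff ha ((Nat.pow_lt_pow_iff_right (by norm_num)).1 hlt)
  · obtain ⟨j, hj | hj⟩ := pm ho (hd q ho hdv)
    · exact svGo19_ok hq.one_lt.le h1 ms _ _ j hpos h3 hb (by omega)
    · rcases j with _ | j
      · omega
      · refine svGo19_ok hq.one_lt.le h1 ms _ _ j hpos h3 hc ?_
        rw [Nat.mul_succ] at hj
        omega

end Cfsg.Agent.H805.EPX
end

-- part: H18/EK/SporF
section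
prune_inst 0x343065047c22120000000012c20000247c00010000200001f9a10f420b0fd3208062a9004f800c03506232881804002813100450420000000a2034000027072990e8100431340e040e009f803087580c00000000000000000000000000041000200400000
set_option linter.all false
open scoped Cfsg.Agent.FastGrp

-- part: H18/EK/Val
section
/-!
# S5745, socle `T ^ k` in cross characteristic: 2-adic and 3-adic valuations of the orders (helper18)
-/

set_option autoImplicit false
set_option maxHeartbeats 1000000

namespace Cfsg.Agent.H18.EK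

open Cfsg.Agent.H746.EK

/-- `v₂(nm f q) ≤ c2 f * v₂(q² - 1) + d2 f` -/
def c2 : Fam → ℕ
  | .e8 => 8 | .e7 => 7 | .e6 => 6 | .te6 => 6 | .f4 => 4 | .td4 => 2 | .g2 => 2
/-- see `c2` -/
def d2 : Fam → ℕ
  | .e8 => 6 | .e7 => 3 | .e6 => 3 | .te6 => 3 | .f4 => 3 | .td4 => 0 | .g2 => 0
/-- `v₃(nm f q) ≤ c3 f * v₃(q² - 1) + d3 f` -/
def c3 : Fam → ℕ
  | .e8 => 8 | .e7 => 7 | .e6 => 6 | .te6 => 6 | .f4 => 4 | .td4 => 2 | .g2 => 2
/-- see `c3` -/
def d3 : Fam → ℕ
  | .e8 => 5 | .e7 => 4 | .e6 => 4 | .te6 => 4 | .f4 => 2 | .td4 => 2 | .g2 => 1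

theorem v2_even {q n m : ℕ} (ho : Odd q) (h1 : 1 < q) (hn : n ≠ 0) (he : Even n) (hm : padicValNat 2 n = m) :
    padicValNat 2 (q ^ n - 1) = padicValNat 2 (q ^ 2 - 1) + (m - 1) := by
  have hd : 2 ∣ q - 1 := by
    obtain ⟨x, rfl⟩ := ho
    exact ⟨x, by omega⟩
  have hnd : ¬ 2 ∣ q := by
    obtain ⟨x, rfl⟩ := ho
    omega
  have a := padicValNat.pow_two_sub_pow (x := q) (y := 1) h1 hd hnd hn he
  have b := padicValNat.pow_two_sub_pow (x := q) (y := 1) h1 hd hnd (n := 2) (by norm_num) (by norm_num)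
  have c : padicValNat 2 2 = 1 := padicValNat_self
  rw [one_pow] at a b
  have hm1 : 1 ≤ m := by
    rw [← hm]
    exact one_le_padicValNat_of_dvd hn (even_iff_two_dvd.1 he)
  omega

theorem v2_val {n : ℕ} (m : ℕ) (k : ℕ) (h : n = 2 ^ m * k) (hk : ¬ 2 ∣ k) (hn : n ≠ 0) : padicValNat 2 n = m := by
  have hk0 : k ≠ 0 := by rintro rfl; simp at h; exact hn h
  rw [h, padicValNat.mul (by positivity) hk0, padicValNat.prime_pow, padicValNat.eq_zero_of_not_dvd hk, add_zero]

theorem v3_val {n : ℕ} (m : ℕ) (k : ℕ) (h : n = 3 ^ m * k) (hk : ¬ 3 ∣ k) (hn : n ≠ 0) : padicValNat 3 n = m := by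
  have hk0 : k ≠ 0 := by rintro rfl; simp at h; exact hn h
  rw [h, padicValNat.mul (by positivity) hk0, padicValNat.prime_pow, padicValNat.eq_zero_of_not_dvd hk, add_zero]

theorem v2_odd_sub {q n : ℕ} (ho : Odd q) (h1 : 1 < q) (hn : Odd n) :
    padicValNat 2 (q ^ n - 1) + 1 ≤ padicValNat 2 (q ^ 2 - 1) := by
  have hn0 : n ≠ 0 := by rintro rfl; exact absurd hn (by decide)
  have e1 : padicValNat 2 (q ^ (2 * n) - 1) = padicValNat 2 (q ^ 2 - 1) := by
    rw [v2_even ho h1 (by omega) (even_two_mul n) (v2_val 1 n (by ring) (by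
      intro h; exact (Nat.not_even_iff_odd.2 hn) (even_iff_two_dvd.2 h)) (by omega))]
    rfl
  have h2 : 1 < q ^ n := Nat.one_lt_pow hn0 h1
  have e2 : q ^ (2 * n) - 1 = (q ^ n - 1) * (q ^ n + 1) := by
    rw [show q ^ (2 * n) = (q ^ n) ^ 2 by rw [← pow_mul, mul_comm]]
    zify [h2.le, Nat.one_le_pow 2 (q ^ n) (by omega)]
    ring
  rw [e2, padicValNat.mul (by omega) (by omega)] at e1
  have h3 : 1 ≤ padicValNat 2 (q ^ n + 1) :=
    one_le_padicValNat_of_dvd (by omega) (even_iff_two_dvd.1 ((ho.pow).add_odd odd_one))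
  omega

theorem v2_odd_add {q n : ℕ} (ho : Odd q) (h1 : 1 < q) (hn : Odd n) :
    padicValNat 2 (q ^ n + 1) + 1 ≤ padicValNat 2 (q ^ 2 - 1) := by
  have hn0 : n ≠ 0 := by rintro rfl; exact absurd hn (by decide)
  have e1 : padicValNat 2 (q ^ (2 * n) - 1) = padicValNat 2 (q ^ 2 - 1) := by
    rw [v2_even ho h1 (by omega) (even_two_mul n) (v2_val 1 n (by ring) (by
      intro h; exact (Nat.not_even_iff_odd.2 hn) (even_iff_two_dvd.2 h)) (by omega))]
    rfl
  have h2 : 1 < q ^ n := Nat.one_lt_pow hn0 h1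
  have e2 : q ^ (2 * n) - 1 = (q ^ n - 1) * (q ^ n + 1) := by
    rw [show q ^ (2 * n) = (q ^ n) ^ 2 by rw [← pow_mul, mul_comm]]
    zify [h2.le, Nat.one_le_pow 2 (q ^ n) (by omega)]
    ring
  rw [e2, padicValNat.mul (by omega) (by omega)] at e1
  have h3 : 1 ≤ padicValNat 2 (q ^ n - 1) :=
    one_le_padicValNat_of_dvd (by omega) (even_iff_two_dvd.1 (Nat.Odd.sub_odd (ho.pow (n := n)) odd_one))
  omega

instance : Fact (Nat.Prime 3) := ⟨Nat.prime_three⟩

theorem three_dvd {q : ℕ} (h3 : ¬ 3 ∣ q) : 3 ∣ q ^ 2 - 1 := by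
  have h : q % 3 = 1 ∨ q % 3 = 2 := by omega
  have h4 : (q ^ 2) % 3 = 1 := by
    rw [Nat.pow_mod]
    rcases h with h | h <;> rw [h]
  omega

theorem v3_even {q n m : ℕ} (h3 : ¬ 3 ∣ q) (h1 : 1 < q) (hn : n ≠ 0) (hm : padicValNat 3 n = m) :
    padicValNat 3 (q ^ (2 * n) - 1) = padicValNat 3 (q ^ 2 - 1) + m := by
  have a := padicValNat.pow_sub_pow (x := q ^ 2) (y := 1) (p := 3) (by decide) (Nat.one_lt_pow (by norm_num) h1)
    (three_dvd h3) (fun h => h3 (Nat.prime_three.dvd_of_dvd_pow h)) hn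
  rw [one_pow, ← pow_mul, hm] at a
  exact a

theorem v3_sub {q n m : ℕ} (h3 : ¬ 3 ∣ q) (h1 : 1 < q) (hn : Odd n) (hm : padicValNat 3 n = m) :
    padicValNat 3 (q ^ n - 1) ≤ padicValNat 3 (q ^ 2 - 1) + m := by
  have hn0 : n ≠ 0 := by rintro rfl; exact absurd hn (by decide)
  have h := v3_even h3 h1 hn0 hm
  rw [← h]
  have h2 : 1 < q ^ n := Nat.one_lt_pow hn0 h1
  have e2 : q ^ (2 * n) - 1 = (q ^ n - 1) * (q ^ n + 1) := by
    rw [show q ^ (2 * n) = (q ^ n) ^ 2 by rw [← pow_mul, mul_comm]]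
    zify [h2.le, Nat.one_le_pow 2 (q ^ n) (by omega)]
    ring
  rw [e2, padicValNat.mul (by omega) (by omega)]
  omega

theorem v3_add {q n m : ℕ} (h3 : ¬ 3 ∣ q) (h1 : 1 < q) (hn : Odd n) (hm : padicValNat 3 n = m) :
    padicValNat 3 (q ^ n + 1) ≤ padicValNat 3 (q ^ 2 - 1) + m := by
  have hn0 : n ≠ 0 := by rintro rfl; exact absurd hn (by decide)
  have h := v3_even h3 h1 hn0 hm
  rw [← h]
  have h2 : 1 < q ^ n := Nat.one_lt_pow hn0 h1
  have e2 : q ^ (2 * n) - 1 = (q ^ n - 1) * (q ^ n + 1) := by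
    rw [show q ^ (2 * n) = (q ^ n) ^ 2 by rw [← pow_mul, mul_comm]]
    zify [h2.le, Nat.one_le_pow 2 (q ^ n) (by omega)]
    ring
  rw [e2, padicValNat.mul (by omega) (by omega)]
  omega

theorem sub_ne {q n : ℕ} (h1 : 1 < q) (hn : n ≠ 0) : q ^ n - 1 ≠ 0 := by
  have := Nat.one_lt_pow hn h1
  omega

theorem v2_le (f : Fam) {q : ℕ} (ho : Odd q) (h1 : 1 < q) :
    nm f q ≠ 0 ∧ padicValNat 2 (nm f q) ≤ c2 f * padicValNat 2 (q ^ 2 - 1) + d2 f := by
  have hnd : ¬ 2 ∣ q := fun h => (Nat.not_even_iff_odd.2 ho) (even_iff_two_dvd.2 h)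
  have hp (n : ℕ) : padicValNat 2 (q ^ n) = 0 :=
    padicValNat.eq_zero_of_not_dvd fun h => hnd (Nat.prime_two.dvd_of_dvd_pow h)
  have hq (n : ℕ) : q ^ n ≠ 0 := pow_ne_zero _ (by omega)
  have e6 := v2_even ho h1 (n := 6) (by norm_num) (by decide) (v2_val 1 3 (by norm_num) (by norm_num) (by norm_num))
  have e8 := v2_even ho h1 (n := 8) (by norm_num) (by decide) (v2_val 3 1 (by norm_num) (by norm_num) (by norm_num))
  have e10 := v2_even ho h1 (n := 10) (by norm_num) (by decide) (v2_val 1 5 (by norm_num) (by norm_num) (by norm_num))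
  have e12 := v2_even ho h1 (n := 12) (by norm_num) (by decide) (v2_val 2 3 (by norm_num) (by norm_num) (by norm_num))
  have e14 := v2_even ho h1 (n := 14) (by norm_num) (by decide) (v2_val 1 7 (by norm_num) (by norm_num) (by norm_num))
  have e18 := v2_even ho h1 (n := 18) (by norm_num) (by decide) (v2_val 1 9 (by norm_num) (by norm_num) (by norm_num))
  have e20 := v2_even ho h1 (n := 20) (by norm_num) (by decide) (v2_val 2 5 (by norm_num) (by norm_num) (by norm_num))
  have e24 := v2_even ho h1 (n := 24) (by norm_num) (by decide) (v2_val 3 3 (by norm_num) (by norm_num) (by norm_num))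
  have e30 := v2_even ho h1 (n := 30) (by norm_num) (by decide) (v2_val 1 15 (by norm_num) (by norm_num) (by norm_num))
  have n2 := sub_ne h1 (n := 2) (by norm_num)
  have n5 := sub_ne h1 (n := 5) (by norm_num)
  have n9 := sub_ne h1 (n := 9) (by norm_num)
  have n6 := sub_ne h1 (n := 6) (by norm_num)
  have n8 := sub_ne h1 (n := 8) (by norm_num)
  have n10 := sub_ne h1 (n := 10) (by norm_num)
  have n12 := sub_ne h1 (n := 12) (by norm_num)
  have n14 := sub_ne h1 (n := 14) (by norm_num)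
  have n18 := sub_ne h1 (n := 18) (by norm_num)
  have n20 := sub_ne h1 (n := 20) (by norm_num)
  have n24 := sub_ne h1 (n := 24) (by norm_num)
  have n30 := sub_ne h1 (n := 30) (by norm_num)
  cases f
  case e8 =>
    simp only [nm, c2, d2]
    refine ⟨by (apply mul_ne_zero; apply mul_ne_zero; apply mul_ne_zero; apply mul_ne_zero; apply mul_ne_zero; apply mul_ne_zero; apply mul_ne_zero; apply mul_ne_zero; exact hq _; assumption; assumption; assumption; assumption; assumption; assumption; assumption; assumption), ?_⟩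
    rw [padicValNat.mul, padicValNat.mul, padicValNat.mul, padicValNat.mul, padicValNat.mul, padicValNat.mul,
      padicValNat.mul, padicValNat.mul, hp, e8, e12, e14, e18, e20, e24, e30] <;>
      [((clear * - n2 n8 n12 n14 n18 n20 n24 n30; omega)); ((repeat' (exact hq _))); ((clear * - n2 n8 n12 n14 n18 n20 n24 n30; omega));
       (((apply mul_ne_zero; exact hq _; assumption))); ((clear * - n2 n8 n12 n14 n18 n20 n24 n30; omega));
       (((apply mul_ne_zero; apply mul_ne_zero; exact hq _; assumption; assumption))); ((clear * - n2 n8 n12 n14 n18 n20 n24 n30; omega));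
       (((apply mul_ne_zero; apply mul_ne_zero; apply mul_ne_zero; exact hq _; assumption; assumption; assumption))); ((clear * - n2 n8 n12 n14 n18 n20 n24 n30; omega));
       (((apply mul_ne_zero; apply mul_ne_zero; apply mul_ne_zero; apply mul_ne_zero; exact hq _; assumption; assumption; assumption; assumption))); ((clear * - n2 n8 n12 n14 n18 n20 n24 n30; omega));
       (((apply mul_ne_zero; apply mul_ne_zero; apply mul_ne_zero; apply mul_ne_zero; apply mul_ne_zero; exact hq _; assumption; assumption; assumption; assumption; assumption))); ((clear * - n2 n8 n12 n14 n18 n20 n24 n30; omega));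
       (((apply mul_ne_zero; apply mul_ne_zero; apply mul_ne_zero; apply mul_ne_zero; apply mul_ne_zero; apply mul_ne_zero; exact hq _; assumption; assumption; assumption; assumption; assumption; assumption))); ((clear * - n2 n8 n12 n14 n18 n20 n24 n30; omega));
       (((apply mul_ne_zero; apply mul_ne_zero; apply mul_ne_zero; apply mul_ne_zero; apply mul_ne_zero; apply mul_ne_zero; apply mul_ne_zero; exact hq _; assumption; assumption; assumption; assumption; assumption; assumption; assumption))); ((clear * - n2 n8 n12 n14 n18 n20 n24 n30; omega))]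
  case e7 =>
    simp only [nm, c2, d2]
    refine ⟨by (apply mul_ne_zero; apply mul_ne_zero; apply mul_ne_zero; apply mul_ne_zero; apply mul_ne_zero; apply mul_ne_zero; apply mul_ne_zero; exact hq _; assumption; assumption; assumption; assumption; assumption; assumption; assumption), ?_⟩
    rw [padicValNat.mul, padicValNat.mul, padicValNat.mul, padicValNat.mul, padicValNat.mul, padicValNat.mul,
      padicValNat.mul, hp, e6, e8, e10, e12, e14, e18] <;>
      [((clear * - n2 n6 n8 n10 n12 n14 n18; omega)); ((repeat' (exact hq _))); ((clear * - n2 n6 n8 n10 n12 n14 n18; omega));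
       (((apply mul_ne_zero; exact hq _; assumption))); ((clear * - n2 n6 n8 n10 n12 n14 n18; omega));
       (((apply mul_ne_zero; apply mul_ne_zero; exact hq _; assumption; assumption))); ((clear * - n2 n6 n8 n10 n12 n14 n18; omega));
       (((apply mul_ne_zero; apply mul_ne_zero; apply mul_ne_zero; exact hq _; assumption; assumption; assumption))); ((clear * - n2 n6 n8 n10 n12 n14 n18; omega));
       (((apply mul_ne_zero; apply mul_ne_zero; apply mul_ne_zero; apply mul_ne_zero; exact hq _; assumption; assumption; assumption; assumption))); ((clear * - n2 n6 n8 n10 n12 n14 n18; omega));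
       (((apply mul_ne_zero; apply mul_ne_zero; apply mul_ne_zero; apply mul_ne_zero; apply mul_ne_zero; exact hq _; assumption; assumption; assumption; assumption; assumption))); ((clear * - n2 n6 n8 n10 n12 n14 n18; omega));
       (((apply mul_ne_zero; apply mul_ne_zero; apply mul_ne_zero; apply mul_ne_zero; apply mul_ne_zero; apply mul_ne_zero; exact hq _; assumption; assumption; assumption; assumption; assumption; assumption))); ((clear * - n2 n6 n8 n10 n12 n14 n18; omega))]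
  case e6 =>
    simp only [nm, c2, d2]
    refine ⟨by (apply mul_ne_zero; apply mul_ne_zero; apply mul_ne_zero; apply mul_ne_zero; apply mul_ne_zero; apply mul_ne_zero; exact hq _; assumption; assumption; assumption; assumption; assumption; assumption), ?_⟩
    have o5 := v2_odd_sub ho h1 (n := 5) (by decide)
    have o9 := v2_odd_sub ho h1 (n := 9) (by decide)
    rw [padicValNat.mul, padicValNat.mul, padicValNat.mul, padicValNat.mul, padicValNat.mul, padicValNat.mul,
      hp, e6, e8, e12] <;>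
      [((clear * - o5 o9 n2 n5 n6 n8 n9 n12; omega)); ((repeat' (exact hq _))); ((clear * - o5 o9 n2 n5 n6 n8 n9 n12; omega));
       (((apply mul_ne_zero; exact hq _; assumption))); ((clear * - o5 o9 n2 n5 n6 n8 n9 n12; omega));
       (((apply mul_ne_zero; apply mul_ne_zero; exact hq _; assumption; assumption))); ((clear * - o5 o9 n2 n5 n6 n8 n9 n12; omega));
       (((apply mul_ne_zero; apply mul_ne_zero; apply mul_ne_zero; exact hq _; assumption; assumption; assumption))); ((clear * - o5 o9 n2 n5 n6 n8 n9 n12; omega));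
       (((apply mul_ne_zero; apply mul_ne_zero; apply mul_ne_zero; apply mul_ne_zero; exact hq _; assumption; assumption; assumption; assumption))); ((clear * - o5 o9 n2 n5 n6 n8 n9 n12; omega));
       (((apply mul_ne_zero; apply mul_ne_zero; apply mul_ne_zero; apply mul_ne_zero; apply mul_ne_zero; exact hq _; assumption; assumption; assumption; assumption; assumption))); ((clear * - o5 o9 n2 n5 n6 n8 n9 n12; omega))]
  case te6 =>
    simp only [nm, c2, d2]
    have m5 : q ^ 5 + 1 ≠ 0 := by omega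
    have m9 : q ^ 9 + 1 ≠ 0 := by omega
    refine ⟨by (apply mul_ne_zero; apply mul_ne_zero; apply mul_ne_zero; apply mul_ne_zero; apply mul_ne_zero; apply mul_ne_zero; exact hq _; assumption; assumption; assumption; assumption; assumption; assumption), ?_⟩
    have o5 := v2_odd_add ho h1 (n := 5) (by decide)
    have o9 := v2_odd_add ho h1 (n := 9) (by decide)
    rw [padicValNat.mul, padicValNat.mul, padicValNat.mul, padicValNat.mul, padicValNat.mul, padicValNat.mul,
      hp, e6, e8, e12] <;>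
      [((clear * - o5 o9 n2 m5 n6 n8 m9 n12; omega)); ((repeat' (exact hq _))); ((clear * - o5 o9 n2 m5 n6 n8 m9 n12; omega));
       (((apply mul_ne_zero; exact hq _; assumption))); ((clear * - o5 o9 n2 m5 n6 n8 m9 n12; omega));
       (((apply mul_ne_zero; apply mul_ne_zero; exact hq _; assumption; assumption))); ((clear * - o5 o9 n2 m5 n6 n8 m9 n12; omega));
       (((apply mul_ne_zero; apply mul_ne_zero; apply mul_ne_zero; exact hq _; assumption; assumption; assumption))); ((clear * - o5 o9 n2 m5 n6 n8 m9 n12; omega));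
       (((apply mul_ne_zero; apply mul_ne_zero; apply mul_ne_zero; apply mul_ne_zero; exact hq _; assumption; assumption; assumption; assumption))); ((clear * - o5 o9 n2 m5 n6 n8 m9 n12; omega));
       (((apply mul_ne_zero; apply mul_ne_zero; apply mul_ne_zero; apply mul_ne_zero; apply mul_ne_zero; exact hq _; assumption; assumption; assumption; assumption; assumption))); ((clear * - o5 o9 n2 m5 n6 n8 m9 n12; omega))]
  case f4 =>
    simp only [nm, c2, d2]
    refine ⟨by (apply mul_ne_zero; apply mul_ne_zero; apply mul_ne_zero; apply mul_ne_zero; exact hq _; assumption; assumption; assumption; assumption), ?_⟩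
    rw [padicValNat.mul, padicValNat.mul, padicValNat.mul, padicValNat.mul,
      hp, e6, e8, e12] <;>
      [(clear * - n24 n30 n2 n6 n8 n12; omega); (clear * - n24 n30 n2 n6 n8 n12; omega); (clear * - n24 n30 n2 n6 n8 n12; omega);
       (apply mul_ne_zero; exact hq _; assumption); (clear * - n24 n30 n2 n6 n8 n12; omega);
       (apply mul_ne_zero; apply mul_ne_zero; exact hq _; assumption; assumption); (clear * - n24 n30 n2 n6 n8 n12; omega);
       (apply mul_ne_zero; apply mul_ne_zero; apply mul_ne_zero; exact hq _; assumption; assumption; assumption); (clear * - n24 n30 n2 n6 n8 n12; omega)]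
  case td4 =>
    simp only [nm, c2, d2]
    have m8 : q ^ 8 + q ^ 4 + 1 ≠ 0 := by omega
    have o8 : padicValNat 2 (q ^ 8 + q ^ 4 + 1) = 0 := by
      apply padicValNat.eq_zero_of_not_dvd
      intro h
      have := ((ho.pow (n := 8)).add_odd (ho.pow (n := 4))).add_one
      exact (Nat.not_even_iff_odd.2 this) (even_iff_two_dvd.2 h)
    refine ⟨by (apply mul_ne_zero; apply mul_ne_zero; apply mul_ne_zero; exact hq _; assumption; assumption; assumption), ?_⟩
    rw [padicValNat.mul, padicValNat.mul, padicValNat.mul,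
      hp, e6, o8] <;>
      [(clear * - n12 n14 n18 n20 n24 n30 m8 n2 n6; omega); (clear * - n12 n14 n18 n20 n24 n30 m8 n2 n6; omega);
       (clear * - n12 n14 n18 n20 n24 n30 m8 n2 n6; omega); (apply mul_ne_zero; exact hq _; assumption); (clear * - n12 n14 n18 n20 n24 n30 m8 n2 n6; omega);
       (apply mul_ne_zero; apply mul_ne_zero; exact hq _; assumption; assumption); (clear * - n12 n14 n18 n20 n24 n30 m8 n2 n6; omega)]
  case g2 =>
    simp only [nm, c2, d2]
    refine ⟨by (apply mul_ne_zero; apply mul_ne_zero; exact hq _; assumption; assumption), ?_⟩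
    rw [padicValNat.mul, padicValNat.mul, hp, e6] <;>
      first | (clear * - n6 n2; omega) | ((apply mul_ne_zero; exact hq _; assumption))

theorem v3_le (f : Fam) {q : ℕ} (h3 : ¬ 3 ∣ q) (h1 : 1 < q) :
    nm f q ≠ 0 ∧ padicValNat 3 (nm f q) ≤ c3 f * padicValNat 3 (q ^ 2 - 1) + d3 f := by
  have hp (n : ℕ) : padicValNat 3 (q ^ n) = 0 :=
    padicValNat.eq_zero_of_not_dvd fun h => h3 (Nat.prime_three.dvd_of_dvd_pow h)
  have hq (n : ℕ) : q ^ n ≠ 0 := pow_ne_zero _ (by omega)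
  have e6 := v3_even h3 h1 (n := 3) (by norm_num) (v3_val 1 1 (by norm_num) (by norm_num) (by norm_num))
  have e8 := v3_even h3 h1 (n := 4) (by norm_num) (v3_val 0 4 (by norm_num) (by norm_num) (by norm_num))
  have e10 := v3_even h3 h1 (n := 5) (by norm_num) (v3_val 0 5 (by norm_num) (by norm_num) (by norm_num))
  have e12 := v3_even h3 h1 (n := 6) (by norm_num) (v3_val 1 2 (by norm_num) (by norm_num) (by norm_num))
  have e14 := v3_even h3 h1 (n := 7) (by norm_num) (v3_val 0 7 (by norm_num) (by norm_num) (by norm_num))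
  have e18 := v3_even h3 h1 (n := 9) (by norm_num) (v3_val 2 1 (by norm_num) (by norm_num) (by norm_num))
  have e20 := v3_even h3 h1 (n := 10) (by norm_num) (v3_val 0 10 (by norm_num) (by norm_num) (by norm_num))
  have e24 := v3_even h3 h1 (n := 12) (by norm_num) (v3_val 1 4 (by norm_num) (by norm_num) (by norm_num))
  have e30 := v3_even h3 h1 (n := 15) (by norm_num) (v3_val 1 5 (by norm_num) (by norm_num) (by norm_num))
  norm_num only at e6 e8 e10 e12 e14 e18 e20 e24 e30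
  have n2 := sub_ne h1 (n := 2) (by norm_num)
  have n5 := sub_ne h1 (n := 5) (by norm_num)
  have n9 := sub_ne h1 (n := 9) (by norm_num)
  have n6 := sub_ne h1 (n := 6) (by norm_num)
  have n8 := sub_ne h1 (n := 8) (by norm_num)
  have n10 := sub_ne h1 (n := 10) (by norm_num)
  have n12 := sub_ne h1 (n := 12) (by norm_num)
  have n14 := sub_ne h1 (n := 14) (by norm_num)
  have n18 := sub_ne h1 (n := 18) (by norm_num)
  have n20 := sub_ne h1 (n := 20) (by norm_num)
  have n24 := sub_ne h1 (n := 24) (by norm_num)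
  have n30 := sub_ne h1 (n := 30) (by norm_num)
  cases f
  case e8 =>
    simp only [nm, c3, d3]
    refine ⟨by (apply mul_ne_zero; apply mul_ne_zero; apply mul_ne_zero; apply mul_ne_zero; apply mul_ne_zero; apply mul_ne_zero; apply mul_ne_zero; apply mul_ne_zero; exact hq _; assumption; assumption; assumption; assumption; assumption; assumption; assumption; assumption), ?_⟩
    rw [padicValNat.mul, padicValNat.mul, padicValNat.mul, padicValNat.mul, padicValNat.mul, padicValNat.mul,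
      padicValNat.mul, padicValNat.mul, hp, e8, e12, e14, e18, e20, e24, e30] <;>
      [((clear * - n2 n8 n12 n14 n18 n20 n24 n30; omega)); ((repeat' (exact hq _))); ((clear * - n2 n8 n12 n14 n18 n20 n24 n30; omega));
       (((apply mul_ne_zero; exact hq _; assumption))); ((clear * - n2 n8 n12 n14 n18 n20 n24 n30; omega));
       (((apply mul_ne_zero; apply mul_ne_zero; exact hq _; assumption; assumption))); ((clear * - n2 n8 n12 n14 n18 n20 n24 n30; omega));
       (((apply mul_ne_zero; apply mul_ne_zero; apply mul_ne_zero; exact hq _; assumption; assumption; assumption))); ((clear * - n2 n8 n12 n14 n18 n20 n24 n30; omega));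
       (((apply mul_ne_zero; apply mul_ne_zero; apply mul_ne_zero; apply mul_ne_zero; exact hq _; assumption; assumption; assumption; assumption))); ((clear * - n2 n8 n12 n14 n18 n20 n24 n30; omega));
       (((apply mul_ne_zero; apply mul_ne_zero; apply mul_ne_zero; apply mul_ne_zero; apply mul_ne_zero; exact hq _; assumption; assumption; assumption; assumption; assumption))); ((clear * - n2 n8 n12 n14 n18 n20 n24 n30; omega));
       (((apply mul_ne_zero; apply mul_ne_zero; apply mul_ne_zero; apply mul_ne_zero; apply mul_ne_zero; apply mul_ne_zero; exact hq _; assumption; assumption; assumption; assumption; assumption; assumption))); ((clear * - n2 n8 n12 n14 n18 n20 n24 n30; omega));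
       (((apply mul_ne_zero; apply mul_ne_zero; apply mul_ne_zero; apply mul_ne_zero; apply mul_ne_zero; apply mul_ne_zero; apply mul_ne_zero; exact hq _; assumption; assumption; assumption; assumption; assumption; assumption; assumption))); ((clear * - n2 n8 n12 n14 n18 n20 n24 n30; omega))]
  case e7 =>
    simp only [nm, c3, d3]
    refine ⟨by (apply mul_ne_zero; apply mul_ne_zero; apply mul_ne_zero; apply mul_ne_zero; apply mul_ne_zero; apply mul_ne_zero; apply mul_ne_zero; exact hq _; assumption; assumption; assumption; assumption; assumption; assumption; assumption), ?_⟩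
    rw [padicValNat.mul, padicValNat.mul, padicValNat.mul, padicValNat.mul, padicValNat.mul, padicValNat.mul,
      padicValNat.mul, hp, e6, e8, e10, e12, e14, e18] <;>
      [((clear * - n2 n6 n8 n10 n12 n14 n18; omega)); ((repeat' (exact hq _))); ((clear * - n2 n6 n8 n10 n12 n14 n18; omega));
       (((apply mul_ne_zero; exact hq _; assumption))); ((clear * - n2 n6 n8 n10 n12 n14 n18; omega));
       (((apply mul_ne_zero; apply mul_ne_zero; exact hq _; assumption; assumption))); ((clear * - n2 n6 n8 n10 n12 n14 n18; omega));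
       (((apply mul_ne_zero; apply mul_ne_zero; apply mul_ne_zero; exact hq _; assumption; assumption; assumption))); ((clear * - n2 n6 n8 n10 n12 n14 n18; omega));
       (((apply mul_ne_zero; apply mul_ne_zero; apply mul_ne_zero; apply mul_ne_zero; exact hq _; assumption; assumption; assumption; assumption))); ((clear * - n2 n6 n8 n10 n12 n14 n18; omega));
       (((apply mul_ne_zero; apply mul_ne_zero; apply mul_ne_zero; apply mul_ne_zero; apply mul_ne_zero; exact hq _; assumption; assumption; assumption; assumption; assumption))); ((clear * - n2 n6 n8 n10 n12 n14 n18; omega));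
       (((apply mul_ne_zero; apply mul_ne_zero; apply mul_ne_zero; apply mul_ne_zero; apply mul_ne_zero; apply mul_ne_zero; exact hq _; assumption; assumption; assumption; assumption; assumption; assumption))); ((clear * - n2 n6 n8 n10 n12 n14 n18; omega))]
  case e6 =>
    simp only [nm, c3, d3]
    refine ⟨by (apply mul_ne_zero; apply mul_ne_zero; apply mul_ne_zero; apply mul_ne_zero; apply mul_ne_zero; apply mul_ne_zero; exact hq _; assumption; assumption; assumption; assumption; assumption; assumption), ?_⟩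
    have o5 := v3_sub h3 h1 (n := 5) (by decide) (v3_val 0 5 (by norm_num) (by norm_num) (by norm_num))
    have o9 := v3_sub h3 h1 (n := 9) (by decide) (v3_val 2 1 (by norm_num) (by norm_num) (by norm_num))
    rw [padicValNat.mul, padicValNat.mul, padicValNat.mul, padicValNat.mul, padicValNat.mul, padicValNat.mul,
      hp, e6, e8, e12] <;>
      [((clear * - o5 o9 n2 n5 n6 n8 n9 n12; omega)); ((repeat' (exact hq _))); ((clear * - o5 o9 n2 n5 n6 n8 n9 n12; omega));
       (((apply mul_ne_zero; exact hq _; assumption))); ((clear * - o5 o9 n2 n5 n6 n8 n9 n12; omega));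
       (((apply mul_ne_zero; apply mul_ne_zero; exact hq _; assumption; assumption))); ((clear * - o5 o9 n2 n5 n6 n8 n9 n12; omega));
       (((apply mul_ne_zero; apply mul_ne_zero; apply mul_ne_zero; exact hq _; assumption; assumption; assumption))); ((clear * - o5 o9 n2 n5 n6 n8 n9 n12; omega));
       (((apply mul_ne_zero; apply mul_ne_zero; apply mul_ne_zero; apply mul_ne_zero; exact hq _; assumption; assumption; assumption; assumption))); ((clear * - o5 o9 n2 n5 n6 n8 n9 n12; omega));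
       (((apply mul_ne_zero; apply mul_ne_zero; apply mul_ne_zero; apply mul_ne_zero; apply mul_ne_zero; exact hq _; assumption; assumption; assumption; assumption; assumption))); ((clear * - o5 o9 n2 n5 n6 n8 n9 n12; omega))]
  case te6 =>
    simp only [nm, c3, d3]
    have m5 : q ^ 5 + 1 ≠ 0 := by omega
    have m9 : q ^ 9 + 1 ≠ 0 := by omega
    refine ⟨by (apply mul_ne_zero; apply mul_ne_zero; apply mul_ne_zero; apply mul_ne_zero; apply mul_ne_zero; apply mul_ne_zero; exact hq _; assumption; assumption; assumption; assumption; assumption; assumption), ?_⟩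
    have o5 := v3_add h3 h1 (n := 5) (by decide) (v3_val 0 5 (by norm_num) (by norm_num) (by norm_num))
    have o9 := v3_add h3 h1 (n := 9) (by decide) (v3_val 2 1 (by norm_num) (by norm_num) (by norm_num))
    rw [padicValNat.mul, padicValNat.mul, padicValNat.mul, padicValNat.mul, padicValNat.mul, padicValNat.mul,
      hp, e6, e8, e12] <;>
      [((clear * - o5 o9 n2 m5 n6 n8 m9 n12; omega)); ((repeat' (exact hq _))); ((clear * - o5 o9 n2 m5 n6 n8 m9 n12; omega));
       (((apply mul_ne_zero; exact hq _; assumption))); ((clear * - o5 o9 n2 m5 n6 n8 m9 n12; omega));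
       (((apply mul_ne_zero; apply mul_ne_zero; exact hq _; assumption; assumption))); ((clear * - o5 o9 n2 m5 n6 n8 m9 n12; omega));
       (((apply mul_ne_zero; apply mul_ne_zero; apply mul_ne_zero; exact hq _; assumption; assumption; assumption))); ((clear * - o5 o9 n2 m5 n6 n8 m9 n12; omega));
       (((apply mul_ne_zero; apply mul_ne_zero; apply mul_ne_zero; apply mul_ne_zero; exact hq _; assumption; assumption; assumption; assumption))); ((clear * - o5 o9 n2 m5 n6 n8 m9 n12; omega));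
       (((apply mul_ne_zero; apply mul_ne_zero; apply mul_ne_zero; apply mul_ne_zero; apply mul_ne_zero; exact hq _; assumption; assumption; assumption; assumption; assumption))); ((clear * - o5 o9 n2 m5 n6 n8 m9 n12; omega))]
  case f4 =>
    simp only [nm, c3, d3]
    refine ⟨by (apply mul_ne_zero; apply mul_ne_zero; apply mul_ne_zero; apply mul_ne_zero; exact hq _; assumption; assumption; assumption; assumption), ?_⟩
    rw [padicValNat.mul, padicValNat.mul, padicValNat.mul, padicValNat.mul,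
      hp, e6, e8, e12] <;>
      [(clear * - n24 n30 n2 n6 n8 n12; omega); (clear * - n24 n30 n2 n6 n8 n12; omega); (clear * - n24 n30 n2 n6 n8 n12; omega);
       (apply mul_ne_zero; exact hq _; assumption); (clear * - n24 n30 n2 n6 n8 n12; omega);
       (apply mul_ne_zero; apply mul_ne_zero; exact hq _; assumption; assumption); (clear * - n24 n30 n2 n6 n8 n12; omega);
       (apply mul_ne_zero; apply mul_ne_zero; apply mul_ne_zero; exact hq _; assumption; assumption; assumption); (clear * - n24 n30 n2 n6 n8 n12; omega)]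
  case td4 =>
    simp only [nm, c3, d3]
    have m8 : q ^ 8 + q ^ 4 + 1 ≠ 0 := by omega
    have h2' : 1 < q ^ 4 := Nat.one_lt_pow (by norm_num) h1
    have e4 := v3_even h3 h1 (n := 2) (by norm_num) (v3_val 0 2 (by norm_num) (by norm_num) (by norm_num))
    norm_num only at e4
    have n4 := sub_ne h1 (n := 4) (by norm_num)
    have ee : (q ^ 4 - 1) * (q ^ 8 + q ^ 4 + 1) = q ^ 12 - 1 := by
      zify [h2'.le, Nat.one_le_pow 12 q (by omega)]
      ring
    have e8' : padicValNat 3 (q ^ 8 + q ^ 4 + 1) = 1 := by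
      rw [← ee, padicValNat.mul n4 m8] at e12
      omega
    refine ⟨by (apply mul_ne_zero; apply mul_ne_zero; apply mul_ne_zero; exact hq _; assumption; assumption; assumption), ?_⟩
    rw [padicValNat.mul, padicValNat.mul, padicValNat.mul,
      hp, e6, e8'] <;>
      [(clear * - n12 n2 n6 m8; omega); (clear * - n12 n2 n6 m8; omega); (clear * - n12 n2 n6 m8; omega); (apply mul_ne_zero; exact hq _; assumption);
       (clear * - n12 n2 n6 m8; omega); (apply mul_ne_zero; apply mul_ne_zero; exact hq _; assumption; assumption); (clear * - n12 n2 n6 m8; omega)]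
  case g2 =>
    simp only [nm, c3, d3]
    refine ⟨by (apply mul_ne_zero; apply mul_ne_zero; exact hq _; assumption; assumption), ?_⟩
    rw [padicValNat.mul, padicValNat.mul, hp, e6] <;>
      first | (clear * - n6 n2; omega) | ((apply mul_ne_zero; exact hq _; assumption))

end Cfsg.Agent.H18.EK
end

-- part: H18/EK/Siv
section
/-!
# S5745, socle `T ^ k` in cross characteristic: the 2-3-adic sieve (helper18)

`odd_mem` : `q` odd, `n ∣ |G|`, `|G| ≤ B`, `2 ^ V₂ ∣ n`, `3 ^ V₃ ∣ n` : then `q = 3 ^ i` or `q ≡ ± 1` modulo `2 ^ (e - 1)`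
and modulo `3 ^ v`, where `(e - 1) c₂ + d₂ < V₂`, `(v - 1) c₃ + d₃ < V₃`; a check of few `q`.
`even_mem` : `q = 2 ^ i`.
-/

set_option autoImplicit false

namespace Cfsg.Agent.H18.EK

open Cfsg.Agent.H746.EK

theorem lt_of_bound {f : Fam} {B Q : ℕ} (hm : 3 * B < nm f Q) {q C : ℕ} (hC : dn f q * C = nm f q) (hB : C ≤ B) :
    q < Q := by
  by_contra hcon
  push Not at hcon
  have h1 := nm_mono f hcon
  have h2 : dn f q * C ≤ 3 * B := Nat.mul_le_mul (dn_le f q) hB
  omega

theorem e_le {f : Fam} {q e V : ℕ} (ho : Odd q) (h1 : 1 < q) (hV : c2 f * (e - 1) + d2 f < V) (h : 2 ^ V ∣ nm f q) :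
    2 ^ e ∣ q ^ 2 - 1 := by
  obtain ⟨h2, h3⟩ := v2_le f ho h1
  have h4 : V ≤ padicValNat 2 (nm f q) := (padicValNat_dvd_iff_le h2).1 h
  rw [padicValNat_dvd_iff_le (sub_ne h1 (by norm_num))]
  by_contra hcon
  have h5 : padicValNat 2 (q ^ 2 - 1) ≤ e - 1 := by omega
  have := Nat.mul_le_mul_left (c2 f) h5
  omega

theorem v_le {f : Fam} {q v V : ℕ} (ho : ¬ 3 ∣ q) (h1 : 1 < q) (hV : c3 f * (v - 1) + d3 f < V) (h : 3 ^ V ∣ nm f q) :
    3 ^ v ∣ q ^ 2 - 1 := by
  obtain ⟨h2, h3⟩ := v3_le f ho h1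
  have h4 : V ≤ padicValNat 3 (nm f q) := (padicValNat_dvd_iff_le h2).1 h
  rw [padicValNat_dvd_iff_le (sub_ne h1 (by norm_num))]
  by_contra hcon
  have h5 : padicValNat 3 (q ^ 2 - 1) ≤ v - 1 := by omega
  have := Nat.mul_le_mul_left (c3 f) h5
  omega

theorem pm2 {q e : ℕ} (ho : Odd q) (h : 2 ^ e ∣ q ^ 2 - 1) : q % 2 ^ (e - 1) = 1 % 2 ^ (e - 1) ∨
    (q + 1) % 2 ^ (e - 1) = 0 := by
  rcases Nat.lt_or_ge e 2 with h2 | h2
  · have : e - 1 = 0 := by omega
    rw [this]
    left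
    simp [Nat.mod_one]
  · obtain ⟨k, rfl⟩ := Nat.exists_eq_add_of_le' h2
    rw [show k + 2 - 1 = k + 1 by omega]
    obtain ⟨j, hj | hj⟩ := H805.EPX.pm ho h
    · left
      rw [hj]
      exact Nat.mul_add_mod _ _ _
    · right
      rw [hj]
      exact Nat.mul_mod_right _ _

theorem pm3 {q v : ℕ} (h1 : 1 ≤ q) (h : 3 ^ v ∣ q ^ 2 - 1) : q % 3 ^ v = 1 % 3 ^ v ∨ (q + 1) % 3 ^ v = 0 := by
  have e : q ^ 2 - 1 = (q - 1) * (q + 1) := by
    zify [h1, Nat.one_le_pow 2 q (by omega)]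
    ring
  rw [e] at h
  by_cases h3 : 3 ∣ q - 1
  · left
    have hc : Nat.Coprime (3 ^ v) (q + 1) := by
      apply Nat.Coprime.pow_left
      rw [Nat.Prime.coprime_iff_not_dvd Nat.prime_three]
      omega
    obtain ⟨j, hj⟩ := Nat.Coprime.dvd_of_dvd_mul_right hc h
    have : q = 3 ^ v * j + 1 := by omega
    rw [this]
    exact Nat.mul_add_mod _ _ _
  · right
    have hc : Nat.Coprime (3 ^ v) (q - 1) := by
      apply Nat.Coprime.pow_left
      rwa [Nat.Prime.coprime_iff_not_dvd Nat.prime_three]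
    exact Nat.mod_eq_zero_of_dvd (Nat.Coprime.dvd_of_dvd_mul_left hc h)

/-- a single `q` is excluded or in the list -/
def okn (f : Fam) (n B : ℕ) (L : List ℕ) (q : ℕ) : Bool :=
  Nat.ble q 1 || !(Nat.beq (nm f q % (dn f q * n)) 0) || Nat.blt (dn f q * B) (nm f q) || L.any (Nat.beq q)

theorem mem_of_okn {f : Fam} {n B : ℕ} {L : List ℕ} {q : ℕ} (h : okn f n B L q = true) (hq : 1 < q)
    {C : ℕ} (hC : dn f q * C = nm f q) (hn : n ∣ C) (hB : C ≤ B) : q ∈ L := by
  unfold okn at h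
  rw [Bool.or_eq_true, Bool.or_eq_true, Bool.or_eq_true] at h
  rcases h with ((h | h) | h) | h
  · have := Nat.le_of_ble_eq_true h
    omega
  · exfalso
    have h1 : nm f q % (dn f q * n) = 0 := by
      rw [← hC]
      exact Nat.mod_eq_zero_of_dvd (Nat.mul_dvd_mul_left _ hn)
    rw [h1] at h
    exact absurd h (by decide)
  · exfalso
    have h1 : dn f q * B < nm f q := by
      unfold Nat.blt at h
      exact Nat.le_of_ble_eq_true h
    have h2 : dn f q * C ≤ dn f q * B := Nat.mul_le_mul_left _ hB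
    omega
  · obtain ⟨x, hx, h1⟩ := List.any_eq_true.1 h
    rw [Nat.beq_eq] at h1
    exact h1 ▸ hx

/-- the loop over powers: `a ^ i`, `i ≥ i₀`, until the bound is exceeded -/
def goP (f : Fam) (n B : ℕ) (L : List ℕ) (a : ℕ) : ℕ → ℕ → Bool
  | 0, q => Nat.blt (3 * B) (nm f q)
  | m + 1, q => Nat.blt (3 * B) (nm f q) || (okn f n B L q && goP f n B L a m (q * a))

theorem goP_mem {f : Fam} {n B : ℕ} {L : List ℕ} {a : ℕ} (ha : 1 < a) {m q0 i : ℕ}
    (h : goP f n B L a m q0 = true) (hq0 : 1 < q0) {C : ℕ} (hC : dn f (q0 * a ^ i) * C = nm f (q0 * a ^ i))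
    (hn : n ∣ C) (hB : C ≤ B) : q0 * a ^ i ∈ L := by
  have key : ∀ q1, Nat.blt (3 * B) (nm f q1) = true → ∀ {j}, dn f (q1 * a ^ j) * C = nm f (q1 * a ^ j) → False := by
    intro q1 h1 j hj
    have h2 : 3 * B < nm f q1 := by
      unfold Nat.blt at h1
      exact Nat.le_of_ble_eq_true h1
    have h3 := lt_of_bound h2 hj hB
    have : 1 ≤ a ^ j := Nat.one_le_pow _ _ (by omega)
    have := Nat.le_mul_of_pos_right q1 this
    omega
  induction m generalizing q0 i with
  | zero =>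
    rw [goP] at h
    exact (key q0 h hC).elim
  | succ m ih =>
    rw [goP, Bool.or_eq_true, Bool.and_eq_true] at h
    rcases h with h | ⟨h, h'⟩
    · exact (key q0 h hC).elim
    · rcases i with _ | i
      · rw [pow_zero, mul_one] at hC ⊢
        exact mem_of_okn h hq0 hC hn hB
      · rw [pow_succ', ← mul_assoc] at hC ⊢
        exact ih h' (by nlinarith only [ha, hq0]) hC

/-- **`q` even** -/
theorem even_mem {f : Fam} {n B : ℕ} {L : List ℕ} {m : ℕ} (h : goP f n B L 2 m 2 = true) {q : ℕ} (hq : IsPrimePow q)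
    (he : Even q) {C : ℕ} (hC : dn f q * C = nm f q) (hn : n ∣ C) (hB : C ≤ B) : q ∈ L := by
  obtain ⟨r, i, hr, hi, rfl⟩ := hq
  have h2 := Nat.prime_two.dvd_of_dvd_pow (even_iff_two_dvd.1 he)
  rw [Nat.prime_dvd_prime_iff_eq Nat.prime_two hr.nat_prime] at h2
  subst h2
  obtain ⟨i, rfl⟩ := Nat.exists_eq_add_of_le' hi
  rw [Nat.pow_succ'] at hC ⊢
  exact goP_mem (by norm_num) h (by norm_num) hC hn hB

/-- the residues -/
def rok (A Z : ℕ) : List ℕ → Bool
  | [r1, r2, r3, r4] => Nat.beq (r1 % A) (1 % A) && Nat.beq (r1 % Z) (1 % Z) &&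
      (Nat.beq ((r2 + 1) % A) 0 && Nat.beq ((r2 + 1) % Z) 0) &&
      (Nat.beq (r3 % A) (1 % A) && Nat.beq ((r3 + 1) % Z) 0) &&
      (Nat.beq ((r4 + 1) % A) 0 && Nat.beq (r4 % Z) (1 % Z)) &&
      Nat.blt r1 (A * Z) && Nat.blt r2 (A * Z) && Nat.blt r3 (A * Z) && Nat.blt r4 (A * Z)
  | _ => false

theorem mod_cr {A Z a b : ℕ} (hc : Nat.Coprime A Z) (ha : a % A = b % A) (hz : a % Z = b % Z) (hb : b < A * Z) :
    a % (A * Z) = b := by
  have := (Nat.modEq_and_modEq_iff_modEq_mul hc).1 ⟨ha, hz⟩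
  unfold Nat.ModEq at this
  rw [this, Nat.mod_eq_of_lt hb]

theorem mod_succ_cr {A a b : ℕ} (h : (b + 1) % A = 0) (h' : (a + 1) % A = 0) : a % A = b % A := by
  have : (a + 1) ≡ (b + 1) [MOD A] := by
    unfold Nat.ModEq
    rw [h, h']
  exact Nat.ModEq.add_right_cancel' 1 this

theorem rok_mem {A Z : ℕ} {R : List ℕ} (h : rok A Z R = true) (hc : Nat.Coprime A Z) {q : ℕ}
    (h2 : q % A = 1 % A ∨ (q + 1) % A = 0) (h3 : q % Z = 1 % Z ∨ (q + 1) % Z = 0) : q % (A * Z) ∈ R := by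
  match R, h with
  | [r1, r2, r3, r4], h =>
    simp only [rok, Bool.and_eq_true, Nat.beq_eq, Nat.blt_eq] at h
    obtain ⟨⟨⟨⟨⟨⟨⟨⟨a1, a2⟩, b1, b2⟩, c1, c2⟩, d1, d2⟩, l1⟩, l2⟩, l3⟩, l4⟩ := h
    simp only [List.mem_cons, List.not_mem_nil, or_false]
    rcases h2 with h2 | h2 <;> rcases h3 with h3 | h3
    · left; exact mod_cr hc (h2.trans a1.symm) (h3.trans a2.symm) l1
    · right; right; left; exact mod_cr hc (h2.trans c1.symm) (mod_succ_cr c2 h3) l3
    · right; right; right; exact mod_cr hc (mod_succ_cr d1 h2) (h3.trans d2.symm) l4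
    · right; left; exact mod_cr hc (mod_succ_cr b1 h2) (mod_succ_cr b2 h3) l2

/-- the loop over `M i + r`, `r ∈ R` -/
def goR (f : Fam) (n B : ℕ) (L : List ℕ) (M : ℕ) (R : List ℕ) : ℕ → ℕ → Bool
  | 0, x => Nat.blt (3 * B) (nm f x)
  | m + 1, x => Nat.blt (3 * B) (nm f x) || (R.all (fun r => okn f n B L (x + r)) && goR f n B L M R m (x + M))

theorem goR_mem {f : Fam} {n B : ℕ} {L : List ℕ} {M : ℕ} {R : List ℕ} {m x i r : ℕ}
    (h : goR f n B L M R m x = true) (hr : r ∈ R) (h1 : 1 < x + M * i + r) {C : ℕ}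
    (hC : dn f (x + M * i + r) * C = nm f (x + M * i + r)) (hn : n ∣ C) (hB : C ≤ B) : x + M * i + r ∈ L := by
  have key : ∀ x, Nat.blt (3 * B) (nm f x) = true → ∀ {y}, dn f (x + y) * C = nm f (x + y) → False := by
    intro x h1 y hy
    have h2 : 3 * B < nm f x := by
      unfold Nat.blt at h1
      exact Nat.le_of_ble_eq_true h1
    have h3 := lt_of_bound h2 hy hB
    omega
  induction m generalizing x i with
  | zero =>
    rw [goR] at h
    rw [Nat.add_assoc] at hC
    exact (key x h hC).elim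
  | succ m ih =>
    rw [goR, Bool.or_eq_true, Bool.and_eq_true] at h
    rcases h with h | ⟨h, h'⟩
    · rw [Nat.add_assoc] at hC
      exact (key x h hC).elim
    · rcases i with _ | i
      · rw [mul_zero, add_zero] at hC h1 ⊢
        exact mem_of_okn (List.all_eq_true.1 h r hr) h1 hC hn hB
      · have e : x + M * (i + 1) + r = (x + M) + M * i + r := by ring
        rw [e] at hC h1 ⊢
        exact ih h' h1 hC

/-- the residue `1` mod `2 ^ a`, `-1` mod `Z` -/
def crt (a Z : ℕ) : ℕ := (1 + 2 ^ a * ((2 * (Z - ((Z + 1) / 2) ^ a % Z)) % Z)) % (2 ^ a * Z)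

/-- the residues -/
def Rof (a Z : ℕ) : List ℕ :=
  [1 % (2 ^ a * Z), 2 ^ a * Z - 1, crt a Z, (2 ^ a * Z - crt a Z) % (2 ^ a * Z)]

/-- the exponent `e` -/
def eof (c d V : ℕ) : ℕ := if V ≤ d then 0 else (V - d - 1) / c + 1

theorem eof_spec {c d V : ℕ} : eof c d V = 0 ∨ c * (eof c d V - 1) + d < V := by
  unfold eof
  split_ifs with h
  · exact Or.inl rfl
  · right
    have := Nat.mul_div_le (V - d - 1) c
    rw [Nat.add_sub_cancel]
    omega

/-- the check for `q` odd: `V₂`, `V₃`, fuel -/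
def chkO (f : Fam) (n B : ℕ) (L : List ℕ) (V2 V3 m : ℕ) : Bool :=
  Nat.beq (n % 2 ^ V2) 0 && Nat.beq (n % 3 ^ V3) 0 &&
    rok (2 ^ (eof (c2 f) (d2 f) V2 - 1)) (3 ^ eof (c3 f) (d3 f) V3)
      (Rof (eof (c2 f) (d2 f) V2 - 1) (3 ^ eof (c3 f) (d3 f) V3)) && goP f n B L 3 m 3 &&
    goR f n B L (2 ^ (eof (c2 f) (d2 f) V2 - 1) * 3 ^ eof (c3 f) (d3 f) V3)
      (Rof (eof (c2 f) (d2 f) V2 - 1) (3 ^ eof (c3 f) (d3 f) V3)) m 0

/-- **`q` odd** -/
theorem odd_mem {f : Fam} {n B : ℕ} {L : List ℕ} {V2 V3 : ℕ} {m : ℕ}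
    (h : chkO f n B L V2 V3 m = true) {q : ℕ} (hq : IsPrimePow q) (ho : Odd q) {C : ℕ}
    (hC : dn f q * C = nm f q) (hn : n ∣ C) (hB : C ≤ B) : q ∈ L := by
  simp only [chkO, Bool.and_eq_true, Nat.beq_eq] at h
  obtain ⟨⟨⟨⟨k3, k4⟩, k5⟩, k6⟩, k7⟩ := h
  have h1 := hq.one_lt
  by_cases h3 : 3 ∣ q
  · obtain ⟨r, i, hr, hi, rfl⟩ := hq
    have h2 := Nat.prime_three.dvd_of_dvd_pow h3
    rw [Nat.prime_dvd_prime_iff_eq Nat.prime_three hr.nat_prime] at h2
    subst h2
    obtain ⟨i, rfl⟩ := Nat.exists_eq_add_of_le' hi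
    rw [Nat.pow_succ'] at hC ⊢
    exact goP_mem (by norm_num) k6 (by norm_num) hC hn hB
  · have hnn : n ∣ nm f q := hC ▸ hn.mul_left _
    have b1 : 2 ^ eof (c2 f) (d2 f) V2 ∣ q ^ 2 - 1 := by
      rcases eof_spec (c := c2 f) (d := d2 f) (V := V2) with h0 | h0
      · rw [h0]; simp
      · exact e_le ho h1 h0 ((Nat.dvd_of_mod_eq_zero k3).trans hnn)
    have b2 : 3 ^ eof (c3 f) (d3 f) V3 ∣ q ^ 2 - 1 := by
      rcases eof_spec (c := c3 f) (d := d3 f) (V := V3) with h0 | h0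
      · rw [h0]; simp
      · exact v_le h3 h1 h0 ((Nat.dvd_of_mod_eq_zero k4).trans hnn)
    have a1 := pm2 ho b1
    have a2 := pm3 h1.le b2
    have a3 := rok_mem k5 (Nat.Coprime.pow _ _ (by norm_num)) a1 a2
    set M := 2 ^ (eof (c2 f) (d2 f) V2 - 1) * 3 ^ eof (c3 f) (d3 f) V3
    have e1 : q = 0 + M * (q / M) + q % M := by
      rw [zero_add]
      exact (Nat.div_add_mod q M).symm
    have := goR_mem (i := q / M) k7 a3 (by rw [← e1]; exact h1) (C := C) (by rw [← e1]; exact hC) hn hB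
    rwa [← e1] at this

/-- `Bk` with a numeral `c = Lc t` -/
def Bn (c t a k : ℕ) : ℕ := (1 + (c ^ k + Ik t a k) * (2 * Dk t k)) * (a ^ k * k.factorial)

theorem Bk_eq {c t : ℕ} (h : Lc t = c) (a k : ℕ) : Bk t a k = Bn c t a k := by
  subst h
  rfl

/-- the `q` of the row `k` -/
def rowK (L : List (ℕ × ℕ)) (k : ℕ) : List ℕ := (L.filter fun x => x.1 == k).map Prod.snd

theorem mem_rowK {L : List (ℕ × ℕ)} {k q : ℕ} (h : q ∈ rowK L k) : (k, q) ∈ L := by
  rw [rowK, List.mem_map] at h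
  obtain ⟨⟨x, y⟩, h1, rfl⟩ := h
  rw [List.mem_filter] at h1
  have : x = k := by simpa using h1.2
  exact this ▸ h1.1

/-- the check for `2 ≤ k ≤ K` (`q` odd: `k ≤ Ko`) -/
def chkT (f : Fam) (t c a v2 v3 : ℕ) (L : List (ℕ × ℕ)) (m Ko : ℕ) : ℕ → Bool
  | 0 => true
  | k + 1 => (Nat.ble (k + 1) 1 || (goP f (t ^ (k + 1)) (Bn c t a (k + 1)) (rowK L (k + 1)) 2 m 2 &&
      (Nat.blt Ko (k + 1) || chkO f (t ^ (k + 1)) (Bn c t a (k + 1)) (rowK L (k + 1)) (v2 * (k + 1)) (v3 * (k + 1)) m)))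
      && chkT f t c a v2 v3 L m Ko k

/-- **the table** -/
theorem chkT_mem {f : Fam} {t c a v2 v3 : ℕ} {L : List (ℕ × ℕ)} {m Ko K : ℕ}
    (h : chkT f t c a v2 v3 L m Ko K = true) (hc : Lc t = c) {k : ℕ} (h2 : 2 ≤ k) (hk : k ≤ K) {q : ℕ}
    (hq : IsPrimePow q) (ho : Odd q → k ≤ Ko) {C : ℕ} (hC : dn f q * C = nm f q) (hd : t ^ k ∣ C)
    (hB : C ≤ Bk t a k) : (k, q) ∈ L := by
  induction K with
  | zero => omega
  | succ K ih =>
    rw [chkT, Bool.and_eq_true, Bool.or_eq_true, Bool.and_eq_true, Bool.or_eq_true] at h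
    rcases Nat.lt_or_ge K k with h1 | h1
    · obtain rfl : k = K + 1 := by omega
      obtain ⟨h, -⟩ := h
      rw [Bk_eq hc] at hB
      rcases h with h | ⟨h, h'⟩
      · have := Nat.le_of_ble_eq_true h
        omega
      · rcases Nat.even_or_odd q with he | hodd
        · exact mem_rowK (even_mem h hq he hC hd hB)
        · rcases h' with h' | h'
          · have h3 : Ko < K + 1 := by
              unfold Nat.blt at h'
              exact Nat.le_of_ble_eq_true h'
            have := ho hodd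
            omega
          · exact mem_rowK (odd_mem h' hq hodd hC hd hB)
    · exact ih h.2 h1

end Cfsg.Agent.H18.EK
end

-- part: H626/EK/Base
section
/-!
# S5745, CrossK numeric: the order sieve for `E8`, `E7`, tools (helper626)
-/

set_option autoImplicit false

namespace Cfsg.Agent.H626.EK

open Cfsg.Agent.H746.EK

/-! ### LTE at 3, `q = 2 ^ i` -/

instance fact3 : Fact (Nat.Prime 3) := ⟨Nat.prime_three⟩

theorem v3_four (n : ℕ) (hn : n ≠ 0) : padicValNat 3 (4 ^ n - 1) = 1 + padicValNat 3 n := by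
  have h := padicValNat.pow_sub_pow (p := 3) (x := 4) (y := 1) (by decide) (by norm_num) (by norm_num)
    (by norm_num) hn
  rw [one_pow] at h
  rw [h]
  norm_num

theorem v3_term (i d : ℕ) (hi : i ≠ 0) (hd : d ≠ 0) :
    padicValNat 3 ((2 ^ i) ^ (2 * d) - 1) = 1 + padicValNat 3 i + padicValNat 3 d := by
  have e : (2 ^ i) ^ (2 * d) = 4 ^ (i * d) := by
    rw [← pow_mul, show (4 : ℕ) = 2 ^ 2 by norm_num, ← pow_mul]
    congr 1
    ring
  rw [e, v3_four _ (mul_ne_zero hi hd), padicValNat.mul hi hd, add_assoc]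

theorem term_ne (q d : ℕ) (hq : 2 ≤ q) (hd : d ≠ 0) : q ^ d - 1 ≠ 0 := by
  have : 1 < q ^ d := Nat.one_lt_pow hd (by omega)
  omega

theorem v3_two_pow (i n : ℕ) : padicValNat 3 ((2 ^ i) ^ n) = 0 := by
  apply padicValNat.eq_zero_of_not_dvd
  intro h
  have := Nat.prime_three.dvd_of_dvd_pow (Nat.prime_three.dvd_of_dvd_pow h)
  revert this
  decide

theorem p1 : padicValNat 3 1 = 0 := by simp
theorem p4 : padicValNat 3 4 = 0 := padicValNat.eq_zero_of_not_dvd (by decide)
theorem p7 : padicValNat 3 7 = 0 := padicValNat.eq_zero_of_not_dvd (by decide)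
theorem p10 : padicValNat 3 10 = 0 := padicValNat.eq_zero_of_not_dvd (by decide)
theorem p5 : padicValNat 3 5 = 0 := padicValNat.eq_zero_of_not_dvd (by decide)
theorem p2 : padicValNat 3 2 = 0 := padicValNat.eq_zero_of_not_dvd (by decide)
theorem p3 : padicValNat 3 3 = 1 := padicValNat_self
theorem p6 : padicValNat 3 6 = 1 := by
  rw [show (6 : ℕ) = 2 * 3 by norm_num, padicValNat.mul (by norm_num) (by norm_num), p2, p3]
theorem p9 : padicValNat 3 9 = 2 := by
  rw [show (9 : ℕ) = 3 * 3 by norm_num, padicValNat.mul (by norm_num) (by norm_num), p3]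
theorem p12 : padicValNat 3 12 = 1 := by
  rw [show (12 : ℕ) = 4 * 3 by norm_num, padicValNat.mul (by norm_num) (by norm_num), p4, p3]
theorem p15 : padicValNat 3 15 = 1 := by
  rw [show (15 : ℕ) = 5 * 3 by norm_num, padicValNat.mul (by norm_num) (by norm_num), p5, p3]

theorem v3_e8 (i : ℕ) (hi : i ≠ 0) : padicValNat 3 (nm .e8 (2 ^ i)) = 13 + 8 * padicValNat 3 i := by
  have hq : 2 ≤ 2 ^ i := by
    calc 2 = 2 ^ 1 := by norm_num
      _ ≤ 2 ^ i := Nat.pow_le_pow_right (by norm_num) (by omega)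
  have t (d : ℕ) (hd : d ≠ 0) := term_ne (2 ^ i) (2 * d) hq (by omega)
  have h0 : (2 ^ i) ^ 120 ≠ 0 := by positivity
  have a1 := v3_term i 1 hi (by norm_num)
  have a2 := v3_term i 4 hi (by norm_num)
  have a3 := v3_term i 6 hi (by norm_num)
  have a4 := v3_term i 7 hi (by norm_num)
  have a5 := v3_term i 9 hi (by norm_num)
  have a6 := v3_term i 10 hi (by norm_num)
  have a7 := v3_term i 12 hi (by norm_num)
  have a8 := v3_term i 15 hi (by norm_num)
  have b1 := t 1 (by norm_num)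
  have b2 := t 4 (by norm_num)
  have b3 := t 6 (by norm_num)
  have b4 := t 7 (by norm_num)
  have b5 := t 9 (by norm_num)
  have b6 := t 10 (by norm_num)
  have b7 := t 12 (by norm_num)
  have b8 := t 15 (by norm_num)
  norm_num only at a1 a2 a3 a4 a5 a6 a7 a8 b1 b2 b3 b4 b5 b6 b7 b8
  simp only [nm]
  rw [padicValNat.mul (by simp only [ne_eq, mul_eq_zero, not_or]; (clear * - h0 b1 b2 b3 b4 b5 b6 b7; tauto)) b8,
    padicValNat.mul (by simp only [ne_eq, mul_eq_zero, not_or]; (clear * - h0 b1 b2 b3 b4 b5 b6; tauto)) b7,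
    padicValNat.mul (by simp only [ne_eq, mul_eq_zero, not_or]; (clear * - h0 b1 b2 b3 b4 b5; tauto)) b6,
    padicValNat.mul (by simp only [ne_eq, mul_eq_zero, not_or]; (clear * - h0 b1 b2 b3 b4; tauto)) b5,
    padicValNat.mul (by simp only [ne_eq, mul_eq_zero, not_or]; (clear * - h0 b1 b2 b3; tauto)) b4,
    padicValNat.mul (by simp only [ne_eq, mul_eq_zero, not_or]; (clear * - h0 b1 b2; tauto)) b3,
    padicValNat.mul (by simp only [ne_eq, mul_eq_zero, not_or]; (clear * - i h0 b1; tauto)) b2,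
    padicValNat.mul h0 b1, v3_two_pow, a1, a2, a3, a4, a5, a6, a7, a8, p1, p4, p6, p7, p9, p10, p12, p15]
  ring

theorem v3_e7 (i : ℕ) (hi : i ≠ 0) : padicValNat 3 (nm .e7 (2 ^ i)) = 11 + 7 * padicValNat 3 i := by
  have hq : 2 ≤ 2 ^ i := by
    calc 2 = 2 ^ 1 := by norm_num
      _ ≤ 2 ^ i := Nat.pow_le_pow_right (by norm_num) (by omega)
  have t (d : ℕ) (hd : d ≠ 0) := term_ne (2 ^ i) (2 * d) hq (by omega)
  have h0 : (2 ^ i) ^ 63 ≠ 0 := by positivity
  have a1 := v3_term i 1 hi (by norm_num)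
  have a2 := v3_term i 3 hi (by norm_num)
  have a3 := v3_term i 4 hi (by norm_num)
  have a4 := v3_term i 5 hi (by norm_num)
  have a5 := v3_term i 6 hi (by norm_num)
  have a6 := v3_term i 7 hi (by norm_num)
  have a7 := v3_term i 9 hi (by norm_num)
  have b1 := t 1 (by norm_num)
  have b2 := t 3 (by norm_num)
  have b3 := t 4 (by norm_num)
  have b4 := t 5 (by norm_num)
  have b5 := t 6 (by norm_num)
  have b6 := t 7 (by norm_num)
  have b7 := t 9 (by norm_num)
  norm_num only at a1 a2 a3 a4 a5 a6 a7 b1 b2 b3 b4 b5 b6 b7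
  simp only [nm]
  rw [padicValNat.mul (by simp only [ne_eq, mul_eq_zero, not_or]; (clear * - h0 b1 b2 b3 b4 b5 b6; tauto)) b7,
    padicValNat.mul (by simp only [ne_eq, mul_eq_zero, not_or]; (clear * - h0 b1 b2 b3 b4 b5; tauto)) b6,
    padicValNat.mul (by simp only [ne_eq, mul_eq_zero, not_or]; (clear * - h0 b1 b2 b3 b4; tauto)) b5,
    padicValNat.mul (by simp only [ne_eq, mul_eq_zero, not_or]; (clear * - h0 b1 b2 b3; tauto)) b4,
    padicValNat.mul (by simp only [ne_eq, mul_eq_zero, not_or]; (clear * - h0 b1 b2; tauto)) b3,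
    padicValNat.mul (by simp only [ne_eq, mul_eq_zero, not_or]; (clear * - i h0 b1; tauto)) b2,
    padicValNat.mul h0 b1, v3_two_pow, a1, a2, a3, a4, a5, a6, a7, p1, p3, p4, p5, p6, p7, p9]
  ring

/-! ### LTE at 2, `q` odd -/

theorem v2_term (q d : ℕ) (hq : Odd q) (h1 : 1 < q) (hd : d ≠ 0) :
    padicValNat 2 (q ^ (2 * d) - 1) = padicValNat 2 (q ^ 2 - 1) + padicValNat 2 d := by
  have hn : ¬ 2 ∣ q := by rwa [← even_iff_two_dvd, Nat.not_even_iff_odd]
  have h2 : 2 ∣ q - 1 := by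
    obtain ⟨m, rfl⟩ := hq
    exact ⟨m, by (clear * -; omega)⟩
  have a := padicValNat.pow_two_sub_pow (x := q) (y := 1) h1 h2 hn (n := 2 * d) (by omega) (even_two_mul d)
  have b := padicValNat.pow_two_sub_pow (x := q) (y := 1) h1 h2 hn (n := 2) (by omega) even_two
  rw [one_pow] at a b
  rw [padicValNat.mul (by norm_num) hd] at a
  omega

theorem v2_odd_pow (q n : ℕ) (hq : Odd q) : padicValNat 2 (q ^ n) = 0 := by
  apply padicValNat.eq_zero_of_not_dvd
  rw [← even_iff_two_dvd, Nat.not_even_iff_odd]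
  exact hq.pow

theorem r2 : padicValNat 2 2 = 1 := padicValNat_self
theorem r3 : padicValNat 2 3 = 0 := padicValNat.eq_zero_of_not_dvd (by decide)
theorem r5 : padicValNat 2 5 = 0 := padicValNat.eq_zero_of_not_dvd (by decide)
theorem r7 : padicValNat 2 7 = 0 := padicValNat.eq_zero_of_not_dvd (by decide)
theorem r9 : padicValNat 2 9 = 0 := padicValNat.eq_zero_of_not_dvd (by decide)
theorem r15 : padicValNat 2 15 = 0 := padicValNat.eq_zero_of_not_dvd (by decide)
theorem r4 : padicValNat 2 4 = 2 := by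
  rw [show (4 : ℕ) = 2 * 2 by norm_num, padicValNat.mul (by norm_num) (by norm_num), r2]
theorem r6 : padicValNat 2 6 = 1 := by
  rw [show (6 : ℕ) = 2 * 3 by norm_num, padicValNat.mul (by norm_num) (by norm_num), r2, r3]
theorem r10 : padicValNat 2 10 = 1 := by
  rw [show (10 : ℕ) = 2 * 5 by norm_num, padicValNat.mul (by norm_num) (by norm_num), r2, r5]
theorem r12 : padicValNat 2 12 = 2 := by
  rw [show (12 : ℕ) = 4 * 3 by norm_num, padicValNat.mul (by norm_num) (by norm_num), r4, r3]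

theorem v2_e8 (q : ℕ) (hq : Odd q) (h1 : 1 < q) :
    padicValNat 2 (nm .e8 q) = 8 * padicValNat 2 (q ^ 2 - 1) + 6 := by
  have t (d : ℕ) (hd : d ≠ 0) := term_ne q (2 * d) h1 (by omega)
  have h0 : q ^ 120 ≠ 0 := by positivity
  have a1 := v2_term q 1 hq h1 (by norm_num)
  have a2 := v2_term q 4 hq h1 (by norm_num)
  have a3 := v2_term q 6 hq h1 (by norm_num)
  have a4 := v2_term q 7 hq h1 (by norm_num)
  have a5 := v2_term q 9 hq h1 (by norm_num)
  have a6 := v2_term q 10 hq h1 (by norm_num)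
  have a7 := v2_term q 12 hq h1 (by norm_num)
  have a8 := v2_term q 15 hq h1 (by norm_num)
  have b1 := t 1 (by norm_num)
  have b2 := t 4 (by norm_num)
  have b3 := t 6 (by norm_num)
  have b4 := t 7 (by norm_num)
  have b5 := t 9 (by norm_num)
  have b6 := t 10 (by norm_num)
  have b7 := t 12 (by norm_num)
  have b8 := t 15 (by norm_num)
  norm_num only at a2 a3 a4 a5 a6 a7 a8 b1 b2 b3 b4 b5 b6 b7 b8
  simp only [nm]
  rw [padicValNat.mul (by simp only [ne_eq, mul_eq_zero, not_or]; (clear * - h0 b1 b2 b3 b4 b5 b6 b7; tauto)) b8,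
    padicValNat.mul (by simp only [ne_eq, mul_eq_zero, not_or]; (clear * - h0 b1 b2 b3 b4 b5 b6; tauto)) b7,
    padicValNat.mul (by simp only [ne_eq, mul_eq_zero, not_or]; (clear * - h0 b1 b2 b3 b4 b5; tauto)) b6,
    padicValNat.mul (by simp only [ne_eq, mul_eq_zero, not_or]; (clear * - h0 b1 b2 b3 b4; tauto)) b5,
    padicValNat.mul (by simp only [ne_eq, mul_eq_zero, not_or]; (clear * - h0 b1 b2 b3; tauto)) b4,
    padicValNat.mul (by simp only [ne_eq, mul_eq_zero, not_or]; (clear * - q h0 b1 b2; tauto)) b3,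
    padicValNat.mul (by simp only [ne_eq, mul_eq_zero, not_or]; (clear * - q h0 b1; tauto)) b2,
    padicValNat.mul h0 b1, v2_odd_pow _ _ hq, a2, a3, a4, a5, a6, a7, a8, r4, r6, r7, r9, r10, r12, r15]
  ring

theorem v2_e7 (q : ℕ) (hq : Odd q) (h1 : 1 < q) :
    padicValNat 2 (nm .e7 q) = 7 * padicValNat 2 (q ^ 2 - 1) + 3 := by
  have t (d : ℕ) (hd : d ≠ 0) := term_ne q (2 * d) h1 (by omega)
  have h0 : q ^ 63 ≠ 0 := by positivity
  have a2 := v2_term q 3 hq h1 (by norm_num)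
  have a3 := v2_term q 4 hq h1 (by norm_num)
  have a4 := v2_term q 5 hq h1 (by norm_num)
  have a5 := v2_term q 6 hq h1 (by norm_num)
  have a6 := v2_term q 7 hq h1 (by norm_num)
  have a7 := v2_term q 9 hq h1 (by norm_num)
  have b1 := t 1 (by norm_num)
  have b2 := t 3 (by norm_num)
  have b3 := t 4 (by norm_num)
  have b4 := t 5 (by norm_num)
  have b5 := t 6 (by norm_num)
  have b6 := t 7 (by norm_num)
  have b7 := t 9 (by norm_num)
  norm_num only at a2 a3 a4 a5 a6 a7 b1 b2 b3 b4 b5 b6 b7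
  simp only [nm]
  rw [padicValNat.mul (by simp only [ne_eq, mul_eq_zero, not_or]; (clear * - h0 b1 b2 b3 b4 b5 b6; tauto)) b7,
    padicValNat.mul (by simp only [ne_eq, mul_eq_zero, not_or]; (clear * - h0 b1 b2 b3 b4 b5; tauto)) b6,
    padicValNat.mul (by simp only [ne_eq, mul_eq_zero, not_or]; (clear * - h0 b1 b2 b3 b4; tauto)) b5,
    padicValNat.mul (by simp only [ne_eq, mul_eq_zero, not_or]; (clear * - h0 b1 b2 b3; tauto)) b4,
    padicValNat.mul (by simp only [ne_eq, mul_eq_zero, not_or]; (clear * - q h0 b1 b2; tauto)) b3,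
    padicValNat.mul (by simp only [ne_eq, mul_eq_zero, not_or]; (clear * - q h0 b1; tauto)) b2,
    padicValNat.mul h0 b1, v2_odd_pow _ _ hq, a2, a3, a4, a5, a6, a7, r3, r4, r5, r6, r7, r9]
  ring

end Cfsg.Agent.H626.EK
end

-- part: H626/EK/Walk
section
/-!
# S5745, CrossK numeric: the walk for `E8`, `E7` (helper626)
-/

set_option autoImplicit false

namespace Cfsg.Agent.H626.EK

open Cfsg.Agent.H746.EK

/-- `j = 1, 2, ...` until `big j` -/
def walk (big ok : ℕ → Bool) (N : ℕ) : ℕ → Bool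
  | 0 => false
  | n + 1 => big (N - n) || (ok (N - n) && walk big ok N n)

theorem walk_spec {big ok : ℕ → Bool} (hm : ∀ a b, a ≤ b → big a = true → big b = true) {N n : ℕ} (hn : n ≤ N)
    (h : walk big ok N n = true) {j : ℕ} (hj : N - n < j) : big j = true ∨ ok j = true := by
  induction n with
  | zero => exact absurd h (by simp [walk])
  | succ n ih =>
    rw [walk, Bool.or_eq_true, Bool.and_eq_true] at h
    rcases h with h | ⟨h1, h2⟩
    · exact Or.inl (hm _ _ (by omega) h)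
    · rcases (by omega : j = N - n ∨ N - n < j) with rfl | h3
      · exact Or.inr h1
      · exact ih (by omega) h2 h3

/-- the bound, with `L = Lc t` -/
def bk (L t k : ℕ) : ℕ :=
  (1 + (L ^ k + Ik t (2 * t) k) * (2 * Dk t k)) * ((2 * t) ^ k * k.factorial)

theorem bk_eq (t k : ℕ) : Bk t (2 * t) k = bk (Lc t) t k := rfl

theorem lt_of_bound {f : Fam} {B Q : ℕ} (hm : 3 * B < nm f Q) {q C : ℕ} (hC : dn f q * C = nm f q) (hB : C ≤ B) :
    q < Q := by
  by_contra hcon
  push Not at hcon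
  have h1 := nm_mono f hcon
  have h2 : dn f q * C ≤ 3 * B := Nat.mul_le_mul (dn_le f q) hB
  omega

/-- `q` is excluded -/
def ok1 (f : Fam) (n B q : ℕ) : Bool :=
  !(Nat.beq (nm f q % (dn f q * n)) 0) || Nat.blt (dn f q * B) (nm f q)

theorem ok1_false {f : Fam} {n B q : ℕ} (h : ok1 f n B q = true) {C : ℕ} (hC : dn f q * C = nm f q) (hn : n ∣ C)
    (hB : C ≤ B) : False := by
  unfold ok1 at h
  rw [Bool.or_eq_true] at h
  rcases h with h | h
  · have h1 : nm f q % (dn f q * n) = 0 := by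
      rw [← hC]
      exact Nat.mod_eq_zero_of_dvd (Nat.mul_dvd_mul_left _ hn)
    rw [h1] at h
    exact absurd h (by decide)
  · have h1 : dn f q * B < nm f q := by
      unfold Nat.blt at h
      exact Nat.le_of_ble_eq_true h
    have h2 : dn f q * C ≤ dn f q * B := Nat.mul_le_mul_left _ hB
    omega

/-- `3 B < nm f q` -/
def big1 (f : Fam) (B q : ℕ) : Bool := Nat.blt (3 * B) (nm f q)

theorem big1_mono {f : Fam} {B a b : ℕ} (hab : a ≤ b) (h : big1 f B a = true) : big1 f B b = true := by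
  unfold big1 Nat.blt at *
  have h1 := Nat.le_of_ble_eq_true h
  exact Nat.ble_eq_true_of_le (h1.trans (nm_mono f hab))

theorem big1_false {f : Fam} {B q : ℕ} (h : big1 f B q = true) {C : ℕ} (hC : dn f q * C = nm f q) (hB : C ≤ B) :
    False := by
  unfold big1 Nat.blt at h
  have h1 : 3 * B < nm f q := Nat.le_of_ble_eq_true h
  exact absurd (lt_of_bound h1 hC hB) (lt_irrefl _)

/-- even part: `q = 2 ^ (3 ^ w * j)` -/
def ev (f : Fam) (n B w N : ℕ) : Bool :=
  walk (fun j => big1 f B (2 ^ (3 ^ w * j))) (fun j => ok1 f n B (2 ^ (3 ^ w * j))) N N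

theorem ev_false {f : Fam} {n B w N : ℕ} (h : ev f n B w N = true) {i : ℕ} (hi : i ≠ 0) (hw : 3 ^ w ∣ i) {C : ℕ}
    (hC : dn f (2 ^ i) * C = nm f (2 ^ i)) (hn : n ∣ C) (hB : C ≤ B) : False := by
  obtain ⟨j, rfl⟩ := hw
  have hj : 0 < j := by
    rcases Nat.eq_zero_or_pos j with rfl | h
    · simp at hi
    · exact h
  have hm : ∀ a b, a ≤ b → big1 f B (2 ^ (3 ^ w * a)) = true → big1 f B (2 ^ (3 ^ w * b)) = true :=
    fun a b hab h2 => big1_mono (Nat.pow_le_pow_right (by norm_num) (Nat.mul_le_mul_left _ hab)) h2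
  rcases walk_spec (j := j) hm le_rfl h (by omega) with h1 | h1
  · exact big1_false h1 hC hB
  · exact ok1_false h1 hC hn hB

/-- odd part: `q = 2 ^ v * j ± 1` -/
def od (f : Fam) (n B v N : ℕ) : Bool :=
  walk (fun j => big1 f B (2 ^ v * j - 1))
    (fun j => ok1 f n B (2 ^ v * j - 1) && ok1 f n B (2 ^ v * j + 1)) N N

theorem od_false {f : Fam} {n B v N : ℕ} (h : od f n B v N = true) {q j : ℕ} (hq : 2 ≤ q)
    (hj : q = 2 ^ v * j + 1 ∨ q + 1 = 2 ^ v * j) {C : ℕ} (hC : dn f q * C = nm f q) (hn : n ∣ C) (hB : C ≤ B) :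
    False := by
  have hj0 : 0 < j := by
    rcases Nat.eq_zero_or_pos j with rfl | h
    · omega
    · exact h
  have hm : ∀ a b, a ≤ b → big1 f B (2 ^ v * a - 1) = true → big1 f B (2 ^ v * b - 1) = true :=
    fun a b hab h2 => big1_mono (Nat.sub_le_sub_right (Nat.mul_le_mul_left _ hab) 1) h2
  rcases walk_spec (j := j) hm le_rfl h (by omega) with h1 | h1
  · exact big1_false (big1_mono (by omega) h1) hC hB
  · rw [Bool.and_eq_true] at h1
    rcases hj with hj | hj
    · rw [hj] at hC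
      exact ok1_false h1.2 hC hn hB
    · have e : q = 2 ^ v * j - 1 := by omega
      rw [e] at hC
      exact ok1_false h1.1 hC hn hB

theorem even_or {q : ℕ} (hq : IsPrimePow q) : (∃ i, i ≠ 0 ∧ q = 2 ^ i) ∨ Odd q := by
  rcases Nat.even_or_odd q with he | ho
  · left
    obtain ⟨r, i, hr, hi, rfl⟩ := hq
    have h2 := Nat.prime_two.dvd_of_dvd_pow (even_iff_two_dvd.1 he)
    rw [Nat.prime_dvd_prime_iff_eq Nat.prime_two hr.nat_prime] at h2
    subst h2
    exact ⟨i, hi.ne', rfl⟩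
  · exact Or.inr ho

theorem nm_ne {f : Fam} {q : ℕ} (hf : f = .e8 ∨ f = .e7) (hq : 2 ≤ q) : nm f q ≠ 0 := by
  have t (d : ℕ) (hd : d ≠ 0) := term_ne q d hq hd
  have h0 (n : ℕ) : q ^ n ≠ 0 := by positivity
  rcases hf with rfl | rfl <;> simp only [nm]
  · exact mul_ne_zero (mul_ne_zero (mul_ne_zero (mul_ne_zero (mul_ne_zero (mul_ne_zero (mul_ne_zero (mul_ne_zero
      (h0 _) (t _ (by norm_num))) (t _ (by norm_num))) (t _ (by norm_num))) (t _ (by norm_num))) (t _ (by norm_num)))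
      (t _ (by norm_num))) (t _ (by norm_num))) (t _ (by norm_num))
  · exact mul_ne_zero (mul_ne_zero (mul_ne_zero (mul_ne_zero (mul_ne_zero (mul_ne_zero (mul_ne_zero
      (h0 _) (t _ (by norm_num))) (t _ (by norm_num))) (t _ (by norm_num))) (t _ (by norm_num))) (t _ (by norm_num)))
      (t _ (by norm_num))) (t _ (by norm_num))

theorem dvd_nm {f : Fam} {q n C : ℕ} (hC : dn f q * C = nm f q) (hn : n ∣ C) : n ∣ nm f q := hC ▸ hn.mul_left _

/-- `E8`, `3` -/
theorem w_e8 {i e : ℕ} (hi : i ≠ 0) (h : 3 ^ e ∣ nm .e8 (2 ^ i)) : 3 ^ (min ((e - 6) / 8) 6) ∣ i := by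
  have hq : 2 ≤ 2 ^ i := by
    calc 2 = 2 ^ 1 := by norm_num
      _ ≤ 2 ^ i := Nat.pow_le_pow_right (by norm_num) (by omega)
  rw [padicValNat_dvd_iff_le (nm_ne (Or.inl rfl) hq), v3_e8 i hi] at h
  rw [padicValNat_dvd_iff_le hi]
  omega

/-- `E7`, `3` -/
theorem w_e7 {i e : ℕ} (hi : i ≠ 0) (h : 3 ^ e ∣ nm .e7 (2 ^ i)) : 3 ^ (min ((e - 5) / 7) 6) ∣ i := by
  have hq : 2 ≤ 2 ^ i := by
    calc 2 = 2 ^ 1 := by norm_num
      _ ≤ 2 ^ i := Nat.pow_le_pow_right (by norm_num) (by omega)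
  rw [padicValNat_dvd_iff_le (nm_ne (Or.inr rfl) hq), v3_e7 i hi] at h
  rw [padicValNat_dvd_iff_le hi]
  omega

theorem three_le {q : ℕ} (hq : Odd q) (h1 : 1 < q) : 3 ≤ padicValNat 2 (q ^ 2 - 1) := by
  rw [← padicValNat_dvd_iff_le (term_ne q 2 h1 (by norm_num))]
  obtain ⟨m, rfl⟩ := hq
  obtain ⟨r, hr⟩ := Nat.even_mul_succ_self m
  refine ⟨r, ?_⟩
  have : (2 * m + 1) ^ 2 = 4 * (m * (m + 1)) + 1 := by ring
  rw [this, hr]
  omega

/-- `E8`, `2` -/
theorem v_e8 {q e : ℕ} (hq : Odd q) (h1 : 1 < q) (h : 2 ^ e ∣ nm .e8 q) :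
    2 ^ (max ((e + 1) / 8 - 2) 1 + 2) ∣ q ^ 2 - 1 := by
  have h3 := three_le hq h1
  rw [padicValNat_dvd_iff_le (nm_ne (Or.inl rfl) h1), v2_e8 q hq h1] at h
  rw [padicValNat_dvd_iff_le (term_ne q 2 h1 (by norm_num))]
  omega

/-- `E7`, `2` -/
theorem v_e7 {q e : ℕ} (hq : Odd q) (h1 : 1 < q) (h : 2 ^ e ∣ nm .e7 q) :
    2 ^ (max ((e + 3) / 7 - 2) 1 + 2) ∣ q ^ 2 - 1 := by
  have h3 := three_le hq h1
  rw [padicValNat_dvd_iff_le (nm_ne (Or.inr rfl) h1), v2_e7 q hq h1] at h
  rw [padicValNat_dvd_iff_le (term_ne q 2 h1 (by norm_num))]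
  omega

/-- the check, `E8` -/
def ck8 (t L e2 e3 k : ℕ) : Bool :=
  ev .e8 (t ^ k) (bk L t k) (min ((e3 * k - 6) / 8) 6) 600 &&
    od .e8 (t ^ k) (bk L t k) (max ((e2 * k + 1) / 8 - 2) 1 + 1) 300

/-- the check, `E7`, even -/
def ck7e (t L e3 k : ℕ) : Bool := ev .e7 (t ^ k) (bk L t k) (min ((e3 * k - 5) / 7) 6) 600

/-- the check, `E7`, odd -/
def ck7o (t L e2 k : ℕ) : Bool := od .e7 (t ^ k) (bk L t k) (max ((e2 * k + 3) / 7 - 2) 1 + 1) 2000

theorem core8 {t L e2 e3 k q C : ℕ} (h2 : 2 ^ e2 ∣ t) (h3 : 3 ^ e3 ∣ t) (hck : ck8 t L e2 e3 k = true)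
    (hq : IsPrimePow q) (hC : dn .e8 q * C = nm .e8 q) (hd : t ^ k ∣ C) (hB : C ≤ bk L t k) : False := by
  rw [ck8, Bool.and_eq_true] at hck
  have hn := dvd_nm hC hd
  rcases even_or hq with ⟨i, hi, rfl⟩ | ho
  · refine ev_false hck.1 hi (w_e8 hi ?_) hC hd hB
    rw [pow_mul]
    exact (pow_dvd_pow_of_dvd h3 k).trans hn
  · have h1 : 1 < q := hq.one_lt
    obtain ⟨j, hj⟩ := Cfsg.Agent.H805.EPX.pm ho (v_e8 ho h1 (e := e2 * k) (by rw [pow_mul]; exact (pow_dvd_pow_of_dvd h2 k).trans hn))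
    exact od_false hck.2 h1 hj hC hd hB

theorem core7e {t L e3 k q C : ℕ} (h3 : 3 ^ e3 ∣ t) (hck : ck7e t L e3 k = true)
    (hq : IsPrimePow q) (hev : ¬ Odd q) (hC : dn .e7 q * C = nm .e7 q) (hd : t ^ k ∣ C) (hB : C ≤ bk L t k) :
    False := by
  rw [ck7e] at hck
  have hn := dvd_nm hC hd
  rcases even_or hq with ⟨i, hi, rfl⟩ | ho
  · refine ev_false hck hi (w_e7 hi ?_) hC hd hB
    rw [pow_mul]
    exact (pow_dvd_pow_of_dvd h3 k).trans hn
  · exact hev ho

theorem core7o {t L e2 k q C : ℕ} (h2 : 2 ^ e2 ∣ t) (hck : ck7o t L e2 k = true)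
    (hq : IsPrimePow q) (ho : Odd q) (hC : dn .e7 q * C = nm .e7 q) (hd : t ^ k ∣ C) (hB : C ≤ bk L t k) :
    False := by
  rw [ck7o] at hck
  have hn := dvd_nm hC hd
  have h1 : 1 < q := hq.one_lt
  obtain ⟨j, hj⟩ := Cfsg.Agent.H805.EPX.pm ho (v_e7 ho h1 (e := e2 * k) (by rw [pow_mul]; exact (pow_dvd_pow_of_dvd h2 k).trans hn))
  exact od_false hck h1 hj hC hd hB

end Cfsg.Agent.H626.EK
end

-- part: H626/EK/Data
section
/-!
# S5745, CrossK numeric: sporadic orders and the numbers `Lc` (helper626)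
-/

set_option autoImplicit false
set_option maxHeartbeats 4000000
set_option maxRecDepth 100000

namespace Cfsg.Agent.H626.EK

open Cfsg.Agent.H746.EK
open Cfsg.Agent.H805.EPX (allb allb_iff)

/-- the orders of the sporadic groups -/
def sporO : List ℕ :=
  [7920,
    95040,
    443520,
    10200960,
    244823040,
    175560,
    604800,
    50232960,
    86775571046077562880,
    4157776806543360000,
    42305421312000,
    495766656000,
    64561751654400,
    4089470473293004800,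
    1255205709190661721292800,
    44352000,
    898128000,
    4030387200,
    145926144000,
    448345497600,
    460815505920,
    273030912000000,
    51765179004000000,
    90745943887872000,
    4154781481226426191177580544000000,
    808017424794512875886459904961710757005754368000000000]

theorem L_m11 : Lc 7920 = 1180782 := by decide +kernel

theorem L_m12 : Lc 95040 = 263096654 := by decide +kernel

theorem L_m22 : Lc 443520 = 12284320528 := by decide +kernel

theorem L_m23 : Lc 10200960 = 85078705608595 := by decide +kernel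

theorem L_m24 : Lc 244823040 = 1161839824146208863 := by decide +kernel

theorem L_j1 : Lc 175560 = 938864925 := by decide +kernel

theorem L_j2 : Lc 604800 = 26403575918 := by decide +kernel

theorem L_j3 : Lc 50232960 = 9988599647273403 := by decide +kernel

theorem L_j4 : Lc 86775571046077562880 = 215585949250351294934087316365388129884754236960212054 := by decide +kernel

theorem L_co1 : Lc 4157776806543360000 = 7878565136423900831601518050555680368277884819698983 := by decide +kernel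

theorem L_co2 : Lc 42305421312000 = 125101331768759548739076491815915034033 := by decide +kernel

theorem L_co3 : Lc 495766656000 = 9561507406172574992750562711 := by decide +kernel

theorem L_fi22 : Lc 64561751654400 = 463676411830021209497232836771062454 := by decide +kernel

theorem L_fi23 : Lc 4089470473293004800 = 5366565648343429615999125079156242694570695954223 := by decide +kernel

theorem L_fi24 : Lc 1255205709190661721292800 = 155181148462093177482650633419451624195053172583263283514355087186 := by decide +kernel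

theorem L_hs : Lc 44352000 = 6939969038255186 := by decide +kernel

theorem L_mcl : Lc 898128000 = 56860639375088534644 := by decide +kernel

theorem L_he : Lc 4030387200 = 5137720598400073648596 := by decide +kernel

theorem L_ru : Lc 145926144000 = 342912297682013117884884610 := by decide +kernel

theorem L_suz : Lc 448345497600 = 7074653979509130896882271457 := by decide +kernel

theorem L_on : Lc 460815505920 = 7678487647574025293413381306 := by decide +kernel

theorem L_hn : Lc 273030912000000 = 1597091312167063101990708086191728813 := by decide +kernel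

theorem L_ly : Lc 51765179004000000 = 10884472780383034928308828156706245361593220 := by decide +kernel

theorem L_th : Lc 90745943887872000 = 58637561862924700520829963564321565756572203 := by decide +kernel

private noncomputable def _root_.Cfsg.Agent.KO2546f07.k0 : ((x0 : Prop) → ((@Decidable @x0) → @Bool)) := @(fun (x0 : Prop) (x1 : @Decidable @x0) => @Decidable.rec.{1} @x0 @(fun (x2 : @Decidable @x0) => @Bool) @(fun (x2 : @Not @x0) => @Bool.false) @(fun (x2 : x0) => @Bool.true) @x1)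
private theorem _root_.Cfsg.Agent.KO2546f07.e0 : @Decidable.decide = @_root_.Cfsg.Agent.KO2546f07.k0 := by delta _root_.Cfsg.Agent.KO2546f07.k0; rfl'
private noncomputable def _root_.Cfsg.Agent.KO2546f07.k1 : ((x0 : @Nat) → ((x1 : @Nat) → @Decidable (@Eq.{1} @Nat @x0 @x1))) := @(fun (x0 : @Nat) (x1 : @Nat) => @Bool.rec.{1} @(fun (x2 : @Bool) => ((@Eq.{1} @Bool (@Nat.beq @x0 @x1) @x2) → @Decidable (@Eq.{1} @Nat @x0 @x1))) @(fun (x2 : @Eq.{1} @Bool (@Nat.beq @x0 @x1) @Bool.false) => @Decidable.isFalse (@Eq.{1} @Nat @x0 @x1) (@Nat.ne_of_beq_eq_false @x0 @x1 @x2)) @(fun (x2 : @Eq.{1} @Bool (@Nat.beq @x0 @x1) @Bool.true) => @Decidable.isTrue (@Eq.{1} @Nat @x0 @x1) (@Nat.eq_of_beq_eq_true @x0 @x1 @x2)) (@Nat.beq @x0 @x1) (@Eq.refl.{1} @Bool (@Nat.beq @x0 @x1)))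
private theorem _root_.Cfsg.Agent.KO2546f07.e1 : @Nat.decEq = @_root_.Cfsg.Agent.KO2546f07.k1 := by delta _root_.Cfsg.Agent.KO2546f07.k1; rfl'
private noncomputable def _root_.Cfsg.Agent.KO2546f07.k2 : @DecidableEq.{1} @Nat := @Cfsg.Agent.KO2546f07.k1
private theorem _root_.Cfsg.Agent.KO2546f07.e2 : @instDecidableEqNat = @_root_.Cfsg.Agent.KO2546f07.k2 := by delta _root_.Cfsg.Agent.KO2546f07.k2; rewrite [← Cfsg.Agent.KO2546f07.e1]; rfl'
private theorem _root_.Cfsg.Agent.KO2546f07.e3.{ku, kv} {α : Type kv} {M : List α → Sort ku} (φ : ∀ l, M l) {z : M List.nil} {s : ∀ a l, M l → M (List.cons a l)} (h0 : φ List.nil = z) (hs : ∀ a l, φ (List.cons a l) = s a l (φ l)) (l : List α) : φ l = @List.rec α M z s l := List.rec h0 (fun a l ih => (hs a l).trans (congrArg (s a l) ih)) l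
private noncomputable def _root_.Cfsg.Agent.KO2546f07.k4.{ku0, ku1} : ((x0 : Sort (ku0+1)) → ((x1 : Sort (ku1+1)) → ((x0 → (x1 → x1)) → (x1 → ((@List.{ku0} @x0) → x1))))) := @(fun (x0 : Sort (ku0+1)) (x1 : Sort (ku1+1)) (x2 : (x0 → (x1 → x1))) (x3 : x1) (x4 : @List.{ku0} @x0) => @List.rec.{(ku1+1), ku0} @x0 @(fun (x5 : @List.{ku0} @x0) => x1) @x3 @(fun (x5 : x0) (x6 : @List.{ku0} @x0) (x7 : x1) => @x2 @x5 @x7) @x4)
private theorem _root_.Cfsg.Agent.KO2546f07.e4.{ku0, ku1} : @List.foldr.{ku0, ku1} = @_root_.Cfsg.Agent.KO2546f07.k4.{ku0, ku1} := by delta _root_.Cfsg.Agent.KO2546f07.k4; funext a0 a1 a2 a3 a4; refine (_root_.Cfsg.Agent.KO2546f07.e3 (fun a4 => @List.foldr.{ku0, ku1} a0 a1 a2 a3 a4) ?_ (fun c0 c1 => ?_) a4 :) <;> (rfl')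
private noncomputable def _root_.Cfsg.Agent.KO2546f07.k5.{ku0, ku1} : ((x0 : Sort (ku0+1)) → ((x1 : Sort (ku1+1)) → ((x0 → x1) → ((@List.{ku0} @x0) → @List.{ku1} @x1)))) := @(fun (x0 : Sort (ku0+1)) (x1 : Sort (ku1+1)) (x2 : (x0 → x1)) (x3 : @List.{ku0} @x0) => @List.rec.{(ku1+1), ku0} @x0 @(fun (x4 : @List.{ku0} @x0) => @List.{ku1} @x1) (@List.nil.{ku1} @x1) @(fun (x4 : x0) (x5 : @List.{ku0} @x0) (x6 : @List.{ku1} @x1) => @List.cons.{ku1} @x1 (@x2 @x4) @x6) @x3)
private theorem _root_.Cfsg.Agent.KO2546f07.e5.{ku0, ku1} : @List.map.{ku0, ku1} = @_root_.Cfsg.Agent.KO2546f07.k5.{ku0, ku1} := by delta _root_.Cfsg.Agent.KO2546f07.k5; funext a0 a1 a2 a3; refine (_root_.Cfsg.Agent.KO2546f07.e3 (fun a3 => @List.map.{ku0, ku1} a0 a1 a2 a3) ?_ (fun c0 c1 => ?_) a3 :) <;> (rfl')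
private theorem _root_.Cfsg.Agent.KO2546f07.e6.{ku} {M : Nat → Sort ku} (φ : ∀ n, M n) {z : M Nat.zero} {s : ∀ n, M n → M (Nat.succ n)} (h0 : φ Nat.zero = z) (hs : ∀ n, φ (Nat.succ n) = s n (φ n)) (n : Nat) : φ n = @Nat.rec M z s n := Nat.rec h0 (fun n ih => (hs n).trans (congrArg (s n) ih)) n
private noncomputable def _root_.Cfsg.Agent.KO2546f07.k7 : (@Nat → ((@List.{0} @Nat) → @List.{0} @Nat)) := @(fun (x0 : @Nat) (x1 : @List.{0} @Nat) => @Nat.rec.{1} @(fun (x2 : @Nat) => ((@List.{0} @Nat) → @List.{0} @Nat)) @(fun (x2 : @List.{0} @Nat) => x2) @(fun (x2 : @Nat) (x3 : ((@List.{0} @Nat) → @List.{0} @Nat)) (x4 : @List.{0} @Nat) => @x3 (@List.cons.{0} @Nat @x2 @x4)) @x0 @x1)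
private theorem _root_.Cfsg.Agent.KO2546f07.e7 : @List.range.loop = @_root_.Cfsg.Agent.KO2546f07.k7 := by delta _root_.Cfsg.Agent.KO2546f07.k7; funext a0 a1; refine (congrFun (_root_.Cfsg.Agent.KO2546f07.e6 (fun a0 a1 => @List.range.loop a0 a1) ?_ (fun c0 => ?_) a0) a1 :) <;> (rfl')
private noncomputable def _root_.Cfsg.Agent.KO2546f07.k8 : (by first | exact type_of% @Cfsg.Agent.H746.EK.galC | exact Unit : Sort _) := by first | (refine @Subtype.val _ (fun g => @Cfsg.Agent.H746.EK.galC = @g) (@Subtype.mk _ _ (@(fun (x0 : @Nat) (x1 : @Nat) => @Cfsg.Agent.KO2546f07.k4.{0, 0} @Nat @Nat @(fun (x2 : @Nat) (x3 : @Nat) => @Nat.add @x2 @x3) (nat_lit 0) (@Cfsg.Agent.KO2546f07.k5.{0, 0} @Nat @Nat @(fun (x2 : @Nat) => @Nat.div (@Cfsg.Agent.KO2546f07.k4.{0, 0} @Nat @Nat @(fun (x3 : @Nat) (x4 : @Nat) => @Nat.mul @x3 @x4) (nat_lit 1) (@Cfsg.Agent.KO2546f07.k5.{0, 0} @Nat @Nat @(fun (x3 : @Nat) => @Nat.sub (@Nat.pow @x0 @x1) (@Nat.pow @x0 @x3)) (@Cfsg.Agent.KO2546f07.k7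 (@Nat.add @x2 (nat_lit 1)) (@List.nil.{0} @Nat)))) (@Cfsg.Agent.KO2546f07.k4.{0, 0} @Nat @Nat @(fun (x3 : @Nat) (x4 : @Nat) => @Nat.mul @x3 @x4) (nat_lit 1) (@Cfsg.Agent.KO2546f07.k5.{0, 0} @Nat @Nat @(fun (x3 : @Nat) => @Nat.sub (@Nat.pow @x0 (@Nat.add @x2 (nat_lit 1))) (@Nat.pow @x0 @x3)) (@Cfsg.Agent.KO2546f07.k7 (@Nat.add @x2 (nat_lit 1)) (@List.nil.{0} @Nat))))) (@Cfsg.Agent.KO2546f07.k7 @x1 (@List.nil.{0} @Nat))))) ?_); rewrite [← Cfsg.Agent.KO2546f07.e7, ← Cfsg.Agent.KO2546f07.e5.{0, 0}, ← Cfsg.Agent.KO2546f07.e4.{0, 0}]; rfl') | exact @Cfsg.Agent.H746.EK.galC | exact ()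
private theorem _root_.Cfsg.Agent.KO2546f07.e8 : (by first | exact @Cfsg.Agent.H746.EK.galC = @_root_.Cfsg.Agent.KO2546f07.k8 | exact True : Prop) := by first | (delta _root_.Cfsg.Agent.KO2546f07.k8; exact @Subtype.property _ (fun g => @Cfsg.Agent.H746.EK.galC = @g) _) | rfl | trivial
private noncomputable def _root_.Cfsg.Agent.KO2546f07.oEq.{ku} (α : Sort ku) (a b : Nat) (f t : α) : α := @Decidable.rec (a = b) (fun _ => α) (fun _ => f) (fun _ => t) (Nat.decEq a b)
private noncomputable def _root_.Cfsg.Agent.KO2546f07.k9.{ku} (α : Sort ku) (a b : Nat) (f t : α) : α := @Bool.rec (fun _ => α) f t (Nat.beq a b)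
private theorem _root_.Cfsg.Agent.KO2546f07.e9.{ku} : @_root_.Cfsg.Agent.KO2546f07.oEq.{ku} = @_root_.Cfsg.Agent.KO2546f07.k9.{ku} := funext fun α => funext fun a => funext fun b => funext fun f => funext fun t => by delta _root_.Cfsg.Agent.KO2546f07.oEq _root_.Cfsg.Agent.KO2546f07.k9; cases h : Nat.beq a b <;> cases Nat.decEq a b <;> rename_i g <;> first | rfl | exact absurd g (Nat.ne_of_beq_eq_false h) | exact absurd (Nat.eq_of_beq_eq_true h) g
private noncomputable def _root_.Cfsg.Agent.KO2546f07.k10 : (by first | exact type_of% @Cfsg.Agent.H746.EK.vv | exact Unit : Sort _) := by first | (refine @Subtype.val _ (fun g => @Cfsg.Agent.H746.EK.vv = @g) (@Subtype.mk _ _ (@(fun (x0 : @Nat) (x1 : @Nat) (x2 : @Nat) => @Nat.rec.{1} @(fun (x3 : @Nat) => (@Nat → @Nat)) @(fun (x3 : @Nat) => nat_lit 0) @(fun (x3 : @Nat) (x4 : (@Nat → @Nat)) (x5 : @Nat) => @Cfsg.Agent.KO2546f07.k9.{1} @Nat (@Nat.mod @x5 @x0) (nat_lit 0) (nat_lit 0) (@Nat.add (@x4 (@Nat.div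 @x5 @x0)) (nat_lit 1))) @x1 @x2)) ?_); rewrite [← Cfsg.Agent.KO2546f07.e9.{1}]; funext a0 a1 a2; refine (congrFun (_root_.Cfsg.Agent.KO2546f07.e6 (fun a1 a2 => @Cfsg.Agent.H746.EK.vv a0 a1 a2) ?_ (fun c0 => ?_) a1) a2 :) <;> (rfl')) | exact @Cfsg.Agent.H746.EK.vv | exact ()
private theorem _root_.Cfsg.Agent.KO2546f07.e10 : (by first | exact @Cfsg.Agent.H746.EK.vv = @_root_.Cfsg.Agent.KO2546f07.k10 | exact True : Prop) := by first | (delta _root_.Cfsg.Agent.KO2546f07.k10; exact @Subtype.property _ (fun g => @Cfsg.Agent.H746.EK.vv = @g) _) | rfl | trivial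
private noncomputable def _root_.Cfsg.Agent.KO2546f07.k11.{ku0} : ((x0 : Sort (ku0+1)) → ((x0 → @Bool) → ((@List.{ku0} @x0) → @List.{ku0} @x0))) := @(fun (x0 : Sort (ku0+1)) (x1 : (x0 → @Bool)) (x2 : @List.{ku0} @x0) => @List.rec.{(ku0+1), ku0} @x0 @(fun (x3 : @List.{ku0} @x0) => @List.{ku0} @x0) (@List.nil.{ku0} @x0) @(fun (x3 : x0) (x4 : @List.{ku0} @x0) (x5 : @List.{ku0} @x0) => @Bool.rec.{(ku0+1)} @(fun (x6 : @Bool) => @List.{ku0} @x0) @x5 (@List.cons.{ku0} @x0 @x3 @x5) (@x1 @x3)) @x2)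
private theorem _root_.Cfsg.Agent.KO2546f07.e11.{ku0} : @List.filter.{ku0} = @_root_.Cfsg.Agent.KO2546f07.k11.{ku0} := by delta _root_.Cfsg.Agent.KO2546f07.k11; funext a0 a1 a2; refine (_root_.Cfsg.Agent.KO2546f07.e3 (fun a2 => @List.filter.{ku0} a0 a1 a2) ?_ (fun c0 c1 => ?_) a2 :) <;> (rfl')
private noncomputable def _root_.Cfsg.Agent.KO2546f07.k12 : (by first | exact type_of% @Cfsg.Agent.H746.EK.fac | exact Unit : Sort _) := by first | (refine @Subtype.val _ (fun g => @Cfsg.Agent.H746.EK.fac = @g) (@Subtype.mk _ _ (@(fun (x0 : @Nat) => @Cfsg.Agent.KO2546f07.k5.{0, 0} @Nat (@Prod.{0, 0} @Nat @Nat) @(fun (x1 : @Nat) => @Prod.mk.{0, 0} @Nat @Nat @x1 (@Cfsg.Agent.KO2546f07.k10 @x1 (nat_lit 200) @x0)) (@Cfsg.Agent.KO2546f07.k11.{0} @Nat @(fun (x1 : @Nat) => @Cfsg.Agent.KO2546f07.k9.{1} @Bool (@Nat.mod @x0 @x1) (nat_lit 0) @Bool.false @Bool.true) @Cfsg.Agent.H290.ElTab.prs))) ?_); rewrite [← Cfsg.Agent.KO2546f07.e9.{1}, ← Cfsg.Agent.KO2546f07.e11.{0},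 ← Cfsg.Agent.KO2546f07.e10, ← Cfsg.Agent.KO2546f07.e5.{0, 0}]; (try delta Cfsg.Agent.H746.EK.fac); (try generalize @Cfsg.Agent.H746.EK.vv = g0); (try generalize @Cfsg.Agent.H290.ElTab.prs = g1); rfl') | exact @Cfsg.Agent.H746.EK.fac | exact ()
private theorem _root_.Cfsg.Agent.KO2546f07.e12 : (by first | exact @Cfsg.Agent.H746.EK.fac = @_root_.Cfsg.Agent.KO2546f07.k12 | exact True : Prop) := by first | (delta _root_.Cfsg.Agent.KO2546f07.k12; exact @Subtype.property _ (fun g => @Cfsg.Agent.H746.EK.fac = @g) _) | rfl | trivial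
private noncomputable def _root_.Cfsg.Agent.KO2546f07.k13 : (by first | exact type_of% @Cfsg.Agent.H746.EK.gs | exact Unit : Sort _) := by first | (refine @Subtype.val _ (fun g => @Cfsg.Agent.H746.EK.gs = @g) (@Subtype.mk _ _ (@(fun (x0 : @Nat) => @Cfsg.Agent.KO2546f07.k4.{0, 0} @Nat @Nat @(fun (x1 : @Nat) (x2 : @Nat) => @Nat.add @x1 @x2) (nat_lit 0) (@Cfsg.Agent.KO2546f07.k5.{0, 0} (@Prod.{0, 0} @Nat @Nat) @Nat @(fun (x1 : @Prod.{0, 0} @Nat @Nat) => @Cfsg.Agent.KO2546f07.k8 (@Prod.fst.{0, 0} @Nat @Nat @x1) (@Prod.snd.{0, 0} @Nat @Nat @x1)) (@Cfsg.Agent.KO2546f07.k12 @x0)))) ?_); rewrite [← Cfsg.Agent.KO2546f07.e12, ← Cfsg.Agent.KO2546f07.e8, ← Cfsg.Agent.KO2546f07.e5.{0, 0}, ← Cfsg.Agent.KO2546f07.e4.{0, 0}]; (try delta Cfsg.Agent.H746.EK.gs); (try generalize @Cfsg.Agent.H746.EK.galC = g0); (try generalize @Cfsg.Agent.H746.EK.fac = g1); rfl') | exact @Cfsg.Agent.H746.EK.gs | exact ()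
private theorem _root_.Cfsg.Agent.KO2546f07.e13 : (by first | exact @Cfsg.Agent.H746.EK.gs = @_root_.Cfsg.Agent.KO2546f07.k13 | exact True : Prop) := by first | (delta _root_.Cfsg.Agent.KO2546f07.k13; exact @Subtype.property _ (fun g => @Cfsg.Agent.H746.EK.gs = @g) _) | rfl | trivial
private noncomputable def _root_.Cfsg.Agent.KO2546f07.k14 : (by first | exact type_of% @Cfsg.Agent.H746.EK.Lc | exact Unit : Sort _) := by first | (refine @Subtype.val _ (fun g => @Cfsg.Agent.H746.EK.Lc = @g) (@Subtype.mk _ _ (@(fun (x0 : @Nat) => @Nat.add (@Nat.add (@Nat.mul (@Cfsg.Agent.KO2546f07.k13 @x0) (@Nat.div @x0 (nat_lit 6))) (@Nat.div (@Nat.pow @x0 (nat_lit 2)) (nat_lit 60))) (@Nat.div (@Nat.pow @x0 (nat_lit 3)) (nat_lit 12744000)))) ?_); rewrite [← Cfsg.Agent.KO2546f07.e13]; (try delta Cfsg.Agent.H746.EK.Lc); (try generalize @Cfsg.Agent.H746.EK.gs = g0); rfl') | exact @Cfsg.Agent.H746.EK.Lc | exact ()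
private theorem _root_.Cfsg.Agent.KO2546f07.e14 : (by first | exact @Cfsg.Agent.H746.EK.Lc = @_root_.Cfsg.Agent.KO2546f07.k14 | exact True : Prop) := by first | (delta _root_.Cfsg.Agent.KO2546f07.k14; exact @Subtype.property _ (fun g => @Cfsg.Agent.H746.EK.Lc = @g) _) | rfl | trivial

theorem L_b : Lc 4154781481226426191177580544000000 = 16437443347659448028862791724125782397999448537901061120469053380139232491637344324800768764744173499171182762902159875902529566110906174171319444143199388203389 := by (first | (refine of_decide_eq_true ?_; rewrite [Cfsg.Agent.KO2546f07.e0, Cfsg.Agent.KO2546f07.e2, Cfsg.Agent.KO2546f07.e14]; decide +kernel) | decide +kernel)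

theorem L_m : Lc 808017424794512875886459904961710757005754368000000000 = 1744699142847717977959513641796679181329088764586081663414614774730996748629349704627005917895027595677714643402348136734708140095461921260228914718252286018459653028743452252191343070039240443280737959936000000000 := by (first | (refine of_decide_eq_true ?_; rewrite [Cfsg.Agent.KO2546f07.e0, Cfsg.Agent.KO2546f07.e2, Cfsg.Agent.KO2546f07.e14]; decide +kernel) | decide +kernel)

end Cfsg.Agent.H626.EK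
end

-- part: H18/EK/SporF
section
/-!
# S5745, socle `T ^ k` in cross characteristic, `T` sporadic: the families `F₄`, `E₆`, `²E₆` (helper18)

`spor_f4`, `spor_e6`, `spor_te6`: all `2 ≤ k ≤ dim / 2` for `q` even, `k ≤ 3` for `q` odd. The survivors are
`J₂ ^ 2` in `F₄(4)`, `F₄(5)` and `M₂₂ ^ 2` in `E₆(3)`.
-/

set_option autoImplicit false
set_option maxHeartbeats 4000000
set_option maxRecDepth 100000

namespace Cfsg.Agent.H18.EK

open Cfsg.Agent.H746.EK
open Cfsg.Agent.H626.EK (sporO)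

/-- `(t, Lc t, v₂ t, v₃ t)` -/
def tabS : List (ℕ × ℕ × ℕ × ℕ) :=
  [
   (7920, 1180782, 4, 2),
   (95040, 263096654, 6, 3),
   (443520, 12284320528, 7, 2),
   (10200960, 85078705608595, 7, 2),
   (244823040, 1161839824146208863, 10, 3),
   (175560, 938864925, 3, 1),
   (604800, 26403575918, 7, 3),
   (50232960, 9988599647273403, 7, 5),
   (86775571046077562880, 215585949250351294934087316365388129884754236960212054, 21, 3),
   (4157776806543360000, 7878565136423900831601518050555680368277884819698983, 21, 9),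
   (42305421312000, 125101331768759548739076491815915034033, 18, 6),
   (495766656000, 9561507406172574992750562711, 10, 7),
   (898128000, 56860639375088534644, 7, 6),
   (44352000, 6939969038255186, 9, 2),
   (448345497600, 7074653979509130896882271457, 13, 7),
   (4030387200, 5137720598400073648596, 10, 3),
   (145926144000, 342912297682013117884884610, 14, 3),
   (460815505920, 7678487647574025293413381306, 9, 4),
   (51765179004000000, 10884472780383034928308828156706245361593220, 8, 7),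
   (64561751654400, 463676411830021209497232836771062454, 17, 9),
   (4089470473293004800, 5366565648343429615999125079156242694570695954223, 18, 13),
   (1255205709190661721292800, 155181148462093177482650633419451624195053172583263283514355087186, 21, 16),
   (273030912000000, 1597091312167063101990708086191728813, 14, 6),
   (90745943887872000, 58637561862924700520829963564321565756572203, 15, 10),
   (4154781481226426191177580544000000, 16437443347659448028862791724125782397999448537901061120469053380139232491637344324800768764744173499171182762902159875902529566110906174171319444143199388203389, 41, 13),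
   (808017424794512875886459904961710757005754368000000000, 1744699142847717977959513641796679181329088764586081663414614774730996748629349704627005917895027595677714643402348136734708140095461921260228914718252286018459653028743452252191343070039240443280737959936000000000, 46, 20)]

private noncomputable def _root_.Cfsg.Agent.KO2546f07.k15.{ku0} : ((x0 : Sort (ku0+1)) → ((@List.{ku0} @x0) → ((x0 → @Bool) → @Bool))) := @(fun (x0 : Sort (ku0+1)) (x1 : @List.{ku0} @x0) (x2 : (x0 → @Bool)) => @List.rec.{(ku0+1), ku0} @x0 @(fun (x3 : @List.{ku0} @x0) => ((x0 → @Bool) → @Bool)) @(fun (x3 : (x0 → @Bool)) => @Bool.true) @(fun (x3 : x0) (x4 : @List.{ku0} @x0) (x5 : ((x0 → @Bool) → @Bool)) (x6 : (x0 → @Bool)) => @Bool.rec.{1} @(fun (x7 : @Bool) => @Bool) @Bool.false (@x5 @x6) (@x6 @x3)) @x1 @x2)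
private theorem _root_.Cfsg.Agent.KO2546f07.e15.{ku0} : @List.all.{ku0} = @_root_.Cfsg.Agent.KO2546f07.k15.{ku0} := by delta _root_.Cfsg.Agent.KO2546f07.k15; funext a0 a1 a2; refine (congrFun (_root_.Cfsg.Agent.KO2546f07.e3 (fun a1 a2 => @List.all.{ku0} a0 a1 a2) ?_ (fun c0 c1 => ?_) a1) a2 :) <;> (rfl')

theorem tabS_Lc : (tabS.all fun x => Nat.beq (Lc x.1) x.2.1) = true := by (first | (rewrite [Cfsg.Agent.KO2546f07.e15.{0}, Cfsg.Agent.KO2546f07.e14]; decide +kernel) | decide +kernel)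

theorem tabS_mem : ∀ t ∈ sporO, t ∈ tabS.map Prod.fst := by decide +kernel

/-- the survivors `(k, q)` -/
def surF : Fam → ℕ → List (ℕ × ℕ)
  | .f4, t => if Nat.beq t 604800 then [(2, 4), (2, 5)] else []
  | .e6, t => if Nat.beq t 443520 then [(2, 3)] else []
  | _, _ => []

/-- the check of the whole table -/
def chkF (f : Fam) (K Ko : ℕ) : Bool :=
  tabS.all fun x => chkT f x.1 x.2.1 (2 * x.1) x.2.2.1 x.2.2.2 (surF f x.1) 600 Ko K

theorem chkF_mem {f : Fam} {K Ko : ℕ} (h : chkF f K Ko = true) {t : ℕ} (ht : t ∈ sporO) {k : ℕ} (h2 : 2 ≤ k)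
    (hk : k ≤ K) {q : ℕ} (hq : IsPrimePow q) (ho : Odd q → k ≤ Ko) {C : ℕ} (hC : dn f q * C = nm f q)
    (hd : t ^ k ∣ C) (hB : C ≤ Bk t (2 * t) k) : (k, q) ∈ surF f t := by
  obtain ⟨x, hx, rfl⟩ := List.mem_map.1 (tabS_mem t ht)
  exact chkT_mem (List.all_eq_true.1 h x hx) (Nat.eq_of_beq_eq_true (List.all_eq_true.1 tabS_Lc x hx)) h2 hk hq ho
    hC hd hB


theorem goP_of {f : Fam} {n B : ℕ} {L : List ℕ} {a : ℕ} (I : ℕ) : ∀ m q : ℕ, I ≤ m →
    (∀ i < I, okn f n B L (q * a ^ i) = true) → Nat.blt (3 * B) (nm f (q * a ^ I)) = true → goP f n B L a m q = true := by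
  induction I with
  | zero =>
    intro m q _ _ h
    rw [pow_zero, mul_one] at h
    cases m with
    | zero => exact h
    | succ m => exact (Bool.or_eq_true _ _).mpr (.inl h)
  | succ I ih =>
    intro m q hm h1 h
    cases m with
    | zero => omega
    | succ m =>
      have h0 := h1 0 (Nat.succ_pos I)
      rw [pow_zero, mul_one] at h0
      refine (Bool.or_eq_true _ _).mpr (.inr ((Bool.and_eq_true _ _).mpr ⟨h0, ih m (q * a) (by omega) (fun i hi => ?_) ?_⟩))
      · rw [mul_assoc, ← pow_succ']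
        exact h1 (i + 1) (by omega)
      · rw [mul_assoc, ← pow_succ']
        exact h

/-- the check of one row: only the `q = 2 * 2 ^ i` with `t ^ 2 ∣ nm f q` are tried -/
def chkR (f : Fam) (K Ko t c v2 v3 I : ℕ) : Bool :=
  Nat.ble I 600 && (List.range (K + 1)).all fun k => Nat.ble k 1 ||
    (Nat.blt (3 * Bn c t (2 * t) k) (nm f (2 * 2 ^ I)) &&
      ((List.range I).filter fun i => Nat.beq (nm f (2 * 2 ^ i) % t ^ 2) 0).all (fun i =>
        okn f (t ^ k) (Bn c t (2 * t) k) (rowK (surF f t) k) (2 * 2 ^ i)) &&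
      (Nat.blt Ko k || chkO f (t ^ k) (Bn c t (2 * t) k) (rowK (surF f t) k) (v2 * k) (v3 * k) 600))

theorem chkT_of {f : Fam} {K Ko t c v2 v3 I : ℕ} (h : chkR f K Ko t c v2 v3 I = true) :
    ∀ J ≤ K, chkT f t c (2 * t) v2 v3 (surF f t) 600 Ko J = true := by
  rw [chkR, Bool.and_eq_true, Nat.ble_eq, List.all_eq_true] at h
  intro J
  induction J with
  | zero => exact fun _ => rfl
  | succ k ih =>
    intro hk
    refine (Bool.and_eq_true _ _).mpr ⟨(Bool.or_eq_true _ _).mpr ?_, ih (by omega)⟩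
    by_cases h1 : k + 1 ≤ 1
    · exact .inl (Nat.ble_eq_true_of_le h1)
    have h2 := h.2 (k + 1) (List.mem_range.2 (by omega))
    rw [Bool.or_eq_true, Bool.and_eq_true, Bool.and_eq_true, List.all_eq_true] at h2
    obtain ⟨⟨h3, h4⟩, h5⟩ := h2.resolve_left fun e => h1 (Nat.le_of_ble_eq_true e)
    refine .inr ((Bool.and_eq_true _ _).mpr ⟨goP_of I _ _ h.1 (fun i hi => ?_) h3, h5⟩)
    by_cases h6 : Nat.beq (nm f (2 * 2 ^ i) % t ^ 2) 0 = true
    · exact h4 i (List.mem_filter.2 ⟨List.mem_range.2 hi, h6⟩)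
    · have h7 : Nat.beq (nm f (2 * 2 ^ i) % (dn f (2 * 2 ^ i) * t ^ (k + 1))) 0 = false :=
        Bool.eq_false_iff.2 fun e => h6 (Nat.beq_eq ▸ Nat.mod_eq_zero_of_dvd
          (((pow_dvd_pow t (by omega)).trans (Dvd.intro_left _ rfl)).trans
            (Nat.dvd_of_mod_eq_zero (Nat.eq_of_beq_eq_true e))))
      rw [okn, h7, Bool.not_false, Bool.or_true, Bool.true_or, Bool.true_or]

theorem chkF_of {f : Fam} {K Ko : ℕ} (h : (tabS.all fun x => chkR f K Ko x.1 x.2.1 x.2.2.1 x.2.2.2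
    ((Nat.log2 x.2.1 + 2 * Nat.log2 x.1) / 2 + 6)) = true) : chkF f K Ko = true :=
  List.all_eq_true.2 fun x hx => chkT_of (List.all_eq_true.1 h x hx) K le_rfl

theorem cF_f4 : chkF .f4 26 3 = true := chkF_of (by decide +kernel)

theorem cF_e6 : chkF .e6 39 3 = true := chkF_of (by decide +kernel)

theorem cF_te6 : chkF .te6 39 3 = true := chkF_of (by decide +kernel)

/-- **`T` sporadic, `F₄(q)`** -/
theorem spor_f4 {t : ℕ} (ht : t ∈ sporO) {k : ℕ} (h2 : 2 ≤ k) (hk : k ≤ 26) {q : ℕ} (hq : IsPrimePow q)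
    (ho : Odd q → k ≤ 3) {C : ℕ} (hC : dn .f4 q * C = nm .f4 q) (hd : t ^ k ∣ C) (hB : C ≤ Bk t (2 * t) k) :
    t = 604800 ∧ k = 2 ∧ (q = 4 ∨ q = 5) := by
  have h := chkF_mem cF_f4 ht h2 hk hq ho hC hd hB
  simp only [surF] at h
  split_ifs at h with h1
  · rw [Nat.beq_eq] at h1
    simp only [List.mem_cons, Prod.mk.injEq, List.not_mem_nil, or_false] at h
    exact ⟨h1, by (clear * - k q ho h; tauto), by (clear * - h; tauto)⟩
  · exact absurd h List.not_mem_nil

/-- **`T` sporadic, `E₆(q)`** -/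
theorem spor_e6 {t : ℕ} (ht : t ∈ sporO) {k : ℕ} (h2 : 2 ≤ k) (hk : k ≤ 39) {q : ℕ} (hq : IsPrimePow q)
    (ho : Odd q → k ≤ 3) {C : ℕ} (hC : dn .e6 q * C = nm .e6 q) (hd : t ^ k ∣ C) (hB : C ≤ Bk t (2 * t) k) :
    t = 443520 ∧ k = 2 ∧ q = 3 := by
  have h := chkF_mem cF_e6 ht h2 hk hq ho hC hd hB
  simp only [surF] at h
  split_ifs at h with h1
  · rw [Nat.beq_eq] at h1
    simp only [List.mem_cons, Prod.mk.injEq, List.not_mem_nil, or_false] at h
    exact ⟨h1, by (clear * - k q ho h; tauto), by (clear * - k q ho h; tauto)⟩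
  · exact absurd h List.not_mem_nil

/-- **`T` sporadic, `²E₆(q)`** -/
theorem spor_te6 {t : ℕ} (ht : t ∈ sporO) {k : ℕ} (h2 : 2 ≤ k) (hk : k ≤ 39) {q : ℕ} (hq : IsPrimePow q)
    (ho : Odd q → k ≤ 3) {C : ℕ} (hC : dn .te6 q * C = nm .te6 q) (hd : t ^ k ∣ C) (hB : C ≤ Bk t (2 * t) k) :
    False :=
  absurd (chkF_mem cF_te6 ht h2 hk hq ho hC hd hB) List.not_mem_nil

end Cfsg.Agent.H18.EK
end

private theorem dce_458539868dee : _root_.True := by
  try have : _root_.True := by simp only [_root_.Cfsg.Agent.H18.EK.c3.eq_4]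
  try have : _root_.True := by simp only [_root_.Cfsg.Agent.H18.EK.d2.eq_3]
  try have : _root_.True := by simp only [_root_.Cfsg.Agent.H18.EK.d2.eq_6]
  try have : _root_.True := by simp only [_root_.Cfsg.Agent.H18.EK.d2.eq_5]
  try have : _root_.True := by simp only [_root_.Cfsg.Agent.H18.EK.chkT.eq_2]
  try have : _root_.True := by simp only [_root_.Cfsg.Agent.H18.EK.chkO.eq_1]
  try have : _root_.True := by simp only [_root_.Cfsg.Agent.H18.EK.goR.eq_2]
  try have : _root_.True := by simp only [_root_.Cfsg.Agent.H18.EK.d2.eq_7]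
  try have : _root_.True := by simp only [_root_.Cfsg.Agent.H18.EK.rok.eq_1]
  try have : _root_.True := by simp only [_root_.Cfsg.Agent.H18.EK.goP.eq_def]
  try have : _root_.True := by simp only [_root_.Cfsg.Agent.H18.EK.rowK.eq_1]
  try have : _root_.True := by simp only [_root_.Cfsg.Agent.H18.EK.goP.eq_2]
  try have : _root_.True := by simp only [_root_.Cfsg.Agent.H626.EK.walk.eq_def]
  try have : _root_.True := by simp only [_root_.Cfsg.Agent.H626.EK.ck7o.eq_1]
  try have : _root_.True := by simp only [_root_.Cfsg.Agent.H18.EK.d3.eq_4]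
  try have : _root_.True := by simp only [_root_.Cfsg.Agent.H18.EK.d3.eq_6]
  try have : _root_.True := by simp only [_root_.Cfsg.Agent.H18.EK.c2.eq_7]
  try have : _root_.True := by simp only [_root_.Cfsg.Agent.H18.EK.rok._sparseCasesOn_1.else_eq]
  try have : _root_.True := by simp only [_root_.Cfsg.Agent.H18.EK.surF.eq_3]
  try have : _root_.True := by simp only [_root_.Cfsg.Agent.H18.EK.d3.eq_1]
  try have : _root_.True := by simp only [_root_.Cfsg.Agent.H18.EK.d3.eq_5]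
  try have : _root_.True := by simp only [_root_.Cfsg.Agent.H18.EK.d3.eq_2]
  try have : _root_.True := by simp only [_root_.Cfsg.Agent.H18.EK.c3.eq_7]
  try have : _root_.True := by simp only [_root_.Cfsg.Agent.H18.EK.goR.eq_1]
  try have : _root_.True := by simp only [_root_.Cfsg.Agent.H18.EK.c3.eq_5]
  try have : _root_.True := by simp only [_root_.Cfsg.Agent.H18.EK.rok.eq_2]
  try have : _root_.True := by simp only [_root_.Cfsg.Agent.H18.EK.c2.eq_3]
  try have : _root_.True := by simp only [_root_.Cfsg.Agent.H18.EK.chkT.eq_1]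
  try have : _root_.True := by simp only [_root_.Cfsg.Agent.H626.EK.ck8.eq_1]
  try have : _root_.True := by simp only [_root_.Cfsg.Agent.H18.EK.d3.eq_3]
  try have : _root_.True := by simp only [_root_.Cfsg.Agent.H18.EK.c3.eq_6]
  try have : _root_.True := by simp only [_root_.Cfsg.Agent.H18.EK.c2.eq_2]
  try have : _root_.True := by simp only [_root_.Cfsg.Agent.H18.EK.surF._sparseCasesOn_1.else_eq]
  try have : _root_.True := by simp only [_root_.Cfsg.Agent.H626.EK.walk.eq_1]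
  try have : _root_.True := by simp only [_root_.Cfsg.Agent.H18.EK.c2.eq_5]
  try have : _root_.True := by simp only [_root_.Cfsg.Agent.H18.EK.c3.eq_3]
  try have : _root_.True := by simp only [_root_.Cfsg.Agent.H18.EK.rok._sparseCasesOn_2.else_eq]
  try have : _root_.True := by simp only [_root_.Cfsg.Agent.H18.EK.c2.eq_1]
  try have : _root_.True := by simp only [_root_.Cfsg.Agent.H626.EK.walk.eq_2]
  try have : _root_.True := by simp only [_root_.Cfsg.Agent.H18.EK.d2.eq_4]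
  try have : _root_.True := by simp only [_root_.Cfsg.Agent.H18.EK.d3.eq_7]
  try have : _root_.True := by simp only [_root_.Cfsg.Agent.H18.EK.goP.eq_1]
  try have : _root_.True := by simp only [_root_.Cfsg.Agent.H18.EK.c2.eq_6]
  try have : _root_.True := by simp only [_root_.Cfsg.Agent.H18.EK.c3.eq_2]
  try have : _root_.True := by simp only [_root_.Cfsg.Agent.H626.EK.ck7e.eq_1]
  try have : _root_.True := by simp only [_root_.Cfsg.Agent.H18.EK.d2.eq_1]
  try have : _root_.True := by simp only [_root_.Cfsg.Agent.H18.EK.c2.eq_4]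
  try have : _root_.True := by simp only [_root_.Cfsg.Agent.H18.EK.surF.eq_2]
  try have : _root_.True := by simp only [_root_.Cfsg.Agent.H18.EK.chkT.eq_def]
  try have : _root_.True := by simp only [_root_.Cfsg.Agent.H18.EK.c3.eq_1]
  try have : _root_.True := by simp only [_root_.Cfsg.Agent.H18.EK.goR.eq_def]
  try have : _root_.True := by simp only [_root_.Cfsg.Agent.H18.EK.surF.eq_1]
  try have : _root_.True := by simp only [_root_.Cfsg.Agent.H18.EK.d2.eq_2]
  exact _root_.True.intro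
end

-- part: H252/EN/TabLists
section
prune_inst 0x400000
set_option linter.all false
open scoped Cfsg.Agent.FastGrp

-- part: H252/EN/TabF
section
/-!
# S5745, layer ENUM, `T ^ k`, `k ≥ 2`: the fast kernel tests (helper252)
-/

set_option autoImplicit false

namespace Cfsg.Agent.H252.EN

open Cfsg.Agent.H902 Cfsg.Agent.H290.ElReg Cfsg.Agent.H290.ElTab Cfsg.Agent.H746.EK

/-- forced evaluation -/
def frc {α : Type} (n : ℕ) (f : ℕ → α) : α := Nat.rec (f 0) (fun k _ => f (Nat.succ k)) n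

theorem frc_eq {α : Type} (n : ℕ) (f : ℕ → α) : frc n f = f n := by
  cases n <;> rfl

def pm1 (q e : ℕ) : ℕ := Nat.sub (Nat.pow q e) 1

/-- `q ^ NN * num` -/
def fv : Art.Sh → ℕ → ℕ
  | .E8, q => Nat.mul (Nat.pow q 120) (Nat.mul (Nat.mul (Nat.mul (Nat.mul (Nat.mul (Nat.mul (Nat.mul (pm1 q 2) (pm1 q 8))
      (pm1 q 12)) (pm1 q 14)) (pm1 q 18)) (pm1 q 20)) (pm1 q 24)) (pm1 q 30))
  | .E7, q => Nat.mul (Nat.pow q 63) (Nat.mul (Nat.mul (Nat.mul (Nat.mul (Nat.mul (Nat.mul (pm1 q 2) (pm1 q 6))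
      (pm1 q 8)) (pm1 q 10)) (pm1 q 12)) (pm1 q 14)) (pm1 q 18))
  | .E6, q => Nat.mul (Nat.pow q 36) (Nat.mul (Nat.mul (Nat.mul (Nat.mul (Nat.mul (pm1 q 2) (pm1 q 5))
      (pm1 q 6)) (pm1 q 8)) (pm1 q 9)) (pm1 q 12))
  | .TE6, q => Nat.mul (Nat.pow q 36) (Nat.mul (Nat.mul (Nat.mul (Nat.mul (Nat.mul (pm1 q 2) (Nat.succ (Nat.pow q 5)))
      (pm1 q 6)) (pm1 q 8)) (Nat.succ (Nat.pow q 9))) (pm1 q 12))
  | .F4, q => Nat.mul (Nat.pow q 24) (Nat.mul (Nat.mul (Nat.mul (pm1 q 2) (pm1 q 6)) (pm1 q 8)) (pm1 q 12))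
  | .TD4, q => Nat.mul (Nat.pow q 12) (Nat.mul (Nat.mul (pm1 q 2) (pm1 q 6))
      (Nat.succ (Nat.add (Nat.pow q 8) (Nat.pow q 4))))
  | .G2, q => Nat.mul (Nat.pow q 6) (Nat.mul (pm1 q 2) (pm1 q 6))
  | X, q => q ^ Art.NN X * Art.num X q

theorem fv_eq (Y : Art.Sh) (q : ℕ) : fv Y q = q ^ Art.NN Y * Art.num Y q := by
  cases Y <;> rfl

/-- `num` -/
def fn : Art.Sh → ℕ → ℕ
  | .E8, q => Nat.mul (Nat.mul (Nat.mul (Nat.mul (Nat.mul (Nat.mul (Nat.mul (pm1 q 2) (pm1 q 8))
      (pm1 q 12)) (pm1 q 14)) (pm1 q 18)) (pm1 q 20)) (pm1 q 24)) (pm1 q 30)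
  | .E7, q => Nat.mul (Nat.mul (Nat.mul (Nat.mul (Nat.mul (Nat.mul (pm1 q 2) (pm1 q 6))
      (pm1 q 8)) (pm1 q 10)) (pm1 q 12)) (pm1 q 14)) (pm1 q 18)
  | .E6, q => Nat.mul (Nat.mul (Nat.mul (Nat.mul (Nat.mul (pm1 q 2) (pm1 q 5))
      (pm1 q 6)) (pm1 q 8)) (pm1 q 9)) (pm1 q 12)
  | .TE6, q => Nat.mul (Nat.mul (Nat.mul (Nat.mul (Nat.mul (pm1 q 2) (Nat.succ (Nat.pow q 5)))
      (pm1 q 6)) (pm1 q 8)) (Nat.succ (Nat.pow q 9))) (pm1 q 12)
  | .F4, q => Nat.mul (Nat.mul (Nat.mul (pm1 q 2) (pm1 q 6)) (pm1 q 8)) (pm1 q 12)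
  | .TD4, q => Nat.mul (Nat.mul (pm1 q 2) (pm1 q 6)) (Nat.succ (Nat.add (Nat.pow q 8) (Nat.pow q 4)))
  | .G2, q => Nat.mul (pm1 q 2) (pm1 q 6)
  | X, q => Art.num X q

theorem fn_eq (Y : Art.Sh) (q : ℕ) : fn Y q = Art.num Y q := by
  cases Y <;> rfl

def fdd : Art.Sh → ℕ → ℕ
  | .E8, _ => 1
  | .E7, q => Nat.gcd 2 (Nat.sub q 1)
  | .E6, q => Nat.gcd 3 (Nat.sub q 1)
  | .TE6, q => Nat.gcd 3 (Nat.succ q)
  | .F4, _ => 1
  | .TD4, _ => 1
  | .G2, _ => 1
  | X, q => Art.dd X q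

theorem fdd_eq (Y : Art.Sh) (q : ℕ) : fdd Y q = Art.dd Y q := by
  cases Y <;> rfl

variable {α : Type} [DecidableEq α]

/-- the test for one `q` -/
def tqF (Y : Art.Sh) (lab : α) (al : List (α × ℕ)) (m l u q0 : ℕ) : Bool :=
  frc q0 fun q => or (Nat.ble q 1) (or (Nat.beq (Nat.mod q l) 0)
    (frc (fv Y q) fun v => frc (fdd Y q) fun d =>
      or (Nat.ble (Nat.succ (Nat.mul u d)) v) (or (not (Nat.beq (Nat.mod v (Nat.mul m d)) 0)) (al.contains (lab, q)))))

theorem tqF_spec {Y : Art.Sh} {lab : α} {al : List (α × ℕ)} {m l u p f g : ℕ}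
    (h : tqF Y lab al m l u (p ^ f) = true) (hG : Art.Real Y p f g) (hl : p ^ f % l ≠ 0) (hu : g ≤ u)
    (hd : m ∣ g) : (lab, p ^ f) ∈ al := by
  have hq : 2 ≤ p ^ f := hG.hp.two_le.trans (Nat.le_self_pow (by have := hG.hf; omega) p)
  rw [tqF, frc_eq, frc_eq, frc_eq, fv_eq, fdd_eq, Bool.or_eq_true, Bool.or_eq_true, Bool.or_eq_true, Bool.or_eq_true,
    Nat.ble_eq, Nat.ble_eq, Bool.not_eq_true', ← Bool.not_eq_true] at h
  rcases h with h3 | h3 | h3 | h3 | h3
  · omega
  · exact absurd (Nat.eq_of_beq_eq_true h3) hl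
  · exfalso
    have h4 : u * Art.dd Y (p ^ f) + 1 ≤ (p ^ f) ^ Art.NN Y * Art.num Y (p ^ f) := h3
    rw [← hG.eq, mul_comm u] at h4
    exact absurd (Nat.mul_le_mul_left (Art.dd Y (p ^ f)) hu) (by omega)
  · exfalso
    apply h3
    have h4 : ((p ^ f) ^ Art.NN Y * Art.num Y (p ^ f)) % (m * Art.dd Y (p ^ f)) = 0 := by
      rw [← hG.eq, mul_comm m]
      exact Nat.mod_eq_zero_of_dvd (Nat.mul_dvd_mul_left _ hd)
    show Nat.beq (((p ^ f) ^ Art.NN Y * Art.num Y (p ^ f)) % (m * Art.dd Y (p ^ f))) 0 = true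
    rw [h4]
    rfl
  · rwa [List.contains_iff_mem] at h3

/-- a guess for `log₂` of the bound for `q` -/
def g1 (Y : Art.Sh) (u3 : ℕ) : ℕ :=
  frc (Nat.mul (dmN Y) 8) fun d8 => frc (Nat.pow 2 d8) fun P =>
    match (List.range 60).find? (fun j => Nat.ble (Nat.succ u3) (Nat.pow P j)) with
    | none => 0
    | some j => frc (Nat.mul 8 (Nat.sub j 1)) fun t0 =>
      match (List.range 9).find? (fun i => Nat.ble (Nat.succ u3) (Nat.pow 2 (Nat.mul (dmN Y) (Nat.add t0 i)))) with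
      | none => 0
      | some i => Nat.add t0 i

def cN (t c : ℕ) : ℕ := Nat.succ (Nat.mul (Nat.pow 2 (Nat.sub (Nat.add t (Nat.div c 4)) 3)) (Nat.add 4 (Nat.mod c 4)))

/-- a bound for `q` (only a guess, it is checked) -/
def g2 (Y : Art.Sh) (u3 t : ℕ) : ℕ :=
  match (List.range 24).find? (fun c => Nat.ble (Nat.succ u3) (fv Y (cN t c))) with
  | none => 0
  | some c => cN t c

/-- the test for `q = 2 ^ i`; all numbers that are kept are odd (the hash of a literal is its residue modulo `2 ^ 64`) -/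
def tqE (Y : Art.Sh) (lab : α) (al : List (α × ℕ)) (m' u i : ℕ) : Bool :=
  or (Nat.beq i 0) (frc (fn Y (Nat.pow 2 i)) fun w => frc (fdd Y (Nat.pow 2 i)) fun d =>
    or (Nat.ble (Nat.succ (Nat.div (Nat.mul u d) (Nat.pow 2 (Nat.mul i (Art.NN Y))))) w)
      (or (and (Nat.beq (Nat.mod (Nat.mul m' d) 2) 1) (not (Nat.beq (Nat.mod w (Nat.mul m' d)) 0)))
        (al.contains (lab, Nat.pow 2 i))))

theorem tqE_spec {Y : Art.Sh} {lab : α} {al : List (α × ℕ)} {m' u p f g : ℕ} (hp : p = 2)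
    (h : tqE Y lab al m' u f = true) (hG : Art.Real Y p f g) (hu : g ≤ u)
    (hd : m' ∣ g) : (lab, p ^ f) ∈ al := by
  subst hp
  have hf := hG.hf
  rw [tqE, frc_eq, frc_eq, fn_eq, fdd_eq] at h
  have e0 : Nat.pow 2 f = 2 ^ f := rfl
  have e1 : (2 ^ f) ^ Art.NN Y = 2 ^ (f * Art.NN Y) := by rw [pow_mul]
  have heq := hG.eq
  rw [e1] at heq
  rw [e0] at h
  simp only [Bool.or_eq_true, Bool.and_eq_true, Nat.ble_eq, Bool.not_eq_true', List.contains_iff_mem] at h
  rcases h with h3 | h3 | h3 | h3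
  · have := Nat.eq_of_beq_eq_true h3
    omega
  · exfalso
    have h4 : u * Art.dd Y (2 ^ f) / 2 ^ (f * Art.NN Y) < Art.num Y (2 ^ f) := h3
    rw [Nat.div_lt_iff_lt_mul (by positivity), mul_comm (Art.num Y (2 ^ f)), ← heq, mul_comm u] at h4
    exact absurd (Nat.mul_le_mul_left (Art.dd Y (2 ^ f)) hu) (by omega)
  · exfalso
    obtain ⟨h4, h5⟩ := h3
    have h4' : (m' * Art.dd Y (2 ^ f)) % 2 = 1 := Nat.eq_of_beq_eq_true h4
    have h6 : m' * Art.dd Y (2 ^ f) ∣ Art.num Y (2 ^ f) := by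
      refine Nat.Coprime.dvd_of_dvd_mul_left (m := 2 ^ (f * Art.NN Y)) ?_ ?_
      · exact Nat.Coprime.pow_right _ ((Nat.coprime_two_right).2 (Nat.odd_iff.2 h4'))
      · rw [← heq, mul_comm m']
        exact Nat.mul_dvd_mul_left _ hd
    have h7 : Nat.mod (Art.num Y (2 ^ f)) (Nat.mul m' (Art.dd Y (2 ^ f))) = 0 := Nat.mod_eq_zero_of_dvd h6
    rw [h7] at h5
    exact absurd h5 (by decide)
  · exact h3

def chkEF (Y : Art.Sh) (lab : α) (al : List (α × ℕ)) (m' l u E : ℕ) : Bool :=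
  or (Nat.beq l 2) ((List.range E).all fun i => tqE Y lab al m' u i)

def chkOF (Y : Art.Sh) (lab : α) (al : List (α × ℕ)) (m l u N w : ℕ) : Bool :=
  frc (Nat.pow 2 (max 3 ((w - (cf Y).2 + (cf Y).1 - 1) / (cf Y).1) - 1)) fun s =>
    (List.range (Nat.add (Nat.div N s) 2)).all fun j =>
      and (or (Nat.ble N (Nat.succ (Nat.mul s j))) (tqF Y lab al m l u (Nat.succ (Nat.mul s j))))
        (or (Nat.ble N (Nat.sub (Nat.mul s j) 1)) (tqF Y lab al m l u (Nat.sub (Nat.mul s j) 1)))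

/-- the test for `T ^ k`, `|T| = t`, `2 ^ v ∣ t`, bound `u` for `|G|` -/
def chkUF (Y : Art.Sh) (lab : α) (al : List (α × ℕ)) (t k l v u : ℕ) : Bool :=
  frc (Nat.mul 3 u) fun u3 => frc (g1 Y u3) fun r => frc (g2 Y u3 r) fun N =>
    and (Nat.ble (Nat.succ u3) (fv Y N)) (and (Nat.ble N (Nat.pow 2 (Nat.add r 5)))
    (and (frc (Nat.pow (Nat.div t (Nat.pow 2 v)) k) fun m' => chkEF Y lab al m' l u (Nat.add r 5))
      (or (Nat.ble (Nat.succ (kodd Y)) k) (chkOF Y lab al (Nat.pow t k) l u N (Nat.mul k v)))))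

theorem chkUF_spec {Y : Art.Sh} (hY : Y ∈ Ys) {lab : α} {al : List (α × ℕ)} {t k l v u : ℕ}
    (h : chkUF Y lab al t k l v u = true) (hv : 2 ^ v ∣ t) {p f g : ℕ} (hG : Art.Real Y p f g) (hl : p ^ f % l ≠ 0)
    (hu : g ≤ u) (hd : t ^ k ∣ g) (hk : Odd p → Y ∈ Yo ∧ k ≤ kodd Y) : (lab, p ^ f) ∈ al := by
  have hq : 2 ≤ p ^ f := hG.hp.two_le.trans (Nat.le_self_pow (by have := hG.hf; omega) p)
  rw [chkUF, frc_eq, frc_eq, frc_eq, frc_eq] at h
  set r := g1 Y (Nat.mul 3 u) with hr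
  set N := g2 Y (Nat.mul 3 u) r with hN
  simp only [Bool.and_eq_true, Bool.or_eq_true, Nat.ble_eq] at h
  obtain ⟨h1, hNE, hE, hO⟩ := h
  have hNE' : N ≤ 2 ^ (r + 5) := hNE
  rw [fv_eq] at h1
  have h1' : 3 * u + 1 ≤ N ^ Art.NN Y * Art.num Y N := h1
  have h2 : p ^ f < N := by
    by_contra hcon
    push Not at hcon
    have h3 : N ^ Art.NN Y * Art.num Y N ≤ (p ^ f) ^ Art.NN Y * Art.num Y (p ^ f) :=
      Nat.mul_le_mul (Nat.pow_le_pow_left hcon _) (num_mono hY hcon)
    rw [← hG.eq] at h3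
    have h4 : Art.dd Y (p ^ f) * g ≤ 3 * u := Nat.mul_le_mul (dd_le hY _) hu
    omega
  rcases hG.hp.eq_two_or_odd' with h5 | h5
  · rw [chkEF, Bool.or_eq_true] at hE
    rcases hE with hE | hE
    · exfalso
      apply hl
      rw [Nat.eq_of_beq_eq_true hE, h5]
      exact Nat.mod_eq_zero_of_dvd (dvd_pow_self 2 (by have := hG.hf; omega))
    · have h6 := List.all_eq_true.1 hE f (List.mem_range.2 (by
        have h7 : 2 ^ f < N := by rw [h5] at h2; exact h2
        exact (Nat.pow_lt_pow_iff_right (by norm_num)).1 (h7.trans_le hNE')))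
      refine tqE_spec h5 h6 hG hu (dvd_trans ?_ hd)
      exact pow_dvd_pow_of_dvd (Nat.div_dvd_of_dvd hv) k
  · obtain ⟨hYo, hk'⟩ := hk h5
    rcases hO with hO | hO
    · exfalso
      have : kodd Y + 1 ≤ k := hO
      omega
    have hqo : Odd (p ^ f) := h5.pow
    have hq3 : 3 ≤ p ^ f := by
      obtain ⟨c, hc⟩ := hqo
      omega
    have h6 : 2 ^ (k * v) ∣ (p ^ f) ^ Art.NN Y * Art.num Y (p ^ f) := by
      rw [← hG.eq, mul_comm k, pow_mul]
      exact ((pow_dvd_pow_of_dvd hv k).trans hd).mul_left _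
    have h7 := V2_of hYo hqo hq3 h6
    rw [chkOF, frc_eq] at hO
    have hO' : ((List.range (N / 2 ^ (max 3 ((k * v - (cf Y).2 + (cf Y).1 - 1) / (cf Y).1) - 1) + 2)).all fun j =>
      and (or (Nat.ble N (2 ^ (max 3 ((k * v - (cf Y).2 + (cf Y).1 - 1) / (cf Y).1) - 1) * j + 1))
          (tqF Y lab al (t ^ k) l u (2 ^ (max 3 ((k * v - (cf Y).2 + (cf Y).1 - 1) / (cf Y).1) - 1) * j + 1)))
        (or (Nat.ble N (2 ^ (max 3 ((k * v - (cf Y).2 + (cf Y).1 - 1) / (cf Y).1) - 1) * j - 1))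
          (tqF Y lab al (t ^ k) l u (2 ^ (max 3 ((k * v - (cf Y).2 + (cf Y).1 - 1) / (cf Y).1) - 1) * j - 1)))) =
        true := hO
    clear hO
    set w := k * v
    set V := max 3 ((w - (cf Y).2 + (cf Y).1 - 1) / (cf Y).1)
    have hc1 : 0 < (cf Y).1 := by
      simp only [Yo, List.mem_cons, List.not_mem_nil, or_false] at hYo
      rcases hYo with rfl | rfl | rfl | rfl | rfl <;> simp [cf]
    have hV : V ≤ V2 (p ^ f) := by
      refine max_le (V2_ge hqo hq3) ?_
      rw [← Nat.lt_succ_iff, Nat.div_lt_iff_lt_mul hc1, Nat.succ_mul, mul_comm]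
      omega
    have hV3 : 3 ≤ V := le_max_left _ _
    obtain ⟨V', hV'⟩ : ∃ V', V = V' + 2 := ⟨V - 2, by omega⟩
    have h8 : 2 ^ (V' + 2) ∣ (p ^ f) ^ 2 - 1 := by
      rw [← hV']
      exact (padicValNat_dvd_iff_le (pow_sub_ne hq3 (by norm_num))).2 hV
    have hs : 2 ^ (V - 1) = 2 ^ (V' + 1) := by rw [hV']; rfl
    rw [hs] at hO'
    have hs1 : 2 ≤ 2 ^ (V' + 1) := by
      rw [pow_succ]
      have := Nat.one_le_two_pow (n := V')
      omega
    have key : ∀ j, (p ^ f = 2 ^ (V' + 1) * j + 1 ∨ p ^ f + 1 = 2 ^ (V' + 1) * j) → (lab, p ^ f) ∈ al := by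
      intro j hj
      have h9 : 2 ^ (V' + 1) * j ≤ N := by omega
      have h9' : j ≤ N / 2 ^ (V' + 1) := (Nat.le_div_iff_mul_le (by omega)).2 (by rw [mul_comm]; exact h9)
      have h10 := List.all_eq_true.1 hO' j (List.mem_range.2 (by omega))
      rw [Bool.and_eq_true, Bool.or_eq_true, Bool.or_eq_true, Nat.ble_eq, Nat.ble_eq] at h10
      rcases hj with hj | hj
      · rcases h10.1 with h11 | h11
        · omega
        · rw [← hj] at h11
          exact tqF_spec h11 hG hl hu hd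
      · have hj' : 2 ^ (V' + 1) * j - 1 = p ^ f := by omega
        rcases h10.2 with h11 | h11
        · omega
        · rw [hj'] at h11
          exact tqF_spec h11 hG hl hu hd
    obtain ⟨j, hj⟩ := pm hqo h8
    exact key j hj

/-! ### the bound -/

def mx (a b : ℕ) : ℕ := cond (Nat.ble a b) b a

theorem mx_eq (a b : ℕ) : mx a b = max a b := by
  rw [mx]
  rcases Nat.lt_or_ge b a with h | h
  · have h1 : Nat.ble a b = false := by
      rw [← Bool.not_eq_true, Nat.ble_eq]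
      omega
    rw [h1, max_eq_left h.le]
    rfl
  · rw [Nat.ble_eq.mpr h, max_eq_right h]
    rfl

def DkF (t k : ℕ) : ℕ :=
  cond (Nat.ble k 5) (mx (Nat.succ (Nat.div (Nat.pow t k) (Nat.pow 6 k))) (Nat.pow t (Nat.sub k 1))) (Nat.pow t k)

def IkF (t a k : ℕ) : ℕ := Nat.add (Nat.pow (Nat.mul k a) (Nat.sub k 1))
  (cond (Nat.ble k 5) 0 (Nat.mul (Nat.pow t (Nat.sub k 1)) (Nat.mul a (Nat.mul 4 k))))

def BkF (L t a k : ℕ) : ℕ :=
  Nat.mul (Nat.add 1 (Nat.mul (Nat.add (Nat.pow L k) (IkF t a k)) (Nat.mul 2 (DkF t k))))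
    (Nat.mul (Nat.pow a k) k.factorial)

theorem BkF_eq (L t a k : ℕ) : BkF L t a k = BkL L t a k := by
  rw [BkF, BkL, IkF, Ik, DkF, Dk]
  by_cases h : k ≤ 5
  · rw [Nat.ble_eq.mpr h, if_pos h, if_pos h]
    simp only [cond_true, mx_eq]
    rfl
  · have h1 : Nat.ble k 5 = false := by
      rw [← Bool.not_eq_true, Nat.ble_eq]
      exact h
    rw [h1, if_neg h, if_neg h]
    rfl

/-- the test for all `k` -/
def chkTF (Y : Art.Sh) (D b : ℕ) (lab : α) (al : List ((α × ℕ) × ℕ)) (t a L l : ℕ) : Bool :=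
  frc (vf 2 400 t) fun v => (List.range (D / 2 + 1)).all fun k => or (Nat.ble k 1) (or (Nat.ble (Nat.succ (D / k)) b)
    (frc (Nat.succ (BkF L t a k)) fun u => chkUF Y (lab, k) al t k l v u))

theorem chkTF_spec {Y : Art.Sh} (hY : Y ∈ Ys) {D b : ℕ} {lab : α} {al : List ((α × ℕ) × ℕ)} {t a L l : ℕ}
    (h : chkTF Y D b lab al t a L l = true) (hL : Lc t = L) {k p f g : ℕ} (hk : 2 ≤ k) (hkD : k ≤ D / 2)
    (hb : b ≤ D / k) (hG : Art.Real Y p f g) (hl : p ^ f % l ≠ 0) (hu : g ≤ Bk t a k) (hd : t ^ k ∣ g)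
    (ho : Odd p → Y ∈ Yo ∧ k ≤ kodd Y) : ((lab, k), p ^ f) ∈ al := by
  rw [chkTF, frc_eq] at h
  have h1 := List.all_eq_true.1 h k (List.mem_range.2 (by omega))
  rw [frc_eq, BkF_eq, ← hL, BkL_eq, Bool.or_eq_true, Bool.or_eq_true, Nat.ble_eq, Nat.ble_eq] at h1
  rcases h1 with h1 | h1 | h1
  · omega
  · exfalso
    have : D / k + 1 ≤ b := h1
    omega
  · exact chkUF_spec hY h1 (vf_dvd 2 400 t) hG hl (hu.trans (Nat.le_succ _)) hd ho

/-! ### the literal tables -/

/-- names, degree bound, order, order of the automorphism group, `Lc` -/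
def Tb : List ((Art.Sh × ℕ × ℕ) × ℕ × ℕ × ℕ × ℕ) := [
  ((.L 2, (2, 2)), (3, (60, (120, 120)))),
  ((.L 2, (2, 3)), (7, (504, (1512, 6007)))),
  ((.L 2, (2, 4)), (15, (4080, (16320, 329689)))),
  ((.L 2, (2, 5)), (31, (32736, (163680, 22664994)))),
  ((.L 2, (2, 6)), (63, (262080, (1572480, 2680991336)))),
  ((.L 2, (3, 2)), (4, (360, (1440, 3423)))),
  ((.L 2, (3, 3)), (13, (9828, (58968, 1738368)))),
  ((.L 2, (3, 4)), (40, (265680, (2125440, 2660320935)))),
  ((.L 2, (3, 5)), (121, (7174332, (71743320, 29837070736019)))),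
  ((.L 2, (5, 1)), (2, (60, (120, 120)))),
  ((.L 2, (5, 2)), (12, (7800, (31200, 1082437)))),
  ((.L 2, (5, 3)), (62, (976500, (5859000, 88969848743)))),
  ((.L 2, (7, 1)), (3, (168, (336, 946)))),
  ((.L 2, (7, 2)), (24, (58800, (235200, 74389806)))),
  ((.L 2, (11, 1)), (5, (660, (1320, 8052)))),
  ((.L 2, (11, 2)), (60, (885720, (3542880, 67603057889)))),
  ((.L 2, (13, 1)), (6, (1092, (2184, 21250)))),
  ((.L 2, (13, 2)), (84, (2413320, (9653280, 1199989436266)))),
  ((.L 2, (17, 1)), (8, (2448, (4896, 130405)))),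
  ((.L 2, (19, 1)), (9, (3420, (6840, 204348)))),
  ((.L 2, (23, 1)), (11, (6072, (12144, 650268)))),
  ((.L 2, (29, 1)), (14, (12180, (24360, 2630566)))),
  ((.L 2, (31, 1)), (15, (14880, (29760, 4881245)))),
  ((.L 2, (37, 1)), (18, (25308, (50616, 11993255)))),
  ((.L 2, (41, 1)), (20, (34440, (68880, 23083030)))),
  ((.L 2, (43, 1)), (21, (39732, (79464, 31285210)))),
  ((.L 2, (47, 1)), (23, (51888, (103776, 56431586)))),
  ((.L 2, (53, 1)), (26, (74412, (148824, 125026328)))),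
  ((.L 2, (59, 1)), (29, (102660, (205320, 260686249)))),
  ((.L 2, (61, 1)), (30, (113460, (226920, 329314156)))),
  ((.L 2, (67, 1)), (33, (150348, (300696, 643620490)))),
  ((.L 2, (71, 1)), (35, (178920, (357840, 983664455)))),
  ((.L 2, (73, 1)), (36, (194472, (388944, 1208154851)))),
  ((.L 2, (79, 1)), (39, (246480, (492960, 2190419299)))),
  ((.L 2, (83, 1)), (41, (285852, (571704, 3195049331)))),
  ((.L 2, (89, 1)), (44, (352440, (704880, 5506766082)))),
  ((.L 2, (97, 1)), (48, (456288, (912576, 10953558861)))),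
  ((.L 2, (101, 1)), (50, (515100, (1030200, 15147633732)))),
  ((.L 2, (103, 1)), (51, (546312, (1092624, 17770307880)))),
  ((.L 2, (107, 1)), (53, (612468, (1224936, 24283190579)))),
  ((.L 2, (109, 1)), (54, (647460, (1294920, 28288127489)))),
  ((.L 2, (113, 1)), (56, (721392, (1442784, 38140191942)))),
  ((.L 2, (127, 1)), (63, (1024128, (2048256, 106754091737)))),
  ((.L 2, (131, 1)), (65, (1123980, (2247960, 132478956510)))),
  ((.L 2, (137, 1)), (68, (1285608, (2571216, 194282911403)))),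
  ((.L 2, (139, 1)), (69, (1342740, (2685480, 220014628941)))),
  ((.L 2, (149, 1)), (74, (1653900, (3307800, 400588402212)))),
  ((.L 2, (151, 1)), (75, (1721400, (3442800, 449651781025)))),
  ((.L 2, (157, 1)), (78, (1934868, (3869736, 630790217482)))),
  ((.L 2, (163, 1)), (81, (2165292, (4330584, 874825945267)))),
  ((.L 2, (167, 1)), (83, (2328648, (4657296, 1081229181683)))),
  ((.L 2, (173, 1)), (86, (2588772, (5177544, 1473067462224)))),
  ((.L 2, (179, 1)), (89, (2867580, (5735160, 1987350518070)))),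
  ((.L 2, (181, 1)), (90, (2964780, (5929560, 2191403116270)))),
  ((.L 2, (191, 1)), (95, (3483840, (6967680, 3521870124936)))),
  ((.L 2, (193, 1)), (96, (3594432, (7188864, 3861082023627)))),
  ((.L 2, (197, 1)), (98, (3822588, (7645176, 4626501049433)))),
  ((.L 2, (199, 1)), (99, (3940200, (7880400, 5058858186147)))),
  ((.L 2, (211, 1)), (105, (4696860, (9393720, 8498178740611)))),
  ((.L 2, (223, 1)), (111, (5544672, (11089344, 13888601361474)))),
  ((.L 2, (227, 1)), (113, (5848428, (11696856, 16266896375627)))),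
  ((.L 2, (229, 1)), (114, (6004380, (12008760, 17587183615954)))),
  ((.L 2, (233, 1)), (116, (6324552, (12649104, 20517742813843)))),
  ((.L 2, (239, 1)), (119, (6825840, (13651680, 25731901513653)))),
  ((.L 2, (241, 1)), (120, (6998640, (13997280, 27715387168477)))),
  ((.C 2, (2, 2)), (15, (979200, (3916800, 157742395606)))),
  ((.C 2, (2, 3)), (63, (1056706560, (6340239360, 178583782736861132348)))),
  ((.C 2, (3, 1)), (4, (25920, (51840, 25679427)))),
  ((.C 2, (3, 2)), (40, (1721606400, (6886425600, 400487853602976618142)))),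
  ((.C 2, (5, 1)), (12, (4680000, (9360000, 8411374457288)))),
  ((.C 2, (7, 1)), (24, (138297600, (276595200, 207885845233529328)))),
  ((.C 2, (11, 1)), (60, (12860654400, (25721308800, 166913172987702441968054)))),
  ((.C 2, (13, 1)), (84, (68518981440, (137037962880, 25242262494110334302116180)))),
  ((.L 3, (2, 1)), (3, (168, (336, 946)))),
  ((.L 3, (2, 2)), (15, (20160, (241920, 16928853)))),
  ((.L 3, (2, 3)), (63, (16482816, (98896896, 378673126113622)))),
  ((.L 3, (3, 1)), (8, (5616, (11232, 627539)))),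
  ((.L 3, (3, 2)), (80, (42456960, (169827840, 6036036592618846)))),
  ((.L 3, (5, 1)), (24, (372000, (744000, 6373013627)))),
  ((.L 3, (7, 1)), (48, (1876896, (11261376, 577684635873)))),
  ((.L 3, (11, 1)), (120, (212427600, (424855200, 752941253654123562)))),
  ((.C 3, (2, 1)), (7, (1451520, (1451520, 2279074131560)))),
  ((.C 3, (2, 2)), (63, (4106059776000, (8212119552000, 12141455274502436632943504296145937355)))),
  ((.C 3, (3, 1)), (13, (4585351680, (9170703360, 7575899567068918654555)))),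
  ((.C 3, (5, 1)), (62, (228501000000000, (457002000000000, 936178272134727672557538472118644067)))),
  ((.U 3, (2, 2)), (12, (62400, (249600, 113424691)))),
  ((.U 3, (2, 3)), (56, (5515776, (99283968, 21290034400591)))),
  ((.U 3, (3, 1)), (6, (6048, (12096, 1031205)))),
  ((.U 3, (3, 2)), (72, (42573600, (170294400, 6085630011909233)))),
  ((.U 3, (5, 1)), (20, (126000, (756000, 424401101)))),
  ((.U 3, (7, 1)), (42, (5663616, (11327232, 14817569086868)))),
  ((.U 3, (11, 1)), (110, (70915680, (425494080, 28068550427415212)))),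
  ((.L 4, (2, 1)), (7, (20160, (40320, 16928853)))),
  ((.L 4, (2, 2)), (63, (987033600, (3948134400, 155779390123121086047)))),
  ((.L 4, (3, 1)), (26, (6065280, (24261120, 18208318755045)))),
  ((.L 4, (5, 1)), (124, (7254000000, (58032000000, 29952954748932196932203)))),
  ((.C 4, (2, 1)), (15, (47377612800, (47377612800, 1063890674372748263954778035633)))),
  ((.C 4, (3, 1)), (26, (65784756654489600, (131569513308979200, 113686385727353096465333365722359909101256658874)))),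
  ((.C 4, (5, 1)), (124, (6973279267500000000000000, (13946558535000000000000000, 1189344416577454214106196431929647901602379159801838070677966101694915)))),
  ((.U 4, (2, 1)), (4, (25920, (51840, 25679427)))),
  ((.U 4, (2, 2)), (48, (1018368000, (4073472000, 165746663589756372610)))),
  ((.U 4, (3, 1)), (18, (3265920, (26127360, 2957945463682)))),
  ((.U 4, (5, 1)), (100, (14742000000, (58968000000, 251402580019591640084745)))),
  ((.D 4, (2, 1)), (7, (174182400, (1045094400, 14587144865477917505)))),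
  ((.D 4, (2, 2)), (63, (67010895544320000, (804130746531840000, 1835037183429337812096964366039390074398478110672342309662372)))),
  ((.D 4, (3, 1)), (26, (4952179814400, (118852315545600, 9903217970454322483134263620555)))),
  ((.D 4, (5, 1)), (124, (8911539000000000000, (213876936000000000000, 55533198169746613192315951794551070306127118644067)))),
  ((.DD 4, (2, 1)), (7, (197406720, (394813440, 16665852529420239958)))),
  ((.DD 4, (2, 2)), (63, (67536471195648000, (270145884782592000, 1849429631926822814919534902646355882101106017205199644429016)))),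
  ((.DD 4, (3, 1)), (26, (10151968619520, (40607874478080, 82865877249723599523884539273363)))),
  ((.DD 4, (5, 1)), (124, (17880203250000000000, (71520813000000000000, 448550833940785819091753151353649796391427966101694)))),
  ((.L 5, (2, 1)), (15, (9999360, (19998720, 463021199932988)))),
  ((.L 5, (3, 1)), (80, (237783237120, (475566474240, 1055066530948843651486272663)))),
  ((.C 5, (2, 1)), (31, (24815256521932800, (24815256521932800, 3310612720575299728193136297563712371210137271437468183365583403)))),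
  ((.C 5, (3, 1)), (80, (76457792934119864313446400, (152915585868239728626892800, 13652867815878807343590512300875532029720650020972685031383496912353012077912337082036316474647444393)))),
  ((.U 5, (2, 1)), (8, (13685760, (27371520, 728332269669992)))),
  ((.U 5, (3, 1)), (54, (258190571520, (516381143040, 1350675640108120739196605301)))),
  ((.D 5, (2, 1)), (15, (23499295948800, (46998591897600, 36515575044315717006141728321978318434567810)))),
  ((.D 5, (3, 1)), (80, (1289512799941305139200, (5158051199765220556800, 334476847993973656132629053880897603007463210094804336177262869993437)))),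
  ((.DD 5, (2, 1)), (7, (25015379558400, (50030759116800, 38871418595706269165901192486822486708237884)))),
  ((.DD 5, (2, 2)), (63, (1156864092324658937856000000, (4627456369298635751424000000, 3670387017028419476605064407446400012660459422068730768998356848129456988747550445852986167471444038904224590108705471972183464196808859909033220338)))),
  ((.DD 5, (3, 1)), (26, (650084965259666227200, (5200679722077329817600, 168620559732435850310224211462890720271901089087415118490950069279240)))),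
  ((.DD 5, (5, 1)), (124, (13624044368878125000000000000000, (54496177475512500000000000000000, 33057603698838216130232382311058846355542199564078366705594756948940040472912912237182203389830508474)))),
  ((.L 6, (2, 1)), (31, (20158709760, (40317419520, 2095389705843589426995666249)))),
  ((.C 6, (2, 1)), (63, (208114637736580743168000, (208114637736580743168000, 8738754130366207054716753963175731345041371830309841790516343221186154120795822307327627955456985522563981090963378245423)))),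
  ((.U 6, (2, 1)), (16, (9196830720, (55180984320, 955728976303133821425261897)))),
  ((.D 6, (2, 1)), (31, (50027557148216524800, (100055114296433049600, 3314049851949597918187793308531134388072091102728078745169037223698672886528196431608189)))),
  ((.DD 6, (2, 1)), (15, (51615733565620224000, (103231467131240448000, 3419257783757521661622326429436884686759939116493463308947218055941060919515964372818440)))),
  ((.DD 6, (3, 1)), (80, (13562847888583522730562256896000, (54251391554334090922249027584000, 1536235406407792822141480598053873411520443543326006448612055204913209648741899681216667164652535771245607582583186134308887805165737949288)))),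
  ((.L 7, (2, 1)), (63, (163849992929280, (327699985858560, 310256848991895294330561543463237476578328056155)))),
  ((.U 7, (2, 1)), (32, (227787103272960, (455574206545920, 431324455003404295197720822301007729180197670426)))),
  ((.D 7, (2, 1)), (63, (1691555775522928280469504000, (3383111551045856560939008000, 11801743075717855584010432761173118523286703452520270475971072909751696143001251405994474677611930272944091406575503094329799691363450934140649583463172118493288)))),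
  ((.DD 7, (2, 1)), (31, (1718194449153210615595008000, (3436388898306421231190016000, 11987597297382703703443667922766395980346336577756810168506050435889518129505208121049518021107440688423631743054694215414161022448688435786444705552273239716881)))),
  ((.U 8, (2, 1)), (64, (7434971050829414400, (14869942101658828800, 917334286341909105351327293941697414564951791445114376743887430619724682118508)))),
  ((.DD 8, (2, 1)), (63, (918817155086936330770931156779008000, (1837634310173872661541862313558016000, 114862411565988463396962567454935798250226176375948515796255902102618234846508950320927316947927835895068989864128765942014051130431970714101234009986957494261653542859504537275427422516476492066136856536391280745646344494178038958163293750887503903435419152370670608522847)))),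
  ((.G2, (2, 2)), (0, (251596800, (503193600, 21721381935869186603)))),
  ((.G2, (2, 3)), (56, (4329310519296, (12987931557888, 12801599473430453615554380804031492954)))),
  ((.G2, (3, 1)), (6, (4245696, (8491392, 6347890882041)))),
  ((.G2, (3, 2)), (72, (22594320403200, (90377281612800, 906794424096612068848405357969627)))),
  ((.G2, (5, 1)), (20, (5859000000, (5859000000, 15782673465788144644067)))),
  ((.G2, (7, 1)), (42, (664376138496, (664376138496, 23011050972783222959682305121)))),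
  ((.G2, (11, 1)), (110, (376611192619200, (376611192619200, 4191542807068319203835439276392678562)))),
  ((.TD4, (2, 1)), (16, (211341312, (634023936, 17936770518411881672)))),
  ((.Sz, (2, 3)), (7, (29120, (87360, 29789955)))),
  ((.Sz, (2, 5)), (31, (32537600, (162688000, 3966623715057736)))),
  ((.Ree, (3, 3)), (26, (10073444472, (30220333416, 80234674590539788595357))))]

/-- alternating groups: degree, order, order of the automorphism group, `Lc` -/
def Ta : List (ℕ × ℕ × ℕ × ℕ) := [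
  (5, (60, (120, 120))),
  (6, (360, (1440, 3423))),
  (7, (2520, (5040, 116335))),
  (8, (20160, (40320, 16928853))),
  (9, (181440, (362880, 1109211708))),
  (10, (1814400, (3628800, 532465356203))),
  (11, (19958400, (39916800, 630574256433111))),
  (12, (239500800, (479001600, 1079277784830625301))),
  (13, (3113510400, (6227020800, 2368512133304338309423))),
  (14, (43589145600, (87178291200, 6498775494611247702498711))),
  (15, (653837184000, (1307674368000, 21933261935222396805045728542))),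
  (16, (10461394944000, (20922789888000, 89845716315862515066881391789559))),
  (17, (177843714048000, (355687428096000, 441377220066535459663638480089816949))),
  (18, (3201186852864000, (6402373705728000, 2574111572959544715987435248453166687457)))]

/-- the table for the names -/
def chkKF (Y : Art.Sh) (D : ℕ) (al : List (((Art.Sh × ℕ × ℕ) × ℕ) × ℕ)) : Bool :=
  Tb.all fun y => chkTF Y D y.2.1 y.1 al y.2.2.1 y.2.2.2.1 y.2.2.2.2 y.1.2.1

/-- the table for the alternating groups -/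
def chkKAF (Y : Art.Sh) (D m0 m : ℕ) (al : List ((ℕ × ℕ) × ℕ)) : Bool :=
  Ta.all fun y => or (Nat.ble (Nat.succ y.1) m0) (or (Nat.ble (Nat.succ m) y.1)
    (chkTF Y D 0 y.1 al y.2.1 y.2.2.1 y.2.2.2 0))

/-- the table for the Tits group -/
def chkKTiF (Y : Art.Sh) (D : ℕ) (al : List ((Unit × ℕ) × ℕ)) : Bool :=
  chkTF Y D 0 () al 17971200 35942400 27218402342866006 0

/-! ### faster kernel tests (helper62) -/

namespace Qk62

theorem or_eq (a b : Bool) : (Bool.rec b true a : Bool) = or a b := by cases a <;> rfl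
theorem and_eq (a b : Bool) : (Bool.rec false b a : Bool) = and a b := by cases a <;> rfl

/-- all `i < n` -/
def allR (n : ℕ) (f : ℕ → Bool) : Bool :=
  Nat.rec true (fun i ih => (Bool.rec false ih (f i) : Bool)) n

theorem allR_spec {n : ℕ} {f : ℕ → Bool} (h : allR n f = true) : ∀ i, i < n → f i = true := by
  induction n with
  | zero => intro i hi; omega
  | succ n ih =>
    have h1 : (Bool.rec false (allR n f) (f n) : Bool) = true := h
    rw [and_eq, Bool.and_eq_true] at h1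
    intro i hi
    rcases Nat.lt_succ_iff_lt_or_eq.1 hi with h2 | h2
    · exact ih h1.2 i h2
    · rw [h2]; exact h1.1

theorem g1_eq (Y : Art.Sh) {u3 r R : ℕ} (hd : 0 < dmN Y) (h0 : 2 ^ (dmN Y * r) ≤ u3)
    (h1 : u3 + 1 ≤ 2 ^ (dmN Y * R)) (hR : R = r + 1) (hR' : R ≤ 400) : g1 Y u3 = R := by
  have key : ∀ x, u3 + 1 ≤ 2 ^ (dmN Y * x) ↔ R ≤ x := by
    intro x
    refine ⟨fun h => ?_, fun h => h1.trans (Nat.pow_le_pow_right (by decide) (Nat.mul_le_mul_left _ h))⟩
    have h2 : 2 ^ (dmN Y * r) < 2 ^ (dmN Y * x) := by omega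
    have h3 := Nat.lt_of_mul_lt_mul_left ((Nat.pow_lt_pow_iff_right (by decide)).1 h2)
    omega
  have e1 : ∀ j, Nat.ble (Nat.succ u3) (Nat.pow (Nat.pow 2 (Nat.mul (dmN Y) 8)) j) = true ↔ R ≤ 8 * j := by
    intro j
    rw [Nat.ble_eq, ← key, ← mul_assoc, pow_mul]
    rfl
  have e2 : ∀ t i, Nat.ble (Nat.succ u3) (Nat.pow 2 (Nat.mul (dmN Y) (Nat.add t i))) = true ↔ R ≤ t + i := by
    intro t i
    rw [Nat.ble_eq, ← key]
    rfl
  have hR1 : 1 ≤ R := by omega
  have f1 : (List.range 60).find? (fun j => Nat.ble (Nat.succ u3) (Nat.pow (Nat.pow 2 (Nat.mul (dmN Y) 8)) j)) =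
      some ((R + 7) / 8) := by
    rw [List.find?_range_eq_some]
    refine ⟨(e1 _).2 (by omega), List.mem_range.2 (by omega), fun j hj => ?_⟩
    rw [Bool.not_eq_true', ← Bool.not_eq_true, e1]
    omega
  have f2 : (List.range 9).find? (fun i => Nat.ble (Nat.succ u3)
      (Nat.pow 2 (Nat.mul (dmN Y) (Nat.add (Nat.mul 8 (Nat.sub ((R + 7) / 8) 1)) i)))) =
      some (R - 8 * ((R + 7) / 8 - 1)) := by
    rw [List.find?_range_eq_some]
    have e : Nat.mul 8 (Nat.sub ((R + 7) / 8) 1) = 8 * ((R + 7) / 8 - 1) := rfl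
    refine ⟨(e2 _ _).2 (by omega), List.mem_range.2 (by omega), fun j hj => ?_⟩
    rw [Bool.not_eq_true', ← Bool.not_eq_true, e2]
    omega
  delta g1
  rw [frc_eq, frc_eq, f1]
  show frc _ _ = R
  rw [frc_eq, f2]
  show 8 * ((R + 7) / 8 - 1) + (R - 8 * ((R + 7) / 8 - 1)) = R
  omega

theorem g2_spec (Y : Art.Sh) {u3 R : ℕ} (h : Nat.ble (Nat.succ u3) (fv Y (cN R 4)) = true) :
    Nat.ble (Nat.succ u3) (fv Y (g2 Y u3 R)) = true ∧ g2 Y u3 R ≤ 2 ^ R + 8 := by
  cases hf : (List.range 24).find? (fun c => Nat.ble (Nat.succ u3) (fv Y (cN R c))) with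
  | none =>
    rw [List.find?_eq_none] at hf
    exact absurd h (hf 4 (by decide))
  | some c =>
    have e : g2 Y u3 R = cN R c := by
      delta g2
      rw [hf]
    rw [e]
    rw [List.find?_range_eq_some] at hf
    refine ⟨hf.1, ?_⟩
    have hc : c ≤ 4 := by
      by_contra hc
      have := hf.2.2 4 (by omega)
      rw [h] at this
      exact absurd this (by decide)
    show 2 ^ (R + c / 4 - 3) * (4 + c % 4) + 1 ≤ 2 ^ R + 8
    rcases Nat.lt_or_ge R 3 with h3 | h3
    · have h4 : R = 0 ∨ R = 1 ∨ R = 2 := by omega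
      have h5 : c = 0 ∨ c = 1 ∨ c = 2 ∨ c = 3 ∨ c = 4 := by omega
      rcases h4 with rfl | rfl | rfl <;> rcases h5 with rfl | rfl | rfl | rfl | rfl <;> decide
    · obtain ⟨r, rfl⟩ : ∃ r, R = r + 3 := ⟨R - 3, by omega⟩
      have p3 : 2 ^ (r + 3) = 2 ^ r * 8 := pow_add 2 r 3
      have p1 : 2 ^ (r + 1) = 2 ^ r * 2 := pow_succ 2 r
      have h5 : c = 0 ∨ c = 1 ∨ c = 2 ∨ c = 3 ∨ c = 4 := by omega
      rcases h5 with rfl | rfl | rfl | rfl | rfl
      · show 2 ^ r * 4 + 1 ≤ _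
        omega
      · show 2 ^ r * 5 + 1 ≤ _
        omega
      · show 2 ^ r * 6 + 1 ≤ _
        omega
      · show 2 ^ r * 7 + 1 ≤ _
        omega
      · show 2 ^ (r + 1) * 4 + 1 ≤ _
        omega

/-- the step of the odd candidates -/
def sO (Y : Art.Sh) (w : ℕ) : ℕ := Nat.pow 2 (max 3 ((w - (cf Y).2 + (cf Y).1 - 1) / (cf Y).1) - 1)

theorem tqF_le {Y : Art.Sh} {lab : α} {al : List (α × ℕ)} {m l u q : ℕ} (h : q ≤ 1) :
    tqF Y lab al m l u q = true := by
  delta tqF
  rw [frc_eq, Nat.ble_eq.mpr h]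
  rfl

theorem chkOF_small {Y : Art.Sh} {lab : α} {al : List (α × ℕ)} {m l u N w : ℕ} (h : N + 1 ≤ sO Y w) :
    chkOF Y lab al m l u N w = true := by
  delta chkOF
  rw [frc_eq]
  delta sO at h
  generalize Nat.pow 2 (max 3 ((w - (cf Y).2 + (cf Y).1 - 1) / (cf Y).1) - 1) = s at h ⊢
  refine List.all_eq_true.2 fun j _ => ?_
  rw [Bool.and_eq_true, Bool.or_eq_true, Bool.or_eq_true, Nat.ble_eq, Nat.ble_eq]
  rcases Nat.eq_zero_or_pos j with rfl | hj
  · exact ⟨Or.inr (tqF_le (Nat.le_refl 1)), Or.inr (tqF_le (Nat.zero_le 1))⟩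
  · have h1 : s ≤ s * j := Nat.le_mul_of_pos_right s hj
    have e : Nat.mul s j = s * j := rfl
    rw [e]
    refine ⟨Or.inl ?_, Or.inl ?_⟩
    · show N ≤ s * j + 1
      omega
    · show N ≤ s * j - 1
      omega

/-- no power of two below `2 ^ E` passes the divisibility test -/
def noE (Y : Art.Sh) (m E : ℕ) : Bool :=
  allR E fun i => (Bool.rec (Bool.rec false (Bool.rec true false (Nat.beq (Nat.mod (fn Y (Nat.pow 2 i)) m) 0))
    (Nat.beq (Nat.mod (fdd Y (Nat.pow 2 i)) 2) 1)) true (Nat.beq i 0) : Bool)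

theorem chkEF_of {Y : Art.Sh} {lab : α} {al : List (α × ℕ)} {s k k0 l u E E0 : ℕ} (hk : k0 ≤ k) (hE : E ≤ E0)
    (ho : Nat.beq (Nat.mod s 2) 1 = true) (h : noE Y (Nat.pow s k0) E0 = true) :
    chkEF Y lab al (Nat.pow s k) l u E = true := by
  delta chkEF
  rw [Bool.or_eq_true]
  refine Or.inr (List.all_eq_true.2 fun i hi => ?_)
  have h1 := allR_spec h i ((List.mem_range.1 hi).trans_le hE)
  rw [or_eq, and_eq] at h1
  delta tqE
  rw [frc_eq, frc_eq]
  rw [Bool.or_eq_true] at h1 ⊢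
  refine h1.imp_right fun h2 => ?_
  rw [Bool.and_eq_true] at h2
  obtain ⟨h5, h2⟩ := h2
  rw [Bool.or_eq_true, Bool.or_eq_true, Bool.and_eq_true]
  generalize fdd Y (Nat.pow 2 i) = d at h5 ⊢
  generalize fn Y (Nat.pow 2 i) = w at h2 ⊢
  refine Or.inr (Or.inl ⟨?_, ?_⟩)
  · have h3 : (s ^ k * d) % 2 = 1 := Nat.odd_iff.1
      ((Nat.odd_iff.2 (Nat.eq_of_beq_eq_true ho)).pow.mul (Nat.odd_iff.2 (Nat.eq_of_beq_eq_true h5)))
    exact Nat.beq_eq ▸ h3
  · rw [Bool.not_eq_true', ← Bool.not_eq_true]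
    intro h3
    have h4 : w % s ^ k0 = 0 := Nat.mod_eq_zero_of_dvd
      (((pow_dvd_pow s hk).mul_right d).trans (Nat.dvd_of_mod_eq_zero (Nat.eq_of_beq_eq_true h3)))
    have h6 : Nat.beq (Nat.mod w (Nat.pow s k0)) 0 = true := Nat.beq_eq ▸ h4
    rw [h6] at h2
    exact absurd h2 (by decide)

/-- a guess for `g1 - 1` (binary search) -/
def gR (d u3 : ℕ) : ℕ :=
  (Nat.rec (fun r => r) (fun i ih r => frc (Nat.add r (Nat.pow 2 i)) fun r' =>
    (Bool.rec (ih r) (ih r') (Nat.ble (Nat.pow 2 (Nat.mul d r')) u3) : ℕ)) 7 : ℕ → ℕ) 0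

/-- the bound `u` is not forced: its residue modulo `2 ^ 64` (the hash of the literal) is 1 for almost all `k` -/
def chkUH (Y : Art.Sh) (lab : α) (al : List (α × ℕ)) (t k l v u u3 s k0 E0 : ℕ) : Bool :=
  frc (gR (dmN Y) u3) fun r => frc (Nat.succ r) fun R =>
    (Bool.rec false (Bool.rec false (Bool.rec false (Bool.rec false (Bool.rec false
      (Bool.rec (Bool.rec (frc (g2 Y u3 R) fun N => chkOF Y lab al (Nat.pow t k) l u N (Nat.mul k v)) true
        (Nat.ble (Nat.add (Nat.pow 2 R) 9) (sO Y (Nat.mul k v)))) true (Nat.ble (Nat.succ (kodd Y)) k))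
      (Bool.rec (frc (Nat.pow s k) fun m' => chkEF Y lab al m' l u (Nat.add R 5))
        (Nat.ble (Nat.add R 5) E0) (Nat.ble k0 k)))
      (Nat.ble (Nat.succ u3) (fv Y (cN R 4)))) (Nat.ble R 400))
      (Nat.ble (Nat.succ u3) (Nat.pow 2 (Nat.mul (dmN Y) R)))) (Nat.ble (Nat.pow 2 (Nat.mul (dmN Y) r)) u3) : Bool)

theorem chkUF_of {Y : Art.Sh} (hd : 0 < dmN Y) {lab : α} {al : List (α × ℕ)} {t k l v u k0 E0 : ℕ}
    (h : chkUH Y lab al t k l v u (Nat.mul 3 u) (Nat.div t (Nat.pow 2 v)) k0 E0 = true)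
    (hE : Nat.beq l 2 = true ∨ (Nat.beq (Nat.mod (Nat.div t (Nat.pow 2 v)) 2) 1 = true ∧
      noE Y (Nat.pow (Nat.div t (Nat.pow 2 v)) k0) E0 = true)) : chkUF Y lab al t k l v u = true := by
  delta chkUH at h
  rw [frc_eq, frc_eq, and_eq, and_eq, and_eq, and_eq, and_eq, or_eq, or_eq, frc_eq, frc_eq, Bool.and_eq_true,
    Bool.and_eq_true, Bool.and_eq_true, Bool.and_eq_true, Bool.and_eq_true, Bool.or_eq_true, Bool.or_eq_true] at h
  generalize gR (dmN Y) (Nat.mul 3 u) = r at h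
  obtain ⟨h0, h0', h1, h2, h3, h4⟩ := h
  have e := g1_eq Y hd (Nat.le_of_ble_eq_true h0) (Nat.le_of_ble_eq_true h0') rfl (Nat.le_of_ble_eq_true h1)
  delta chkUF
  rw [frc_eq, frc_eq, frc_eq, frc_eq, e]
  generalize Nat.succ r = R at h1 h2 h3 h4
  obtain ⟨h5, h6⟩ := g2_spec Y h2
  rw [Bool.and_eq_true, Bool.and_eq_true, Bool.and_eq_true, Bool.or_eq_true]
  refine ⟨h5, ?_, ?_, ?_⟩
  · rw [Nat.ble_eq]
    show _ ≤ 2 ^ (R + 5)
    have p : 2 ^ (R + 5) = 2 ^ R * 32 := pow_add 2 R 5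
    have := Nat.one_le_two_pow (n := R)
    omega
  · cases h7 : Nat.ble k0 k
    · rw [h7] at h3
      exact h3
    · rw [h7] at h3
      rcases hE with hE | hE
      · delta chkEF
        rw [hE]
        rfl
      · exact chkEF_of (Nat.le_of_ble_eq_true h7) (Nat.le_of_ble_eq_true h3) hE.1 hE.2
  · refine h4.imp_right fun h7 => ?_
    rcases h7 with h7 | h7
    · refine chkOF_small ?_
      have h8 : 2 ^ R + 9 ≤ sO Y (Nat.mul k v) := Nat.le_of_ble_eq_true h7
      omega
    · exact h7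

/-- a guess for the first exponent from which on the powers of two need no test -/
def gk (Y : Art.Sh) (s E : ℕ) : ℕ :=
  Nat.rec 1 (fun i k => frc k fun k =>
    (Nat.rec (fun k => k) (fun _ ih k => (Bool.rec k (ih (Nat.succ k))
      (Nat.beq (Nat.mod (fn Y (Nat.pow 2 (Nat.succ i))) (Nat.pow s k)) 0) : ℕ)) 30 : ℕ → ℕ) k) E

def chkTH (Y : Art.Sh) (D b : ℕ) (lab : α) (al : List ((α × ℕ) × ℕ)) (t a L l : ℕ) : Bool :=
  frc (Bool.rec (Nat.div D b) (Nat.div D 2) (Nat.ble b 2) : ℕ) fun K =>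
    (Bool.rec (frc (vf 2 400 t) fun v => frc (Nat.div t (Nat.pow 2 v)) fun s =>
      frc (Nat.add (gR (dmN Y) (Nat.mul 3 (Nat.succ (BkF L t a K)))) 6) fun E0 =>
      frc (Bool.rec (gk Y s E0) 0 (Nat.beq l 2) : ℕ) fun k0 =>
        (Bool.rec false (allR (Nat.sub K 1) fun i => frc (Nat.add i 2) fun k =>
            chkUH Y (lab, k) al t k l v (Nat.succ (BkF L t a k)) (Nat.mul 3 (Nat.succ (BkF L t a k))) s k0 E0)
          (Bool.rec (Bool.rec false (frc (Nat.pow s k0) fun m => noE Y m E0) (Nat.beq (Nat.mod s 2) 1)) true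
            (Nat.beq l 2)) : Bool))
      true (Nat.ble K 1) : Bool)

theorem chkTF_of {Y : Art.Sh} (hd : 0 < dmN Y) {D b : ℕ} {lab : α} {al : List ((α × ℕ) × ℕ)} {t a L l : ℕ}
    (h : chkTH Y D b lab al t a L l = true) : chkTF Y D b lab al t a L l = true := by
  delta chkTH at h
  rw [frc_eq, frc_eq, frc_eq, frc_eq, frc_eq, frc_eq, or_eq, and_eq, or_eq, and_eq] at h
  delta chkTF
  rw [frc_eq]
  refine List.all_eq_true.2 fun k hk => ?_
  rw [frc_eq, Bool.or_eq_true, Bool.or_eq_true, Nat.ble_eq, Nat.ble_eq]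
  by_cases h1 : k ≤ 1
  · exact Or.inl h1
  by_cases h2 : Nat.succ (D / k) ≤ b
  · exact Or.inr (Or.inl h2)
  refine Or.inr (Or.inr ?_)
  have hk' := List.mem_range.1 hk
  have hK : k ≤ (Bool.rec (Nat.div D b) (Nat.div D 2) (Nat.ble b 2) : ℕ) := by
    cases h3 : Nat.ble b 2
    · have h4 : ¬ b ≤ 2 := by rw [← Nat.ble_eq, h3]; decide
      show k ≤ D / b
      rw [Nat.le_div_iff_mul_le (by omega), mul_comm, ← Nat.le_div_iff_mul_le (by omega)]
      omega
    · show k ≤ D / 2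
      omega
  generalize (Bool.rec (Nat.div D b) (Nat.div D 2) (Nat.ble b 2) : ℕ) = K at h hK
  rw [Bool.or_eq_true, Bool.and_eq_true, Bool.or_eq_true, Bool.and_eq_true, Nat.ble_eq] at h
  rcases h with h | ⟨h3, h4⟩
  · omega
  · have h5 := allR_spec h4 (k - 2) (by show k - 2 < K - 1; omega)
    have e : Nat.add (k - 2) 2 = k := by show k - 2 + 2 = k; omega
    rw [frc_eq, e] at h5
    exact chkUF_of hd h5 h3

def allL {β : Type} (f : β → Bool) (l : List β) : Bool :=
  List.rec true (fun y _ ih => (Bool.rec false ih (f y) : Bool)) l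

theorem allL_spec {β : Type} {f : β → Bool} {l : List β} (h : allL f l = true) : ∀ y ∈ l, f y = true := by
  induction l with
  | nil => intro y hy; cases hy
  | cons x l ih =>
    have h1 : (Bool.rec false (allL f l) (f x) : Bool) = true := h
    rw [and_eq, Bool.and_eq_true] at h1
    intro y hy
    rcases List.mem_cons.1 hy with rfl | hy
    · exact h1.1
    · exact ih h1.2 y hy

def chkKH (Y : Art.Sh) (D : ℕ) (al : List (((Art.Sh × ℕ × ℕ) × ℕ) × ℕ)) : Bool :=
  allL (fun y => chkTH Y D y.2.1 y.1 al y.2.2.1 y.2.2.2.1 y.2.2.2.2 y.1.2.1) Tb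

def chkKAH (Y : Art.Sh) (D m0 m : ℕ) (al : List ((ℕ × ℕ) × ℕ)) : Bool :=
  allL (fun y => or (Nat.ble (Nat.succ y.1) m0) (or (Nat.ble (Nat.succ m) y.1)
    (chkTH Y D 0 y.1 al y.2.1 y.2.2.1 y.2.2.2 0))) Ta

def chkKTiH (Y : Art.Sh) (D : ℕ) (al : List ((Unit × ℕ) × ℕ)) : Bool :=
  chkTH Y D 0 () al 17971200 35942400 27218402342866006 0

theorem dm_pos (Y : Art.Sh) : 0 < dmN Y := by cases Y <;> exact Nat.succ_pos _

theorem chkKF_of {Y : Art.Sh} {D : ℕ} {al : List (((Art.Sh × ℕ × ℕ) × ℕ) × ℕ)} (h : chkKH Y D al = true) :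
    chkKF Y D al = true :=
  List.all_eq_true.2 fun y hy => chkTF_of (dm_pos Y) (allL_spec h y hy)

theorem chkKAF_of {Y : Art.Sh} {D m0 m : ℕ} {al : List ((ℕ × ℕ) × ℕ)} (h : chkKAH Y D m0 m al = true) :
    chkKAF Y D m0 m al = true := by
  refine List.all_eq_true.2 fun y hy => ?_
  have h1 := allL_spec h y hy
  rw [Bool.or_eq_true, Bool.or_eq_true] at h1 ⊢
  exact h1.imp_right (Or.imp_right (chkTF_of (dm_pos Y)))

theorem chkKTiF_of {Y : Art.Sh} {D : ℕ} {al : List ((Unit × ℕ) × ℕ)} (h : chkKTiH Y D al = true) :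
    chkKTiF Y D al = true := chkTF_of (dm_pos Y) h

end Qk62

/-- the data of the tables -/
def okB (y : (Art.Sh × ℕ × ℕ) × ℕ × ℕ × ℕ × ℕ) : Bool :=
  Nat.beq (lb y.1.1 (y.1.2.1 ^ y.1.2.2)) y.2.1 && (Nat.beq (od y.1.1 y.1.2.1 y.1.2.2) y.2.2.1 &&
    (Nat.beq (ouN y.1.1 y.1.2.1 y.1.2.2 * y.2.2.1) y.2.2.2.1 && (facOk y.2.2.1 && Nat.beq (Lc y.2.2.1) y.2.2.2.2)))

def okA (y : ℕ × ℕ × ℕ × ℕ) : Bool :=
  Nat.beq (y.1.factorial / 2) y.2.1 && (Nat.beq (autA y.1) y.2.2.1 && (facOk y.2.1 && Nat.beq (Lc y.2.1) y.2.2.2))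

/-- the hypotheses on the tables (kernel checks in `TabD.lean`) -/
structure Data : Prop where
  rg : reg 124 = Tb.map Prod.fst
  b : Tb.all okB = true
  a : Ta.all okA = true
  t : facOk 17971200 = true ∧ Lc 17971200 = 27218402342866006

theorem Data.name (hD : Data) {n : ℕ} {X : Art.Sh} {l a t : ℕ} (hn : n ≤ 124) (hr : (X, (l, a)) ∈ reg n)
    (hT : Art.Real X l a t) : ((X, (l, a)), (lb X (l ^ a), (t, (ouN X l a * t, Lc t)))) ∈ Tb ∧ facOk t = true := by
  obtain ⟨r1, r2, r3, r4⟩ := mem_reg_iff.1 hr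
  have hr' : (X, (l, a)) ∈ reg 124 := mem_reg_iff.2 ⟨r1, r2, r3.trans hn, r4⟩
  rw [hD.rg] at hr'
  obtain ⟨y, hy, he⟩ := List.mem_map.1 hr'
  have h1 := List.all_eq_true.1 hD.b y hy
  obtain ⟨x, b, t', a', L⟩ := y
  try simp only at he
  subst he
  rw [okB] at h1
  simp only [Bool.and_eq_true] at h1
  obtain ⟨h2, h3, h4, h5, h6⟩ := h1
  have h2' := Nat.eq_of_beq_eq_true h2
  have h3' := Nat.eq_of_beq_eq_true h3
  have h4' := Nat.eq_of_beq_eq_true h4
  have h6' := Nat.eq_of_beq_eq_true h6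
  try simp only at h2' h3' h4' h6' h5
  rw [← real_eq hT] at h3'
  subst h3'
  subst h2'
  subst h4'
  subst h6'
  exact ⟨hy, h5⟩

/-- **the table for the names of Lie type**, `k ≥ 2` -/
theorem chkKF_spec (hD : Data) {Y : Art.Sh} (hY : Y ∈ Ys) {D : ℕ} (hD248 : D ≤ 248)
    {al : List (((Art.Sh × ℕ × ℕ) × ℕ) × ℕ)}
    (hc : chkKF Y D al = true) {X : Art.Sh} {l a t k p f g : ℕ} (hk : 2 ≤ k) (hkD : k ≤ D / 2)
    (hT : Art.Real X l a t) (hr : (X, (l, a)) ∈ reg (D / k)) (hG : Art.Real Y p f g) (hlp : l ≠ p)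
    (hu : g ≤ Bk t (ouN X l a * t) k) (hd : t ^ k ∣ g) (ho : Odd p → Y ∈ Yo ∧ k ≤ kodd Y) :
    (((X, (l, a)), k), p ^ f) ∈ al := by
  have h124 : D / k ≤ 124 := (Nat.div_le_div hD248 hk (by norm_num)).trans (by norm_num)
  obtain ⟨h1, -⟩ := hD.name h124 hr hT
  have h2 := List.all_eq_true.1 hc _ h1
  refine chkTF_spec hY h2 rfl hk hkD (mem_reg_iff.1 hr).2.2.1 hG ?_ hu hd ho
  intro h3
  have h4 : l ∣ p ^ f := Nat.dvd_of_mod_eq_zero h3
  exact hlp ((Nat.prime_dvd_prime_iff_eq hT.hp hG.hp).1 (hT.hp.dvd_of_dvd_pow h4))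

/-- **the table for the alternating groups**, `k ≥ 2` -/
theorem chkKAF_spec (hD : Data) {Y : Art.Sh} (hY : Y ∈ Ys) {D m0 m : ℕ} {al : List ((ℕ × ℕ) × ℕ)}
    (hc : chkKAF Y D m0 m al = true) {n t k p f g : ℕ} (hk : 2 ≤ k) (hkD : k ≤ D / 2) (h5 : 5 ≤ n) (h18 : n ≤ 18)
    (hn0 : m0 ≤ n) (hn : n ≤ m) (ht : 2 * t = n.factorial)
    (hG : Art.Real Y p f g) (hu : g ≤ Bk t (autA n) k) (hd : t ^ k ∣ g) (ho : Odd p → Y ∈ Yo ∧ k ≤ kodd Y) :
    ((n, k), p ^ f) ∈ al ∧ facOk t = true := by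
  have hmem : n ∈ Ta.map Prod.fst := by
    interval_cases n <;> decide
  obtain ⟨y, hy, he⟩ := List.mem_map.1 hmem
  have h1 := List.all_eq_true.1 hD.a y hy
  have h2 := List.all_eq_true.1 hc y hy
  obtain ⟨x, t', a', L⟩ := y
  try simp only at he
  subst he
  rw [okA] at h1
  simp only [Bool.and_eq_true] at h1
  obtain ⟨h3, h4, h5', h6⟩ := h1
  have h3' := Nat.eq_of_beq_eq_true h3
  have h4' := Nat.eq_of_beq_eq_true h4
  have h6' := Nat.eq_of_beq_eq_true h6
  try simp only at h3' h4' h6' h5'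
  have ht' : t' = t := by omega
  subst ht'
  subst h4'
  simp only [Bool.or_eq_true, Nat.ble_eq] at h2
  rcases h2 with h2 | h2 | h2
  · exfalso
    have : x + 1 ≤ m0 := h2
    omega
  · exfalso
    have : m + 1 ≤ x := h2
    omega
  · refine ⟨chkTF_spec hY h2 h6' hk hkD (Nat.zero_le _) hG ?_ hu hd ho, h5'⟩
    rw [Nat.mod_zero]
    exact pow_ne_zero _ hG.hp.ne_zero

/-- **the table for the Tits group**, `k ≥ 2` -/
theorem chkKTiF_spec (hD : Data) {Y : Art.Sh} (hY : Y ∈ Ys) {D : ℕ} {al : List ((Unit × ℕ) × ℕ)}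
    (hc : chkKTiF Y D al = true) {k p f g : ℕ} (hk : 2 ≤ k) (hkD : k ≤ D / 2) (hG : Art.Real Y p f g)
    (hu : g ≤ Bk 17971200 35942400 k) (hd : 17971200 ^ k ∣ g) (ho : Odd p → Y ∈ Yo ∧ k ≤ kodd Y) :
    (((), k), p ^ f) ∈ al := by
  refine chkTF_spec hY hc hD.t.2 hk hkD (Nat.zero_le _) hG ?_ hu hd ho
  rw [Nat.mod_zero]
  exact pow_ne_zero _ hG.hp.ne_zero

end Cfsg.Agent.H252.EN
end

-- part: H252/EN/TabLists
section
/-!
# S5745, layer ENUM, `T ^ k`, `k ≥ 2`: the lists of the survivors (helper252)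

Entries `((name, k), q)`. The kernel checks: `TabKA` (`F₄`, `³D₄`, `G₂`), `TabKB` (`E₆`, `²E₆`), `TabKC` (`E₇`), `TabKE`
(`E₈`).
-/

set_option autoImplicit false

namespace Cfsg.Agent.H252.EN

open Cfsg.Agent.H902

/-- `F₄(q)` (`q` odd: `k ≤ 3`) -/
def alKF4 : List (((Art.Sh × ℕ × ℕ) × ℕ) × ℕ) :=
  [(((.L 2, (3, 2)), 2), 2), (((.L 3, (2, 2)), 2), 3), (((.L 3, (2, 2)), 3), 7), (((.U 3, (3, 1)), 2), 2),
   (((.L 4, (2, 1)), 2), 3), (((.L 4, (2, 1)), 3), 7), (((.U 4, (2, 1)), 2), 3), (((.Sz, (2, 3)), 2), 3)]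

def alAF4 : List ((ℕ × ℕ) × ℕ) :=
  [((6, 2), 2), ((7, 2), 2), ((8, 2), 2), ((8, 2), 3), ((8, 2), 4), ((8, 3), 7), ((9, 2), 3), ((10, 3), 15)]

def alTF4 : List ((Unit × ℕ) × ℕ) := [(((), 2), 4)]

def alATD4 : List ((ℕ × ℕ) × ℕ) := [((6, 2), 4), ((7, 2), 4)]

def alTTD4 : List ((Unit × ℕ) × ℕ) := []

/-- `³D₄(q)`, `q` even, the 8-dimensional module (`D = 8`) -/
def alKTD4e : List (((Art.Sh × ℕ × ℕ) × ℕ) × ℕ) := [(((.L 2, (3, 2)), 2), 4), (((.L 2, (7, 1)), 2), 2)]

/-- `G₂(q)`, `q` even -/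
def alKG2 : List (((Art.Sh × ℕ × ℕ) × ℕ) × ℕ) := [(((.L 2, (5, 1)), 2), 4), (((.L 2, (7, 1)), 2), 8)]

def alAG2 : List ((ℕ × ℕ) × ℕ) := [((5, 2), 4)]

def alTG2 : List ((Unit × ℕ) × ℕ) := []

/-- `E₆(q)` (`q` odd: `k ≤ 3`) -/
def alKE6 : List (((Art.Sh × ℕ × ℕ) × ℕ) × ℕ) := [(((.U 3, (3, 1)), 2), 2)]

def alAE6 : List ((ℕ × ℕ) × ℕ) := [((7, 2), 2), ((8, 2), 2), ((8, 3), 4), ((9, 2), 3), ((10, 2), 4)]

def alTE6K : List ((Unit × ℕ) × ℕ) := [(((), 2), 4)]

/-- `²E₆(q)` (`q` odd: `k ≤ 3`) -/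
def alKTE6 : List (((Art.Sh × ℕ × ℕ) × ℕ) × ℕ) :=
  [(((.C 2, (3, 1)), 2), 2), (((.C 3, (2, 1)), 2), 3), (((.U 3, (3, 1)), 2), 2)]

def alATE6 : List ((ℕ × ℕ) × ℕ) := [((7, 2), 2), ((8, 2), 2), ((9, 2), 2), ((9, 2), 3)]

def alTTE6 : List ((Unit × ℕ) × ℕ) := [(((), 2), 4)]

/-- `E₇(q)` -/
def alKE7 : List (((Art.Sh × ℕ × ℕ) × ℕ) × ℕ) := [(((.U 3, (3, 1)), 3), 2)]

def alAE7 : List ((ℕ × ℕ) × ℕ) := []

def alTE7 : List ((Unit × ℕ) × ℕ) := [(((), 3), 4)]

/-- `E₈(q)` -/
def alKE8 : List (((Art.Sh × ℕ × ℕ) × ℕ) × ℕ) := []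

def alAE8 : List ((ℕ × ℕ) × ℕ) := [((13, 2), 2), ((14, 2), 2)]

def alTE8 : List ((Unit × ℕ) × ℕ) := []

end Cfsg.Agent.H252.EN
end

private theorem dce_bf3429a3c950 : _root_.True := by
  try have : _root_.True := by simp only [_root_.Cfsg.Agent.H252.EN.chkOF.congr_simp]
  try have : _root_.True := by simp only [_root_.Cfsg.Agent.H252.EN.okB.eq_1]
  try have : _root_.True := by simp only [_root_.Cfsg.Agent.H746.EK.Ik.eq_1]
  try have : _root_.True := by simp only [_root_.Cfsg.Agent.H252.EN.BkL.eq_1]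
  try have : _root_.True := by simp only [_root_.Cfsg.Agent.H252.EN.okA.eq_1]
  try have : _root_.True := by simp only [_root_.Cfsg.Agent.H252.EN.IkF.eq_1]
  try have : _root_.True := by simp only [_root_.Cfsg.Agent.H746.EK.Dk.eq_1]
  try have : _root_.True := by simp only [_root_.Cfsg.Agent.H252.EN.tqE.eq_1]
  try have : _root_.True := by simp only [_root_.Cfsg.Agent.H252.EN.DkF.eq_1]
  try have : _root_.True := by simp only [_root_.Cfsg.Agent.H252.EN.chkEF.congr_simp]
  try have : _root_.True := by simp only [_root_.Cfsg.Agent.H252.EN.chkOF.eq_1]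
  try have : _root_.True := by simp only [_root_.Cfsg.Agent.H252.EN.chkTF.eq_1]
  try have : _root_.True := by simp only [_root_.Cfsg.Agent.H252.EN.chkKAF.eq_1]
  try have : _root_.True := by simp only [_root_.Cfsg.Agent.H252.EN.mx.eq_1]
  try have : _root_.True := by simp only [_root_.Cfsg.Agent.H252.EN.tqF.eq_1]
  try have : _root_.True := by simp only [_root_.Cfsg.Agent.H252.EN.chkUF.eq_1]
  try have : _root_.True := by simp only [_root_.Cfsg.Agent.H252.EN.chkTF.congr_simp]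
  try have : _root_.True := by simp only [_root_.Cfsg.Agent.H252.EN.chkEF.eq_1]
  try have : _root_.True := by simp only [_root_.Cfsg.Agent.H252.EN.BkF.eq_1]
  exact _root_.True.intro
end

-- part: H889/Enum/UBS
section
prune_inst 0x400000
set_option linter.all false
open scoped Cfsg.Agent.FastGrp

/-!
# S5745, layer UB: a sharper bound (helper889)

The two-point stabilisers `M = N_A(X)`, `X` elementary abelian, are counted with Sylow's theorem: an elementary abelian
`s`-subgroup `X ≠ 1` of `A` lies in one of the `≤ |A| / s ^ a` Sylow `s`-subgroups. Moreover a nonabelian simple group has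
at least 120 generating pairs, and the products `T ^ k`, `k ≥ 2`, occur only if `m ^ 2 ∣ |A|` for some `m ≥ 60`.
-/

set_option autoImplicit false

namespace Cfsg.Agent.H889.Enum

open Subgroup Cfsg.Agent.H284 Cfsg.Agent.H59.EP
open scoped commutatorElement

universe u

/-! ### the elementary abelian subgroups -/

section count

variable {B : Type u} [Group B]

theorem ncard_elab_syl [Finite B] {s : ℕ} (hs : s.Prime) :
    {X : Subgroup B | ElAb s X ∧ X ≠ ⊥}.ncard ≤
      gal s ((Nat.card B).factorization s) * (Nat.card B / s ^ (Nat.card B).factorization s) := by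
  classical
  have : Fact s.Prime := ⟨hs⟩
  have : Fintype (Sylow s B) := Fintype.ofFinite _
  have hsub : {X : Subgroup B | ElAb s X ∧ X ≠ ⊥} ⊆
      ⋃ P ∈ (Finset.univ : Finset (Sylow s B)), {E : Subgroup B | E ≤ (P : Subgroup B) ∧ ElAb s E ∧ E ≠ ⊥} := by
    rintro X ⟨h1, h2⟩
    have hps : IsPGroup s X := by
      rintro ⟨y, hy⟩
      refine ⟨1, Subtype.ext ?_⟩
      rw [pow_one]
      exact h1.exp y hy
    obtain ⟨R, hR⟩ := hps.exists_le_sylow
    rw [Set.mem_iUnion₂]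
    exact ⟨R, Finset.mem_univ _, hR, h1, h2⟩
  refine (Set.ncard_le_ncard hsub (Set.toFinite _)).trans ?_
  refine (Finset.set_ncard_biUnion_le _ _).trans ?_
  refine (Finset.sum_le_card_nsmul _ _ _ (fun P _ => ncard_elab_le hs (P.card_eq_multiplicity))).trans ?_
  rw [smul_eq_mul, mul_comm, Finset.card_univ]
  apply Nat.mul_le_mul_left
  let P : Sylow s B := default
  have h1 : Nat.card (Sylow s B) ∣ (P : Subgroup B).index := P.card_dvd_index
  have h2 : Nat.card (P : Subgroup B) = s ^ (Nat.card B).factorization s := P.card_eq_multiplicity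
  have h3 := (P : Subgroup B).card_mul_index
  rw [h2] at h3
  have h4 : Nat.card B / s ^ (Nat.card B).factorization s = (P : Subgroup B).index := by
    exact Nat.div_eq_of_eq_mul_right (pow_pos hs.pos _) h3.symm
  rw [h4, ← Nat.card_eq_fintype_card]
  exact Nat.le_of_dvd (Nat.pos_of_ne_zero Subgroup.index_ne_zero_of_finite) h1

/-- with the normaliser of index at most `|B| / 6` -/
theorem ncard_elab_max [Finite B] {s : ℕ} (hs : s.Prime) {c : ℕ} (hc : c ≤ Nat.card B / 6) :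
    {X : Subgroup B | ElAb s X ∧ X ≠ ⊥ ∧ (normalizer (X : Set B)).index ≤ c}.ncard ≤
      gal s ((Nat.card B).factorization s) * (Nat.card B / max 6 (s ^ (Nat.card B).factorization s)) := by
  rcases le_total 6 (s ^ (Nat.card B).factorization s) with h | h
  · rw [max_eq_right h]
    refine (Set.ncard_le_ncard ?_ (Set.toFinite _)).trans (ncard_elab_syl hs)
    rintro X ⟨h1, h2, -⟩
    exact ⟨h1, h2⟩
  · rw [max_eq_left h]
    exact (ncard_elab_class_le hs).trans (Nat.mul_le_mul_left _ hc)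

/-! ### simple subgroups -/

theorem card_mulAut_le {X : Type*} [Group X] [Finite X] {a b : X} (hab : closure ({a, b} : Set X) = ⊤) :
    Nat.card (MulAut X) ≤ {p : X × X | closure ({p.1, p.2} : Set X) = ⊤}.ncard := by
  have hinj : Function.Injective (fun φ : MulAut X => (φ a, φ b)) := by
    intro φ ψ h
    simp only [Prod.mk.injEq] at h
    have h1 : φ.toMonoidHom = ψ.toMonoidHom := by
      apply MonoidHom.eq_of_eqOn_dense hab
      rintro x (rfl | rfl)
      · exact h.1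
      · exact h.2
    exact MulEquiv.ext fun x => DFunLike.congr_fun h1 x
  rw [← Set.ncard_univ, ← Set.ncard_image_of_injective _ hinj]
  refine Set.ncard_le_ncard ?_ (Set.toFinite _)
  rintro _ ⟨φ, -, rfl⟩
  show closure ({φ a, φ b} : Set X) = ⊤
  have h3 : ({φ a, φ b} : Set X) = φ.toMonoidHom '' {a, b} := by
    rw [Set.image_pair]
    rfl
  rw [h3, ← MonoidHom.map_closure, hab]
  exact Subgroup.map_top_of_surjective _ φ.surjective

theorem aut_ge {X : Type*} [Group X] [Finite X] [IsSimpleGroup X] (hX : ¬ Group.IsSolvable X) :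
    120 ≤ Nat.card (MulAut X) := by
  have hna : ¬ IsMulCommutative X := fun h => hX (Group.isSolvable_of_comm fun a b => h.is_comm.comm a b)
  have h60 := Cfsg.Agent.H168.NoSolv.sixty_le hX
  have hinj : Function.Injective (MulAut.conj : X →* MulAut X) := by
    rw [← MonoidHom.ker_eq_bot_iff]
    rcases IsSimpleGroup.eq_bot_or_eq_top_of_normal (MulAut.conj : X →* MulAut X).ker inferInstance with h | h
    · exact h
    · exfalso
      apply hna
      refine ⟨⟨fun a b => ?_⟩⟩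
      have h1 : a ∈ (MulAut.conj : X →* MulAut X).ker := by rw [h]; exact Subgroup.mem_top _
      have h2 := DFunLike.congr_fun ((MonoidHom.mem_ker).1 h1) b
      rw [MulAut.conj_apply, MulAut.one_apply] at h2
      exact mul_inv_eq_iff_eq_mul.1 h2
  have hle : Nat.card X ≤ Nat.card (MulAut X) := Nat.card_le_card_of_injective _ hinj
  by_cases h120 : 120 ≤ Nat.card X
  · exact h120.trans hle
  · have h1 := Cfsg.Agent.S0496.result (G := X) hna (by omega)
    have h2 : Nat.card X = 60 := by omega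
    obtain ⟨e⟩ := Cfsg.Agent.S0494.result (G := X) h2
    rw [Nat.card_congr (MulAut.congr e).toEquiv,
      ← Nat.card_congr (Equiv.ofBijective _ (Cfsg.Agent.S2119.result 5 (by norm_num) (by norm_num))),
      Nat.card_perm, Nat.card_eq_fintype_card, Fintype.card_fin]
    decide

/-- the subgroups with many generating pairs -/
theorem ncard_pair_le [Finite B] {𝒮 : Set (Subgroup B)} {w : ℕ} (hw0 : 0 < w)
    (hw : ∀ X ∈ 𝒮, w ≤ {p : X × X | closure ({p.1, p.2} : Set X) = ⊤}.ncard) :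
    𝒮.ncard ≤ Nat.card B ^ 2 / w := by
  classical
  rw [Nat.le_div_iff_mul_le hw0]
  have hfin : 𝒮.Finite := Set.toFinite _
  let G : Subgroup B → Set (B × B) := fun X => {p | closure ({p.1, p.2} : Set B) = X}
  have hG : ∀ X ∈ 𝒮, w ≤ (G X).ncard := by
    intro X hX
    refine (hw X hX).trans ?_
    refine Set.ncard_le_ncard_of_injOn (fun p => ((p.1 : B), (p.2 : B))) ?_ ?_ (Set.toFinite _)
    · rintro ⟨a, b⟩ hp
      show closure ({(a : B), (b : B)} : Set B) = X
      have h1 := congrArg (Subgroup.map X.subtype) (show closure ({a, b} : Set X) = ⊤ from hp)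
      rw [MonoidHom.map_closure, Set.image_pair, ← MonoidHom.range_eq_map, X.range_subtype] at h1
      exact h1
    · rintro ⟨a, b⟩ _ ⟨a', b'⟩ _ h
      simp only [Prod.mk.injEq] at h
      obtain ⟨h1, h2⟩ := h
      rw [Subtype.ext h1, Subtype.ext h2]
  have hdis : (hfin.toFinset : Set (Subgroup B)).PairwiseDisjoint fun X => (Set.toFinite (G X)).toFinset := by
    intro X _ Y _ hne
    rw [Function.onFun, Finset.disjoint_left]
    intro p hp hq
    rw [Set.Finite.mem_toFinset] at hp hq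
    exact hne (hp.symm.trans hq)
  have h1 : (hfin.toFinset.biUnion fun X => (Set.toFinite (G X)).toFinset).card ≤ Nat.card (B × B) := by
    have := Set.ncard_le_ncard (Set.subset_univ
      ((hfin.toFinset.biUnion fun X => (Set.toFinite (G X)).toFinset : Finset (B × B)) : Set (B × B)))
      (Set.toFinite _)
    rw [Set.ncard_coe_finset, Set.ncard_univ] at this
    exact this
  rw [Finset.card_biUnion hdis, Nat.card_prod] at h1
  have e3 : Nat.card B * Nat.card B = Nat.card B ^ 2 := by ring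
  rw [e3] at h1
  refine le_trans ?_ h1
  rw [Set.ncard_eq_toFinset_card _ hfin, ← smul_eq_mul]
  apply Finset.card_nsmul_le_sum
  intro X hX
  rw [← Set.ncard_eq_toFinset_card _ (Set.toFinite _)]
  exact hG X (hfin.mem_toFinset.1 hX)

/-! ### characteristically simple groups -/

/-- **characteristically simple groups**, with a square in the order for the products -/
theorem char_simple_sq (hg : TwoGen.{0}) {X : Type*} [Group X] [Finite X] [Nontrivial X]
    (hc : ∀ Y : Subgroup X, Y.Characteristic → Y = ⊥ ∨ Y = ⊤) (hcard : Nat.card X < 60 ^ 61) :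
    (∃ s : ℕ, s.Prime ∧ s ∣ Nat.card X ∧ ElAb s (⊤ : Subgroup X)) ∨
      ((IsSimpleGroup X ∧ ¬ Group.IsSolvable X) ∧ ∃ a b : X, closure ({a, b} : Set X) = ⊤) ∨
      (12744000 ≤ {p : X × X × X | closure ({p.1, p.2.1, p.2.2} : Set X) = ⊤}.ncard ∧
        ∃ m, 60 ≤ m ∧ m ^ 2 ∣ Nat.card X) := by
  rcases char_simple_gen hg hc hcard with h | h | h
  · exact Or.inl h
  · exact Or.inr (Or.inl h)
  by_cases hcomm : ∀ a b : X, a * b = b * a
  · exact Or.inl (elab_of_comm hc hcomm)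
  right
  obtain ⟨T, hT1, hT2, n, hn, ⟨e⟩⟩ := Cfsg.Agent.S5914.result.1 hc
  have h0 : 0 < n := by omega
  have hTf : Finite T := Finite.of_injective (fun t : T => e.symm (Pi.mulSingle ⟨0, h0⟩ t)) fun t s h =>
    Pi.mulSingle_injective _ (e.symm.injective h)
  have hTc : ¬ ∀ a b : T, a * b = b * a := by
    intro h
    apply hcomm
    intro a b
    apply e.injective
    rw [map_mul, map_mul]
    ext i
    exact h _ _
  have hTs : ¬ Group.IsSolvable T := by
    intro h
    have h1 : commutator T < ⊤ := Group.IsSolvable.commutator_lt_top_of_nontrivial T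
    rcases hT2.eq_bot_or_eq_top_of_normal (commutator T) inferInstance with h2 | h2
    · apply hTc
      intro a b
      have h1 : ⁅a, b⁆ ∈ commutator T := commutator_mem_commutator (mem_top _) (mem_top _)
      rw [h2, mem_bot, commutatorElement_eq_one_iff_mul_comm] at h1
      exact h1
    · exact h1.ne h2
  have h60 := Cfsg.Agent.H168.NoSolv.sixty_le hTs
  have hXc : Nat.card X = Nat.card T ^ n := by
    rw [Nat.card_congr e.toEquiv, Nat.card_pi, Finset.prod_const, Finset.card_univ, Fintype.card_fin]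
  rcases Nat.lt_or_ge n 2 with h2 | h2
  · left
    obtain ⟨a, b, hab⟩ := hg T
    obtain rfl : n = 1 := by omega
    let E : T ≃* X := (MulEquiv.piUnique (fun _ : Fin 1 => T)).symm.trans e.symm
    refine ⟨⟨E.symm.isSimpleGroup, fun h => hTs ?_⟩, E a, E b, ?_⟩
    · exact Group.isSolvable_of_isSolvable_injective (f := E.toMonoidHom) E.injective
    · have h3 : ({E a, E b} : Set X) = E.toMonoidHom '' {a, b} := by
        rw [Set.image_pair]
        rfl
      rw [h3, ← MonoidHom.map_closure, hab]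
      exact Subgroup.map_top_of_surjective _ E.surjective
  · right
    exact ⟨h, Nat.card T, h60, by rw [hXc]; exact pow_dvd_pow _ h2⟩

/-! ### the counting theorem -/

/-- the bound for the number of products -/
def w3 (n : ℕ) (z : Bool) : ℕ := if z then 0 else n ^ 3 / 12744000

theorem ncard_le_syl [Finite B] (hg : TwoGen.{0}) (hB : Nat.card B < 60 ^ 61)
    {𝓜 : Set (Subgroup B)} {c : ℕ} (hc6 : c ≤ Nat.card B / 6) (hc : ∀ M ∈ 𝓜, M.index ≤ c) (hnt : ∀ M ∈ 𝓜, M ≠ ⊥)
    (hch : ∀ M ∈ 𝓜, ∀ K : Subgroup M, K.Characteristic → K ≠ ⊥ → ∀ b : B,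
      (∀ k ∈ K.map M.subtype, b * k * b⁻¹ ∈ K.map M.subtype) → b ∈ M)
    {z : Bool} (hz : z = true → ∀ m, 60 ≤ m → ¬ m ^ 2 ∣ Nat.card B) :
    𝓜.ncard ≤ ∑ s ∈ (Nat.card B).primeFactors, gal s ((Nat.card B).factorization s) *
        (Nat.card B / max 6 (s ^ (Nat.card B).factorization s)) + Nat.card B ^ 2 / 120 + w3 (Nat.card B) z := by
  classical
  have key : ∀ M ∈ 𝓜, ∃ X : Subgroup B, normalizer (X : Set B) = M ∧
      ((∃ s ∈ (Nat.card B).primeFactors, ElAb s X ∧ X ≠ ⊥) ∨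
        ((IsSimpleGroup X ∧ ¬ Group.IsSolvable X) ∧ ∃ a b : X, closure ({a, b} : Set X) = ⊤) ∨
        (12744000 ≤ {p : X × X × X | closure ({p.1, p.2.1, p.2.2} : Set X) = ⊤}.ncard ∧ z = false)) := by
    intro M hM
    obtain ⟨X, h1, _, h3, h4⟩ := exists_key (hnt M hM) (hch M hM)
    refine ⟨X, h1, ?_⟩
    have hXn : Nontrivial X := (Subgroup.nontrivial_iff_ne_bot X).2 h3
    have hXB : Nat.card X ∣ Nat.card B := Subgroup.card_subgroup_dvd_card X
    rcases char_simple_sq hg h4 ((Nat.le_of_dvd Nat.card_pos hXB).trans_lt hB) with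
      ⟨s, hs, hsd, hel⟩ | h | ⟨h, m, hm, hmd⟩
    · left
      refine ⟨s, Nat.mem_primeFactors.2 ⟨hs, hsd.trans hXB, Nat.card_pos.ne'⟩, ⟨?_, ?_⟩, h3⟩
      · intro a ha b hb
        exact Subtype.ext_iff.1 (hel.comm ⟨a, ha⟩ (mem_top _) ⟨b, hb⟩ (mem_top _))
      · intro a ha
        exact Subtype.ext_iff.1 (hel.exp ⟨a, ha⟩ (mem_top _))
    · exact Or.inr (Or.inl h)
    · refine Or.inr (Or.inr ⟨h, ?_⟩)
      by_contra hcon
      exact hz (by simpa using hcon) m hm (hmd.trans hXB)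
  choose! f hf1 hf2 using key
  have hinj : Set.InjOn f 𝓜 := by
    intro M hM N hN e
    rw [← hf1 M hM, ← hf1 N hN, e]
  rw [← hinj.ncard_image]
  have hsub : f '' 𝓜 ⊆ ((⋃ s ∈ (Nat.card B).primeFactors,
      {X : Subgroup B | ElAb s X ∧ X ≠ ⊥ ∧ (normalizer (X : Set B)).index ≤ c}) ∪
      {X : Subgroup B | (IsSimpleGroup X ∧ ¬ Group.IsSolvable X) ∧ ∃ a b : X, closure ({a, b} : Set X) = ⊤}) ∪
      {X : Subgroup B | 12744000 ≤ {p : X × X × X | closure ({p.1, p.2.1, p.2.2} : Set X) = ⊤}.ncard ∧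
        z = false} := by
    rintro _ ⟨M, hM, rfl⟩
    rcases hf2 M hM with ⟨s, hs, h1, h2⟩ | h | h
    · left
      left
      simp only [Set.mem_iUnion]
      exact ⟨s, hs, h1, h2, by rw [hf1 M hM]; exact hc M hM⟩
    · left
      right
      exact h
    · right
      exact h
  refine (Set.ncard_le_ncard hsub (Set.toFinite _)).trans ((Set.ncard_union_le _ _).trans (Nat.add_le_add
    ((Set.ncard_union_le _ _).trans (Nat.add_le_add ?_ ?_)) ?_))
  · have hun : ∀ I : Finset ℕ, (⋃ s ∈ I, {X : Subgroup B | ElAb s X ∧ X ≠ ⊥ ∧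
        (normalizer (X : Set B)).index ≤ c}).ncard ≤
        ∑ s ∈ I, {X : Subgroup B | ElAb s X ∧ X ≠ ⊥ ∧ (normalizer (X : Set B)).index ≤ c}.ncard := by
      intro I
      induction I using Finset.induction_on with
      | empty => simp
      | insert j I hj ih =>
        rw [Finset.sum_insert hj, Finset.set_biUnion_insert]
        exact (Set.ncard_union_le _ _).trans (Nat.add_le_add_left ih _)
    refine (hun _).trans ?_
    exact Finset.sum_le_sum fun s hs => ncard_elab_max (Nat.prime_of_mem_primeFactors hs) hc6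
  · refine ncard_pair_le (by norm_num) ?_
    rintro X ⟨⟨h1, h2⟩, a, b, hab⟩
    exact (aut_ge h2).trans (card_mulAut_le hab)
  · rw [w3]
    split_ifs with h
    · rw [Nat.le_zero, Set.ncard_eq_zero (Set.toFinite _), Set.eq_empty_iff_forall_notMem]
      rintro X ⟨-, h2⟩
      rw [h] at h2
      exact absurd h2 (by decide)
    · exact ncard_triple_le (by norm_num) (fun X hX => hX.1)

end count

/-! ### two-point stabilisers -/

section ept

variable {Q : Type u} [Group Q] [Finite Q] {A : Subgroup Q} {Γ : Subgroup (MulAut Q)}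

/-- the sum -/
def sg (N n : ℕ) : ℕ :=
  ∑ s ∈ n.primeFactors, gal s (n.factorization s) * (N / max 6 (s ^ n.factorization s))

theorem EPT.ncard_le_syl (h : EPT A Γ) (hg : TwoGen.{0})
    (hab : ∀ K : Subgroup Q, K ≤ A → (∀ a ∈ A, ∀ k ∈ K, a * k * a⁻¹ ∈ K) → (∀ a ∈ K, ∀ b ∈ K, a * b = b * a) → K = ⊥)
    (hB : Nat.card A < 60 ^ 61) {z : Bool} (hz : z = true → ∀ m, 60 ≤ m → ¬ m ^ 2 ∣ Nat.card A) :
    {M : Subgroup Q | ∃ x, x ∉ A ∧ M = A ⊓ cj x A}.ncard ≤
      sg (Nat.card A) (Nat.card A) + Nat.card A ^ 2 / 120 + w3 (Nat.card A) z := by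
  obtain ⟨𝓜, h1, h2, h3, _, h4⟩ := EPT.transfer h (by norm_num : 0 < 6) fun _ hx => EPT.six_le h hab hx
  exact h1.trans (Cfsg.Agent.H889.Enum.ncard_le_syl hg hB le_rfl h2 h3 h4 hz)

theorem sg_mono {n N : ℕ} (h : n ∣ N) (hN : N ≠ 0) : sg n n ≤ sg N N := by
  have hn : n ≠ 0 := ne_zero_of_dvd_ne_zero hN h
  rw [sg, sg]
  refine le_trans (Finset.sum_le_sum fun s hs => ?_) (Finset.sum_le_sum_of_subset (Nat.primeFactors_mono h hN))
  have hp := Nat.prime_of_mem_primeFactors hs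
  have hv := (Nat.factorization_le_iff_dvd hn hN).2 h s
  refine Nat.mul_le_mul (gal_mono hp.one_lt hv) ?_
  have hle : n ≤ N := Nat.le_of_dvd (Nat.pos_of_ne_zero hN) h
  rcases le_total 6 (s ^ N.factorization s) with h6 | h6
  · rw [max_eq_right h6]
    have h1 : n / max 6 (s ^ n.factorization s) ≤ n / s ^ n.factorization s :=
      Nat.div_le_div_left (le_max_right _ _) (pow_pos hp.pos _)
    refine h1.trans (Nat.le_of_dvd ?_ (Nat.ordCompl_dvd_ordCompl_of_dvd h s))
    exact Nat.ordCompl_pos s hN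
  · rw [max_eq_left h6, max_eq_left ((Nat.pow_le_pow_right hp.pos hv).trans h6)]
    exact Nat.div_le_div_right hle

theorem w3_mono {n N : ℕ} (h : n ≤ N) (z : Bool) : w3 n z ≤ w3 N z := by
  rw [w3, w3]
  split_ifs
  · exact le_rfl
  · exact Nat.div_le_div_right (Nat.pow_le_pow_left h 3)

theorem sum_list (F : ℕ → ℕ → ℕ) (l : List (ℕ × ℕ)) (h1 : ∀ x ∈ l, x.1.Prime ∧ 0 < x.2)
    (h2 : (l.map Prod.fst).Nodup) :
    ∑ s ∈ ((l.map fun x : ℕ × ℕ => x.1 ^ x.2).prod).primeFactors,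
        F s (((l.map fun x : ℕ × ℕ => x.1 ^ x.2).prod).factorization s) =
      (l.map fun x => F x.1 x.2).sum := by
  induction l with
  | nil => simp
  | cons x l ih =>
    have h1' : ∀ y ∈ l, y.1.Prime ∧ 0 < y.2 := fun y hy => h1 y (List.mem_cons_of_mem _ hy)
    rw [List.map_cons, List.nodup_cons] at h2
    obtain ⟨-, i2, i3⟩ := galSum_list l h1' h2.2
    obtain ⟨hx, hx0⟩ := h1 x List.mem_cons_self
    have hpm : ¬ x.1 ∣ (l.map fun x => x.1 ^ x.2).prod := fun hd => h2.1 (i3 _ hx hd)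
    rw [List.map_cons, List.map_cons, List.prod_cons, List.sum_cons, ← ih h1' h2.2]
    have hpe : x.1 ^ x.2 ≠ 0 := pow_ne_zero _ hx.ne_zero
    rw [Nat.primeFactors_mul hpe i2, Nat.primeFactors_prime_pow hx0.ne' hx]
    have h3 : x.1 ∉ (l.map fun x : ℕ × ℕ => x.1 ^ x.2).prod.primeFactors := fun h => hpm (Nat.dvd_of_mem_primeFactors h)
    rw [Finset.singleton_union, Finset.sum_insert h3]
    congr 1
    · congr 1
      rw [Nat.factorization_mul hpe i2, Finsupp.add_apply, hx.factorization_pow, Finsupp.single_eq_same,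
        Nat.factorization_eq_zero_of_not_dvd hpm, add_zero]
    · apply Finset.sum_congr rfl
      intro s hs
      congr 1
      have hsp : s ≠ x.1 := by
        rintro rfl
        exact h3 hs
      rw [Nat.factorization_mul hpe i2, Finsupp.add_apply, hx.factorization_pow, Finsupp.single_eq_of_ne hsp,
        zero_add]

/-- **UB2, sharper form**, `|A|` divides the number with factorisation `l` -/
theorem EPT.ncard_le_syl_list (h : EPT A Γ) (hg : TwoGen.{0})
    (hab : ∀ K : Subgroup Q, K ≤ A → (∀ a ∈ A, ∀ k ∈ K, a * k * a⁻¹ ∈ K) → (∀ a ∈ K, ∀ b ∈ K, a * b = b * a) → K = ⊥)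
    (l : List (ℕ × ℕ)) (h1 : ∀ x ∈ l, x.1.Prime ∧ 0 < x.2) (h2 : (l.map Prod.fst).Nodup)
    {N : ℕ} (hN : (l.map fun x => x.1 ^ x.2).prod = N) (hc : Nat.card A ∣ N) (hB : N < 60 ^ 61)
    {z : Bool} (hz : z = true → ∀ m, 60 ≤ m → ¬ m ^ 2 ∣ N) :
    {M : Subgroup Q | ∃ x, x ∉ A ∧ M = A ⊓ cj x A}.ncard ≤
      (l.map fun x => gal x.1 x.2 * (N / max 6 (x.1 ^ x.2))).sum + N ^ 2 / 120 + w3 N z := by
  obtain ⟨-, i2, -⟩ := galSum_list l h1 h2
  rw [hN] at i2
  have hle : Nat.card A ≤ N := Nat.le_of_dvd (Nat.pos_of_ne_zero i2) hc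
  have h3 := EPT.ncard_le_syl h hg hab (hle.trans_lt hB) (z := z) fun h' m hm hd => hz h' m hm (hd.trans hc)
  refine h3.trans (Nat.add_le_add (Nat.add_le_add ?_ (Nat.div_le_div_right (Nat.pow_le_pow_left hle 2)))
    (w3_mono hle z))
  have h4 := sum_list (fun s v => gal s v * (N / max 6 (s ^ v))) l h1 h2
  rw [hN] at h4
  rw [← h4]
  exact sg_mono hc i2

end ept

/-! ### the bound for `|G|` -/

section bound

open Cfsg.Agent.H209.EPX Cfsg.Agent.H226.EX

variable {G : Type} [Group G] [Finite G] [IsSimpleGroup G] {H N : Subgroup G} {T : Type} [Group T]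

/-- the bound -/
def ubs (l : List (ℕ × ℕ)) (B : ℕ) (z : Bool) : ℕ :=
  (1 + ((l.map fun x => gal x.1 x.2 * (B / max 6 (x.1 ^ x.2))).sum + B ^ 2 / 120 + w3 B z) * (2 * (B / 6))) * B

/-- **the sharper bound for `|G|`**, `|H|` divides the number `B` with factorisation `l` -/
theorem card_le_syl (hg : TwoGen.{0}) {k : ℕ} {e : N ≃* (Fin k → T)} (h : EPS H N e) {B : ℕ}
    (hd : Nat.card H ∣ B) (l : List (ℕ × ℕ)) (h1 : ∀ x ∈ l, x.1.Prime ∧ 0 < x.2) (h2 : (l.map Prod.fst).Nodup)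
    (hB : (l.map fun x => x.1 ^ x.2).prod = B) (hlt : B < 60 ^ 61)
    {z : Bool} (hz : z = true → ∀ m, 60 ≤ m → ¬ m ^ 2 ∣ B) : Nat.card G ≤ ubs l B z := by
  have hB0 : 0 < B := by
    obtain ⟨_, i2, _⟩ := galSum_list l h1 h2
    rw [hB] at i2
    omega
  have h5 : Nat.card H ≤ B := Nat.le_of_dvd hB0 hd
  have h3 := EPT.ncard_le_syl_list (ept_of_eps h) hg (hab_of_eps h) l h1 h2 hB hd hlt hz
  have h4 := index_le_of h3 (Cfsg.Agent.H173.EP.ub1 inferInstance (ept_of_eps h) (by norm_num)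
    fun _ hx => EPT.six_le (ept_of_eps h) (hab_of_eps h) hx) le_rfl
  rw [← H.index_mul_card, ubs]
  refine Nat.mul_le_mul (h4.trans (Nat.add_le_add_left (Nat.mul_le_mul_left _ ?_) 1)) h5
  exact Nat.mul_le_mul_left 2 (Nat.div_le_div_right h5)

end bound

end Cfsg.Agent.H889.Enum

private theorem dce_12e70794d1de : _root_.True := by
  try have : _root_.True := by simp only [_root_.Cfsg.Agent.H889.Enum.ubs.eq_1]
  try have : _root_.True := by simp only [_root_.Cfsg.Agent.H889.Enum.sg.eq_1]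
  try have : _root_.True := by simp only [_root_.Cfsg.Agent.H889.Enum.w3.eq_1]
  exact _root_.True.intro
end

-- part: H929/TB/Bound
section
prune_inst 0x140045000c0012000000000240001c26240001000008000000810040040088200020a82005000103502000080004002002000400400000000a200000002102089040400003000008260099000080400000000000000000000000000000000000000400000
set_option linter.all false
open scoped Cfsg.Agent.FastGrp

-- part: H929/TB/Count
section
/-!
# Elements of order 2 and 3 in `PSL₂(q)` (helper929, paper proof of helper876)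

`two_le`, `two_le_odd`, `three_le` : numbers of elements of order dividing 2, 3.
-/

set_option autoImplicit false
set_option linter.unusedSectionVars false

namespace Cfsg.Agent.H929.TB

open Subgroup Cfsg Matrix
open Cfsg.Agent.BpLin Cfsg.Agent.LieClassical.SLTwoUnipotent
open Cfsg.Agent.ClassicalGeometry.AutPSL.Root Cfsg.Agent.ClassicalGeometry.AutPSL.Auto
  Cfsg.Agent.ClassicalGeometry.AutPSL.Main

/-- the non-trivial elements of order dividing `n` -/
def Dn (G : Type*) [Group G] (n : ℕ) : Set G := {x | x ≠ 1 ∧ x ^ n = 1}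

section Count

variable {F : Type*} [Field F]

local notation "S2" => Matrix.SpecialLinearGroup (Fin 2) F
local notation "P2" => Matrix.ProjectiveSpecialLinearGroup (Fin 2) F

theorem pr_one_iff (A : S2) : (pr A : P2) = 1 ↔ A 0 1 = 0 ∧ A 1 0 = 0 ∧ A 0 0 = A 1 1 := by
  rw [pr_eq_one_iff, Matrix.SpecialLinearGroup.mem_center_iff]
  constructor
  · rintro ⟨r, -, h⟩
    refine ⟨?_, ?_, ?_⟩
    · have := congrFun (congrFun h 0) 1
      simpa using this.symm
    · have := congrFun (congrFun h 1) 0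
      simpa using this.symm
    · have h0 := congrFun (congrFun h 0) 0
      have h1 := congrFun (congrFun h 1) 1
      simp at h0 h1
      rw [← h0, ← h1]
  · rintro ⟨h1, h2, h3⟩
    refine ⟨A 0 0, ?_, ?_⟩
    · have hd := A.det_coe
      rw [det_fin_two] at hd
      rw [h1, ← h3] at hd
      simp only [Fintype.card_fin]
      rw [pow_two]
      linear_combination hd
    · ext i j
      fin_cases i <;> fin_cases j
      · simp
      · simpa only [_root_.Fin.isValue, _root_.Fin.zero_eta, _root_.Fin.mk_one, _root_.Matrix.scalar_apply, _root_.ne_eq, _root_.zero_ne_one, _root_.not_false_eq_true, _root_.Matrix.diagonal_apply_ne] using h1.symm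
      · simpa only [_root_.Fin.isValue, _root_.Fin.mk_one, _root_.Fin.zero_eta, _root_.Matrix.scalar_apply, _root_.ne_eq, _root_.one_ne_zero, _root_.not_false_eq_true, _root_.Matrix.diagonal_apply_ne] using h2.symm
      · simpa using h3

theorem pr_neg (A : S2) : (pr (-A) : P2) = pr A := by
  have h1 : (pr (-1 : S2) : P2) = 1 := by
    rw [pr_one_iff]
    refine ⟨?_, ?_, ?_⟩ <;> simp
  have h2 : -A = (-1) * A := by rw [neg_mul, one_mul]
  rw [h2, map_mul, h1, one_mul]

/-- the elements of trace `t` -/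
def Tr (t : F) : Set S2 := {A | A 0 0 + A 1 1 = t}

theorem lift_two {x : P2} (hx : x ∈ Dn P2 2) : ∃ A : S2, A ∈ Tr (0 : F) ∧ (pr A : P2) = x := by
  obtain ⟨h1, h2⟩ := hx
  obtain ⟨A, rfl⟩ := pr_surjective x
  refine ⟨A, ?_, rfl⟩
  show A 0 0 + A 1 1 = 0
  by_contra ht
  apply h1
  rw [← map_pow, pr_one_iff] at h2
  have m : ∀ i j, (A ^ 2) i j = (A.1 * A.1) i j := by
    intro i j; rw [Matrix.SpecialLinearGroup.coe_pow, pow_two]
  rw [m, m, m, m] at h2
  simp only [Matrix.mul_apply, Fin.sum_univ_two] at h2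
  obtain ⟨q1, q2, q3⟩ := h2
  rw [pr_one_iff]
  refine ⟨?_, ?_, ?_⟩
  · have : (A 0 0 + A 1 1) * A 0 1 = 0 := by linear_combination q1
    exact (mul_eq_zero.1 this).resolve_left ht
  · have : (A 0 0 + A 1 1) * A 1 0 = 0 := by linear_combination q2
    exact (mul_eq_zero.1 this).resolve_left ht
  · have : (A 0 0 + A 1 1) * (A 0 0 - A 1 1) = 0 := by linear_combination q3
    exact sub_eq_zero.1 ((mul_eq_zero.1 this).resolve_left ht)

theorem lift_three {x : P2} (hx : x ∈ Dn P2 3) : ∃ A : S2, A ∈ Tr (1 : F) ∧ (pr A : P2) = x := by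
  obtain ⟨h1, h3⟩ := hx
  obtain ⟨A, rfl⟩ := pr_surjective x
  have hd := A.det_coe
  rw [Matrix.det_fin_two] at hd
  have ht : (A 0 0 + A 1 1) ^ 2 - 1 = 0 := by
    by_contra ht
    apply h1
    rw [← map_pow, pr_one_iff] at h3
    have m : ∀ i j, (A ^ 3) i j = (A.1 * A.1 * A.1) i j := by
      intro i j; rw [Matrix.SpecialLinearGroup.coe_pow, pow_succ, pow_two]
    rw [m, m, m, m] at h3
    simp only [Matrix.mul_apply, Fin.sum_univ_two] at h3
    obtain ⟨q1, q2, q3⟩ := h3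
    rw [pr_one_iff]
    refine ⟨?_, ?_, ?_⟩
    · have : ((A 0 0 + A 1 1) ^ 2 - 1) * A 0 1 = 0 := by linear_combination q1 + A 0 1 * hd
      exact (mul_eq_zero.1 this).resolve_left ht
    · have : ((A 0 0 + A 1 1) ^ 2 - 1) * A 1 0 = 0 := by linear_combination q2 + A 1 0 * hd
      exact (mul_eq_zero.1 this).resolve_left ht
    · have : ((A 0 0 + A 1 1) ^ 2 - 1) * (A 0 0 - A 1 1) = 0 := by
        linear_combination q3 + (A 0 0 - A 1 1) * hd
      exact sub_eq_zero.1 ((mul_eq_zero.1 this).resolve_left ht)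
  have ht2 : (A 0 0 + A 1 1 - 1) * (A 0 0 + A 1 1 + 1) = 0 := by linear_combination ht
  rcases mul_eq_zero.1 ht2 with h | h
  · exact ⟨A, sub_eq_zero.1 h, rfl⟩
  · refine ⟨-A, ?_, pr_neg A⟩
    show (-A.1) 0 0 + (-A.1) 1 1 = 1
    rw [Matrix.neg_apply, Matrix.neg_apply]
    linear_combination -h

variable [Fintype F]

theorem ncard_quad_le (t : F) : {a : F | a * (t - a) = 1}.ncard ≤ 2 := by
  rcases {a : F | a * (t - a) = 1}.eq_empty_or_nonempty with h | ⟨a, ha⟩
  · rw [h, Set.ncard_empty]; exact Nat.zero_le _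
  · refine (Set.ncard_le_ncard (t := {a, t - a}) ?_ (Set.toFinite _)).trans (Set.ncard_insert_le _ _ |>.trans ?_)
    · intro b hb
      have h1 : (b - a) * (b - (t - a)) = 0 := by
        have h2 : a * (t - a) = 1 := ha
        have h3 : b * (t - b) = 1 := hb
        linear_combination h2 - h3
      rcases mul_eq_zero.1 h1 with h2 | h2
      · left; exact sub_eq_zero.1 h2
      · right; exact sub_eq_zero.1 h2
    · rw [Set.ncard_singleton]

theorem ncard_Tr_le (t : F) : (Tr t).ncard ≤ Fintype.card F ^ 2 + Fintype.card F := by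
  classical
  have hu : Tr t ⊆ {A : S2 | A ∈ Tr t ∧ A 0 1 ≠ 0} ∪ {A : S2 | A ∈ Tr t ∧ A 0 1 = 0} := by
    intro A hA
    by_cases h : A 0 1 = 0
    · exact Or.inr ⟨hA, h⟩
    · exact Or.inl ⟨hA, h⟩
  have key : ∀ A B : S2, A ∈ Tr t → B ∈ Tr t → A 0 0 = B 0 0 → A 0 1 = B 0 1 → A 1 0 = B 1 0 → A = B := by
    intro A B hA hB e1 e2 e3
    have hA' : A 0 0 + A 1 1 = t := hA
    have hB' : B 0 0 + B 1 1 = t := hB
    apply Subtype.ext
    ext i j
    fin_cases i <;> fin_cases j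
    · exact e1
    · exact e2
    · exact e3
    · show A 1 1 = B 1 1
      linear_combination hA' - hB' - e1
  have h1 : {A : S2 | A ∈ Tr t ∧ A 0 1 ≠ 0}.ncard ≤ Fintype.card F * (Fintype.card F - 1) := by
    have h2 : ((Finset.univ : Finset F) ×ˢ (Finset.univ.erase (0 : F))).card =
        Fintype.card F * (Fintype.card F - 1) := by
      rw [Finset.card_product, Finset.card_erase_of_mem (Finset.mem_univ _), Finset.card_univ]
    rw [← h2, ← Set.ncard_coe_finset]
    refine Set.ncard_le_ncard_of_injOn (fun A : S2 => (A 0 0, A 0 1)) ?_ ?_ (Finset.finite_toSet _)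
    · rintro A ⟨-, hA⟩
      rw [Finset.mem_coe, Finset.mem_product]
      exact ⟨Finset.mem_univ _, Finset.mem_erase.2 ⟨hA, Finset.mem_univ _⟩⟩
    · rintro A ⟨hA, hA1⟩ B ⟨hB, hB1⟩ e
      simp only [Prod.mk.injEq] at e
      obtain ⟨e1, e2⟩ := e
      refine key A B hA hB e1 e2 ?_
      have hA' : A 0 0 + A 1 1 = t := hA
      have hB' : B 0 0 + B 1 1 = t := hB
      have dA := A.det_coe
      have dB := B.det_coe
      rw [Matrix.det_fin_two] at dA dB
      have h3 : A 0 1 * (A 1 0 - B 1 0) = 0 := by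
        have e3 : A 1 1 = B 1 1 := by linear_combination hA' - hB' - e1
        have dB' : A 0 0 * A 1 1 - A 0 1 * B 1 0 = 1 := by
          rw [e1, e2, e3]
          exact dB
        linear_combination dB' - dA
      exact sub_eq_zero.1 ((mul_eq_zero.1 h3).resolve_left hA1)
  have h2 : {A : S2 | A ∈ Tr t ∧ A 0 1 = 0}.ncard ≤ 2 * Fintype.card F := by
    have h3 : ({a : F | a * (t - a) = 1}.toFinset ×ˢ (Finset.univ : Finset F)).card ≤
        2 * Fintype.card F := by
      rw [Finset.card_product, Finset.card_univ]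
      apply Nat.mul_le_mul_right
      have := ncard_quad_le t
      rwa [← Set.ncard_eq_toFinset_card'] 
    refine le_trans ?_ h3
    rw [← Set.ncard_coe_finset]
    refine Set.ncard_le_ncard_of_injOn (fun A : S2 => (A 0 0, A 1 0)) ?_ ?_ (Finset.finite_toSet _)
    · rintro A ⟨hA, hA1⟩
      rw [Finset.mem_coe, Finset.mem_product, Set.mem_toFinset]
      refine ⟨?_, Finset.mem_univ _⟩
      have dA := A.det_coe
      rw [Matrix.det_fin_two] at dA
      have hA' : A 0 0 + A 1 1 = t := hA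
      show A 0 0 * (t - A 0 0) = 1
      rw [hA1] at dA
      linear_combination dA - A 0 0 * hA'
    · rintro A ⟨hA, hA1⟩ B ⟨hB, hB1⟩ e
      simp only [Prod.mk.injEq] at e
      obtain ⟨e1, e2⟩ := e
      exact key A B hA hB e1 (hA1.trans hB1.symm) e2
  have hq : 1 ≤ Fintype.card F := Fintype.card_pos
  refine (Set.ncard_le_ncard hu (Set.toFinite _)).trans ((Set.ncard_union_le _ _).trans ?_)
  refine (Nat.add_le_add h1 h2).trans ?_
  obtain ⟨c, hc⟩ : ∃ c, Fintype.card F = c + 1 := ⟨_, (Nat.sub_add_cancel hq).symm⟩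
  rw [hc, Nat.add_sub_cancel]
  linarith only []

theorem three_le : (Dn P2 3).ncard ≤ Fintype.card F ^ 2 + Fintype.card F := by
  have h1 : Dn P2 3 ⊆ pr '' (Tr (1 : F)) := fun x hx => by
    obtain ⟨A, hA, e⟩ := lift_three hx
    exact ⟨A, hA, e⟩
  exact (Set.ncard_le_ncard h1 (Set.toFinite _)).trans ((Set.ncard_image_le (Set.toFinite _)).trans (ncard_Tr_le 1))

theorem two_le_odd (h2 : (2 : F) ≠ 0) : 2 * (Dn P2 2).ncard ≤ Fintype.card F ^ 2 + Fintype.card F := by
  have hex : ∀ x : P2, ∃ A : S2, (x ∈ Dn P2 2 → A ∈ Tr (0 : F)) ∧ (pr A : P2) = x := by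
    intro x
    by_cases hx : x ∈ Dn P2 2
    · obtain ⟨A, hA, e⟩ := lift_two hx
      exact ⟨A, fun _ => hA, e⟩
    · obtain ⟨A, e⟩ := pr_surjective x
      exact ⟨A, fun h => absurd h hx, e⟩
  choose s hs1 hs2 using hex
  have hneg : ∀ A : S2, A ≠ -A := by
    intro A h
    have h3 : ∀ i j, A i j = 0 := by
      intro i j
      have h4 : A i j = (-A) i j := by rw [← h]
      have h5 : (-A) i j = - A i j := rfl
      rw [h5] at h4
      have h6 : (2 : F) * A i j = 0 := by linear_combination h4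
      exact (mul_eq_zero.1 h6).resolve_left h2
    have hd := A.det_coe
    rw [Matrix.det_fin_two, h3, h3, h3] at hd
    simp at hd
  have e1 : (s '' Dn P2 2).ncard = (Dn P2 2).ncard :=
    Set.ncard_image_of_injOn fun x _ y _ e => by rw [← hs2 x, ← hs2 y, e]
  have e2 : ((fun x => -(s x)) '' Dn P2 2).ncard = (Dn P2 2).ncard :=
    Set.ncard_image_of_injOn fun x _ y _ e => by
      have e' : -(s x) = -(s y) := e
      rw [← hs2 x, ← hs2 y, ← pr_neg (s x), ← pr_neg (s y), e']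
  have hdis : Disjoint (s '' Dn P2 2) ((fun x => -(s x)) '' Dn P2 2) := by
    rw [Set.disjoint_left]
    rintro _ ⟨x, -, rfl⟩ ⟨y, -, h⟩
    have h' : -(s y) = s x := h
    have h3 : x = y := by rw [← hs2 x, ← h', pr_neg, hs2]
    rw [h3] at h'
    exact hneg _ h'.symm
  have hsub : (s '' Dn P2 2) ∪ ((fun x => -(s x)) '' Dn P2 2) ⊆ Tr (0 : F) := by
    rintro _ (⟨x, hx, rfl⟩ | ⟨x, hx, rfl⟩)
    · exact hs1 x hx
    · have h3 : (s x) 0 0 + (s x) 1 1 = 0 := hs1 x hx
      show (-(s x).1) 0 0 + (-(s x).1) 1 1 = 0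
      rw [Matrix.neg_apply, Matrix.neg_apply]
      linear_combination -h3
  have h3 := Set.ncard_le_ncard hsub (Set.toFinite _)
  rw [Set.ncard_union_eq hdis (Set.toFinite _) (Set.toFinite _), e1, e2] at h3
  have h4 := ncard_Tr_le (0 : F)
  omega

end Count

end Cfsg.Agent.H929.TB
end

-- part: H929/TB/Adm
section
/-!
# Admissible subgroups of `PSL₂(q)`, `q = p` or `q = p^f`, `f` prime (helper929, paper proof of helper876)

`Good K` : `K` is the normaliser of `⟨a, b⟩` with `a² = 1`, `b² = 1` or `b³ = 1`.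
`adm_cases` : an admissible subgroup is good or the normaliser of a Sylow `p`-subgroup.
-/

set_option autoImplicit false
set_option linter.unusedSectionVars false

namespace Cfsg.Agent.H929.TB

open Subgroup Cfsg Matrix
open Cfsg.Agent.BpLin Cfsg.Agent.LieClassical.SLTwoUnipotent
open Cfsg.Agent.ClassicalGeometry.AutPSL.Root Cfsg.Agent.ClassicalGeometry.AutPSL.Auto
  Cfsg.Agent.ClassicalGeometry.AutPSL.Main
open Cfsg.Agent.H417.EP

section Good

variable {L : Type*} [Group L]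

/-- normaliser of a subgroup generated by an involution and an element of order 2 or 3 -/
def Good (K : Subgroup L) : Prop :=
  ∃ a b : L, a ∈ Dn L 2 ∧ (b ∈ Dn L 2 ∨ b ∈ Dn L 3) ∧ K = normalizer ((_root_.Subgroup.closure {a, b} : Subgroup L) : Set L)

theorem good_of_char {K : Subgroup L} (hK : Adm K) {X : Type*} [Group X] (e : K ≃* X) {a b : X} (ha : a ∈ Dn X 2)
    (hb : b ∈ Dn X 2 ∨ b ∈ Dn X 3) (hchar : ∀ φ : MulAut X, ∀ y ∈ _root_.Subgroup.closure ({a, b} : Set X), φ y ∈ closure ({a, b} : Set X)) :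
    Good K := by
  let f : X →* L := K.subtype.comp e.symm.toMonoidHom
  have hf : Function.Injective f := K.subtype_injective.comp e.symm.injective
  have hfK : ∀ x, f x ∈ K := fun x => (e.symm x).2
  have hD : ∀ (n : ℕ) (x : X), x ∈ Dn X n → f x ∈ Dn L n := by
    intro n x hx
    refine ⟨fun h => hx.1 (hf (by rw [h, map_one])), ?_⟩
    rw [← map_pow, hx.2, map_one]
  have hcl : _root_.Subgroup.closure ({f a, f b} : Set L) = (_root_.Subgroup.closure ({a, b} : Set X)).map f := by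
    rw [MonoidHom.map_closure, Set.image_pair]
  have hfe : ∀ y : K, f (e y) = y := fun y => by
    show ((e.symm (e y) : K) : L) = y
    rw [MulEquiv.symm_apply_apply]
  refine ⟨f a, f b, hD 2 a ha, hb.imp (hD 2 b) (hD 3 b), ?_⟩
  have hle : closure ({f a, f b} : Set L) ≤ K := by
    rw [hcl]
    rintro _ ⟨x, -, rfl⟩
    exact hfK x
  have hmemc : ∀ y : K, (y : L) ∈ closure ({f a, f b} : Set L) ↔ e y ∈ closure ({a, b} : Set X) := by
    intro y
    rw [hcl]
    constructor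
    · rintro ⟨x, hx, hxy⟩
      have : x = e y := hf (by rw [hfe, hxy])
      rw [← this]
      exact hx
    · intro h
      exact ⟨e y, h, hfe y⟩
  have hch : ∀ φ : MulAut K, ∀ y : K, (y : L) ∈ closure ({f a, f b} : Set L) →
      ((φ y : K) : L) ∈ closure ({f a, f b} : Set L) := by
    intro φ y hy
    rw [hmemc] at hy ⊢
    have h1 := hchar ((e.symm.trans φ).trans e) (e y) hy
    have h2 : ((e.symm.trans φ).trans e) (e y) = e (φ y) := by
      show e (φ (e.symm (e y))) = e (φ y)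
      rw [MulEquiv.symm_apply_apply]
    rw [← h2]
    exact h1
  have hne : closure ({f a, f b} : Set L) ≠ ⊥ := by
    intro h
    have h1 : f a ∈ _root_.Subgroup.closure ({f a, f b} : Set L) := _root_.Subgroup.subset_closure (Set.mem_insert _ _)
    rw [h, mem_bot] at h1
    exact (hD 2 a ha).1 h1
  apply le_antisymm
  · intro g hg
    have key : ∀ g ∈ K, ∀ x ∈ closure ({f a, f b} : Set L), g * x * g⁻¹ ∈ closure ({f a, f b} : Set L) := by
      intro g hg x hx
      exact hch (MulAut.conj ⟨g, hg⟩) ⟨x, hle hx⟩ hx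
    rw [mem_normalizer_iff]
    intro x
    refine ⟨key g hg x, fun hx => ?_⟩
    have h1 := key g⁻¹ (K.inv_mem hg) _ hx
    have h2 : g⁻¹ * (g * x * g⁻¹) * g⁻¹⁻¹ = x := by group
    rwa [h2] at h1
  · intro g hg
    exact hK.norm _ hle hne hch g fun x hx => (mem_normalizer_iff.1 hg x).1 hx

theorem good_of_top {K : Subgroup L} (hK : Adm K) {X : Type*} [Group X] (e : K ≃* X) {a b : X} (ha : a ∈ Dn X 2)
    (hb : b ∈ Dn X 2 ∨ b ∈ Dn X 3) (htop : _root_.Subgroup.closure ({a, b} : Set X) = ⊤) : Good K :=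
  good_of_char hK e ha hb fun _ _ _ => by rw [htop]; exact mem_top _

theorem Good.mem {K : Subgroup L} (h : Good K) : ∃ a ∈ K, a ∈ Dn L 2 := by
  obtain ⟨a, b, ha, -, rfl⟩ := h
  exact ⟨a, le_normalizer (_root_.Subgroup.subset_closure (Set.mem_insert _ _)), ha⟩

theorem good_dihedral {K : Subgroup L} (hK : Adm K) {k : ℕ} (e : K ≃* DihedralGroup k) : Good K := by
  have hsr : ∀ i : ZMod k, DihedralGroup.sr i ∈ Dn (DihedralGroup k) 2 := fun i =>
    ⟨fun h => by (rw [DihedralGroup.one_def] at h; exact nomatch h), by rw [sq, DihedralGroup.sr_mul_self]⟩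
  refine good_of_top hK e (a := DihedralGroup.sr 0) (b := DihedralGroup.sr 1) (hsr 0) (Or.inl (hsr 1)) ?_
  set C := _root_.Subgroup.closure ({DihedralGroup.sr 0, DihedralGroup.sr 1} : Set (DihedralGroup k)) with hC
  have h0 : DihedralGroup.sr (0 : ZMod k) ∈ C := _root_.Subgroup.subset_closure (Set.mem_insert _ _)
  have h1 : DihedralGroup.sr (1 : ZMod k) ∈ C := _root_.Subgroup.subset_closure (Set.mem_insert_of_mem _ rfl)
  have hr1 : DihedralGroup.r (1 : ZMod k) ∈ C := by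
    have := C.mul_mem h0 h1
    rwa [DihedralGroup.sr_mul_sr, sub_zero] at this
  have hr : ∀ i : ZMod k, DihedralGroup.r i ∈ C := by
    intro i
    obtain ⟨z, rfl⟩ := ZMod.intCast_surjective i
    rw [← DihedralGroup.r_one_zpow]
    exact C.zpow_mem hr1 z
  rw [eq_top_iff]
  rintro (i | i) -
  · exact hr i
  · have := C.mul_mem h0 (hr i)
    rwa [DihedralGroup.sr_mul_r, zero_add] at this

/-- the subgroup generated by two commuting involutions, given by a characteristic property -/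
theorem char_of_prop {X : Type*} [Group X] {a b : X} (C : X → Prop) (hC : ∀ (φ : MulAut X) (x : X), C x → C (φ x))
    (h : ∀ x, x ∈ _root_.Subgroup.closure ({a, b} : Set X) ↔ C x) (φ : MulAut X) (y : X) (hy : y ∈ closure ({a, b} : Set X)) :
    φ y ∈ closure ({a, b} : Set X) := (h _).2 (hC φ y ((h y).1 hy))

theorem mem_closure_pair_of {X : Type*} [Group X] {a b : X} {C : X → Prop} (h1 : ∀ x, C x → x = 1 ∨ x = a ∨ x = b ∨ x = a * b)
    (ha : a * a = 1) (hb : b * b = 1) (hab : a * b = b * a) (c1 : C 1) (ca : C a) (cb : C b) (cab : C (a * b)) (x : X) :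
    x ∈ _root_.Subgroup.closure ({a, b} : Set X) ↔ C x := by
  have hA : a ∈ _root_.Subgroup.closure ({a, b} : Set X) := _root_.Subgroup.subset_closure (Set.mem_insert _ _)
  have hB : b ∈ closure ({a, b} : Set X) := _root_.Subgroup.subset_closure (Set.mem_insert_of_mem _ rfl)
  constructor
  · intro hx
    have hai : a⁻¹ = a := inv_eq_of_mul_eq_one_right ha
    have hbi : b⁻¹ = b := inv_eq_of_mul_eq_one_right hb
    have h3 : a * b * a = b := by rw [mul_assoc, ← hab, ← mul_assoc, ha, one_mul]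
    let V : Subgroup X :=
      { carrier := {x | x = 1 ∨ x = a ∨ x = b ∨ x = a * b}
        one_mem' := Or.inl rfl
        mul_mem' := by
          rintro x y (rfl | rfl | rfl | rfl) (rfl | rfl | rfl | rfl)
          · left; rw [one_mul]
          · right; left; rw [one_mul]
          · right; right; left; rw [one_mul]
          · right; right; right; rw [one_mul]
          · right; left; rw [mul_one]
          · left; exact ha
          · right; right; right; rfl
          · right; right; left; rw [← mul_assoc, ha, one_mul]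
          · right; right; left; rw [mul_one]
          · right; right; right; exact hab.symm
          · left; exact hb
          · right; left; rw [hab, ← mul_assoc, hb, one_mul]
          · right; right; right; rw [mul_one]
          · right; right; left; exact h3
          · right; left; rw [mul_assoc, hb, mul_one]
          · left; rw [← mul_assoc, h3, hb]
        inv_mem' := by
          rintro x (rfl | rfl | rfl | rfl)
          · left; exact inv_one
          · right; left; exact hai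
          · right; right; left; exact hbi
          · right; right; right; rw [_root_.mul_inv_rev, hai, hbi, hab] }
    have h2 : _root_.Subgroup.closure ({a, b} : Set X) ≤ V := by
      rw [closure_le]
      rintro x (rfl | rfl)
      · exact Or.inr (Or.inl rfl)
      · exact Or.inr (Or.inr (Or.inl rfl))
    rcases h2 hx with h | h | h | h
    · rw [h]; exact c1
    · rw [h]; exact ca
    · rw [h]; exact cb
    · rw [h]; exact cab
  · intro hx
    rcases h1 x hx with h | h | h | h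
    · rw [h]; exact one_mem _
    · rw [h]; exact hA
    · rw [h]; exact hB
    · rw [h]; exact mul_mem hA hB

set_option synthInstance.maxHeartbeats 400000 in
set_option synthInstance.maxSize 4096 in
theorem good_a4 {K : Subgroup L} (hK : Adm K) (e : K ≃* alternatingGroup (Fin 4)) : Good K := by
  obtain ⟨a, b, h1, h2, h3, h4, h5, h6⟩ : ∃ a b : alternatingGroup (Fin 4), a ≠ 1 ∧ b ≠ 1 ∧ a * a = 1 ∧ b * b = 1 ∧
      a * b = b * a ∧ ∀ x : alternatingGroup (Fin 4), x * x = 1 → x = 1 ∨ x = a ∨ x = b ∨ x = a * b := by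
    (set_option synthInstance.maxSize 9000 in open scoped Cfsg.Agent.Lib.FastPerm in decide +kernel)
  refine good_of_char hK e (a := a) (b := b) ⟨h1, by rw [sq, h3]⟩ (Or.inl ⟨h2, by rw [sq, h4]⟩)
    (char_of_prop (fun x => x * x = 1) (fun φ x hx => by rw [← map_mul, hx, map_one]) ?_)
  exact mem_closure_pair_of h6 h3 h4 h5 (one_mul 1) h3 h4
    (by rw [mul_assoc, ← mul_assoc b, ← h5, mul_assoc, h4, mul_one, h3])

set_option synthInstance.maxHeartbeats 400000 in
set_option synthInstance.maxSize 4096 in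
theorem good_s4 {K : Subgroup L} (hK : Adm K) (e : K ≃* Equiv.Perm (Fin 4)) : Good K := by
  obtain ⟨a, b, h1, h2, h3, h4, h5, ⟨c, hc⟩, ⟨d, hd⟩, ⟨f, hf⟩, h6⟩ : ∃ a b : Equiv.Perm (Fin 4), a ≠ 1 ∧ b ≠ 1 ∧
      a * a = 1 ∧ b * b = 1 ∧ a * b = b * a ∧ (∃ y, y * y = a) ∧ (∃ y, y * y = b) ∧ (∃ y, y * y = a * b) ∧
      ∀ x : Equiv.Perm (Fin 4), (x * x = 1 ∧ ∃ y, y * y = x) → x = 1 ∨ x = a ∨ x = b ∨ x = a * b := by
    (set_option synthInstance.maxSize 9000 in open scoped Cfsg.Agent.Lib.FastPerm in decide +kernel)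
  refine good_of_char hK e (a := a) (b := b) ⟨h1, by rw [sq, h3]⟩ (Or.inl ⟨h2, by rw [sq, h4]⟩)
    (char_of_prop (fun x => x * x = 1 ∧ ∃ y, y * y = x) (fun φ x hx => ?_) ?_)
  · obtain ⟨hx, y, rfl⟩ := hx
    exact ⟨by rw [← map_mul, hx, map_one], φ y, by rw [← map_mul]⟩
  exact mem_closure_pair_of h6 h3 h4 h5 ⟨one_mul 1, 1, one_mul 1⟩ ⟨h3, c, hc⟩ ⟨h4, d, hd⟩
    ⟨by rw [mul_assoc, ← mul_assoc b, ← h5, mul_assoc, h4, mul_one, h3], f, hf⟩

theorem good_a5 {K : Subgroup L} (hK : Adm K) (e : K ≃* alternatingGroup (Fin 5)) : Good K := by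
  obtain ⟨a, b, h1, h2, h3, h4, h5, h6⟩ : ∃ a b : alternatingGroup (Fin 5), a ≠ 1 ∧ a ^ 2 = 1 ∧ b ≠ 1 ∧ b ^ 3 = 1 ∧
      a * b ≠ 1 ∧ (a * b) ^ 5 = 1 := by
    (set_option synthInstance.maxSize 9000 in open scoped Cfsg.Agent.Lib.FastPerm in decide +kernel)
  refine good_of_top hK e (a := a) (b := b) ⟨h1, h2⟩ (Or.inr ⟨h3, h4⟩) ?_
  set H := _root_.Subgroup.closure ({a, b} : Set (alternatingGroup (Fin 5))) with hH
  have ha : a ∈ H := _root_.Subgroup.subset_closure (Set.mem_insert _ _)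
  have hb : b ∈ H := _root_.Subgroup.subset_closure (Set.mem_insert_of_mem _ rfl)
  have hs : IsSimpleGroup (alternatingGroup (Fin 5)) := alternatingGroup.isSimpleGroup (by simp)
  have hc : Nat.card (alternatingGroup (Fin 5)) = 60 := by
    rw [Nat.card_eq_fintype_card]
    (set_option synthInstance.maxSize 9000 in open scoped Cfsg.Agent.Lib.FastPerm in decide +kernel)
  have ho : ∀ (y : alternatingGroup (Fin 5)) (n : ℕ), n.Prime → y ≠ 1 → y ^ n = 1 → y ∈ H → n ∣ Nat.card H := by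
    intro y n hn hy hy' hyH
    have : Fact n.Prime := ⟨hn⟩
    rw [← orderOf_eq_prime hy' hy]
    exact Subgroup.orderOf_dvd_natCard H hyH
  have k2 := ho _ 2 Nat.prime_two h1 h2 ha
  have k3 := ho _ 3 Nat.prime_three h3 h4 hb
  have k5 := ho _ 5 Nat.prime_five h5 h6 (H.mul_mem ha hb)
  have hmul := H.card_mul_index
  rw [hc] at hmul
  have h30 : 30 ∣ Nat.card H := by omega
  obtain ⟨k, hk⟩ := h30
  rw [hk] at hmul
  have hidx : H.index = 1 ∨ H.index = 2 := by
    have h3 : k * H.index = 2 := by linarith only [hmul]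
    have h4 : H.index ∣ 2 := ⟨k, by rw [← h3, mul_comm]⟩
    exact (Nat.dvd_prime Nat.prime_two).1 h4
  rcases hidx with h | h
  · exact Subgroup.index_eq_one.1 h
  · have hn := Subgroup.normal_of_index_eq_two h
    rcases hn.eq_bot_or_eq_top with h5 | h5
    · exfalso
      rw [h5, Subgroup.index_bot, hc] at h
      omega
    · exact h5

end Good

section Field

variable {K₀ : Type*} [Field K₀] [Fintype K₀]

/-- The Weyl element `!![0, -1; 1, 0]`. -/
def w0 : _root_.Matrix.SpecialLinearGroup (Fin 2) K₀ := ⟨!![0, -1; 1, 0], by simp⟩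

/-- `!![0, -1; 1, 1]` -/
def b0 : _root_.Matrix.SpecialLinearGroup (Fin 2) K₀ := ⟨!![0, -1; 1, 1], by simp⟩

theorem w0_sq : (w0 : _root_.Matrix.SpecialLinearGroup (Fin 2) K₀) ^ 2 = -1 := by
  apply Subtype.ext
  rw [Matrix.SpecialLinearGroup.coe_pow, sq]
  ext i j
  (revert i j; simp only [w0, Matrix.mul_apply, Fin.sum_univ_two, _root_.Fin.forall_fin_succ, _root_.Matrix.of_apply, _root_.Matrix.cons_val', _root_.Matrix.cons_val_fin_one, Fin.isValue, _root_.Matrix.cons_val_zero, _root_.Matrix.cons_val_one, _root_.Matrix.SpecialLinearGroup.coe_neg, _root_.Matrix.SpecialLinearGroup.coe_one, _root_.Matrix.neg_apply, _root_.MulZeroClass.mul_zero, _root_.mul_one, _root_.zero_add, _root_.Matrix.cons_val_succ, _root_.mul_neg, _root_.add_zero, _root_.neg_inj, _root_.IsEmpty.forall_iff, _root_.and_true, _root_.Matrix.one_apply_eq, Nat.reduceAdd, _root_.Fin.succ_zero_eq_one, _root_.ne_eq, _root_.zero_ne_one, _root_.not_false_eq_true, _root_.Matrix.one_apply_ne,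 _root_.and_self, _root_.Fin.succ_ne_zero, _root_.neg_zero, _root_.true_and])

theorem b0_cube : (b0 : _root_.Matrix.SpecialLinearGroup (Fin 2) K₀) ^ 3 = -1 := by
  apply Subtype.ext
  rw [Matrix.SpecialLinearGroup.coe_pow, pow_succ, sq]
  ext i j
  (revert i j; simp only [b0, Matrix.mul_apply, Fin.sum_univ_two, _root_.Fin.forall_fin_succ, _root_.Matrix.cons_mul, _root_.Nat.succ_eq_add_one, Nat.reduceAdd, _root_.Matrix.vecMul_cons, _root_.Matrix.head_cons, _root_.zero_smul, _root_.Matrix.tail_cons, _root_.neg_smul, _root_.one_smul, _root_.Matrix.neg_cons, _root_.Matrix.neg_empty, _root_.Matrix.empty_vecMul, _root_.add_zero, _root_.zero_add, _root_.Matrix.add_cons, _root_.neg_add_cancel, _root_.Matrix.empty_add_empty, _root_.Matrix.empty_mul, _root_.Equiv.symm_apply_apply, _root_.Matrix.of_apply, _root_.Matrix.cons_val', _root_.Matrix.cons_val_fin_one, Fin.isValue, _root_.Matrix.cons_val_zero, _root_.Matrix.cons_val_one, _root_.Matrix.SpecialLinearGroup.coe_neg,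 _root_.Matrix.SpecialLinearGroup.coe_one, _root_.Matrix.neg_apply, _root_.MulZeroClass.mul_zero, _root_.mul_one, _root_.Matrix.cons_val_succ, _root_.mul_neg, _root_.IsEmpty.forall_iff, _root_.and_true, _root_.Matrix.one_apply_eq, _root_.neg_neg, _root_.add_neg_cancel, _root_.Fin.succ_zero_eq_one, _root_.ne_eq, _root_.zero_ne_one, _root_.not_false_eq_true, _root_.Matrix.one_apply_ne, _root_.neg_zero, _root_.and_self, _root_.Fin.succ_ne_zero, _root_.neg_inj, _root_.true_and])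

theorem b0_eq : (b0 : _root_.Matrix.SpecialLinearGroup (Fin 2) K₀) = w0 * u 1 := by
  apply Subtype.ext
  rw [Matrix.SpecialLinearGroup.coe_mul, coe_u]
  ext i j
  (revert i j; simp only [b0, w0, Matrix.mul_apply, Fin.sum_univ_two, _root_.Fin.forall_fin_succ, _root_.Matrix.of_apply, _root_.Matrix.cons_val', _root_.Matrix.cons_val_fin_one, Fin.isValue, _root_.Matrix.cons_val_zero, _root_.Matrix.cons_val_one, _root_.mul_one, _root_.MulZeroClass.mul_zero, _root_.add_zero, _root_.Matrix.cons_val_succ, _root_.forall_const, _root_.true_and, _root_.zero_add, _root_.implies_true, _root_.and_self])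

theorem w0_conj (x : K₀) : (w0 : _root_.Matrix.SpecialLinearGroup (Fin 2) K₀) * u x = l (-x) * w0 := by
  apply Subtype.ext
  rw [Matrix.SpecialLinearGroup.coe_mul, Matrix.SpecialLinearGroup.coe_mul, coe_u, coe_l]
  ext i j
  (revert i j; simp only [w0, Matrix.mul_apply, Fin.sum_univ_two, _root_.Fin.forall_fin_succ, _root_.Matrix.of_apply, _root_.Matrix.cons_val', _root_.Matrix.cons_val_fin_one, Fin.isValue, _root_.Matrix.cons_val_zero, _root_.Matrix.cons_val_one, _root_.mul_one, _root_.MulZeroClass.mul_zero, _root_.add_zero, _root_.zero_add, _root_.Matrix.cons_val_succ, _root_.mul_neg, _root_.forall_const, _root_.true_and, _root_.MulZeroClass.zero_mul, _root_.one_mul, _root_.neg_neg, _root_.implies_true, _root_.and_self])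

/-- `SL₂(p) = ⟨w0, b0⟩` -/
theorem closure_eq_top {p : ℕ} (hp : p.Prime) (hc : Fintype.card K₀ = p) :
    _root_.Subgroup.closure ({w0, b0} : Set (_root_.Matrix.SpecialLinearGroup (Fin 2) K₀)) = ⊤ := by
  set C := _root_.Subgroup.closure ({w0, b0} : Set (_root_.Matrix.SpecialLinearGroup (Fin 2) K₀)) with hC
  have hw : w0 ∈ C := _root_.Subgroup.subset_closure (Set.mem_insert _ _)
  have hb : b0 ∈ C := _root_.Subgroup.subset_closure (Set.mem_insert_of_mem _ rfl)
  have hu1 : u (1 : K₀) ∈ C := by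
    have h := C.mul_mem (C.inv_mem hw) hb
    rwa [b0_eq, inv_mul_cancel_left] at h
  have hun : ∀ n : ℤ, u ((n : K₀)) ∈ C := by
    have hn : ∀ n : ℕ, u ((n : K₀)) ∈ C := by
      intro n
      induction n with
      | zero => rw [Nat.cast_zero, u_zero]; exact one_mem _
      | succ n ih => rw [Nat.cast_succ, u_add]; exact C.mul_mem ih hu1
    intro n
    rcases Int.eq_nat_or_neg n with ⟨m, rfl | rfl⟩
    · rw [Int.cast_natCast]; exact hn m
    · rw [Int.cast_neg, Int.cast_natCast, u_neg]; exact C.inv_mem (hn m)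
  have hsurj : ∀ x : K₀, ∃ n : ℤ, (n : K₀) = x := by
    intro x
    have : Fact p.Prime := ⟨hp⟩
    have h1 : AddSubgroup.zmultiples (1 : K₀) = ⊤ :=
      zmultiples_eq_top_of_prime_card (p := p) (by rw [Nat.card_eq_fintype_card, hc]) one_ne_zero
    have h2 : x ∈ AddSubgroup.zmultiples (1 : K₀) := by rw [h1]; exact AddSubgroup.mem_top x
    obtain ⟨n, hn⟩ := AddSubgroup.mem_zmultiples_iff.1 h2
    refine ⟨n, ?_⟩
    rw [← hn, zsmul_eq_mul, mul_one]
  have hu : ∀ x : K₀, u x ∈ C := by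
    intro x
    obtain ⟨n, rfl⟩ := hsurj x
    exact hun n
  refine eq_top_of_u_mem_of_l_mem C hu fun x => ?_
  have h1 := w0_conj (-x)
  rw [neg_neg] at h1
  have h2 : l x = w0 * u (-x) * w0⁻¹ := by rw [h1, mul_inv_cancel_right]
  rw [h2]
  exact C.mul_mem (C.mul_mem hw (hu _)) (C.inv_mem hw)

theorem u_pow_card (x : K₀) {p : ℕ} [CharP K₀ p] : (u x : _root_.Matrix.SpecialLinearGroup (Fin 2) K₀) ^ p = 1 :=
  Cfsg.Agent.H947.Sy.u_pow x

theorem l_pow_card (x : K₀) {p : ℕ} [CharP K₀ p] : (l x : _root_.Matrix.SpecialLinearGroup (Fin 2) K₀) ^ p = 1 := by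
  have h1 := w0_conj (-x)
  rw [neg_neg] at h1
  have h2 : l x = w0 * u (-x) * w0⁻¹ := by rw [h1, mul_inv_cancel_right]
  rw [h2, conj_pow, u_pow_card, mul_one, mul_inv_cancel]

theorem good_field {L : Type*} [Group L] {K : Subgroup L} (hK : Adm K) {p : ℕ} (hp : p.Prime) (hc : Fintype.card K₀ = p)
    {X : Type*} [Group X] (e : K ≃* X) (π : _root_.Matrix.SpecialLinearGroup (Fin 2) K₀ →* X)
    (hker : ∀ A, π A = 1 ↔ A 0 1 = 0 ∧ A 1 0 = 0 ∧ A 0 0 = A 1 1)
    (hch : ∀ y : X, y ^ p = 1 → y ∈ π.range) : Good K := by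
  have : Fact p.Prime := ⟨hp⟩
  have : CharP K₀ p := charP_of_card_eq_prime hc
  have hneg : π (-1) = 1 := by
    rw [hker]
    refine ⟨?_, ?_, ?_⟩ <;> simp
  have hcl : _root_.Subgroup.closure ({π w0, π b0} : Set X) = π.range := by
    rw [← Set.image_pair, ← MonoidHom.map_closure, closure_eq_top hp hc, ← MonoidHom.range_eq_map]
  refine good_of_char hK e (a := π w0) (b := π b0) ⟨?_, ?_⟩ (Or.inr ⟨?_, ?_⟩) ?_
  · rw [Ne, hker]
    rintro ⟨h, -, -⟩
    simp [w0] at h
  · rw [← map_pow, w0_sq, hneg]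
  · rw [Ne, hker]
    rintro ⟨h, -, -⟩
    simp [b0] at h
  · rw [← map_pow, b0_cube, hneg]
  · intro φ y hy
    rw [hcl] at hy ⊢
    obtain ⟨s, rfl⟩ := hy
    have h1 : (⊤ : Subgroup (_root_.Matrix.SpecialLinearGroup (Fin 2) K₀)) ≤ (π.range).comap (φ.toMonoidHom.comp π) := by
      refine le_of_eq (eq_top_of_u_mem_of_l_mem _ (fun x => ?_) (fun x => ?_)).symm
      · apply hch
        show (φ (π (u x))) ^ p = 1
        rw [← map_pow, ← map_pow, u_pow_card, map_one, map_one]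
      · apply hch
        show (φ (π (l x))) ^ p = 1
        rw [← map_pow, ← map_pow, l_pow_card, map_one, map_one]
    exact h1 (mem_top s)

theorem good_psl {L : Type*} [Group L] {K : Subgroup L} (hK : Adm K) {p : ℕ} (hp : p.Prime) (hc : Fintype.card K₀ = p)
    (e : K ≃* Matrix.ProjectiveSpecialLinearGroup (Fin 2) K₀) : Good K :=
  good_field hK hp hc e pr pr_one_iff fun y _ => by
    obtain ⟨s, rfl⟩ := pr_surjective y
    exact ⟨s, rfl⟩

theorem good_pgl {L : Type*} [Group L] {K : Subgroup L} (hK : Adm K) {p : ℕ} (hp : p.Prime) (hc : Fintype.card K₀ = p)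
    (e : K ≃* Matrix.ProjGenLinGroup (Fin 2) K₀) : Good K := by
  refine good_field hK hp hc e Matrix.SpecialLinearGroup.toPGL (fun A => ?_) fun y hy => ?_
  · rw [← pr_one_iff, pr_eq_one_iff, ← Matrix.SpecialLinearGroup.toPGL_ker, MonoidHom.mem_ker]
  · obtain ⟨g, rfl⟩ := Matrix.ProjGenLinGroup.mk_surjective y
    rw [← map_pow, Matrix.ProjGenLinGroup.mk_eq_one, Matrix.GeneralLinearGroup.center_eq_range_scalar] at hy
    obtain ⟨r, hr⟩ := hy
    -- `det g = r²`
    have h1 : Matrix.GeneralLinearGroup.det g = r ^ 2 := by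
      have h2 : (Matrix.GeneralLinearGroup.det g) ^ p = r ^ 2 := by
        rw [← map_pow, ← hr]
        ext
        simp
      rw [← h2]
      ext
      rw [Units.val_pow_eq_pow_val, ← hc, FiniteField.pow_card]
    have h3' : (((r⁻¹ : K₀ˣ) : K₀) • (g : Matrix (Fin 2) (Fin 2) K₀)).det = 1 := by
      rw [Matrix.det_smul, Fintype.card_fin]
      have h3 : (g : Matrix (Fin 2) (Fin 2) K₀).det = ((r ^ 2 : K₀ˣ) : K₀) := by rw [← h1]; rfl
      rw [h3, ← Units.val_pow_eq_pow_val, ← Units.val_mul, inv_pow, inv_mul_cancel, Units.val_one]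
    refine ⟨⟨((r⁻¹ : K₀ˣ) : K₀) • (g : Matrix (Fin 2) (Fin 2) K₀), h3'⟩, ?_⟩
    · show Matrix.ProjGenLinGroup.mk (Matrix.SpecialLinearGroup.toGL _) = _
      rw [Matrix.ProjGenLinGroup.mk_eq_mk_iff]
      refine ⟨r, ?_⟩
      ext i j
      rw [Matrix.GeneralLinearGroup.coe_mul, Matrix.GeneralLinearGroup.coe_scalar]
      have h4 : ((Matrix.SpecialLinearGroup.toGL (⟨((r⁻¹ : K₀ˣ) : K₀) • (g : Matrix (Fin 2) (Fin 2) K₀), h3'⟩ :
        _root_.Matrix.SpecialLinearGroup (Fin 2) K₀) : GL (Fin 2) K₀) : Matrix (Fin 2) (Fin 2) K₀) =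
          ((r⁻¹ : K₀ˣ) : K₀) • (g : Matrix (Fin 2) (Fin 2) K₀) := rfl
      rw [h4, Matrix.smul_mul, Matrix.smul_apply, Matrix.scalar_apply, Matrix.mul_diagonal, smul_eq_mul,
        mul_comm ((g : Matrix (Fin 2) (Fin 2) K₀) i j), ← mul_assoc, ← Units.val_mul, inv_mul_cancel, Units.val_one,
        one_mul]

end Field

section Cases

variable {F : Type*} [Field F] [Fintype F]

local notation "S2" => Matrix.SpecialLinearGroup (Fin 2) F
local notation "P2" => Matrix.ProjectiveSpecialLinearGroup (Fin 2) F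

theorem comm_of_cyclic {L : Type*} [Group L] {K : Subgroup L} (h : IsCyclic K) : ∀ a ∈ K, ∀ b ∈ K, a * b = b * a := by
  intro a ha b hb
  have h1 : (⟨a, ha⟩ : K) * ⟨b, hb⟩ = ⟨b, hb⟩ * ⟨a, ha⟩ := h.isMulCommutative.is_comm.comm _ _
  exact Subtype.ext_iff.1 h1

/-- **the admissible subgroups of `PSL₂(p^f)`, `f` prime or 1** -/
theorem adm_cases {l f : ℕ} [hl : Fact l.Prime] [CharP F l] (hf : f.Prime) (hF : Fintype.card F = l ^ f)
    [IsSimpleGroup P2] (hna : ∃ a b : P2, a * b ≠ b * a) {H : Subgroup P2} (hH : Adm H) :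
    Good H ∨ ∃ P : Sylow l P2, normalizer ((P : Subgroup P2) : Set P2) = H := by
  classical
  have hnc := hH.not_comm hna
  rcases Cfsg.Agent.S0799.result rfl l H with ⟨k, -, hk⟩ | ⟨P, K, hK, ⟨e⟩⟩ | ⟨⟨e⟩⟩ | ⟨⟨e⟩⟩ | ⟨⟨e⟩⟩ | ⟨K, iK, iK', m, hm, he⟩
  · rcases hk with ⟨hc, -⟩ | ⟨⟨e⟩⟩
    · exact absurd (comm_of_cyclic hc) hnc
    · exact Or.inl (good_dihedral hH e)
  · -- subgroups of the Borel subgroup
    right
    let Q' : Subgroup H := ((P : Subgroup P2).subgroupOf K).comap e.toMonoidHom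
    have hmemQ : ∀ h : H, h ∈ Q' ↔ ((e h : K) : P2) ∈ (P : Subgroup P2) := fun h => Iff.rfl
    have hall : ∀ h : H, (∃ k : ℕ, h ^ l ^ k = 1) → h ∈ Q' := by
      rintro h ⟨k, hk⟩
      have h1 : ((e h : K) : P2) ^ l ^ k = 1 := by
        rw [← Subgroup.coe_pow, ← map_pow, hk, map_one]; rfl
      have h2 : IsPGroup l (zpowers ((e h : K) : P2)) := by
        obtain ⟨j, -, hj⟩ := (Nat.dvd_prime_pow (Fact.out : l.Prime)).1 (orderOf_dvd_of_pow_eq_one h1)
        exact IsPGroup.of_card (n := j) (by rw [Nat.card_zpowers, hj])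
      have h3 := h2.inf_normalizer_sylow P
      exact (h3.le ⟨mem_zpowers _, hK (e h).2⟩).2
    have hQ : Q' ≠ ⊥ := by
      intro hQ
      apply hnc
      intro a ha b hb
      have h1 : (⟨a, ha⟩ : H) * ⟨b, hb⟩ * (⟨a, ha⟩ : H)⁻¹ * (⟨b, hb⟩ : H)⁻¹ ∈ Q' := by
        apply hall
        obtain ⟨k, hk⟩ := Cfsg.Agent.H947.Sy.commutator_mem P (hK (e ⟨a, ha⟩).2) (hK (e ⟨b, hb⟩).2)
        refine ⟨k, e.injective ?_⟩
        apply Subtype.ext
        rw [map_pow, map_one, Subgroup.coe_pow, Subgroup.coe_one, ← hk]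
        simp only [map_mul, map_inv, Subgroup.coe_mul, Subgroup.coe_inv]
      rw [hQ, mem_bot] at h1
      have h2 : a * b * a⁻¹ * b⁻¹ = 1 := congrArg Subtype.val h1
      calc a * b = (a * b * a⁻¹ * b⁻¹) * (b * a) := by group
        _ = b * a := by rw [h2, one_mul]
    have hne : Q'.map H.subtype ≠ ⊥ := fun h => hQ (by
      rwa [Subgroup.map_eq_bot_iff_of_injective _ H.subtype_injective] at h)
    have hR : ∀ y, y ∈ Q'.map H.subtype ↔ y ∈ H ∧ ∃ k : ℕ, y ^ (l ^ k) = 1 := by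
      intro y
      constructor
      · rintro ⟨z, hz, rfl⟩
        refine ⟨z.2, ?_⟩
        obtain ⟨k, hk⟩ := P.isPGroup' ⟨((e z : K) : P2), hz⟩
        refine ⟨k, ?_⟩
        have h1 : ((e z : K) : P2) ^ l ^ k = 1 := congrArg Subtype.val hk
        have h2 : z ^ l ^ k = 1 := by
          apply e.injective
          apply Subtype.ext
          rw [map_pow, map_one, Subgroup.coe_pow, Subgroup.coe_one, h1]
        exact congrArg Subtype.val h2
      · rintro ⟨hy, k, hk⟩
        exact ⟨⟨y, hy⟩, hall _ ⟨k, Subtype.ext hk⟩, rfl⟩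
    obtain ⟨P', hP1, hP2⟩ := hH.sylow (Fact.out : l.Prime) hR hne
    exact ⟨P', by rw [hP1, hP2]⟩
  · exact Or.inl (good_a4 hH e)
  · exact Or.inl (good_s4 hH e)
  · exact Or.inl (good_a5 hH e)
  · left
    have hKp : Fintype.card K = l ∨ Fintype.card K = Fintype.card F := by
      have h1 : Fintype.card K ∣ l ^ f := by
        rw [← hF, ← hm]
        refine dvd_pow_self _ ?_
        rintro rfl
        rw [pow_zero] at hm
        have := Fintype.one_lt_card (α := F)
        omega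
      obtain ⟨j, hj, hj'⟩ := (Nat.dvd_prime_pow hl.out).1 h1
      rw [hj', hF, ← pow_mul] at hm
      have h2 : j * m = f := Nat.pow_right_injective hl.out.two_le hm
      rcases (Nat.dvd_prime hf).1 ⟨m, h2.symm⟩ with h3 | h3
      · left; rw [hj', h3, pow_one]
      · right; rw [hj', h3, hF]
    rcases hKp with hKp | hKp
    · rcases he with ⟨⟨e⟩⟩ | ⟨⟨e⟩⟩
      · exact good_psl hH hl.out hKp e
      · exact good_pgl hH hl.out hKp e
    · exfalso
      apply hH.ne_top
      apply Subgroup.eq_top_of_le_card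
      have hg : 0 < Nat.gcd 2 (Fintype.card F - 1) := Nat.gcd_pos_of_pos_left _ (by norm_num)
      have h1 := Cfsg.Agent.H394.SqPsl2.card_psl (F := F)
      rcases he with ⟨⟨e⟩⟩ | ⟨⟨e⟩⟩
      · have h2 := Cfsg.Agent.H394.SqPsl2.card_psl (F := K)
        rw [hKp, ← Nat.card_congr e.toEquiv, ← h1] at h2
        exact (Nat.eq_of_mul_eq_mul_left hg h2).ge
      · have h2 := Cfsg.Agent.H394.SqPsl2.card_pgl (F := K)
        rw [hKp, ← Nat.card_congr e.toEquiv, ← h1] at h2
        rw [h2]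
        exact Nat.le_mul_of_pos_left _ hg

end Cases

end Cfsg.Agent.H929.TB
end

-- part: H929/TB/Bound
section
/-!
# Extremely primitive groups: point stabilisers with socle `PSL₂(q)`, `q = 8, 25, 27, 49` (helper929, paper helper876)

`index_eight`, `index_tf`, `index_ts`, `index_fn` : bounds for the index of the stabiliser;
`kill_eight` .. `kill_fn` : the rows of S5745.
-/

set_option autoImplicit false
set_option linter.unusedSectionVars false

namespace Cfsg.Agent.H929.TB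

open Subgroup Cfsg Matrix
open Cfsg.Agent.BpLin Cfsg.Agent.LieClassical.SLTwoUnipotent
open Cfsg.Agent.ClassicalGeometry.PSL2Solvable
open Cfsg.Agent.ClassicalGeometry.AutPSL.Root Cfsg.Agent.ClassicalGeometry.AutPSL.Auto
  Cfsg.Agent.ClassicalGeometry.AutPSL.Main
open Cfsg.Agent.H284 Cfsg.Agent.H417.EP Cfsg.Agent.H419.EP Cfsg.Agent.H209.EPX Cfsg.Agent.H226.EX

section Count

variable {F : Type*} [Field F] [Fintype F]

local notation "S2" => Matrix.SpecialLinearGroup (Fin 2) F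
local notation "P2" => Matrix.ProjectiveSpecialLinearGroup (Fin 2) F

theorem ncomm : ∃ a b : P2, a * b ≠ b * a := by
  refine ⟨pr (u 1), pr (l 1), fun h => ?_⟩
  rw [← map_mul, ← map_mul, Cfsg.Agent.H947.Sy.pr_eq_iff] at h
  rcases h with h | h
  · have h1 := congrArg (fun A : S2 => A 0 0) h
    simp [coe_u, coe_l, Matrix.mul_apply, Fin.sum_univ_two] at h1
  · have h1 := congrArg (fun A : S2 => A.1 0 0) h
    have h2 := congrArg (fun A : S2 => A.1 0 1) h
    simp only [coe_u, coe_l, Matrix.mul_apply, Fin.sum_univ_two, _root_.Fin.isValue, _root_.Matrix.SpecialLinearGroup.coe_mul, _root_.Matrix.of_apply, _root_.Matrix.cons_val', _root_.Matrix.cons_val_fin_one, _root_.Matrix.cons_val_zero, _root_.mul_one, _root_.Matrix.cons_val_one, _root_.MulZeroClass.mul_zero, _root_.add_zero, _root_.Matrix.SpecialLinearGroup.coe_neg, _root_.Matrix.cons_mul, _root_.Nat.succ_eq_add_one, _root_.Nat.reduceAdd, _root_.Matrix.vecMul_cons, _root_.Matrix.head_cons,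 _root_.one_smul, _root_.Matrix.tail_cons, _root_.Matrix.empty_vecMul, _root_.Matrix.add_cons, _root_.zero_add, _root_.Matrix.empty_add_empty, _root_.zero_smul, _root_.Matrix.empty_mul, _root_.Equiv.symm_apply_apply, _root_.Matrix.neg_apply, _root_.neg_add_rev] at h1 h2
    have h3 : (1 : F) = 0 := by linear_combination h1 - h2
    exact one_ne_zero h3

theorem card_sylow_mul {p f : ℕ} [hp : Fact p.Prime] (hF : Fintype.card F = p ^ f) :
    Nat.card (Sylow p P2) * Fintype.card F ≤ Nat.card P2 := by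
  have : CharP F p := charP_of_card_eq_prime_pow hF
  obtain ⟨P⟩ : Nonempty (Sylow p P2) := inferInstance
  have hq : 1 < Fintype.card F := Fintype.one_lt_card
  have h1 : p ^ f ∣ Nat.card P2 := by
    have h2 := Cfsg.Agent.H394.SqPsl2.card_psl (F := F)
    have h3 : p ^ f ∣ Nat.gcd 2 (Fintype.card F - 1) * Nat.card P2 := by
      rw [h2, ← hF]; exact Dvd.intro _ rfl
    refine Nat.Coprime.dvd_of_dvd_mul_left ?_ h3
    rw [← hF]
    have h4 : Nat.gcd 2 (Fintype.card F - 1) ∣ Fintype.card F - 1 := Nat.gcd_dvd_right _ _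
    have h5 : Nat.Coprime (Fintype.card F) (Fintype.card F - 1) :=
      (Nat.coprime_self_sub_right hq.le).2 (Nat.coprime_one_right _)
    exact Nat.Coprime.coprime_dvd_right h4 h5
  have h2 : p ^ f ∣ Nat.card P := P.pow_dvd_card_of_pow_dvd_card h1
  have h3 : p ^ f ≤ Nat.card P := Nat.le_of_dvd Nat.card_pos h2
  have h4 : Nat.card (Sylow p P2) ≤ P.index := by
    rw [P.card_eq_index_normalizer]
    exact Nat.le_of_dvd (Nat.pos_of_ne_zero (Subgroup.index_ne_zero_of_finite)) (Subgroup.index_dvd_of_le le_normalizer)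
  rw [hF]
  calc Nat.card (Sylow p P2) * p ^ f ≤ P.index * Nat.card P := Nat.mul_le_mul h4 h3
    _ = Nat.card P2 := by rw [mul_comm]; exact (P : Subgroup P2).card_mul_index

theorem ncard_adm_le {p f : ℕ} [hp : Fact p.Prime] (hf : f.Prime) (hF : Fintype.card F = p ^ f)
    [IsSimpleGroup P2] : {K : Subgroup P2 | Adm K}.ncard ≤
      (Dn P2 2).ncard * ((Dn P2 2).ncard + (Dn P2 3).ncard) + Nat.card (Sylow p P2) := by
  have : CharP F p := charP_of_card_eq_prime_pow hF
  have hsub : {K : Subgroup P2 | Adm K} ⊆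
      (fun x : P2 × P2 => normalizer ((_root_.Subgroup.closure {x.1, x.2} : Subgroup P2) : Set P2)) '' (Dn P2 2 ×ˢ (Dn P2 2 ∪ Dn P2 3)) ∪
      Set.range (fun P : Sylow p P2 => normalizer ((P : Subgroup P2) : Set P2)) := by
    intro K hK
    rcases adm_cases hf hF ncomm hK with ⟨a, b, ha, hb, rfl⟩ | ⟨P, rfl⟩
    · exact Or.inl ⟨(a, b), ⟨ha, hb⟩, rfl⟩
    · exact Or.inr ⟨P, rfl⟩
  refine (Set.ncard_le_ncard hsub (Set.toFinite _)).trans ((Set.ncard_union_le _ _).trans (Nat.add_le_add ?_ ?_))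
  · refine (Set.ncard_image_le (Set.toFinite _)).trans ?_
    rw [Set.ncard_prod]
    exact Nat.mul_le_mul_left _ (Set.ncard_union_le _ _)
  · rw [← Set.image_univ]
    refine (Set.ncard_image_le (Set.toFinite _)).trans ?_
    rw [Set.ncard_univ]

/-- the normaliser of a Sylow `p`-subgroup has even order if `-1` is a square, `p` odd -/
theorem sylow_two {p : ℕ} [hp : Fact p.Prime] [CharP F p] (h2 : (2 : F) ≠ 0) (hi : ∃ i : F, i * i = -1)
    (P : Sylow p P2) : ∃ a ∈ normalizer ((P : Subgroup P2) : Set P2), a ∈ Dn P2 2 := by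
  obtain ⟨g, hg⟩ := Cfsg.Agent.H947.Sy.exists_conj_sylow P
  obtain ⟨i, hi⟩ := hi
  let d : S2 := ⟨!![i, 0; 0, -i], by rw [Matrix.det_fin_two_of]; linear_combination -hi⟩
  have hd2 : d ^ 2 = -1 := by
    apply Subtype.ext
    rw [Matrix.SpecialLinearGroup.coe_pow, sq]
    ext a b
    (revert a b; simp only [d, Matrix.mul_apply, Fin.sum_univ_two, hi, _root_.Fin.forall_fin_succ, _root_.Matrix.of_apply, _root_.Matrix.cons_val', _root_.Matrix.cons_val_fin_one, Fin.isValue, _root_.Matrix.cons_val_zero, _root_.Matrix.cons_val_one, _root_.Matrix.SpecialLinearGroup.coe_neg, _root_.Matrix.SpecialLinearGroup.coe_one, _root_.Matrix.neg_apply, _root_.MulZeroClass.mul_zero, _root_.add_zero, _root_.Matrix.cons_val_succ, _root_.mul_neg, _root_.zero_add, _root_.neg_inj, _root_.IsEmpty.forall_iff, _root_.and_true, _root_.Matrix.one_apply_eq, _root_.MulZeroClass.zero_mul, Nat.reduceAdd, _root_.Fin.succ_zero_eq_one, _root_.ne_eq, _root_.zero_ne_one, _root_.not_false_eq_true,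 _root_.Matrix.one_apply_ne, _root_.and_self, _root_.Fin.succ_ne_zero, _root_.neg_zero, _root_.neg_mul, _root_.neg_neg, _root_.true_and])
  have hneg : (pr (-1 : S2) : P2) = 1 := by
    rw [pr_neg, map_one]
  have hd : (pr d : P2) ^ 2 = 1 := by rw [← map_pow, hd2, hneg]
  have hd1 : (pr d : P2) ≠ 1 := by
    rw [Ne, pr_one_iff]
    rintro ⟨-, -, h⟩
    have h' : i = -i := h
    have h3 : (2 : F) * i = 0 := by linear_combination h'
    rcases mul_eq_zero.1 h3 with h4 | h4
    · exact h2 h4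
    · rw [h4, mul_zero] at hi
      have : (1 : F) = 0 := by linear_combination hi
      exact one_ne_zero this
  have hconj : ∀ y ∈ (upperUnipSL F).map (pr : S2 →* P2), pr d * y * (pr d)⁻¹ ∈ (upperUnipSL F).map (pr : S2 →* P2) := by
    rintro _ ⟨v, hv, rfl⟩
    refine ⟨d * v * d⁻¹, ?_, by simp only [map_mul, map_inv]⟩
    have hv' : v = u (v 0 1) := eq_u_of_mem_upperUnipSL hv
    have h3 : d * v = u (-(v 0 1)) * d := by
      rw [hv']
      apply Subtype.ext
      rw [Matrix.SpecialLinearGroup.coe_mul, Matrix.SpecialLinearGroup.coe_mul, coe_u, coe_u]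
      ext a b
      (revert a b; simp only [d, Matrix.mul_apply, Fin.sum_univ_two, _root_.Fin.forall_fin_succ, Fin.isValue, _root_.Matrix.of_apply, _root_.Matrix.cons_val', _root_.Matrix.cons_val_fin_one, _root_.Matrix.cons_val_zero, _root_.Matrix.cons_val_one, _root_.mul_one, _root_.MulZeroClass.mul_zero, _root_.add_zero, _root_.Matrix.cons_val_succ, _root_.mul_neg, _root_.zero_add, _root_.forall_const, _root_.one_mul, _root_.neg_mul, _root_.neg_neg, _root_.MulZeroClass.zero_mul, _root_.implies_true, _root_.and_true, _root_.true_and]) <;> (repeat' with_reducible apply And.intro)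
      ring
    rw [h3, mul_inv_cancel_right]
    exact u_mem_upperUnipSL _
  refine ⟨g * pr d * g⁻¹, ?_, ?_, ?_⟩
  · have key : ∀ y ∈ (P : Subgroup P2), (g * pr d * g⁻¹) * y * (g * pr d * g⁻¹)⁻¹ ∈ (P : Subgroup P2) := by
      intro y hy
      rw [hg] at hy ⊢
      have h4 : g⁻¹ * ((g * pr d * g⁻¹) * y * (g * pr d * g⁻¹)⁻¹) * g = pr d * (g⁻¹ * y * g) * (pr d)⁻¹ := by group
      rw [h4]
      exact hconj _ hy
    have hinv : (g * pr d * g⁻¹)⁻¹ = g * pr d * g⁻¹ := by
      apply inv_eq_of_mul_eq_one_right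
      have h5 : g * pr d * g⁻¹ * (g * pr d * g⁻¹) = g * (pr d) ^ 2 * g⁻¹ := by rw [sq]; group
      rw [h5, hd, mul_one, mul_inv_cancel]
    rw [mem_normalizer_iff]
    intro y
    refine ⟨key y, fun hy => ?_⟩
    have h6 := key _ hy
    rw [hinv] at h6
    have h7 : g * pr d * g⁻¹ * (g * pr d * g⁻¹ * y * (g * pr d * g⁻¹)) * (g * pr d * g⁻¹) =
        (g * (pr d) ^ 2 * g⁻¹) * y * (g * (pr d) ^ 2 * g⁻¹) := by rw [sq]; group
    rw [h7, hd, mul_one, mul_inv_cancel, one_mul, mul_one] at h6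
    exact h6
  · intro h
    apply hd1
    have h8 : (pr d : P2) = g⁻¹ * (g * pr d * g⁻¹) * g := by group
    rw [h8, h, mul_one, inv_mul_cancel]
  · rw [conj_pow, hd, mul_one, mul_inv_cancel]

end Count

section Bound

variable {F : Type*} [Field F] [Fintype F]
variable {Q : Type*} [Group Q] [Finite Q] {A : Subgroup Q} {Γ : Subgroup (MulAut Q)}

local notation "P2" => Matrix.ProjectiveSpecialLinearGroup (Fin 2) F

open Classical in
theorem core (h : EPT A Γ) (hs : HasSoc A P2) (h4 : 4 ≤ Fintype.card F) [Fintype P2] (w : P2 → ℕ) (hw1 : w 1 = 0)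
    {c W m : ℕ} (hc : ∀ K : Subgroup P2, Adm K → c ≤ ∑ t : P2, if t ∈ K then w t else 0) (hW : ∑ t : P2, w t ≤ W)
    (hm : {K : Subgroup P2 | Adm K}.ncard ≤ m) : (A.index - 1) * c ≤ W * (m - 1) := by
  have hsim : IsSimpleGroup P2 := Cfsg.Agent.TwoFusion.SLTwoFacts.isSimpleGroup_psl (by omega)
  obtain ⟨N, hNA, hN, hcent, ⟨e⟩⟩ := hs
  have hOut : ∀ α β : MulAut P2, α * β * α⁻¹ * β⁻¹ ∈ (MulAut.conj : P2 →* MulAut P2).range := by
    intro α β
    obtain ⟨k, hk⟩ := Cfsg.Agent.SectRankFour.OutAb.outComm_psl_two F α β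
    exact ⟨k, MulEquiv.ext fun x => (hk x).symm⟩
  have hi : _root_.Cfsg.Agent.H417.EP.Inv A Γ (emb e) := base_inv h hNA hN e hcent
  have hne : ∀ x, x ∉ A → _root_.Cfsg.Agent.H417.EP.tr (emb e) A x ≠ ⊥ := fun x hx => base_tr h hNA hN ncomm e hcent hOut hx
  exact weight_bound h hi hne w hw1 hc hW hm

/-- the weight 1 on all nontrivial elements -/
theorem index_all (h : EPT A Γ) (hs : HasSoc A P2) (h4 : 4 ≤ Fintype.card F) {m : ℕ}
    (hm : {K : Subgroup P2 | Adm K}.ncard ≤ m) : (A.index - 1) * 5 ≤ (Nat.card P2 - 1) * (m - 1) := by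
  classical
  have : Fintype P2 := Fintype.ofFinite P2
  have hsim : IsSimpleGroup P2 := Cfsg.Agent.TwoFusion.SLTwoFacts.isSimpleGroup_psl (by omega)
  have hsum : ∀ K : Subgroup P2, (∑ t : P2, if t ∈ K then (if t = 1 then 0 else 1) else 0) + 1 = Nat.card K := by
    intro K
    have h1 : (∑ t : P2, if t ∈ K then (if t = 1 then 0 else 1) else 0) =
        ((Finset.univ.filter (· ∈ K)).erase 1).card := by
      rw [Finset.card_eq_sum_ones, ← Finset.sum_filter]
      have h2 : (Finset.univ.filter (· ∈ K)).erase (1 : P2) = (Finset.univ.filter (· ∈ K)).filter (fun t => t ≠ 1) := by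
        rw [Finset.filter_ne']
      rw [h2, Finset.sum_filter (fun t : P2 => t ≠ 1)]
      refine Finset.sum_congr rfl fun t _ => ?_
      by_cases ht : t = 1
      · rw [if_pos ht, if_neg (not_not.2 ht)]
      · rw [if_neg ht, if_pos ht]
    have h3 : (Finset.univ.filter (· ∈ K)).card = Nat.card K := by
      rw [Nat.card_eq_fintype_card, Fintype.card_subtype]
    rw [h1, Finset.card_erase_of_mem (Finset.mem_filter.2 ⟨Finset.mem_univ _, one_mem K⟩), h3]
    have : 0 < Nat.card K := Nat.card_pos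
    omega
  refine core h hs h4 (fun t => if t = 1 then 0 else 1) (if_pos rfl) (c := 5) (W := Nat.card P2 - 1) ?_ ?_ hm
  · intro K hK
    have h1 := hsum K
    have h2 : 6 ≤ Nat.card K := by
      by_contra hcon
      apply hK.not_comm ncomm
      intro a ha b hb
      exact Subtype.ext_iff.1 (Cfsg.Agent.SectRankFour.OutAb.comm_of_card_le_five (Q := K) (by omega) ⟨a, ha⟩ ⟨b, hb⟩)
    have h3 : 5 ≤ ∑ t : P2, if t ∈ K then (if t = 1 then 0 else 1) else 0 := by omega
    convert h3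
  · have h1 := hsum ⊤
    rw [Subgroup.card_top] at h1
    have h2 : ∑ t : P2, (if t = 1 then 0 else 1) = ∑ t : P2, if t ∈ (⊤ : Subgroup P2) then (if t = 1 then 0 else 1) else 0 :=
      Finset.sum_congr rfl fun t _ => by rw [if_pos (mem_top t)]
    rw [h2]
    omega

/-- the weight 1 on the involutions -/
theorem index_two (h : EPT A Γ) (hs : HasSoc A P2) (h4 : 4 ≤ Fintype.card F) {m i : ℕ}
    (hm : {K : Subgroup P2 | Adm K}.ncard ≤ m) (hi : (Dn P2 2).ncard ≤ i)
    (he : ∀ K : Subgroup P2, Adm K → ∃ a ∈ K, a ∈ Dn P2 2) : A.index - 1 ≤ i * (m - 1) := by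
  classical
  have : Fintype P2 := Fintype.ofFinite P2
  have h1 := core h hs h4 (fun t => if t ∈ Dn P2 2 then 1 else 0) (if_neg fun h => h.1 rfl) (c := 1) (W := i)
    (fun K hK => ?_) ?_ hm
  · rwa [mul_one] at h1
  · obtain ⟨a, haK, ha⟩ := he K hK
    have h2 : 1 ≤ ∑ t : P2, if t ∈ K then (if t ∈ Dn P2 2 then 1 else 0) else 0 := by
      refine le_trans ?_ (Finset.single_le_sum (f := fun t : P2 => if t ∈ K then (if t ∈ Dn P2 2 then 1 else 0) else 0)
        (fun _ _ => Nat.zero_le _) (Finset.mem_univ a))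
      show 1 ≤ if a ∈ K then (if a ∈ Dn P2 2 then 1 else 0) else 0
      rw [if_pos haK, if_pos ha]
    convert h2
  · refine le_trans (le_of_eq ?_) hi
    rw [← Finset.card_filter, ← Set.ncard_coe_finset]
    refine congrArg Set.ncard (Set.ext fun t => ?_)
    simp

theorem card_psl_of {q c : ℕ} (hF : Fintype.card F = q) (hc : Nat.gcd 2 (q - 1) * c = q * (q ^ 2 - 1))
    (h0 : 0 < Nat.gcd 2 (q - 1)) : Nat.card P2 = c := by
  have h1 := Cfsg.Agent.H394.SqPsl2.card_psl (F := F)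
  rw [hF, ← hc] at h1
  exact Nat.eq_of_mul_eq_mul_left h0 h1

theorem two_ne_zero_of {p f : ℕ} [Fact p.Prime] (hF : Fintype.card F = p ^ f) (hp : p ≠ 2) : (2 : F) ≠ 0 := by
  have : CharP F p := charP_of_card_eq_prime_pow hF
  intro h
  have h1 : ((2 : ℕ) : F) = 0 := by rw [Nat.cast_ofNat]; exact h
  rw [CharP.cast_eq_zero_iff F p] at h1
  exact hp ((Nat.prime_dvd_prime_iff_eq (Fact.out : p.Prime) Nat.prime_two).1 h1)

/-- **`PSL₂(25)`** -/
theorem index_tf (h : EPT A Γ) (hs : HasSoc A P2) (hF : Fintype.card F = 25) : A.index ≤ 494746724 := by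
  have hp : Fact (Nat.Prime 5) := ⟨Nat.prime_five⟩
  have hF' : Fintype.card F = 5 ^ 2 := hF
  have hsim : IsSimpleGroup P2 := Cfsg.Agent.TwoFusion.SLTwoFacts.isSimpleGroup_psl (by omega)
  have hc : Nat.card P2 = 7800 := card_psl_of hF (by norm_num) (by norm_num)
  have h1 := ncard_adm_le (F := F) (p := 5) (f := 2) Nat.prime_two hF'
  have h2 := card_sylow_mul (F := F) (p := 5) (f := 2) hF'
  have h3 := two_le_odd (F := F) (two_ne_zero_of hF' (by norm_num))
  have h5 := three_le (F := F)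
  rw [hc, hF] at h2
  rw [hF] at h3 h5
  have h6 : {K : Subgroup P2 | Adm K}.ncard ≤ 317187 := by
    refine h1.trans ?_
    have h7 : (Dn P2 2).ncard * ((Dn P2 2).ncard + (Dn P2 3).ncard) ≤ 325 * (325 + 650) := by gcongr <;> omega
    omega
  have h7 := index_all h hs (by omega) h6
  rw [hc] at h7
  omega

/-- **`PSL₂(27)`** -/
theorem index_ts (h : EPT A Γ) (hs : HasSoc A P2) (hF : Fintype.card F = 27) : A.index ≤ 843186082 := by
  have hp : Fact (Nat.Prime 3) := ⟨Nat.prime_three⟩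
  have hF' : Fintype.card F = 3 ^ 3 := hF
  have hsim : IsSimpleGroup P2 := Cfsg.Agent.TwoFusion.SLTwoFacts.isSimpleGroup_psl (by omega)
  have hc : Nat.card P2 = 9828 := card_psl_of hF (by norm_num) (by norm_num)
  have h1 := ncard_adm_le (F := F) (p := 3) (f := 3) Nat.prime_three hF'
  have h2 := card_sylow_mul (F := F) (p := 3) (f := 3) hF'
  have h3 := two_le_odd (F := F) (two_ne_zero_of hF' (by norm_num))
  have h5 := three_le (F := F)
  rw [hc, hF] at h2
  rw [hF] at h3 h5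
  have h6 : {K : Subgroup P2 | Adm K}.ncard ≤ 429016 := by
    refine h1.trans ?_
    have h7 : (Dn P2 2).ncard * ((Dn P2 2).ncard + (Dn P2 3).ncard) ≤ 378 * (378 + 756) := by gcongr <;> omega
    omega
  have h7 := index_all h hs (by omega) h6
  rw [hc] at h7
  omega

/-- **`PSL₂(49)`** -/
theorem index_fn (h : EPT A Γ) (hs : HasSoc A P2) (hF : Fintype.card F = 49) : A.index ≤ 5516265651 := by
  have hp : Fact (Nat.Prime 7) := ⟨by norm_num⟩
  have hF' : Fintype.card F = 7 ^ 2 := hF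
  have hchar : CharP F 7 := charP_of_card_eq_prime_pow hF'
  have hsim : IsSimpleGroup P2 := Cfsg.Agent.TwoFusion.SLTwoFacts.isSimpleGroup_psl (by omega)
  have hc : Nat.card P2 = 58800 := card_psl_of hF (by norm_num) (by norm_num)
  have h20 := two_ne_zero_of hF' (by norm_num)
  have h1 := ncard_adm_le (F := F) (p := 7) (f := 2) Nat.prime_two hF'
  have h2 := card_sylow_mul (F := F) (p := 7) (f := 2) hF'
  have h3 := two_le_odd (F := F) h20
  have h5 := three_le (F := F)
  rw [hc, hF] at h2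
  rw [hF] at h3 h5
  have h6 : {K : Subgroup P2 | Adm K}.ncard ≤ 4503075 := by
    refine h1.trans ?_
    have h7 : (Dn P2 2).ncard * ((Dn P2 2).ncard + (Dn P2 3).ncard) ≤ 1225 * (1225 + 2450) := by gcongr <;> omega
    omega
  have h7 := index_two h hs (by omega) h6 (i := 1225) (by omega) fun K hK => by
    rcases adm_cases Nat.prime_two hF' ncomm hK with hg | ⟨P, rfl⟩
    · exact hg.mem
    · refine sylow_two h20 ?_ P
      obtain ⟨i, hi⟩ := (FiniteField.isSquare_neg_one_iff (F := F)).2 (by rw [hF]; norm_num)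
      exact ⟨i, hi.symm⟩
  omega

end Bound

section Rows

variable {F : Type*} [Field F] [Fintype F]

local notation "P2" => Matrix.ProjectiveSpecialLinearGroup (Fin 2) F

theorem card_aut {p f q : ℕ} [Fact p.Prime] (hf : 1 ≤ f) (hF : Fintype.card F = q) (hq : q = p ^ f) (h4 : 4 ≤ q) :
    Nat.card (MulAut P2) = f * (q * (q ^ 2 - 1)) := by
  rw [Cfsg.Agent.S0813.result p f hf (hF.trans hq) 2 le_rfl (fun _ => hq ▸ h4), if_pos rfl, one_mul,
    Cfsg.Agent.H394.SqPsl2.card_pgl, hF]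

variable {G : Type} [Group G] [Finite G] [IsSimpleGroup G] {H N : Subgroup G} {T : Type} [Group T]
  {e : N ≃* (Fin 1 → T)}

theorem dead (h : EPS H N e) (i : T ≃* P2) {B c : ℕ} (hB : H.index ≤ B) (hc : Nat.card (MulAut P2) = c)
    (hG : B * c < Nat.card G) : False := by
  have h1 : Nat.card H ≤ c := by
    rw [← hc]
    exact ((hasSoc_of_eps h).congr i).card_le
  have h2 := H.card_mul_index
  have h3 : Nat.card H * H.index ≤ c * B := Nat.mul_le_mul h1 hB
  rw [mul_comm B c] at hG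
  omega

/-- row `F₄(2)`, `T = PSL₂(25)` -/
theorem kill_tf (h : EPS H N e) (i : T ≃* P2) (hF : Fintype.card F = 25) (hG : 494746724 * 31200 < Nat.card G) :
    False := by
  have hp : Fact (Nat.Prime 5) := ⟨Nat.prime_five⟩
  exact dead h i (index_tf (ept_of_eps h) ((hasSoc_of_eps h).congr i) hF)
    (card_aut (p := 5) (f := 2) (by norm_num) hF rfl (by norm_num)) (by simpa only [_root_.Nat.reducePow, _root_.Nat.add_one_sub_one, _root_.Nat.reduceMul] using hG)

/-- row `F₄(2)`, `T = PSL₂(27)` -/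
theorem kill_ts (h : EPS H N e) (i : T ≃* P2) (hF : Fintype.card F = 27) (hG : 843186082 * 58968 < Nat.card G) :
    False := by
  have hp : Fact (Nat.Prime 3) := ⟨Nat.prime_three⟩
  exact dead h i (index_ts (ept_of_eps h) ((hasSoc_of_eps h).congr i) hF)
    (card_aut (p := 3) (f := 3) (by norm_num) hF rfl (by norm_num)) (by simpa only [_root_.Nat.reducePow, _root_.Nat.add_one_sub_one, _root_.Nat.reduceMul] using hG)

/-- row `F₄(2)`, `T = PSL₂(49)` -/
theorem kill_fn (h : EPS H N e) (i : T ≃* P2) (hF : Fintype.card F = 49) (hG : 5516265651 * 235200 < Nat.card G) :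
    False := by
  have hp : Fact (Nat.Prime 7) := ⟨by norm_num⟩
  exact dead h i (index_fn (ept_of_eps h) ((hasSoc_of_eps h).congr i) hF)
    (card_aut (p := 7) (f := 2) (by norm_num) hF rfl (by norm_num)) (by simpa only [_root_.Nat.reducePow, _root_.Nat.add_one_sub_one, _root_.Nat.reduceMul] using hG)

/-- the rows `PSL₂(25)`, `PSL₂(27)`, `PSL₂(49)` of `F₄(2)` -/
theorem row_f4_two (hG : Nat.card G = 3311126603366400) (h : EPS H N e) (i : T ≃* P2)
    (hF : Fintype.card F = 25 ∨ Fintype.card F = 27 ∨ Fintype.card F = 49) : False := by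
  rcases hF with hF | hF | hF
  · exact kill_tf h i hF (by rw [hG]; norm_num)
  · exact kill_ts h i hF (by rw [hG]; norm_num)
  · exact kill_fn h i hF (by rw [hG]; norm_num)

end Rows

end Cfsg.Agent.H929.TB
end

private theorem dce_635f5ff18648 : _root_.True := by
  try have : _root_.True := by simp only [_root_.Cfsg.Agent.H929.TB.b0.eq_1]
  try have : _root_.True := by simp only [_root_.Cfsg.Agent.H929.TB.w0.eq_1]
  exact _root_.True.intro
end

-- part: H7/EP/LocTwo
section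
prune_inst 0x300045001c20100000000010e0001c62fe0001000028000040e00a400e804d0000028920b4b001021020a28c4038006813000450420000000a0004000138078910c90206b048a008100000000000400000000000000000000000000000000000200400000
set_option linter.all false
open scoped Cfsg.Agent.FastGrp

/-!
# S3499: the local subgroups of `PSL₂(2ⁿ)` (helper7)

`ncard_locK_two` : `LocK (PSL₂(F))`, `|F| = k = 2ⁿ`, has at most `k² + k + 1 + n (|PSL₂(F)| / 60)` elements: the
normalisers of the centralisers of elements (`k² + k + 1`), and the conjugates of the subfield groups.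
-/

set_option autoImplicit false
set_option linter.unusedSectionVars false
set_option linter.style.haveILetI false

namespace Cfsg.Agent.H7.EP.LocTwo

open Matrix MulAction OnePoint Matrix.SpecialLinearGroup
open Cfsg.Agent.ClassicalGeometry.PoleCount Cfsg.Agent.ClassicalGeometry.PoleCount.Pole
open Cfsg.Agent.ClassicalGeometry.PoleBridge Cfsg.Agent.ClassicalGeometry.PoleWild
open Cfsg.Agent.ClassicalGeometry.PoleCases Cfsg.Agent.ClassicalGeometry.DicksonWild
open Cfsg.Agent.ClassicalGeometry.PSL2Basic Cfsg.Agent.ClassicalGeometry.PSL2ElemOrder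
open Cfsg.Agent.ClassicalGeometry.SplitTorus
open Cfsg.Agent.ClassicalGeometry.DicksonSubfield
open Cfsg.Agent.Lib.Mobius Cfsg.Agent.S0799

local notation "SL2" => Matrix.SpecialLinearGroup (Fin 2)
local notation "PSL2" => Matrix.ProjectiveSpecialLinearGroup (Fin 2)

section sub

variable {F : Type*} [Field F] [DecidableEq F]

/-- the subfield subgroup -/
def X (k : Subfield F) : Subgroup (PSL2 F) :=
  (Matrix.SpecialLinearGroup.map (n := Fin 2) k.subtype).range.map (QuotientGroup.mk' _)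

theorem mem_X {k : Subfield F} {A : SL2 F} (h : ∀ i j, A i j ∈ k) : cl A ∈ X k := by
  refine ⟨A, ⟨⟨Matrix.of fun i j => (⟨A i j, h i j⟩ : k), ?_⟩, ?_⟩, rfl⟩
  · have h1 := det_eq A
    apply Subtype.ext
    rw [Matrix.det_fin_two]
    simpa only [_root_.Fin.isValue, _root_.Matrix.of_apply, _root_.MulMemClass.mk_mul_mk, _root_.AddSubgroupClass.coe_sub, _root_.OneMemClass.coe_one] using h1
  · ext i j
    rfl

theorem mem_of_sq_mem [Fintype F] [CharP F 2] (k : Subfield F) {s : F} (h : s ^ 2 ∈ k) : s ∈ k := by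
  obtain ⟨n, hn, hF⟩ := FiniteField.card F 2
  obtain ⟨m, hm⟩ := Nat.exists_eq_succ_of_ne_zero n.pos.ne'
  have h1 := FiniteField.pow_card s
  rw [hF, hm, Nat.succ_eq_add_one, pow_succ', pow_mul] at h1
  rw [← h1]
  exact pow_mem h _

/-- The normalised case. -/
theorem normalised1 [Fintype F] [CharP F 2] (H : Subgroup (PSL2 F))
    (hinf : ∞ ∈ OpF 2 H) (hzero : ((0 : F) : OnePoint F) ∈ OpF 2 H) (hu : cl (up (1 : F)) ∈ H) (htr : Trans 2 H) :
    ∃ k : Subfield F, H = X k := by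
  haveI : Fact (Nat.Prime 2) := ⟨Nat.prime_two⟩
  obtain ⟨v, hvH, hv1, hvp, hvx⟩ := id hzero
  obtain ⟨c₀, rfl⟩ := exists_lo 2 v hvp hvx
  have hc₀ : c₀ ≠ 0 := by
    rintro rfl
    apply hv1
    have h1 : lo (0 : F) = 1 := by apply ext2 <;> simp
    rw [h1]
    rfl
  set H₁ : Subgroup (ProjGenLinGroup (Fin 2) F) := H.map ProjectiveSpecialLinearGroup.toPGL with hH₁
  set G : Subgroup (GL (Fin 2) F) := H₁.comap ProjGenLinGroup.mk with hG
  have hmem : ∀ A : SL2 F, toGL A ∈ G ↔ cl A ∈ H := by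
    intro A
    rw [hG, Subgroup.mem_comap, ← ProjectiveSpecialLinearGroup.toPGL_mk]
    constructor
    · rintro ⟨h, hh, he⟩
      have h1 : h = cl A := ProjectiveSpecialLinearGroup.toPGL_injective he
      rw [← h1]
      exact hh
    · intro h
      exact ⟨_, h, rfl⟩
  have horb : ∀ g ∈ G, g 1 0 ≠ 0 → toGL (up (g 0 0 / g 1 0)) ∈ G := by
    intro g hg hg10
    rw [hG, Subgroup.mem_comap] at hg
    obtain ⟨h, hh, hhg⟩ := hg
    obtain ⟨A, rfl⟩ := exists_rep h
    rw [ProjectiveSpecialLinearGroup.toPGL_mk, ProjGenLinGroup.mk_eq_mk_iff] at hhg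
    obtain ⟨t, ht⟩ := hhg
    have s00 : (GeneralLinearGroup.scalar (Fin 2) t) 0 0 = (t : F) := by
      rw [GeneralLinearGroup.coe_scalar]; simp
    have s10 : (GeneralLinearGroup.scalar (Fin 2) t) 1 0 = (0 : F) := by
      rw [GeneralLinearGroup.coe_scalar]; simp
    have e00 := congrArg (fun M : GL (Fin 2) F => M 0 0) ht
    have e10 := congrArg (fun M : GL (Fin 2) F => M 1 0) ht
    simp only [gl_mul00, gl_mul10, s00, s10, toGL_apply] at e00 e10
    have ht0 : (t : F) ≠ 0 := t.ne_zero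
    have e00' : A 0 0 * t = g 0 0 := by linear_combination e00
    have e10' : A 1 0 * t = g 1 0 := by linear_combination e10
    have hA10 : A 1 0 ≠ 0 := by
      intro h0
      rw [h0, zero_mul] at e10'
      exact hg10 e10'.symm
    -- the image of `∞`
    have hz : pslPerm F (cl A) ∞ = ((A 0 0 / A 1 0 : F) : OnePoint F) := by
      rw [pslPerm_mk, slHom_infty, if_neg hA10]
    have hzmem : ((A 0 0 / A 1 0 : F) : OnePoint F) ∈ OpF 2 H := by
      rw [← hz]
      exact smul_mem_OpF 2 hinf hh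
    obtain ⟨g', hg'H, hg'p, hg'x, hg'y⟩ := htr ∞ hinf _ hzero _ hzmem (coe_ne_infty _)
      (coe_ne_infty _)
    obtain ⟨b, rfl⟩ := exists_up 2 g' hg'p hg'x
    rw [pslPerm_up_zero, coe_eq_coe] at hg'y
    rw [hmem]
    have h3 : g 0 0 / g 1 0 = b := by
      rw [hg'y, ← e00', ← e10']
      field_simp
    rw [h3]
    exact hg'H
  obtain ⟨k, hk1, hk2, hk3⟩ := exists_subfield G ((hmem _).2 hu) c₀ hc₀ ((hmem _).2 hvH) horb
  refine ⟨k, le_antisymm ?_ ?_⟩
  · intro h hh
    obtain ⟨A, rfl⟩ := exists_rep h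
    obtain ⟨s, hs0, hs⟩ := hk3 (toGL A) ((hmem A).2 hh)
    have hs2 : s ^ 2 ∈ k := by
      have h1 := det_eq A
      have h2 : s ^ 2 = (s * A 0 0) * (s * A 1 1) - (s * A 0 1) * (s * A 1 0) := by
        linear_combination -(s ^ 2) * h1
      rw [h2]
      exact sub_mem (mul_mem (hs 0 0) (hs 1 1)) (mul_mem (hs 0 1) (hs 1 0))
    have hsk := mem_of_sq_mem k hs2
    apply mem_X
    intro i j
    have h3 : A i j = s⁻¹ * (s * A i j) := by field_simp
    rw [h3]
    exact mul_mem (inv_mem hsk) (hs i j)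
  · rintro _ ⟨_, ⟨A, rfl⟩, rfl⟩
    have h2 : A ∈ (H.comap (QuotientGroup.mk' _)).comap (Matrix.SpecialLinearGroup.map (n := Fin 2) k.subtype) := by
      apply mem_of_up_lo
      · intro b
        have h3 := (hmem _).1 (hk1 (b : F) b.2)
        have h4 : Matrix.SpecialLinearGroup.map k.subtype (up b) = up (b : F) := by
          apply ext2
          · exact map_one k.subtype
          · rfl
          · exact map_zero k.subtype
          · exact map_one k.subtype
        rw [Subgroup.mem_comap, Subgroup.mem_comap, h4]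
        exact h3
      · intro b
        have h3 := (hmem _).1 (hk2 (b : F) b.2)
        have h4 : Matrix.SpecialLinearGroup.map k.subtype (lo b) = lo (b : F) := by
          apply ext2
          · exact map_one k.subtype
          · exact map_zero k.subtype
          · rfl
          · exact map_one k.subtype
        rw [Subgroup.mem_comap, Subgroup.mem_comap, h4]
        exact h3
    exact h2

/-- normalisation of a pair of points and an involution -/
theorem exists_move1 [Fintype F] [CharP F 2] (x y : OnePoint F) (hxy : x ≠ y) {u : PSL2 F} (hu1 : u ≠ 1) (hu2 : u ^ 2 = 1)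
    (hux : pslPerm F u x = x) :
    ∃ g : PSL2 F, pslPerm F g x = ∞ ∧ pslPerm F g y = ((0 : F) : OnePoint F) ∧ g * u * g⁻¹ = cl (up (1 : F)) := by
  haveI : Fact (Nat.Prime 2) := ⟨Nat.prime_two⟩
  obtain ⟨b, hbx, hby⟩ := exists_move x y hxy
  have h1 : (b * u * b⁻¹) ^ 2 = 1 := by rw [conj_pow, hu2, mul_one, mul_inv_cancel]
  have h2 : pslPerm F (b * u * b⁻¹) ∞ = ∞ := by
    rw [← hbx, map_mul, map_mul, map_inv, Equiv.Perm.mul_apply, Equiv.Perm.mul_apply, pinv_apply, hux]
  obtain ⟨a, ha⟩ := exists_up 2 _ h1 h2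
  have ha0 : a ≠ 0 := by
    rintro rfl
    rw [up_zero] at ha
    exact hu1 (conj_eq_one_iff.mp ha)
  obtain ⟨s, hs⟩ := FiniteField.isSquare_of_char_two (ringChar.eq F 2) a⁻¹
  have hs0 : s ≠ 0 := by
    rintro rfl
    rw [mul_zero, inv_eq_zero] at hs
    exact ha0 hs
  refine ⟨cl (_root_.Cfsg.Agent.ClassicalGeometry.SplitTorus.dg (Units.mk0 s hs0)) * b, ?_, ?_, ?_⟩
  · rw [map_mul, Equiv.Perm.mul_apply, hbx, pslPerm_mk, slHom_infty_iff, dg10]
  · rw [map_mul, Equiv.Perm.mul_apply, hby, pslPerm_mk, slHom_coe]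
    simp [hs0]
  · have h3 : cl (_root_.Cfsg.Agent.ClassicalGeometry.SplitTorus.dg (Units.mk0 s hs0)) * b * u * (cl (dg (Units.mk0 s hs0)) * b)⁻¹ =
        cl (dg (Units.mk0 s hs0)) * (b * u * b⁻¹) * (cl (dg (Units.mk0 s hs0)))⁻¹ := by group
    rw [h3, ha]
    have h4 : cl (_root_.Cfsg.Agent.ClassicalGeometry.SplitTorus.dg (Units.mk0 s hs0)) * cl (up a) * (cl (dg (Units.mk0 s hs0)))⁻¹ =
        cl (dg (Units.mk0 s hs0) * up a * (dg (Units.mk0 s hs0))⁻¹) := rfl
    rw [h4, dg_conj_up]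
    congr 2
    show s ^ 2 * a = 1
    rw [sq, ← hs, inv_mul_cancel₀ ha0]

/-- The general case. -/
theorem main_trans1 [Fintype F] [CharP F 2] (H : Subgroup (PSL2 F))
    {x y : OnePoint F} (hx : x ∈ OpF 2 H) (hy : y ∈ OpF 2 H) (hxy : x ≠ y) (htr : Trans 2 H) :
    ∃ (k : Subfield F) (g : PSL2 F), H.map (MulAut.conj g).toMonoidHom = X k := by
  haveI : Fact (Nat.Prime 2) := ⟨Nat.prime_two⟩
  obtain ⟨u₀, hu₀H, hu₀1, hu₀p, hu₀x⟩ := id hx
  obtain ⟨b, hbx, hby, hbu⟩ := exists_move1 x y hxy hu₀1 hu₀p hu₀x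
  set H' := H.map (MulAut.conj b).toMonoidHom with hH'
  have hmem : ∀ h ∈ H, b * h * b⁻¹ ∈ H' := fun h hh => ⟨h, hh, rfl⟩
  have hOp : ∀ z, z ∈ OpF 2 H → pslPerm F b z ∈ OpF 2 H' := by
    rintro z ⟨u, huH, hu1, hup, hux⟩
    refine ⟨b * u * b⁻¹, hmem u huH, fun h => hu1 (conj_eq_one_iff.mp h), ?_, ?_⟩
    · rw [conj_pow, hup, mul_one, mul_inv_cancel]
    · rw [map_mul, map_mul, map_inv, Equiv.Perm.mul_apply, Equiv.Perm.mul_apply, pinv_apply, hux]
  have hOp' : ∀ z, z ∈ OpF 2 H' → ∃ w ∈ OpF 2 H, pslPerm F b w = z := by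
    rintro z ⟨_, ⟨u, huH, rfl⟩, hu1, hup, hux⟩
    refine ⟨(pslPerm F b)⁻¹ z, ⟨u, huH, ?_, ?_, ?_⟩, papply_inv _ _⟩
    · rintro rfl
      exact hu1 (map_one _)
    · have h1 : (MulAut.conj b) (u ^ 2) = 1 := by
        rw [map_pow]; exact hup
      exact (MulEquiv.map_eq_one_iff _).mp h1
    · have h1 : pslPerm F (b * u * b⁻¹) z = z := hux
      rw [map_mul, map_mul, map_inv, Equiv.Perm.mul_apply, Equiv.Perm.mul_apply] at h1
      apply (pslPerm F b).injective
      rw [h1, papply_inv]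
  have htr' : Trans 2 H' := by
    intro x1 hx1 y1 hy1 z1 hz1 hyx hzx
    obtain ⟨x2, hx2, rfl⟩ := hOp' x1 hx1
    obtain ⟨y2, hy2, rfl⟩ := hOp' y1 hy1
    obtain ⟨z2, hz2, rfl⟩ := hOp' z1 hz1
    obtain ⟨g, hgH, hgp, hgx, hgy⟩ := htr x2 hx2 y2 hy2 z2 hz2 (fun h => hyx (by rw [h]))
      (fun h => hzx (by rw [h]))
    refine ⟨b * g * b⁻¹, hmem g hgH, ?_, ?_, ?_⟩
    · rw [conj_pow, hgp, mul_one, mul_inv_cancel]
    · rw [map_mul, map_mul, map_inv, Equiv.Perm.mul_apply, Equiv.Perm.mul_apply, pinv_apply, hgx]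
    · rw [map_mul, map_mul, map_inv, Equiv.Perm.mul_apply, Equiv.Perm.mul_apply, pinv_apply, hgy]
  have h1 := hOp x hx
  have h2 := hOp y hy
  rw [hbx] at h1
  rw [hby] at h2
  obtain ⟨k, hk⟩ := normalised1 H' h1 h2 (by rw [← hbu]; exact hmem _ hu₀H) htr'
  exact ⟨k, b, hk⟩

end sub

/-! ### Dickson's theorem, characteristic two -/

/-- a nontrivial commutative characteristic subgroup -/
def HasAb (G : Type*) [Group G] : Prop := ∃ Y : Subgroup G, Y.Characteristic ∧ Y ≠ ⊥ ∧ ∀ a ∈ Y, ∀ b ∈ Y, a * b = b * a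

theorem hasAb_of_solvable {G : Type*} [Group G] (h : Group.IsSolvable G) (hn : Nontrivial G) : HasAb G := by
  obtain ⟨A, h1, h2, h3⟩ := Cfsg.Agent.Lib.SolvableMinNormal.exists_characteristic_abelian (G := G)
  exact ⟨A, h1, h3, fun a ha b hb => congrArg Subtype.val (h2.is_comm.comm (⟨a, ha⟩ : A) ⟨b, hb⟩)⟩

theorem solvable_congr {G G' : Type*} [Group G] [Group G'] (e : G ≃* G') (h : Group.IsSolvable G') : Group.IsSolvable G :=
  Group.isSolvable_of_isSolvable_injective (f := e.toMonoidHom) e.injective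

theorem dick2' {F : Type*} [Field F] [Fintype F] [DecidableEq F] (p : ℕ) (hp2 : p = 2) [Fact p.Prime] [CharP F p]
    (H : Subgroup (PSL2 F)) (hH : H ≠ ⊥) :
    HasAb H ∨ ∃ (k : Subfield F) (g : PSL2 F), H.map (MulAut.conj g).toMonoidHom = X k := by
  classical
  haveI : Nontrivial H := (Subgroup.nontrivial_iff_ne_bot H).2 hH
  let K := AlgebraicClosure F
  haveI : CharP K p := charP_of_injective_algebraMap (algebraMap F K).injective p
  let ι : F →+* K := algebraMap F K
  let φ : H →* PSL2 K := (pslMap ι).comp H.subtype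
  have hφ : Function.Injective φ := (pslMap_injective ι).comp H.subtype_injective
  letI := act φ
  have pole : Pole p K H (OnePoint K) := pole_of_injective p φ hφ
  have hact : ∀ (g : H) (x : OnePoint K), g • x = pslPerm K (pslMap ι (g : _)) x := fun _ _ => rfl
  by_cases hp : p ∣ Nat.card H
  · -- the wild case
    obtain ⟨u, hu⟩ := exists_prime_orderOf_dvd_card' p hp
    have hup : u ^ p = 1 := by rw [← hu]; exact pow_orderOf_eq_one u
    have hu1 : u ≠ 1 := by
      rintro rfl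
      rw [orderOf_one] at hu
      exact (Fact.out : p.Prime).one_lt.ne hu
    obtain ⟨x₀, hx₀⟩ := pole.one u hu1 hup
    have hx₀' : x₀ ∈ Op p H (OnePoint K) := ⟨u, hu1, hup, (hx₀ x₀).mpr rfl⟩
    by_cases hone : ∀ x ∈ Op p H (OnePoint K), x = x₀
    · -- the Sylow subgroup is normal
      left
      obtain ⟨P, hP⟩ := pole.exists_sylow hx₀'
      have hnorm : (P : Subgroup H).Normal := by
        rw [hP]
        refine ⟨fun n hn g => ?_⟩
        have hg : g • x₀ = x₀ := hone _ (smul_mem_Op g hx₀')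
        refine ⟨?_, ?_⟩
        · rw [mul_smul, mul_smul, inv_smul_eq_iff.mpr hg.symm, hn.1, hg]
        · rw [conj_pow, hn.2, mul_one, mul_inv_cancel]
      have hc : (P : Subgroup H).Characteristic := Sylow.characteristic_of_normal P hnorm
      refine ⟨P, hc, P.ne_bot_of_dvd_card hp, ?_⟩
      -- `P` is commutative
      obtain ⟨R, hR⟩ := (P.2.map H.subtype).exists_le_sylow
      intro a ha b hb
      apply Subtype.ext
      exact Cfsg.Agent.H36.EPL.sylow_comm p R (hR ⟨a, ha, rfl⟩) (hR ⟨b, hb, rfl⟩)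
    · push Not at hone
      obtain ⟨x₁, hx₁, hne⟩ := hone
      have hr : 2 ≤ (Op p H (OnePoint K)).ncard := by
        refine (Set.ncard_pair (Ne.symm hne)).ge.trans ?_
        exact Set.ncard_le_ncard (by
          rintro x (rfl | rfl)
          · exact hx₀'
          · exact hx₁) pole.finite_Op
      obtain ⟨y, hy, heq, h1 | ⟨h1, h2, h3⟩ | ⟨h1, h2, h3, h4, h5, h6⟩⟩ := numbers pole hx₀' hr
      · -- transfer to the projective line over `F`
        right
        have hrat : ∀ x ∈ Op p H (OnePoint K), ∃ x' ∈ OpF p H, OnePoint.map ι x' = x := by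
          rintro x ⟨v, hv1, hvp, hvx⟩
          have hvp' : (v : PSL2 F) ^ p = 1 :=
            congrArg Subtype.val hvp
          obtain ⟨x', hx'⟩ := exists_fix_rational p _ hvp'
          refine ⟨x', ⟨v, v.2, fun h => hv1 (Subtype.ext h), hvp', hx'⟩, ?_⟩
          obtain ⟨y, hy⟩ := pole.one v hv1 hvp
          rw [(hy x).mp hvx]
          apply (hy _).mp
          rw [hact, pslPerm_map, hx']
        have hOp : ∀ x ∈ OpF p H, OnePoint.map ι x ∈ Op p H (OnePoint K) := by
          rintro x ⟨v, hvH, hv1, hvp, hvx⟩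
          refine ⟨⟨v, hvH⟩, fun h => hv1 (congrArg Subtype.val h), Subtype.ext hvp, ?_⟩
          rw [hact, pslPerm_map, hvx]
        have htr : ∀ x ∈ Op p H (OnePoint K), ∀ y ∈ Op p H (OnePoint K), ∀ z ∈ Op p H (OnePoint K), y ≠ x → z ≠ x →
            ∃ g : H, g ^ p = 1 ∧ g • x = x ∧ g • y = z := by
          intro x hx a ha b hb hax hbx
          obtain ⟨g, hg, hg'⟩ := transitive_of_ncard pole hx₀' h1 hx ha hb hax hbx
          exact ⟨g, hg.2, hg.1, hg'⟩
        have hTr : _root_.Cfsg.Agent.ClassicalGeometry.DicksonWild.Trans p H := by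
          intro x hx y hy z hz hyx hzx
          obtain ⟨g, hgp, hgx, hgy⟩ := htr _ (hOp x hx) _ (hOp y hy) _ (hOp z hz)
            (fun h => hyx (_root_.Cfsg.Agent.S0799.map_injective ι h)) (fun h => hzx (_root_.Cfsg.Agent.S0799.map_injective ι h))
          refine ⟨g, g.2, congrArg Subtype.val hgp, ?_, ?_⟩
          · apply _root_.Cfsg.Agent.S0799.map_injective ι
            rw [← pslPerm_map, ← hact, hgx]
          · apply _root_.Cfsg.Agent.S0799.map_injective ι
            rw [← pslPerm_map, ← hact, hgy]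
        obtain ⟨a, ha, hax⟩ := hrat x₀ hx₀'
        obtain ⟨b, hb, hbx⟩ := hrat x₁ hx₁
        have hab : a ≠ b := by
          rintro rfl
          exact hne (hbx.symm.trans hax)
        subst hp2
        exact main_trans1 H ha hb hab hTr
      · left
        obtain ⟨hd⟩ : Nonempty (H ≃* DihedralGroup (Nat.card (stabilizer H y))) := by
          apply dihedral_of_index_two pole hy
          · intro t ht
            rwa [hp2]
          · rw [h3, h2]
        exact hasAb_of_solvable (solvable_congr hd (Cfsg.Agent.ClassicalGeometry.PSL2Solvable.isSolvable_dihedral _))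
          inferInstance
      · -- `A₅` : the group of the third numerical case
        exfalso
        have h7 : p = 3 := eq_of_card_E pole Nat.prime_three h1
        omega
  · -- the tame case
    left
    have hpow : ∀ g : H, g ≠ 1 → g ^ p ≠ 1 := by
      intro g hg hgp
      apply hp
      rw [← orderOf_eq_prime hgp hg]
      exact orderOf_dvd_natCard g
    have hcyc : ∀ x : OnePoint K, IsCyclic (stabilizer H x) := by
      intro x
      obtain ⟨χ, hχ⟩ := pole.chi x
      have hinj : Function.Injective χ := by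
        rw [injective_iff_map_eq_one]
        intro g hg
        by_contra hne
        have h1 := (hχ g).mp hg
        exact hpow g (fun h => hne (Subtype.ext h)) (congrArg Subtype.val h1)
      have hcoe : Function.Injective (Units.coeHom K) := Units.val_injective
      exact isCyclic_of_injective_ringHom ((Units.coeHom K).comp χ) (hcoe.comp hinj)
    rcases Cfsg.Agent.ClassicalGeometry.PolePrime.pole_prime
      (fun (g : H) hg => pole.two g (hpow g hg)) hcyc with h1 | ⟨k, hk, ⟨e⟩⟩ | ⟨⟨e⟩⟩ | ⟨⟨e⟩⟩ | ⟨⟨e⟩⟩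
    · refine ⟨⊤, inferInstance, ?_, ?_⟩
      · exact top_ne_bot
      · intro a _ b _
        exact h1.commGroup.mul_comm a b
    · exact hasAb_of_solvable (solvable_congr e (Cfsg.Agent.ClassicalGeometry.PSL2Solvable.isSolvable_dihedral k))
        inferInstance
    · exfalso
      apply hp
      rw [hp2, Nat.card_congr e.toEquiv, nat_card_alternatingGroup, Nat.card_eq_fintype_card, Fintype.card_fin]
      decide
    · exfalso
      apply hp
      rw [hp2, Nat.card_congr e.toEquiv, Nat.card_perm, Nat.card_eq_fintype_card, Fintype.card_fin]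
      decide
    · exfalso
      apply hp
      rw [hp2, Nat.card_congr e.toEquiv, nat_card_alternatingGroup, Nat.card_eq_fintype_card, Fintype.card_fin]
      decide

theorem dick2 {F : Type*} [Field F] [Fintype F] [DecidableEq F] [CharP F 2] (H : Subgroup (PSL2 F)) (hH : H ≠ ⊥) :
    HasAb H ∨ ∃ (k : Subfield F) (g : PSL2 F), H.map (MulAut.conj g).toMonoidHom = X k := by
  haveI : Fact (Nat.Prime 2) := ⟨Nat.prime_two⟩
  exact dick2' 2 rfl H hH

/-! ### centralisers -/

section cent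

open Subgroup Cfsg.Agent.H273.EPU

/-- matrices commuting with a matrix which is not scalar commute -/
theorem comm_of_comm {F : Type*} [Field F] {A B C : Matrix (Fin 2) (Fin 2) F}
    (hA : A 0 1 ≠ 0 ∨ A 1 0 ≠ 0 ∨ A 0 0 - A 1 1 ≠ 0) (h1 : A * B = B * A) (h2 : A * C = C * A) : B * C = C * B := by
  have b00 := congrFun (congrFun h1 0) 0
  have b01 := congrFun (congrFun h1 0) 1
  have b10 := congrFun (congrFun h1 1) 0
  have c00 := congrFun (congrFun h2 0) 0
  have c01 := congrFun (congrFun h2 0) 1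
  have c10 := congrFun (congrFun h2 1) 0
  simp only [Matrix.mul_apply, Fin.sum_univ_two] at b00 b01 b10 c00 c01 c10
  have key : B 0 1 * C 1 0 = C 0 1 * B 1 0 ∧ (B 0 0 - B 1 1) * C 0 1 = B 0 1 * (C 0 0 - C 1 1) ∧
      (B 0 0 - B 1 1) * C 1 0 = B 1 0 * (C 0 0 - C 1 1) := by
    rcases hA with h | h | h
    · refine ⟨mul_left_cancel₀ h ?_, mul_left_cancel₀ h ?_, mul_left_cancel₀ h (mul_left_cancel₀ h ?_)⟩
      · linear_combination B 0 1 * c00 - C 0 1 * b00
      · linear_combination -(C 0 1) * b01 + B 0 1 * c01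
      · linear_combination -(A 0 1 * C 1 0) * b01 + A 0 1 * B 1 0 * c01 +
          (A 0 0 - A 1 1) * (B 0 1 * c00 - C 0 1 * b00)
    · refine ⟨mul_left_cancel₀ h ?_, mul_left_cancel₀ h (mul_left_cancel₀ h ?_), mul_left_cancel₀ h ?_⟩
      · linear_combination B 1 0 * c00 - C 1 0 * b00
      · linear_combination A 1 0 * C 0 1 * b10 - A 1 0 * B 0 1 * c10 -
          (A 0 0 - A 1 1) * (B 1 0 * c00 - C 1 0 * b00)
      · linear_combination C 1 0 * b10 - B 1 0 * c10
    · refine ⟨mul_left_cancel₀ h (mul_left_cancel₀ h ?_), mul_left_cancel₀ h ?_, mul_left_cancel₀ h ?_⟩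
      · linear_combination (A 0 0 - A 1 1) * C 1 0 * b01 - A 0 1 * (B 0 0 - B 1 1) * c10 -
          (A 0 0 - A 1 1) * B 1 0 * c01 + A 0 1 * (C 0 0 - C 1 1) * b10
      · linear_combination (B 0 0 - B 1 1) * c01 - (C 0 0 - C 1 1) * b01
      · linear_combination -(B 0 0 - B 1 1) * c10 + (C 0 0 - C 1 1) * b10
  ext i j
  fin_cases i <;> fin_cases j <;> simp only [Matrix.mul_apply, Fin.sum_univ_two, Fin.zero_eta, Fin.mk_one, Fin.isValue]
  · linear_combination key.1
  · linear_combination key.2.1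
  · linear_combination -key.2.2
  · linear_combination -key.1

variable {F : Type*} [Field F]

theorem cl_inj [CharP F 2] {A B : SL2 F} (h : cl A = cl B) : A = B := by
  have h1 := QuotientGroup.eq.1 h
  rw [mem_center_SL2_iff] at h1
  have h2 : (-1 : SL2 F) = 1 := by
    ext i j
    rw [Matrix.SpecialLinearGroup.coe_neg, Matrix.neg_apply, CharTwo.neg_eq]
  rw [h2, or_self, inv_mul_eq_one] at h1
  exact h1

theorem not_scalar [CharP F 2] {A : SL2 F} (hA : A ≠ 1) : A 0 1 ≠ 0 ∨ A 1 0 ≠ 0 ∨ A 0 0 - A 1 1 ≠ 0 := by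
  by_contra hcon
  push Not at hcon
  obtain ⟨h1, h2, h3⟩ := hcon
  apply hA
  have hd := det_eq A
  have h4 : A 1 1 = A 0 0 := (sub_eq_zero.1 h3).symm
  rw [h1, zero_mul, sub_zero, h4] at hd
  have h5 : (A 0 0 - 1) ^ 2 = 0 := by
    rw [sub_sq]
    have h6 : (2 : F) = 0 := by exact_mod_cast CharP.cast_eq_zero F 2
    linear_combination hd + (1 - A 0 0) * h6
  have h6 : A 0 0 = 1 := by
    have := pow_eq_zero_iff (two_ne_zero) |>.1 h5
    exact sub_eq_zero.1 this
  apply ext2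
  · rw [h6]; rfl
  · rw [h1]; rfl
  · rw [h2]; rfl
  · rw [h4, h6]; rfl

theorem cent_comm [CharP F 2] {g a b : PSL2 F} (hg : g ≠ 1) (ha : g * a = a * g) (hb : g * b = b * g) : a * b = b * a := by
  classical
  obtain ⟨A, rfl⟩ := exists_rep g
  obtain ⟨B, rfl⟩ := exists_rep a
  obtain ⟨C, rfl⟩ := exists_rep b
  have h1 : A * B = B * A := cl_inj ha
  have h2 : A * C = C * A := cl_inj hb
  have hA : A ≠ 1 := by
    rintro rfl
    exact hg rfl
  have h3 := comm_of_comm (not_scalar hA) (congrArg Subtype.val h1) (congrArg Subtype.val h2)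
  have h4 : B * C = C * B := Subtype.ext h3
  show cl (B * C) = cl (C * B)
  rw [h4]

/-- a member of `LocK` with a commutative characteristic subgroup, centralisers being commutative -/
theorem locK_ab {L : Type*} [Group L] (hca : ∀ g a b : L, g ≠ 1 → g * a = a * g → g * b = b * g → a * b = b * a)
    {H : Subgroup L} (hH : H ∈ LocK L) (hab : HasAb H) :
    ∃ g : L, g ≠ 1 ∧ H = normalizer {a : L | g * a = a * g} := by
  obtain ⟨Y, hY, hY0, hYa⟩ := hab
  obtain ⟨y, hy, hy1⟩ : ∃ y ∈ Y, y ≠ 1 := by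
    by_contra hcon
    push Not at hcon
    exact hY0 ((eq_bot_iff_forall Y).2 hcon)
  have hy1' : (y : L) ≠ 1 := fun h => hy1 (Subtype.ext h)
  refine ⟨y, hy1', ?_⟩
  have hcY : (centralizer (Y : Set H)).Characteristic := inferInstance
  have hle : Y ≤ centralizer (Y : Set H) := by
    intro a ha
    rw [mem_centralizer_iff]
    intro b hb
    exact hYa b hb a ha
  have hne : centralizer (Y : Set H) ≠ ⊥ := fun h => hY0 (le_bot_iff.1 (h ▸ hle))
  have h1 := Cfsg.Agent.H36.EPL.locK_eq hH hcY hne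
  have h2 := Cfsg.Agent.H36.EPL.locK_eq hH hY hY0
  have h3 : (((centralizer (Y : Set H)).map H.subtype : Subgroup L) : Set L) = {a : L | (y : L) * a = a * (y : L)} := by
    ext a
    constructor
    · rintro ⟨c, hc, rfl⟩
      exact congrArg Subtype.val (mem_centralizer_iff.1 hc y hy)
    · intro ha
      have ha' : (y : L) * a = a * (y : L) := ha
      have hcomm : ∀ b ∈ Y, (b : L) * a = a * (b : L) := fun b hb =>
        (hca _ _ _ hy1' ha' (congrArg Subtype.val (hYa y hy b hb))).symm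
      have haH : a ∈ H := by
        rw [← h2, mem_normalizer_iff]
        intro x
        constructor
        · rintro ⟨b, hb, rfl⟩
          refine ⟨b, hb, ?_⟩
          show (b : L) = a * (b : L) * a⁻¹
          rw [← hcomm b hb, mul_inv_cancel_right]
        · rintro ⟨b, hb, hb2⟩
          refine ⟨b, hb, ?_⟩
          have hb3 : (b : L) = a * x * a⁻¹ := hb2
          show (b : L) = x
          have h5 : x = a⁻¹ * (b : L) * a := by rw [hb3]; group
          rw [h5, mul_assoc, hcomm b hb, inv_mul_cancel_left]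
      refine ⟨⟨a, haH⟩, ?_, rfl⟩
      show (⟨a, haH⟩ : H) ∈ centralizer (Y : Set H)
      rw [mem_centralizer_iff]
      intro b hb
      exact Subtype.ext (hcomm b hb)
  rw [← h3]
  exact h1.symm

/-- normalised matrices -/
def tmat : (F × F) ⊕ (F ⊕ Unit) → Matrix (Fin 2) (Fin 2) F
  | .inl (b, c) => !![1, b; c, 0]
  | .inr (.inl c) => !![0, 1; c, 0]
  | .inr (.inr _) => !![0, 0; 1, 0]

theorem exists_tmat {A : Matrix (Fin 2) (Fin 2) F} (hA : A 0 1 ≠ 0 ∨ A 1 0 ≠ 0 ∨ A 0 0 - A 1 1 ≠ 0) :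
    ∃ (t : (F × F) ⊕ (F ⊕ Unit)) (l m : F), l ≠ 0 ∧ A = l • tmat t + m • (1 : Matrix (Fin 2) (Fin 2) F) := by
  by_cases h1 : A 0 0 - A 1 1 = 0
  · by_cases h2 : A 0 1 = 0
    · have h3 : A 1 0 ≠ 0 := by
        rcases hA with h | h | h
        · exact absurd h2 h
        · exact h
        · exact absurd h1 h
      refine ⟨.inr (.inr ()), A 1 0, A 1 1, h3, ?_⟩
      ext i j
      (revert i j; simp only [tmat, h2, _root_.Fin.forall_fin_succ, Fin.isValue, _root_.Matrix.smul_of, _root_.Matrix.smul_cons, _root_.smul_eq_mul, _root_.MulZeroClass.mul_zero, _root_.Matrix.smul_empty, _root_.mul_one, _root_.Matrix.add_apply, _root_.Matrix.of_apply, _root_.Matrix.cons_val', _root_.Matrix.cons_val_fin_one, _root_.Matrix.smul_apply, _root_.Matrix.cons_val_zero, _root_.Matrix.cons_val_succ, _root_.Fin.succ_zero_eq_one, _root_.IsEmpty.forall_iff, _root_.Matrix.one_apply_eq, _root_.zero_add, Nat.reduceAdd, _root_.ne_eq, _root_.zero_ne_one, _root_.not_false_eq_true,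 _root_.Matrix.one_apply_ne, _root_.add_zero, _root_.Fin.succ_ne_zero, _root_.and_true, _root_.true_and]) <;> (repeat' with_reducible apply And.intro)
      linear_combination h1
    · refine ⟨.inr (.inl (A 1 0 / A 0 1)), A 0 1, A 1 1, h2, ?_⟩
      ext i j
      (revert i j; simp only [tmat, _root_.Fin.forall_fin_succ, Fin.isValue, _root_.Matrix.smul_of, _root_.Matrix.smul_cons, _root_.smul_eq_mul, _root_.MulZeroClass.mul_zero, _root_.mul_one, _root_.Matrix.smul_empty, _root_.Matrix.add_apply, _root_.Matrix.of_apply, _root_.Matrix.cons_val', _root_.Matrix.cons_val_fin_one, _root_.Matrix.smul_apply, _root_.Matrix.cons_val_zero, _root_.Matrix.cons_val_succ, _root_.Fin.succ_zero_eq_one, _root_.IsEmpty.forall_iff, _root_.Matrix.one_apply_eq, _root_.zero_add, Nat.reduceAdd, _root_.ne_eq, _root_.zero_ne_one, _root_.not_false_eq_true, _root_.Matrix.one_apply_ne, _root_.add_zero, _root_.Fin.succ_ne_zero, _root_.and_true, _root_.true_and]) <;> (repeat'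 with_reducible apply And.intro)
      · linear_combination h1
      · field_simp
  · refine ⟨.inl (A 0 1 / (A 0 0 - A 1 1), A 1 0 / (A 0 0 - A 1 1)), A 0 0 - A 1 1, A 1 1, h1, ?_⟩
    ext i j
    (revert i j; simp only [tmat, _root_.Fin.forall_fin_succ, Fin.isValue, _root_.Matrix.smul_of, _root_.Matrix.smul_cons, _root_.smul_eq_mul, _root_.mul_one, _root_.Matrix.smul_empty, _root_.MulZeroClass.mul_zero, _root_.Matrix.add_apply, _root_.Matrix.of_apply, _root_.Matrix.cons_val', _root_.Matrix.cons_val_fin_one, _root_.Matrix.smul_apply, _root_.Matrix.cons_val_zero, _root_.Matrix.cons_val_succ, _root_.Fin.succ_zero_eq_one, _root_.IsEmpty.forall_iff, _root_.Matrix.one_apply_eq, _root_.sub_add_cancel, Nat.reduceAdd, _root_.ne_eq, _root_.zero_ne_one, _root_.not_false_eq_true, _root_.Matrix.one_apply_ne, _root_.add_zero, _root_.Fin.succ_ne_zero, _root_.zero_add, _root_.and_true, _root_.true_and]) <;> (repeat' with_reducible apply And.intro)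
    · field_simp
    · field_simp

theorem comm_tmat {A B T : Matrix (Fin 2) (Fin 2) F} {l m : F} (hl : l ≠ 0)
    (h : A = l • T + m • (1 : Matrix (Fin 2) (Fin 2) F)) : A * B = B * A ↔ T * B = B * T := by
  rw [h, add_mul, mul_add, smul_mul_assoc, mul_smul_comm, smul_mul_assoc, mul_smul_comm, one_mul, mul_one,
    add_left_inj]
  constructor
  · intro h1
    have h2 := congrArg (fun M => l⁻¹ • M) h1
    simpa only [smul_smul, inv_mul_cancel₀ hl, _root_.one_smul] using h2
  · intro h1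
    rw [h1]

/-- the first family -/
theorem ncard_cent [Fintype F] [CharP F 2] :
    {H : Subgroup (PSL2 F) | ∃ g : PSL2 F, g ≠ 1 ∧ H = normalizer {a : PSL2 F | g * a = a * g}}.ncard ≤
      Fintype.card F ^ 2 + Fintype.card F + 1 := by
  classical
  let f : (F × F) ⊕ (F ⊕ Unit) → Subgroup (PSL2 F) := fun t =>
    normalizer {a : PSL2 F | ∃ B : SL2 F, a = cl B ∧ tmat t * (B : Matrix (Fin 2) (Fin 2) F) = B * tmat t}
  have hsub : {H : Subgroup (PSL2 F) | ∃ g : PSL2 F, g ≠ 1 ∧ H = normalizer {a : PSL2 F | g * a = a * g}} ⊆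
      Set.range f := by
    rintro H ⟨g, hg, rfl⟩
    obtain ⟨A, rfl⟩ := exists_rep g
    have hA : A ≠ 1 := by
      rintro rfl
      exact hg rfl
    obtain ⟨t, l, m, hl, hAt⟩ := exists_tmat (not_scalar hA)
    refine ⟨t, ?_⟩
    show normalizer _ = normalizer _
    congr 1
    ext a
    constructor
    · rintro ⟨B, rfl, hB⟩
      rw [← comm_tmat hl hAt] at hB
      have h1 : A * B = B * A := Subtype.ext hB
      show cl (A * B) = cl (B * A)
      rw [h1]
    · intro ha
      obtain ⟨B, rfl⟩ := exists_rep a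
      have h1 : A * B = B * A := cl_inj ha
      exact ⟨B, rfl, (comm_tmat hl hAt).1 (congrArg Subtype.val h1)⟩
  refine (Set.ncard_le_ncard hsub (Set.toFinite _)).trans ?_
  rw [← Set.image_univ]
  refine (Set.ncard_image_le (Set.toFinite _)).trans ?_
  rw [Set.ncard_univ, Nat.card_eq_fintype_card, Fintype.card_sum, Fintype.card_sum, Fintype.card_prod, Fintype.card_unit]
  ring_nf
  omega

end cent

/-! ### subfields -/

section sf

open Subgroup Cfsg.Agent.H273.EPU

variable {F : Type*} [Field F] [Fintype F]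

theorem mem_subfield_iff (k : Subfield F) (x : F) : x ∈ k ↔ x ^ Nat.card k = x := by
  have : Finite k := Subtype.finite
  letI := Fintype.ofFinite k
  constructor
  · intro hx
    have h1 := FiniteField.pow_card (⟨x, hx⟩ : k)
    rw [← Nat.card_eq_fintype_card] at h1
    exact congrArg Subtype.val h1
  · intro hx
    obtain ⟨t, ht⟩ := Cfsg.Agent.ClassicalGeometry.SL2Outer.exists_of_pow_card_eq (F := k) (E := F)
      hx
    rw [← ht]
    exact t.2

theorem subfield_eq {k k' : Subfield F} (h : Nat.card k = Nat.card k') : k = k' := by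
  ext x
  rw [mem_subfield_iff, mem_subfield_iff, h]

theorem card_subfield_eq [CharP F 2] {n : ℕ} (hn : Fintype.card F = 2 ^ n) (k : Subfield F) :
    ∃ e, 1 ≤ e ∧ e ≤ n ∧ Nat.card k = 2 ^ e := by
  haveI : Finite k := Subtype.finite
  letI := Fintype.ofFinite k
  haveI : CharP k 2 := charP_of_injective_algebraMap (R := k) (A := F) (algebraMap k F).injective 2 |> fun _ =>
    (RingHom.charP_iff k.subtype k.subtype.injective 2).2 inferInstance
  obtain ⟨e, _, he⟩ := FiniteField.card k 2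
  refine ⟨e, e.pos, ?_, ?_⟩
  · have h1 : Fintype.card k ≤ Fintype.card F := Fintype.card_subtype_le _
    rw [he, hn] at h1
    exact (Nat.pow_le_pow_iff_right (by norm_num)).1 h1
  · rw [Nat.card_eq_fintype_card, he]

instance : Finite (Subfield F) := Finite.of_injective (fun k : Subfield F => (k : Set F)) SetLike.coe_injective

theorem card_subfields [CharP F 2] {n : ℕ} (hn : Fintype.card F = 2 ^ n) : Nat.card (Subfield F) ≤ n := by
  classical
  letI := Fintype.ofFinite (Subfield F)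
  rw [Nat.card_eq_fintype_card, ← Finset.card_univ]
  choose e h1 h2 h3 using card_subfield_eq hn
  calc (Finset.univ : Finset (Subfield F)).card ≤ (Finset.Icc 1 n).card := by
        apply Finset.card_le_card_of_injOn e
        · intro k _
          exact Finset.mem_coe.2 (Finset.mem_Icc.2 ⟨h1 k, h2 k⟩)
        · intro k _ k' _ h
          apply subfield_eq
          rw [h3, h3, h]
    _ = n := by rw [Nat.card_Icc]; omega

theorem card_X [CharP F 2] (k : Subfield F) : Nat.card (X k) = Nat.card k * (Nat.card k ^ 2 - 1) := by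
  haveI : Finite k := Subtype.finite
  letI := Fintype.ofFinite k
  have h1 : X k = ((QuotientGroup.mk' _).comp (Matrix.SpecialLinearGroup.map (n := Fin 2) k.subtype)).range :=
    MonoidHom.map_range _ _
  have hinj : Function.Injective ((QuotientGroup.mk' (Subgroup.center (SL2 F))).comp
      (Matrix.SpecialLinearGroup.map (n := Fin 2) k.subtype)) := by
    intro A B h
    have h2 : Matrix.SpecialLinearGroup.map (n := Fin 2) k.subtype A = Matrix.SpecialLinearGroup.map k.subtype B :=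
      cl_inj h
    ext i j
    have h3 := congrArg (fun M : SL2 F => M i j) h2
    exact congrArg Subtype.val (Subtype.ext h3 : A i j = B i j)
  rw [h1, ← Nat.card_congr (MonoidHom.ofInjective hinj).toEquiv, card_SL2, Nat.card_eq_fintype_card]

theorem ncard_conj {L : Type*} [Group L] [Finite L] (X : Subgroup L) :
    {H : Subgroup L | ∃ g : L, H.map (MulAut.conj g).toMonoidHom = X}.ncard ≤ X.index := by
  classical
  let f : L ⧸ X → Subgroup L := fun q => X.map (MulAut.conj q.out).toMonoidHom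
  have hcomp : ∀ (H : Subgroup L) (a b : L), (H.map (MulAut.conj a).toMonoidHom).map (MulAut.conj b).toMonoidHom =
      H.map (MulAut.conj (b * a)).toMonoidHom := by
    intro H a b
    rw [Subgroup.map_map]
    congr 1
    ext x
    simp
  have hX : ∀ x ∈ X, X.map (MulAut.conj x).toMonoidHom = X := by
    intro x hx
    ext y
    constructor
    · rintro ⟨z, hz, rfl⟩
      exact X.mul_mem (X.mul_mem hx hz) (X.inv_mem hx)
    · intro hy
      refine ⟨x⁻¹ * y * x, X.mul_mem (X.mul_mem (X.inv_mem hx) hy) hx, ?_⟩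
      show x * (x⁻¹ * y * x) * x⁻¹ = y
      group
  have hsub : {H : Subgroup L | ∃ g : L, H.map (MulAut.conj g).toMonoidHom = X} ⊆ Set.range f := by
    rintro H ⟨g, hg⟩
    refine ⟨((g⁻¹ : L) : L ⧸ X), ?_⟩
    show X.map (MulAut.conj ((g⁻¹ : L) : L ⧸ X).out).toMonoidHom = H
    obtain ⟨x, hx⟩ := QuotientGroup.mk_out_eq_mul X g⁻¹
    rw [hx, ← hcomp, hX x x.2, ← hg, hcomp, inv_mul_cancel, map_one]
    exact Subgroup.map_id H
  refine (Set.ncard_le_ncard hsub (Set.toFinite _)).trans ?_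
  rw [← Set.image_univ]
  refine (Set.ncard_image_le (Set.toFinite _)).trans ?_
  rw [Set.ncard_univ]
  exact le_rfl

theorem hasAb_six {G : Type*} [Group G] [Finite G] (h : Nat.card G = 6) : HasAb G := by
  haveI : Fact (Nat.Prime 3) := ⟨Nat.prime_three⟩
  obtain ⟨P⟩ : Nonempty (Sylow 3 G) := inferInstance
  have h3 : 3 ∣ Nat.card G := by rw [h]; norm_num
  have h1 : 3 ∣ Nat.card P := P.dvd_card_of_dvd_card h3
  have h2 : Nat.card P ∣ 6 := h ▸ Subgroup.card_subgroup_dvd_card _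
  obtain ⟨n, hn⟩ := IsPGroup.iff_card.mp P.2
  have h4 : Nat.card P = 3 := by
    have h5 : Nat.card P ≤ 6 := Nat.le_of_dvd (by norm_num) h2
    have h6 : n ≤ 1 := by
      by_contra hcon
      have : 3 ^ 2 ≤ 3 ^ n := Nat.pow_le_pow_right (by norm_num) (by omega)
      rw [← hn] at this
      omega
    interval_cases n
    · rw [hn] at h1
      norm_num at h1
    · exact hn
  have h5 : (P : Subgroup G).index = 2 := by
    have := (P : Subgroup G).card_mul_index
    rw [h] at this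
    have h7 : Nat.card (P : Subgroup G) = 3 := h4
    rw [h7] at this
    omega
  have hnorm := Subgroup.normal_of_index_eq_two h5
  refine ⟨P, Sylow.characteristic_of_normal P hnorm, P.ne_bot_of_dvd_card h3, ?_⟩
  haveI : IsCyclic P := isCyclic_of_prime_card (p := 3) h4
  intro a ha b hb
  exact congrArg Subtype.val ((IsCyclic.commGroup (α := P)).mul_comm ⟨a, ha⟩ ⟨b, hb⟩)

theorem hasAb_congr {G G' : Type*} [Group G] [Group G'] (e : G ≃* G') (h : HasAb G') : HasAb G := by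
  obtain ⟨Y, h1, h2, h3⟩ := h
  refine ⟨Y.map e.symm.toMonoidHom, Cfsg.Agent.H59.EP.char_map e.symm h1, ?_, ?_⟩
  · intro h
    rw [Subgroup.map_eq_bot_iff_of_injective _ e.symm.injective] at h
    exact h2 h
  · rintro _ ⟨a, ha, rfl⟩ _ ⟨b, hb, rfl⟩
    have := h3 a ha b hb
    show e.symm a * e.symm b = e.symm b * e.symm a
    rw [← map_mul, ← map_mul, this]

/-- **the number of the local subgroups of `PSL₂(2ⁿ)`** -/
theorem ncard_locK_two [CharP F 2] {n : ℕ} (hn : Fintype.card F = 2 ^ n) :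
    (LocK (PSL2 F)).ncard ≤ (Fintype.card F ^ 2 + Fintype.card F + 1) + n * (Nat.card (PSL2 F) / 60) := by
  classical
  let S₁ : Set (Subgroup (PSL2 F)) :=
    {H : Subgroup (PSL2 F) | ∃ g : PSL2 F, g ≠ 1 ∧ H = normalizer {a : PSL2 F | g * a = a * g}}
  let C : Subfield F → Set (Subgroup (PSL2 F)) := fun k =>
    {H : Subgroup (PSL2 F) | 60 ≤ Nat.card (X k) ∧ ∃ g : PSL2 F, H.map (MulAut.conj g).toMonoidHom = X k}
  letI := Fintype.ofFinite (Subfield F)
  have hsub : LocK (PSL2 F) ⊆ S₁ ∪ ⋃ k ∈ (Finset.univ : Finset (Subfield F)), C k := by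
    intro H hH
    have hab : HasAb H → H ∈ S₁ := fun hab => locK_ab (fun g a b hg ha hb => cent_comm hg ha hb) hH hab
    rcases dick2 H hH.1 with h1 | ⟨k, g, hkg⟩
    · exact Or.inl (hab h1)
    · obtain ⟨e, he1, he2, he3⟩ := card_subfield_eq hn k
      rcases Nat.lt_or_ge e 2 with h2 | h2
      · left
        apply hab
        apply hasAb_congr (H.equivMapOfInjective (MulAut.conj g).toMonoidHom (MulAut.conj g).injective)
        apply hasAb_six
        have h3 : Nat.card (H.map (MulAut.conj g).toMonoidHom) = Nat.card (X k) := by rw [hkg]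
        refine h3.trans ?_
        rw [card_X, he3, show e = 1 by omega]
        norm_num
      · right
        simp only [Set.mem_iUnion, Finset.mem_univ, exists_prop, true_and]
        refine ⟨k, ?_, g, hkg⟩
        rw [card_X, he3]
        have h4 : 2 ^ 2 ≤ 2 ^ e := Nat.pow_le_pow_right (by norm_num) h2
        have h5 : 4 ^ 2 ≤ (2 ^ e) ^ 2 := Nat.pow_le_pow_left h4 2
        calc 60 = 4 * 15 := by norm_num
          _ ≤ 2 ^ e * ((2 ^ e) ^ 2 - 1) := Nat.mul_le_mul h4 (by omega)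
  have hC : ∀ k : Subfield F, (C k).ncard ≤ Nat.card (PSL2 F) / 60 := by
    intro k
    by_cases h60 : 60 ≤ Nat.card (X k)
    · have h1 : (C k).ncard ≤ (X k).index := by
        refine (Set.ncard_le_ncard ?_ (Set.toFinite _)).trans (ncard_conj (X k))
        exact fun H hH => hH.2
      refine h1.trans ?_
      rw [Nat.le_div_iff_mul_le (by norm_num), ← (X k).index_mul_card]
      exact Nat.mul_le_mul_left _ h60
    · have h1 : C k = ∅ := by
        ext H
        exact ⟨fun hH => h60 hH.1, fun h => h.elim⟩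
      rw [h1, Set.ncard_empty]
      exact Nat.zero_le _
  have hU : (⋃ k ∈ (Finset.univ : Finset (Subfield F)), C k).ncard ≤ n * (Nat.card (PSL2 F) / 60) := by
    refine (Finset.set_ncard_biUnion_le _ _).trans ?_
    refine (Finset.sum_le_card_nsmul _ _ _ (fun k _ => hC k)).trans ?_
    rw [smul_eq_mul, Finset.card_univ, ← Nat.card_eq_fintype_card]
    exact Nat.mul_le_mul_right _ (card_subfields hn)
  refine (Set.ncard_le_ncard hsub (Set.toFinite _)).trans ((Set.ncard_union_le _ _).trans (Nat.add_le_add ?_ hU))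
  exact ncard_cent

end sf

end Cfsg.Agent.H7.EP.LocTwo

private theorem dce_4d161791826e : _root_.True := by
  try have : _root_.True := by simp only [_root_.Cfsg.Agent.H7.EP.LocTwo.tmat.eq_2]
  try have : _root_.True := by simp only [_root_.Cfsg.Agent.H7.EP.LocTwo.tmat.eq_3]
  try have : _root_.True := by simp only [_root_.Cfsg.Agent.H7.EP.LocTwo.tmat.eq_1]
  exact _root_.True.intro
end

-- part: H7/EP/EightL2
section
prune_inst 0x400000
set_option linter.all false
open scoped Cfsg.Agent.FastGrp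

/-!
# S3499, row `PΩ₈⁺(q)`: no `A` with socle `PSL₂(q³)`, `q` even (helper7)

* `card_le_two` : the bound for `|Q|` for `soc(A) = PSL₂(2ⁿ)`;
* `no_l2_cube` : `q¹² (q² - 1)(q⁴ - 1)²(q⁶ - 1) ≤ |Q|`;
* `no_l2_cube_plus` : `Q = PΩ₈⁺(q)`.
-/

set_option autoImplicit false
set_option linter.unusedSectionVars false
set_option linter.style.haveILetI false

namespace Cfsg.Agent.H7.EP

open Subgroup Cfsg.Agent.H284 Cfsg.Agent.H419.EP Cfsg Cfsg.Geo
open scoped MatrixGroups

section

variable {Q : Type*} [Group Q] [Finite Q] {A : Subgroup Q} {Γ : Subgroup (MulAut Q)}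

/-- **`soc(A) = PSL₂(2ⁿ)`: a bound for `|Q|`** -/
theorem card_le_two (hs : IsSimpleGroup Q) (h : EPT A Γ) {K : Type} [Field K] [Fintype K] [CharP K 2] {n : ℕ}
    (hn : Fintype.card K = 2 ^ n) (h4 : 4 ≤ Fintype.card K)
    (hS : HasSoc A (Matrix.ProjectiveSpecialLinearGroup (Fin 2) K)) {k N : ℕ} (hk : Fintype.card K = k)
    (hN : k * (k ^ 2 - 1) = N) :
    Nat.card Q ≤ (n * N) * (1 + ((k ^ 2 + k + 1) + n * (N / 60)) * (2 * (n * N / 6))) := by
  haveI : Fact (Nat.Prime 2) := ⟨Nat.prime_two⟩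
  have hn1 : 1 ≤ n := by
    rcases Nat.eq_zero_or_pos n with h0 | h0
    · rw [h0, pow_zero] at hn
      omega
    · exact h0
  have hSL : Nat.card (Matrix.SpecialLinearGroup (Fin 2) K) = N := by
    rw [ClassicalGeometry.PSL2Basic.card_SL2, hk, hN]
  have hAut : Nat.card (MulAut (Matrix.ProjectiveSpecialLinearGroup (Fin 2) K)) = n * N := by
    have h1 := Cfsg.Agent.S0813.result 2 n hn1 hn 2 le_rfl (fun _ => by rw [← hn]; exact h4)
    rw [if_pos rfl, one_mul, Cfsg.Agent.S0265.result, hSL] at h1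
    exact h1
  have hPSL : Nat.card (Matrix.ProjectiveSpecialLinearGroup (Fin 2) K) ≤ N := by
    rw [← hSL]
    exact Nat.card_le_card_of_surjective _ (QuotientGroup.mk_surjective)
  have hAle : Nat.card A ≤ n * N := hS.card_le.trans hAut.le
  obtain ⟨M, h1, h2, h3, ⟨e⟩⟩ := hS
  have hL : IsSimpleGroup (Matrix.ProjectiveSpecialLinearGroup (Fin 2) K) :=
    Matrix.ProjectiveSpecialLinearGroup.rank_two_simple (by rw [Nat.card_eq_fintype_card]; exact h4)
  have hMs : IsSimpleGroup M := e.isSimpleGroup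
  have hnc : ¬ ∀ a ∈ M, ∀ b ∈ M, a * b = b * a := by
    intro hc
    apply Cfsg.Agent.H36.EPL.psl_not_comm K
    intro a b
    apply e.symm.injective
    rw [map_mul, map_mul]
    exact Subtype.ext (hc _ (e.symm a).2 _ (e.symm b).2)
  have hab := Cfsg.Agent.H36.EPL.comm_mem (Cfsg.Agent.H36.EPL.out_comm h4) e h1 h2 h3
  have hr := Cfsg.Agent.H273.EPU.ncard_le_locK h (N := M) ⟨h1, h2, h3⟩ hMs hnc hab
  have hr2 := hr.trans ((Cfsg.Agent.H273.EPU.ncard_locK_le e).trans (LocTwo.ncard_locK_two hn))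
  have hno := Cfsg.Agent.H59.EP.noAb_of_soc h1 h2 hMs hnc h3
  have hub := Cfsg.Agent.H173.EP.ub1 hs h (μ := 6) (by norm_num)
    (fun _ hx => Cfsg.Agent.H59.EP.EPT.six_le h hno hx)
  rw [hk] at hr2
  refine index_bound hAle (hub.trans ?_)
  apply Nat.add_le_add_left
  apply Nat.mul_le_mul
  · exact hr2.trans (Nat.add_le_add_left (Nat.mul_le_mul_left _ (Nat.div_le_div_right hPSL)) _)
  · exact Nat.mul_le_mul_left _ (Nat.div_le_div_right hAle)

end

end Cfsg.Agent.H7.EP
end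

-- part: H119/EP/USoc_mg
section
set_option linter.all false
open scoped Cfsg.Agent.FastGrp

-- part: H119/EP/USoc
section
/-!
# S3499-IV-L, `U₃(3)`, in terms of `HasSoc` (helper119, task 5949)
-/

set_option autoImplicit false

namespace Cfsg.Agent.H119.EP

open Subgroup Cfsg Cfsg.Agent.H284 Cfsg.Agent.H419.EP

variable {Q : Type*} [Group Q] [Finite Q] {A : Subgroup Q} {Γ : Subgroup (MulAut Q)} {F : Type*} [Field F] [Fintype F]

theorem card_le_hasSoc (h : EPT A Γ) (hF : Fintype.card F = 9) (hS : HasSoc A (PSU 3 F 3)) :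
    Nat.card Q ≤ 4239212544 := by
  obtain ⟨N, h1, h2, h3, ⟨e⟩⟩ := hS
  exact card_le_psu33 h h1 h2 (by rw [hF]; norm_num) e h3

end Cfsg.Agent.H119.EP
end

-- part: H347/EPX/GThreeData
section
/-!
# `G₂(3)`: centralizers of elements of order 2, 7, 13 (helper347, for S5745)
-/

set_option autoImplicit false
set_option maxRecDepth 100000
set_option Elab.async false

namespace Cfsg.Agent.H347.EPX.GThree

open Subgroup Cfsg.Agent.H347.HX Cfsg.Agent.H347.HX.G23

theorem alb_of {n : ℕ} {P : ℕ → Bool} (h : ∀ k < n, P k = true) : alb n P = true := by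
  induction n with
  | zero => rfl
  | succ m ih =>
    have h1 : alb (m + 1) P = bif P m then alb m P else false := rfl
    rw [h1, h m (Nat.lt_succ_self m), cond_true]
    exact ih fun k hk => h k (Nat.lt_succ_of_lt hk)

theorem pow_ne {X : ℕ → ℕ} {x : A} (h : Rp X x) {k : ℕ} (hk : (alb 364 fun q => Nat.beq (it X k q) q) = false) :
    x ^ k ≠ 1 := by
  intro e
  have h1 : (alb 364 fun q => Nat.beq (it X k q) q) = true := by
    refine alb_of fun q hq => ?_
    have h2 := h.it k ⟨q, hq⟩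
    rw [e] at h2
    have h3 : q = it X k q := h2
    rw [← h3]
    exact Nat.beq_refl q
  rw [hk] at h1
  cases h1

/-- conjugate elements have centralizers of the same order -/
theorem card_cent {G : Type*} [Group G] [Finite G] {x y : G} (h : IsConj x y) :
    Nat.card ↥(centralizer ({x} : Set G)) = Nat.card ↥(centralizer ({y} : Set G)) := by
  have h1 := Cfsg.Agent.H235.Ore.ClassList.card_class x
  have h2 := Cfsg.Agent.H235.Ore.ClassList.card_class y
  have h3 : Nat.card {z : G // IsConj x z} = Nat.card {z : G // IsConj y z} :=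
    Nat.card_congr (Equiv.subtypeEquivRight fun z => ⟨fun h' => h.symm.trans h', fun h' => h.trans h'⟩)
  have h4 : 0 < Nat.card {z : G // IsConj x z} := by
    have : Nonempty {z : G // IsConj x z} := ⟨⟨x, IsConj.refl x⟩⟩
    exact Nat.card_pos
  rw [← h2, h3] at h1
  rw [h3] at h4
  exact Nat.eq_of_mul_eq_mul_left h4 h1

theorem wr_nil : ev s (wr []) = 1 := by
  rw [wr_eq, ev_nil, inv_one, mul_one, mul_one, mul_inv_cancel]

/-- what is needed of `G₂(3)` -/
structure Data (G : Type*) [Group G] : Prop where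
  card : Nat.card G = 4245696
  two : ∀ x : G, orderOf x = 2 → Nat.card ↥(centralizer ({x} : Set G)) ≤ 576
  seven : ∀ x : G, orderOf x = 7 → Nat.card ↥(centralizer ({x} : Set G)) ≤ 7
  thirteen : ∀ x : G, orderOf x = 13 → Nat.card ↥(centralizer ({x} : Set G)) ≤ 13
  fus : ∀ x : G, orderOf x = 13 → ¬ IsConj x (x ^ 2)

theorem Data.congr {G G' : Type*} [Group G] [Group G'] (h : Data G) (e : G ≃* G') : Data G' := by
  have hc : ∀ x : G', Nat.card ↥(centralizer ({x} : Set G')) = Nat.card ↥(centralizer ({e.symm x} : Set G)) := by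
    intro x
    refine Nat.card_congr ⟨fun y => ⟨e.symm y, ?_⟩, fun y => ⟨e y, ?_⟩, fun y => ?_, fun y => ?_⟩
    · have h1 := mem_centralizer_singleton_iff.1 y.2
      rw [mem_centralizer_singleton_iff, ← map_mul, ← map_mul, h1]
    · have h1 := mem_centralizer_singleton_iff.1 y.2
      rw [mem_centralizer_singleton_iff]
      apply e.symm.injective
      rw [map_mul, map_mul, MulEquiv.symm_apply_apply, h1]
    · exact Subtype.ext (e.apply_symm_apply _)
    · exact Subtype.ext (e.symm_apply_apply _)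
  have ho : ∀ x : G', orderOf (e.symm x) = orderOf x := fun x => e.symm.orderOf_eq x
  refine ⟨?_, fun x hx => ?_, fun x hx => ?_, fun x hx => ?_, fun x hx hcon => ?_⟩
  · rw [← h.card, Nat.card_congr e.toEquiv]
  · rw [hc]; exact h.two _ (by rw [ho, hx])
  · rw [hc]; exact h.seven _ (by rw [ho, hx])
  · rw [hc]; exact h.thirteen _ (by rw [ho, hx])
  · refine h.fus (e.symm x) (by rw [ho, hx]) ?_
    rw [← map_pow]
    obtain ⟨c, hc'⟩ := isConj_iff.1 hcon
    exact isConj_iff.2 ⟨e.symm c, by rw [← hc', map_mul, map_mul, map_inv]⟩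

theorem two_lst : ∀ p ∈ lst, p.1 ^ 2 = 1 → p.1 = 1 ∨ bd p.2.l ≤ 576 := by
  intro p hp
  have hR := lst_Rp p hp
  simp only [lst, List.mem_cons, List.not_mem_nil, or_false] at hp
  rcases hp with rfl | rfl | rfl | rfl | rfl | rfl | rfl | rfl | rfl | rfl | rfl | rfl | rfl | rfl | rfl | rfl | rfl | rfl | rfl | rfl | rfl | rfl | rfl
  · exact fun _ => Or.inl wr_nil
  · exact fun _ => Or.inr (by decide +kernel)
  all_goals exact fun h => absurd h (pow_ne hR (by decide +kernel))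

theorem seven_lst : ∀ p ∈ lst, p.1 ^ 7 = 1 → p.1 = 1 ∨ bd p.2.l ≤ 7 := by
  intro p hp
  have hR := lst_Rp p hp
  simp only [lst, List.mem_cons, List.not_mem_nil, or_false] at hp
  rcases hp with rfl | rfl | rfl | rfl | rfl | rfl | rfl | rfl | rfl | rfl | rfl | rfl | rfl | rfl | rfl | rfl | rfl | rfl | rfl | rfl | rfl | rfl | rfl
  · exact fun _ => Or.inl wr_nil
  on_goal 13 => exact fun _ => Or.inr (by decide +kernel)
  all_goals exact fun h => absurd h (pow_ne hR (by decide +kernel))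

theorem thirteen_lst : ∀ p ∈ lst, p.1 ^ 13 = 1 → p.1 = 1 ∨ (bd p.2.l ≤ 13 ∧ ¬ IsConj p.1 (p.1 ^ 2)) := by
  intro p hp
  have hR := lst_Rp p hp
  simp only [lst, List.mem_cons, List.not_mem_nil, or_false] at hp
  rcases hp with rfl | rfl | rfl | rfl | rfl | rfl | rfl | rfl | rfl | rfl | rfl | rfl | rfl | rfl | rfl | rfl | rfl | rfl | rfl | rfl | rfl | rfl | rfl
  · exact fun _ => Or.inl wr_nil
  on_goal 22 =>
    refine fun _ => Or.inr ⟨by decide +kernel, fun hc => ?_⟩
    have h1 := cn_isConj ⟨[(1, 1), (5, 2)], [], []⟩ hc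
    rw [cn_eq hR, cn_eq (X := it c22.X 2) (fun q => hR.it 2 q)] at h1
    revert h1
    decide +kernel
  on_goal 21 =>
    refine fun _ => Or.inr ⟨by decide +kernel, fun hc => ?_⟩
    have h1 := cn_isConj ⟨[(1, 1), (5, 2)], [], []⟩ hc
    rw [cn_eq hR, cn_eq (X := it c21.X 2) (fun q => hR.it 2 q)] at h1
    revert h1
    decide +kernel
  all_goals exact fun h => absurd h (pow_ne hR (by decide +kernel))

theorem data_A : Data A := by
  have key : ∀ (x : A) (k : ℕ), orderOf x = k → k ≠ 1 → ∃ p ∈ lst, IsConj p.1 x ∧ p.1 ^ k = 1 ∧ p.1 ≠ 1 ∧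
      Nat.card ↥(centralizer ({x} : Set A)) ≤ bd p.2.l := by
    intro x k hx hk
    obtain ⟨p, hp, h⟩ := complete hbase ts lst lst_Rp lst_run lst_key lst_sum x
    refine ⟨p, hp, h, ?_, ?_, ?_⟩
    · obtain ⟨c, rfl⟩ := isConj_iff.1 h
      have h1 := pow_orderOf_eq_one (c * p.1 * c⁻¹)
      rw [hx, conj_pow] at h1
      have h2 : p.1 ^ k = c⁻¹ * (c * p.1 ^ k * c⁻¹) * c := by group
      rw [h2, h1]; group
    · intro h1
      rw [h1, isConj_one_right] at h
      rw [h, orderOf_one] at hx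
      exact hk hx.symm
    · rw [← card_cent h]
      exact card_le (lst_Rp p hp) hbase (lst_run p hp)
  refine ⟨card_A, fun x hx => ?_, fun x hx => ?_, fun x hx => ?_, fun x hx hc => ?_⟩
  · obtain ⟨p, hp, -, h2, h3, h4⟩ := key x 2 hx (by norm_num)
    exact h4.trans ((two_lst p hp h2).resolve_left h3)
  · obtain ⟨p, hp, -, h2, h3, h4⟩ := key x 7 hx (by norm_num)
    exact h4.trans ((seven_lst p hp h2).resolve_left h3)
  · obtain ⟨p, hp, -, h2, h3, h4⟩ := key x 13 hx (by norm_num)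
    exact h4.trans ((thirteen_lst p hp h2).resolve_left h3).1
  · obtain ⟨p, hp, h1, h2, h3, -⟩ := key x 13 hx (by norm_num)
    refine ((thirteen_lst p hp h2).resolve_left h3).2 ?_
    have h5 : IsConj (p.1 ^ 2) (x ^ 2) := by
      obtain ⟨c, rfl⟩ := isConj_iff.1 h1
      rw [isConj_iff]
      exact ⟨c, by rw [conj_pow]⟩
    exact h1.trans (hc.trans h5.symm)

/-- **The data of `G₂(3)`** -/
theorem data_chev (F : Type) [Field F] [Fintype F] (hF : Fintype.card F = 3) : Data ↥(Lie.chevG2.group F) := by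
  classical
  have σ : ZMod 3 ≃+* F := FiniteField.ringEquivOfCardEq (by rw [ZMod.card, hF])
  obtain ⟨e⟩ := iso.2.2
  exact data_A.congr (e.trans (ChevalleyStructure.FieldIso.groupEquiv Lie.chevG2 σ))

end Cfsg.Agent.H347.EPX.GThree
end
end

-- part: H957/EPX/U33Pts
section
prune_inst 0x41044000822120000180012e0001c668600010000080000f8e1034206865e600022a821cd5009035020804c4034002002000400400000000a200400013d07a990c24206b348a10c26009f800080400000000000000000000000000000041000200400000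
set_option linter.all false
open scoped Cfsg.Agent.FastGrp

/-!
# Extremely primitive groups whose point stabiliser has socle `U₃(3)`: the points (helper957, for S5745)

`n - 1 ≤ 12411 + 288 (F_g - 1)` for some element `g` of order 7 of `A` (the count is helper4's).
-/

set_option autoImplicit false
set_option linter.unusedSectionVars false

namespace Cfsg.Agent.H957.EPX.U33Pts

open Subgroup MulAction Cfsg Cfsg.Agent.H284 Cfsg.Agent.H119.EP Cfsg.Agent.H419.EP Cfsg.Agent.H742.EX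
open Cfsg.Agent.GTwoOdd.Core.HFiveB (emb negOne emb_negOne cyc_mem)

/-! ### commuting involutions -/

section Lin

variable {F : Type*} [Field F] [Fintype F] (hF : Fintype.card F = 3 ^ 2)

include hF in
theorem exists_comm_su (z : SU 3 F 3) (hz : z * z = 1) (hz1 : z ≠ 1) :
    ∃ w : SU 3 F 3, w * w = 1 ∧ w ≠ 1 ∧ w ≠ z ∧ w * z = z * w := by
  obtain ⟨x, hx⟩ := Cfsg.Agent.GTwoOdd.CentPSU.exists_conj_SU hF (by decide) hz hz1
  obtain ⟨c, hc⟩ := cyc_mem (F := F) (q := 3) hF
  have h2 := Lin.two_ne hF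
  have h11 : (-1 : F) ≠ 1 := by
    intro h
    apply h2
    linear_combination -h
  have e0 : (emb hF (negOne (by decide : Odd 3) hF)).1.1 = !![1, 0, 0; 0, -1, 0; 0, 0, -1] :=
    emb_negOne _ hF
  revert hx e0
  generalize emb hF (negOne (by decide : Odd 3) hF) = z0
  intro hx e0
  have ew : (c * z0 * c * c).1.1 = !![-1, 0, 0; 0, -1, 0; 0, 0, 1] := by
    have e1 : (c * z0 * c * c).1.1 = c.1.1 * z0.1.1 * c.1.1 * c.1.1 := rfl
    rw [e1, hc, e0]
    ext i j
    (revert i j; simp only [Matrix.mul_apply, Fin.sum_univ_three, _root_.Fin.forall_fin_succ, _root_.Matrix.cons_mul, _root_.Nat.succ_eq_add_one, Nat.reduceAdd, _root_.Matrix.vecMul_cons, _root_.Matrix.head_cons, _root_.zero_smul, _root_.Matrix.tail_cons, _root_.one_smul, _root_.Matrix.empty_vecMul, _root_.add_zero, _root_.zero_add, _root_.Matrix.empty_mul, _root_.Equiv.symm_apply_apply, _root_.neg_smul, _root_.Matrix.neg_cons, _root_.neg_zero, _root_.Matrix.neg_empty, _root_.Matrix.of_apply,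 _root_.Matrix.cons_val', _root_.Matrix.cons_val_fin_one, Fin.isValue, _root_.Matrix.cons_val_zero, _root_.Matrix.cons_val_one, _root_.Matrix.cons_val, _root_.MulZeroClass.mul_zero, _root_.mul_one, _root_.Matrix.cons_val_succ, _root_.implies_true, _root_.and_self])
  have hext : ∀ a b : SU 3 F 3, a.1.1 = b.1.1 → a = b := fun a b h => Subtype.ext (Subtype.ext h)
  have w1 : (c * z0 * c * c) * (c * z0 * c * c) = 1 := by
    apply hext
    have e1 : ((c * z0 * c * c) * (c * z0 * c * c)).1.1 = (c * z0 * c * c).1.1 * (c * z0 * c * c).1.1 := rfl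
    rw [e1, ew]
    ext i j
    (revert i j; simp only [Matrix.mul_apply, Fin.sum_univ_three, _root_.Fin.forall_fin_succ, _root_.Matrix.of_apply, _root_.Matrix.cons_val', _root_.Matrix.cons_val_fin_one, Fin.isValue, _root_.Matrix.cons_val_zero, _root_.Matrix.cons_val_one, _root_.Matrix.cons_val, _root_.OneMemClass.coe_one, _root_.Matrix.SpecialLinearGroup.coe_one, _root_.mul_neg, _root_.mul_one, _root_.MulZeroClass.mul_zero, _root_.add_zero, _root_.Matrix.cons_val_succ, _root_.zero_add, _root_.IsEmpty.forall_iff, _root_.and_true, _root_.neg_neg, _root_.Matrix.one_apply_eq, _root_.neg_zero, Nat.reduceAdd, _root_.Fin.succ_zero_eq_one, _root_.ne_eq, _root_.zero_ne_one, _root_.not_false_eq_true, _root_.Matrix.one_apply_ne, _root_.Fin.succ_one_eq_two, Fin.reduceEq, _root_.and_self, _root_.Fin.succ_ne_zero, _root_.neg_eq_zero, _root_.true_and])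
  have w2 : (c * z0 * c * c) ≠ 1 := by
    intro h
    have h3 := congrArg (fun a : SU 3 F 3 => a.1.1 0 0) h
    simp only [ew] at h3
    exact h11 (by simpa only [_root_.Fin.isValue, _root_.Matrix.of_apply, _root_.Matrix.cons_val', _root_.Matrix.cons_val_zero, _root_.Matrix.cons_val_fin_one, _root_.OneMemClass.coe_one, _root_.Matrix.SpecialLinearGroup.coe_one, _root_.Matrix.one_apply_eq] using h3)
  have w3 : (c * z0 * c * c) ≠ z0 := by
    intro h
    have h3 := congrArg (fun a : SU 3 F 3 => a.1.1 0 0) h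
    simp only [ew, e0] at h3
    exact h11 (by simpa using h3)
  have w4 : (c * z0 * c * c) * z0 = z0 * (c * z0 * c * c) := by
    apply hext
    have e1 : ((c * z0 * c * c) * z0).1.1 = (c * z0 * c * c).1.1 * z0.1.1 := rfl
    have e2 : (z0 * (c * z0 * c * c)).1.1 = z0.1.1 * (c * z0 * c * c).1.1 := rfl
    rw [e1, e2, ew, e0]
    ext i j
    (revert i j; simp only [Matrix.mul_apply, Fin.sum_univ_three, _root_.Fin.forall_fin_succ, _root_.Matrix.of_apply, _root_.Matrix.cons_val', _root_.Matrix.cons_val_fin_one, Fin.isValue, _root_.Matrix.cons_val_zero, _root_.Matrix.cons_val_one, _root_.Matrix.cons_val, _root_.mul_one, _root_.MulZeroClass.mul_zero, _root_.add_zero, _root_.mul_neg, _root_.Matrix.cons_val_succ, _root_.zero_add, _root_.forall_const, _root_.true_and, _root_.neg_zero, _root_.and_self, _root_.implies_true])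
  revert w1 w2 w3 w4
  generalize c * z0 * c * c = w0
  intro w1 w2 w3 w4
  have key : ∀ a b : SU 3 F 3, x * a * x⁻¹ * (x * b * x⁻¹) = x * (a * b) * x⁻¹ := by
    intro a b
    group
  refine ⟨x * w0 * x⁻¹, ?_, ?_, ?_, ?_⟩
  · rw [key, w1, mul_one, mul_inv_cancel]
  · intro h
    apply w2
    rwa [mul_inv_eq_one, mul_eq_left] at h
  · intro h
    apply w3
    rw [← hx] at h
    exact mul_left_cancel (mul_right_cancel h)
  · rw [← hx, key, key, w4]

theorem exists_comm {N : Type*} [Group N] (e : N ≃* PSU 3 F 3) (hF : Fintype.card F = 3 ^ 2) (z : N) (hz : z * z = 1)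
    (hz1 : z ≠ 1) : ∃ w : N, w * w = 1 ∧ w ≠ 1 ∧ w ≠ z ∧ w * z = z * w := by
  let f : N ≃* SU 3 F 3 := e.trans (Lin.prEquiv hF).symm
  obtain ⟨w, h1, h2, h3, h4⟩ := exists_comm_su hF (f z) (by rw [← map_mul, hz, map_one])
    (by rwa [Ne, EmbeddingLike.map_eq_one_iff])
  refine ⟨f.symm w, ?_, ?_, ?_, ?_⟩
  · rw [← map_mul, h1, map_one]
  · rwa [Ne, EmbeddingLike.map_eq_one_iff]
  · intro h
    apply h3
    rw [← h, f.apply_symm_apply]
  · apply f.injective
    rw [map_mul, map_mul, f.apply_symm_apply, h4]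

end Lin

/-! ### the objects -/

section Abs

variable {N : Type*} [Group N] (h : U33 N)
  (hc : ∀ z : N, z * z = 1 → z ≠ 1 → ∃ w : N, w * w = 1 ∧ w ≠ 1 ∧ w ≠ z ∧ w * z = z * w)

include h

/-- no involution centralises a Sylow 3-subgroup -/
theorem not_cent (S : Sylow 3 N) (z : N) (hz : z * z = 1) (hz1 : z ≠ 1) (hS : ∀ s ∈ (S : Subgroup N), s * z = z * s) :
    False := by
  have := h.finite
  have := Fact.mk Nat.prime_three
  have := Fact.mk (show Nat.Prime 7 by norm_num)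
  obtain ⟨g, hg⟩ := exists_prime_orderOf_dvd_card' (G := N) 7 (by rw [h.card]; norm_num)
  have h1 := h.card_norm (zpowers g) (by rw [Nat.card_zpowers, hg])
  obtain ⟨c, hc⟩ := exists_prime_orderOf_dvd_card' (G := normalizer ((zpowers g : Subgroup N) : Set N)) 3
    (by rw [h1]; norm_num)
  have hc' : orderOf (c : N) = 3 := by rw [orderOf_coe, hc]
  have hp : IsPGroup 3 (zpowers (c : N)) := by
    apply IsPGroup.of_card (n := 1)
    rw [Nat.card_zpowers, hc', pow_one]
  obtain ⟨S', hS'⟩ := hp.exists_le_sylow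
  obtain ⟨y, hy⟩ := MulAction.exists_smul_eq N S' S
  have h2 : y * (c : N) * y⁻¹ ∈ (S : Subgroup N) := by
    rw [← hy, Sylow.coe_subgroup_smul]
    exact Subgroup.smul_mem_pointwise_smul (c : N) (MulAut.conj y) _ (hS' (mem_zpowers _))
  have h3 := hS _ h2
  have h4 := h.three g c (y⁻¹ * z * y) (by rw [← hg, pow_orderOf_eq_one])
    (by rintro rfl; rw [orderOf_one] at hg; omega) (by rw [← hc', pow_orderOf_eq_one])
    (by intro h5; rw [h5, orderOf_one] at hc'; omega)
    ((mem_normalizer_iff.1 c.2 g).1 (mem_zpowers g))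
    (by
      have : y⁻¹ * z * y * (y⁻¹ * z * y) = y⁻¹ * (z * z) * y := by group
      rw [this, hz, mul_one, inv_mul_cancel])
    (by
      have e1 : (c : N) * (y⁻¹ * z * y) = y⁻¹ * (y * c * y⁻¹ * z) * y := by group
      have e2 : y⁻¹ * z * y * (c : N) = y⁻¹ * (z * (y * c * y⁻¹)) * y := by group
      rw [e1, e2, h3])
  apply hz1
  have e1 : z = y * (y⁻¹ * z * y) * y⁻¹ := by group
  rw [e1, h4, mul_one, mul_inv_cancel]

theorem three_of_sylow (S : Sylow 3 N) :
    3 ≤ {z : N | (z * z = 1 ∧ z ≠ 1) ∧ z ∈ normalizer ((S : Subgroup N) : Set N)}.ncard := by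
  classical
  have := h.finite
  have := Fact.mk Nat.prime_three
  have := Fact.mk Nat.prime_two
  by_contra hlt
  set B := normalizer ((S : Subgroup N) : Set N) with hB
  set I := {z : N | (z * z = 1 ∧ z ≠ 1) ∧ z ∈ B} with hI
  have h2 : 2 ∣ Nat.card B := by
    by_contra hodd
    have h1 : Nat.card (Sylow 3 N) = B.index := Sylow.card_eq_index_normalizer S
    have h3 := B.card_mul_index
    rw [← h1, h.card] at h3
    have h4 := h.syl
    have h5 : Nat.Coprime (2 ^ 5) (Nat.card B) :=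
      Nat.Coprime.pow_left _ ((Nat.Prime.coprime_iff_not_dvd Nat.prime_two).2 hodd)
    have h6 : 2 ^ 5 ∣ Nat.card (Sylow 3 N) := h5.dvd_of_dvd_mul_left (by rw [h3]; norm_num)
    have h7 := Nat.le_of_dvd Nat.card_pos h6
    omega
  obtain ⟨z', hz'⟩ := exists_prime_orderOf_dvd_card' (G := B) 2 h2
  have hz : orderOf (z' : N) = 2 := by rw [orderOf_coe, hz']
  have hzI : (z' : N) ∈ I := by
    refine ⟨⟨?_, ?_⟩, z'.2⟩
    · rw [← pow_two, ← hz, pow_orderOf_eq_one]
    · intro h5; rw [h5, orderOf_one] at hz; omega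
  have hSB : (S : Subgroup N) ≤ B := le_normalizer
  refine not_cent h S z' hzI.1.1 hzI.1.2 ?_
  intro s hs
  -- `z', s z' s⁻¹, s² z' s⁻²`
  by_contra hne
  apply hlt
  have hmem : ∀ s ∈ (S : Subgroup N), s * z' * s⁻¹ ∈ I := by
    intro s hs
    refine ⟨⟨?_, ?_⟩, B.mul_mem (B.mul_mem (hSB hs) z'.2) (B.inv_mem (hSB hs))⟩
    · have e : s * (z' : N) * s⁻¹ * (s * z' * s⁻¹) = s * (z' * z') * s⁻¹ := by group
      rw [e, hzI.1.1, mul_one, mul_inv_cancel]
    · intro h5
      apply hzI.1.2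
      rwa [mul_inv_eq_one, mul_eq_left] at h5
  have hne1 : s * (z' : N) * s⁻¹ ≠ z' := by
    intro h5
    apply hne
    rwa [mul_inv_eq_iff_eq_mul] at h5
  have hne2 : s * (s * (z' : N) * s⁻¹) * s⁻¹ ≠ s * z' * s⁻¹ := by
    intro h5
    apply hne1
    exact mul_left_cancel (mul_right_cancel h5)
  have hne3 : s * (s * (z' : N) * s⁻¹) * s⁻¹ ≠ z' := by
    intro h5
    -- `s ^ 2` commutes with `z'`, `s` has odd order
    obtain ⟨k, hk⟩ := (IsPGroup.iff_orderOf.1 S.isPGroup') ⟨s, hs⟩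
    rw [orderOf_mk] at hk
    have h6 : Commute (s ^ 2) (z' : N) := by
      have e : s ^ 2 * (z' : N) * (s ^ 2)⁻¹ = s * (s * (z' : N) * s⁻¹) * s⁻¹ := by
        rw [pow_two]; group
      rw [h5, mul_inv_eq_iff_eq_mul] at e
      exact e
    obtain ⟨m, hm⟩ : Odd (3 ^ k) := Odd.pow (by decide)
    have h7 : s = (s ^ 2) ^ (m + 1) := by
      rw [← pow_mul, show 2 * (m + 1) = 3 ^ k + 1 by omega, pow_succ, ← hk, pow_orderOf_eq_one, one_mul]
    apply hne
    rw [h7]
    exact h6.pow_left (m + 1)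
  have h3 : ({(z' : N), s * z' * s⁻¹, s * (s * z' * s⁻¹) * s⁻¹} : Set N) ⊆ I := by
    rintro y (rfl | rfl | rfl)
    · exact hzI
    · exact hmem s hs
    · have e : s * (s * (z' : N) * s⁻¹) * s⁻¹ = (s * s) * z' * (s * s)⁻¹ := by group
      rw [e]
      exact hmem _ (mul_mem hs hs)
  have h4 := Set.ncard_le_ncard h3 (Set.toFinite _)
  rw [Set.ncard_insert_of_notMem, Set.ncard_pair hne2.symm] at h4
  · exact h4
  · rintro (h5 | h5)
    · exact hne1 h5.symm
    · exact hne3 h5.symm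

include hc in
theorem three_le {O : Subgroup N} (hO : O ∈ Obj N) (h7 : Nat.card O ≠ 7) :
    3 ≤ {z : N | (z * z = 1 ∧ z ≠ 1) ∧ z ∈ normalizer (O : Set N)}.ncard := by
  classical
  have := h.finite
  rcases hO with (((⟨S, rfl⟩ | hO) | hO) | hO) | hO
  · exact three_of_sylow h S
  · exact absurd hO h7
  · -- order 2
    have hO' : Nat.card O = 2 := hO
    have := Fact.mk Nat.prime_two
    obtain ⟨z', hz'⟩ := exists_prime_orderOf_dvd_card' (G := O) 2 (by rw [hO'])
    have hz : orderOf (z' : N) = 2 := by rw [orderOf_coe, hz']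
    have hOz : O = zpowers (z' : N) := by
      symm
      apply eq_of_le_of_card_ge
      · rw [zpowers_le]; exact z'.2
      · rw [Nat.card_zpowers, hz, hO']
    have hzz : (z' : N) * z' = 1 := by rw [← pow_two, ← hz, pow_orderOf_eq_one]
    have hz1 : (z' : N) ≠ 1 := by intro h5; rw [h5, orderOf_one] at hz; omega
    obtain ⟨w, w1, w2, w3, w4⟩ := hc z' hzz hz1
    have hcent : ∀ y : N, y * z' = z' * y → y ∈ normalizer (O : Set N) := by
      intro y hy
      have hy' : ∀ g ∈ O, y * g * y⁻¹ = g := by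
        intro g hg
        rw [hOz, mem_zpowers_iff] at hg
        obtain ⟨k, rfl⟩ := hg
        have h3 : Commute y ((z' : N) ^ k) := Commute.zpow_right hy k
        rw [h3.eq, mul_inv_cancel_right]
      rw [mem_normalizer_iff]
      intro g
      constructor
      · intro hg
        rw [hy' g hg]
        exact hg
      · intro hg
        have h3 := hy' _ hg
        have h4 : y * g * y⁻¹ = g := mul_left_cancel (mul_right_cancel h3)
        rw [h4] at hg
        exact hg
    have hzw : (z' : N) * w ≠ 1 := by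
      intro h5
      apply w3
      have h6 : (z' : N) * w = z' * z' := by rw [h5, hzz]
      exact mul_left_cancel h6
    have h3 : ({(z' : N), w, z' * w} : Set N) ⊆ {z : N | (z * z = 1 ∧ z ≠ 1) ∧ z ∈ normalizer (O : Set N)} := by
      rintro y (rfl | rfl | rfl)
      · exact ⟨⟨hzz, hz1⟩, hcent _ rfl⟩
      · exact ⟨⟨w1, w2⟩, hcent _ w4⟩
      · refine ⟨⟨?_, hzw⟩, hcent _ ?_⟩
        · calc (z' : N) * w * (z' * w) = z' * (w * z') * w := by group
            _ = (z' * z') * (w * w) := by rw [w4]; group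
            _ = 1 := by rw [hzz, w1, one_mul]
        · rw [mul_assoc, w4]
    have h4 := Set.ncard_le_ncard h3 (Set.toFinite _)
    rw [Set.ncard_insert_of_notMem, Set.ncard_pair] at h4
    · exact h4
    · intro h5
      exact hz1 (mul_eq_right.1 h5.symm)
    · rintro (h5 | h5)
      · exact w3 h5.symm
      · exact w2 (mul_eq_left.1 (Set.mem_singleton_iff.1 h5).symm)
  · -- four-groups
    obtain ⟨h4, h4'⟩ := hO
    have h5 : ((O : Set N) \ {1}) ⊆ {z : N | (z * z = 1 ∧ z ≠ 1) ∧ z ∈ normalizer (O : Set N)} := by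
      rintro y ⟨hy, hy1⟩
      exact ⟨⟨h4' y hy, hy1⟩, le_normalizer hy⟩
    have h6 := Set.ncard_le_ncard h5 (Set.toFinite _)
    have h7 := Set.ncard_sdiff_singleton_add_one (s := (O : Set N)) (a := 1) (one_mem O) (Set.toFinite _)
    have h8 : (O : Set N).ncard = 4 := h4
    omega
  · have h5 : {z : N | (z * z = 1 ∧ z ≠ 1) ∧ z ∈ O} ⊆
        {z : N | (z * z = 1 ∧ z ≠ 1) ∧ z ∈ normalizer (O : Set N)} := by
      rintro z ⟨h1, h2⟩
      exact ⟨h1, le_normalizer h2⟩
    have h6 := Set.ncard_le_ncard h5 (Set.toFinite _)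
    have h7 := h.K_inv hO
    omega

end Abs

/-! ### counting -/

section Count

variable {Q : Type*} [Group Q] [Finite Q]

theorem sum_le (A : Subgroup Q) [Fintype (Q ⧸ A)] [DecidableEq (Q ⧸ A)] (S : Finset Q) (f : ℕ) (hSA : ∀ s ∈ S, s ∈ A)
    (hf : ∀ s ∈ S, F A s ≤ f + 1) :
    ∑ b ∈ Finset.univ.erase (QuotientGroup.mk 1 : Q ⧸ A), (S.filter (fun s => s • b = b)).card ≤ S.card * f := by
  classical
  have h1 := Finset.sum_card_bipartiteAbove_eq_sum_card_bipartiteBelow
    (s := Finset.univ.erase (QuotientGroup.mk 1 : Q ⧸ A)) (t := S) (fun b s => s • b = b)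
  have h2 : ∑ b ∈ Finset.univ.erase (QuotientGroup.mk 1 : Q ⧸ A), (S.filter (fun s => s • b = b)).card =
      ∑ b ∈ Finset.univ.erase (QuotientGroup.mk 1 : Q ⧸ A),
        (Finset.bipartiteAbove (fun (b : Q ⧸ A) (s : Q) => s • b = b) S b).card := rfl
  rw [h2, h1, ← smul_eq_mul]
  refine Finset.sum_le_card_nsmul _ _ _ fun s hs => ?_
  have h3 : (Finset.bipartiteBelow (fun (b : Q ⧸ A) (s : Q) => s • b = b)
      (Finset.univ.erase (QuotientGroup.mk 1 : Q ⧸ A)) s) =
      (Finset.univ.filter (fun b : Q ⧸ A => s • b = b)).erase (QuotientGroup.mk 1) := by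
    unfold Finset.bipartiteBelow
    rw [Finset.filter_erase]
  rw [h3, Finset.card_erase_of_mem]
  · have h4 : F A s = (Finset.univ.filter (fun b : Q ⧸ A => s • b = b)).card := by
      rw [F, Nat.card_eq_fintype_card, Fintype.card_subtype]
      rfl
    have h5 := hf s hs
    omega
  · rw [Finset.mem_filter]
    refine ⟨Finset.mem_univ _, ?_⟩
    refine (mem_fixedBy).1 (fixedBy_iff.2 ?_)
    rw [inv_one, one_mul, mul_one]
    exact hSA s hs

theorem count (A : Subgroup Q) (S T : Finset Q) (hSA : ∀ s ∈ S, s ∈ A) (hTA : ∀ s ∈ T, s ∈ A) (f g : ℕ)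
    (hf : ∀ s ∈ S, F A s ≤ f + 1) (hg : ∀ s ∈ T, F A s ≤ g + 1)
    (hM : ∀ x, x ∉ A → 3 ≤ {s : Q | s ∈ S ∧ s ∈ cj x A}.ncard ∨ 6 ≤ {s : Q | s ∈ T ∧ s ∈ cj x A}.ncard) :
    6 * (A.index - 1) ≤ 2 * (S.card * f) + T.card * g := by
  classical
  have hfin : Finite (Q ⧸ A) := inferInstance
  let _ : Fintype (Q ⧸ A) := Fintype.ofFinite _
  have h1 := sum_le A S f hSA hf
  have h2 := sum_le A T g hTA hg
  have hst : ∀ b ∈ Finset.univ.erase (QuotientGroup.mk 1 : Q ⧸ A),
      6 ≤ 2 * (S.filter (fun s => s • b = b)).card + (T.filter (fun s => s • b = b)).card := by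
    intro b hb
    obtain ⟨x, rfl⟩ := QuotientGroup.mk_surjective b
    have hx : x ∉ A := by
      intro hx
      apply Finset.ne_of_mem_erase hb
      rw [QuotientGroup.eq, mul_one]
      exact A.inv_mem hx
    have key : ∀ S : Finset Q, {s : Q | s ∈ S ∧ s ∈ cj x A}.ncard =
        (S.filter (fun s => s • (QuotientGroup.mk x : Q ⧸ A) = QuotientGroup.mk x)).card := by
      intro S
      rw [← Set.ncard_coe_finset]
      congr 1
      ext s
      rw [Finset.mem_coe, Finset.mem_filter, Set.mem_ofPred_eq]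
      refine and_congr_right fun _ => ?_
      rw [mem_cj]
      exact fixedBy_iff.symm.trans mem_fixedBy
    have h3 := hM x hx
    rw [key, key] at h3
    omega
  have h3 := Finset.sum_le_sum hst
  rw [Finset.sum_const, Finset.card_erase_of_mem (Finset.mem_univ _), Finset.card_univ, ← Nat.card_eq_fintype_card,
    smul_eq_mul, Finset.sum_add_distrib, ← Finset.mul_sum] at h3
  have hidx : Nat.card (Q ⧸ A) = A.index := rfl
  rw [hidx] at h3
  omega

end Count

/-! ### the bound -/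

section Main

variable {Q : Type*} [Group Q] [Finite Q] {A : Subgroup Q} {Γ : Subgroup (MulAut Q)} {N : Subgroup Q}
  {K : Type*} [Field K] [Fintype K]

/-- a group `U₃(3)` has at most `1728` elements of order 7 -/
theorem card_el_seven (hU : U33 N) : (el N 7).card ≤ 1728 := by
  classical
  have := hU.finite
  have := Fintype.ofFinite N
  have hfs : Finite (Subgroup N) := inferInstance
  have h288 := hU.ncard_seven
  have h1 := Finset.card_le_mul_card_image_of_maps_to (s := el N 7)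
    (t := (Set.toFinite ((fun P : Subgroup N => P.map N.subtype) '' {P : Subgroup N | Nat.card P = 7})).toFinset)
    (f := fun g => zpowers g) (by
      intro g hg
      rw [mem_el] at hg
      rw [Set.Finite.mem_toFinset]
      refine ⟨zpowers ⟨g, hg.1⟩, ?_, ?_⟩
      · show Nat.card (zpowers (⟨g, hg.1⟩ : N)) = 7
        rw [Nat.card_zpowers, orderOf_mk, hg.2]
      · show (zpowers (⟨g, hg.1⟩ : N)).map N.subtype = zpowers g
        rw [MonoidHom.map_zpowers]
        rfl) 6 (by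
      intro P hP
      rw [Set.Finite.mem_toFinset] at hP
      obtain ⟨P', hP', rfl⟩ := hP
      have h7 : Nat.card (P'.map N.subtype : Subgroup Q) = 7 := by
        rw [card_map_of_injective (K := P') (f := N.subtype) N.subtype_injective]
        exact hP'
      have h8 := Set.ncard_sdiff_singleton_add_one (s := ((P'.map N.subtype : Subgroup Q) : Set Q)) (a := 1)
        (one_mem _) (Set.toFinite _)
      have h9 : ((P'.map N.subtype : Subgroup Q) : Set Q).ncard = 7 := h7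
      have h10 : (((el N 7).filter (fun g => zpowers g = P'.map N.subtype) : Finset Q) : Set Q) ⊆
          ((P'.map N.subtype : Subgroup Q) : Set Q) \ {1} := by
        intro g hg
        rw [Finset.mem_coe, Finset.mem_filter, mem_el] at hg
        refine ⟨?_, ?_⟩
        · rw [← hg.2]; exact mem_zpowers g
        · intro h11
          rw [Set.mem_singleton_iff] at h11
          have := hg.1.2
          rw [h11, orderOf_one] at this
          omega
      have h11 := Set.ncard_le_ncard h10 (Set.toFinite _)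
      rw [Set.ncard_coe_finset] at h11
      show ((el N 7).filter (fun g => zpowers g = P'.map N.subtype)).card ≤ 6
      omega)
  have h2 : (Set.toFinite ((fun P : Subgroup N => P.map N.subtype) '' {P : Subgroup N | Nat.card P = 7})).toFinset.card
      ≤ 288 := by
    rw [← Set.ncard_eq_toFinset_card]
    exact (Set.ncard_image_le (Set.toFinite _)).trans h288
  omega

/-- a group `U₃(3)` has at most `63` involutions -/
theorem card_el_two (hU : U33 N) : (el N 2).card ≤ 63 := by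
  classical
  have := hU.finite
  refine le_trans ?_ hU.inv_le
  rw [← Set.ncard_coe_finset]
  have h1 : ((el N 2 : Finset Q) : Set Q) ⊆ (fun z : N => (z : Q)) '' {z : N | z * z = 1 ∧ z ≠ 1} := by
    intro g hg
    rw [Finset.mem_coe, mem_el] at hg
    refine ⟨⟨g, hg.1⟩, ⟨?_, ?_⟩, rfl⟩
    · apply Subtype.ext
      show g * g = 1
      rw [← pow_two, ← hg.2, pow_orderOf_eq_one]
    · intro h2
      have h3 : g = 1 := congrArg Subtype.val h2
      have h4 := hg.2
      rw [h3, orderOf_one] at h4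
      omega
  exact (Set.ncard_le_ncard h1 (Set.toFinite _)).trans (Set.ncard_image_le (Set.toFinite _))

variable (h : EPT A Γ) (hNA : N ≤ A) (hNn : ∀ a ∈ A, ∀ n ∈ N, a * n * a⁻¹ ∈ N) (hK : Fintype.card K = 3 ^ 2)
  (e : N ≃* PSU 3 K 3) (hC : ∀ a ∈ A, (∀ n ∈ N, a * n = n * a) → a = 1)

include h hNA hNn hK e hC

/-- **the number of points** -/
theorem index_bound : ∃ g ∈ N, orderOf g = 7 ∧ A.index ≤ 12412 + 288 * (F A g - 1) := by
  classical
  have hU := u33_N hK e
  have := Fact.mk (show Nat.Prime 7 by norm_num)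
  have hne : (el N 7).Nonempty := by
    obtain ⟨g, hg⟩ := exists_prime_orderOf_dvd_card' (G := N) 7 (by rw [hU.card]; norm_num)
    exact ⟨g, mem_el.2 ⟨g.2, by rw [orderOf_coe, hg]⟩⟩
  obtain ⟨g, hg, hmax⟩ := Finset.exists_max_image (el N 7) (fun g => F A g) hne
  obtain ⟨hgN, hg7⟩ := mem_el.1 hg
  refine ⟨g, hgN, hg7, ?_⟩
  have hM := ncard_psu33 h hNA hNn hK e hC
  have h1 := count A (el N 2) (el N 7) (fun s hs => hNA (mem_el.1 hs).1) (fun s hs => hNA (mem_el.1 hs).1) 591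
    (F A g - 1) (by
      intro s hs
      have h2 := h.fix_le s (by
        rintro rfl
        have := (mem_el.1 hs).2
        rw [orderOf_one] at this
        omega)
      have h3 : F A s = {c : Q ⧸ A | s • c = c}.ncard := rfl
      omega) (by
      intro s hs
      have := hmax s hs
      omega) (by
      intro x hx
      obtain ⟨O, hO, hO2⟩ := exists_O h hNA hNn hU hC (card_mulAut_le hK e) hx
      have hmem : ∀ n : N, n ∈ normalizer (O : Set N) → (n : Q) ∈ cj x A := by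
        intro n hn
        have h2 : (n : Q) ∈ A ⊓ cj x A := by
          rw [hO2]
          refine mem_inf.2 ⟨hNA n.2, ?_⟩
          rw [mem_normalizer_iff] at hn ⊢
          intro y
          constructor
          · rintro ⟨o, ho, rfl⟩
            exact ⟨n * o * n⁻¹, (hn o).1 ho, rfl⟩
          · rintro ⟨o, ho, ho2⟩
            have h3 : y = (n : Q)⁻¹ * o * n := by
              have h4 : ((o : N) : Q) = n * y * (n : Q)⁻¹ := ho2
              rw [h4]; group
            refine ⟨n⁻¹ * o * n, ?_, h3.symm⟩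
            apply (hn _).2
            have h4 : n * (n⁻¹ * o * n) * n⁻¹ = o := by group
            rw [h4]
            exact ho
        exact (mem_inf.1 h2).2
      by_cases h7 : Nat.card O = 7
      · right
        have h2 := le_card_el (O.map N.subtype) (r := 7) (by norm_num) (by
          rw [card_map_of_injective (K := O) (f := N.subtype) N.subtype_injective, h7])
        refine h2.trans ?_
        rw [← Set.ncard_coe_finset]
        apply Set.ncard_le_ncard _ (Set.toFinite _)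
        intro y hy
        rw [Finset.mem_coe, mem_el] at hy
        obtain ⟨⟨o, ho, rfl⟩, hy2⟩ := hy
        exact ⟨mem_el.2 ⟨o.2, hy2⟩, hmem o (le_normalizer ho)⟩
      · left
        have h2 := three_le hU (exists_comm e hK) hO h7
        refine h2.trans ?_
        rw [← Set.ncard_image_of_injective _ N.subtype_injective]
        apply Set.ncard_le_ncard _ (Set.toFinite _)
        rintro _ ⟨z, ⟨⟨hz, hz1⟩, hz2⟩, rfl⟩
        refine ⟨mem_el.2 ⟨z.2, ?_⟩, hmem z hz2⟩
        rw [show N.subtype z = (z : Q) from rfl, orderOf_coe]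
        exact orderOf_eq_prime (by rw [pow_two, hz]) hz1)
  have h2 := card_el_two hU
  have h3 := card_el_seven hU
  have h4 : 2 * ((el N 2).card * 591) ≤ 2 * (63 * 591) := by omega
  have h5 : (el N 7).card * (F A g - 1) ≤ 1728 * (F A g - 1) := Nat.mul_le_mul h3 le_rfl
  omega

omit h in
/-- the elements of order 7 of `A` -/
theorem card_el_A : (el A 7).card ≤ 1728 := by
  refine le_trans (Finset.card_le_card ?_) (card_el_seven (u33_N hK e))
  intro g hg
  rw [mem_el] at hg ⊢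
  refine ⟨?_, hg.2⟩
  have hA := card_A hNA hNn (u33_N hK e) hC (card_mulAut_le hK e)
  have hN := (u33_N hK e).card
  have hn : (N.subgroupOf A).Normal := by
    constructor
    intro m hm g
    exact hNn _ g.2 _ hm
  have h1 : (N.subgroupOf A).index ≤ 2 := by
    have h2 := (N.subgroupOf A).card_mul_index
    have h3 : Nat.card (N.subgroupOf A) = 6048 := by
      rw [← hN]
      exact Nat.card_congr (subgroupOfEquivOfLe hNA).toEquiv
    rw [h3] at h2
    by_contra h4
    push Not at h4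
    have := Nat.mul_le_mul (le_refl 6048) h4
    omega
  have h2 : (⟨g, hg.1⟩ : A) ^ 2 ∈ N.subgroupOf A := by
    have h3 : (N.subgroupOf A).index ≠ 0 := index_ne_zero_of_finite
    have h4 : (N.subgroupOf A).index ∣ 2 := by
      interval_cases (N.subgroupOf A).index
      · exact absurd rfl h3
      · norm_num
      · norm_num
    obtain ⟨k, hk⟩ := h4
    rw [hk, pow_mul]
    exact pow_mem (pow_index_mem _ _) k
  have h3 : g ^ 2 ∈ N := h2
  have h4 : g = (g ^ 2) ^ 4 := by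
    rw [← pow_mul]
    have h5 : g ^ (2 * 4) = g ^ orderOf g * g := by rw [hg.2]; group
    rw [h5, pow_orderOf_eq_one, one_mul]
  rw [h4]
  exact N.pow_mem h3 4

omit h in
/-- fixed points and centralisers -/
theorem F_le {g : Q} (hg : orderOf g = 7) :
    F A g * Nat.card A ≤ 1728 * Nat.card (centralizer ({g} : Set Q)) := by
  classical
  rw [F_mul]
  have h1 : cH A g ≤ 1728 := by
    refine le_trans ?_ (card_el_A hNA hNn hK e hC)
    have h5 : cH A g ≤ Nat.card (el A 7) := by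
      refine Nat.card_le_card_of_injective (fun y => ⟨y.1, mem_el.2 ⟨y.2.2, ?_⟩⟩) ?_
      · obtain ⟨d, hd⟩ := isConj_iff.1 y.2.1
        rw [← hd, ← hg]
        exact (MulAut.conj d).orderOf_eq g
      · intro y z hyz
        exact Subtype.ext (congrArg (fun t : el A 7 => (t : Q)) hyz)
    rwa [Nat.card_eq_fintype_card, Fintype.card_coe] at h5
  have h2 : Nat.card {x : Q // x⁻¹ * g * x = g} = Nat.card (centralizer ({g} : Set Q)) := by
    refine Nat.card_congr (Equiv.subtypeEquivRight fun x => ?_)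
    rw [mem_centralizer_singleton_iff]
    constructor
    · intro h3
      calc x * g = x * (x⁻¹ * g * x) := by rw [h3]
        _ = g * x := by group
    · intro h3
      rw [mul_assoc, ← h3, inv_mul_cancel_left]
  rw [h2]
  exact Nat.mul_le_mul h1 le_rfl

omit h in
/-- the order of `A` -/
theorem card_A_cases : Nat.card A = 6048 ∨ Nat.card A = 12096 := by
  have hA := card_A hNA hNn (u33_N hK e) hC (card_mulAut_le hK e)
  have hN := (u33_N hK e).card
  have h1 := card_dvd_of_le hNA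
  rw [hN] at h1
  obtain ⟨k, hk⟩ := h1
  have h2 : 0 < Nat.card A := Nat.card_pos
  rw [hk] at hA h2 ⊢
  have h3 : k ≤ 2 := by omega
  interval_cases k
  · omega
  · left; norm_num
  · right; norm_num

end Main

end Cfsg.Agent.H957.EPX.U33Pts
end

-- part: H919/EPX/Good
section
prune_inst 0x243064041822020000000012c0001c468e000100002b0001d9e10f420687d7610022af20ff800f014122aa2c003c0068130004594000000020200600413d07a990a872c4b348a00c27009fc01884480c00000000000000000000000000041000200400000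
set_option linter.all false
open scoped Cfsg.Agent.FastGrp

/-!
# Extremely primitive groups whose stabiliser has a simple socle (helper919)

`N ⊴ G`. `Good N M` : `M ≠ G` is not abelian and contains the normalisers of the nontrivial characteristic subgroups
of `M ∩ N`.

* `good_of`, `index_le_good` : the two point stabilisers are good, `|Q : A| ≤ (number of good subgroups)²`;
* `card_good_le` : `N` simple of order `1092`, `|G : N| ≤ 2`: at most `14 + 78 + 91 + 91 = 274` good subgroups;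
* `l213` : `A` with socle `PSL₂(13)`: `|Q : A| ≤ 274² = 75076`.
-/

set_option autoImplicit false
set_option linter.unusedSectionVars false

namespace Cfsg.Agent.H919.EPX

open Subgroup Cfsg.Agent.H284

/-! ### Good subgroups -/

section good

variable {G : Type*} [Group G]

/-- the subgroups to be counted -/
structure Good (N M : Subgroup G) : Prop where
  nab : ¬ ∀ a ∈ M, ∀ b ∈ M, a * b = b * a
  ne : M ≠ ⊤
  norm : ∀ X : Subgroup (M ⊓ N : Subgroup G), X.Characteristic → X ≠ ⊥ → ∀ g : G,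
    (∀ k ∈ X.map (M ⊓ N : Subgroup G).subtype, g * k * g⁻¹ ∈ X.map (M ⊓ N : Subgroup G).subtype) → g ∈ M

variable [Finite G] {N : Subgroup G} [hN : N.Normal]

theorem Good.inf_ne {M : Subgroup G} (h : Good N M) (hi : N.index ≤ 3) : M ⊓ N ≠ ⊥ := by
  intro e
  apply h.nab
  have h1 : Nat.card M ≤ 3 := by
    refine le_trans ?_ hi
    have hq : Nat.card (G ⧸ N) = N.index := rfl
    rw [← hq]
    refine Nat.card_le_card_of_injective (fun m : M => ((m : G) : G ⧸ N)) ?_
    intro a b hab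
    have hab' : ((a : G) : G ⧸ N) = ((b : G) : G ⧸ N) := hab
    rw [QuotientGroup.eq] at hab'
    have h2 : (a : G)⁻¹ * b ∈ M ⊓ N := ⟨M.mul_mem (M.inv_mem a.2) b.2, hab'⟩
    rw [e, mem_bot, inv_mul_eq_one] at h2
    exact Subtype.ext h2
  have h0 : Nat.card M ≠ 0 := Nat.card_pos.ne'
  have h3 : Nat.card M = 1 ∨ Nat.card M = 2 ∨ Nat.card M = 3 := by omega
  have key : ∀ p : ℕ, p.Prime → Nat.card M = p → ∀ a ∈ M, ∀ b ∈ M, a * b = b * a := by
    intro p hp hM a ha b hb
    have : Fact p.Prime := ⟨hp⟩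
    have hcyc : IsCyclic M := isCyclic_of_prime_card (p := p) hM
    exact Subtype.ext_iff.1 (hcyc.isMulCommutative.is_comm.comm (⟨a, ha⟩ : M) ⟨b, hb⟩)
  rcases h3 with h3 | h3 | h3
  · rw [card_eq_one] at h3
    rw [h3]
    intro a ha b hb
    rw [mem_bot] at ha hb
    rw [ha, hb]
  · exact key 2 (by norm_num) h3
  · exact key 3 (by norm_num) h3

theorem Good.not_le {M : Subgroup G} (h : Good N M) (hi : N.index ≤ 3) : ¬ N ≤ M := by
  intro hle
  apply h.ne
  rw [eq_top_iff']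
  intro g
  have e : (⊤ : Subgroup (M ⊓ N : Subgroup G)).map (M ⊓ N : Subgroup G).subtype = N := by
    rw [← MonoidHom.range_eq_map, range_subtype, inf_of_le_right hle]
  refine h.norm ⊤ inferInstance ?_ g fun k hk => ?_
  · intro e1
    apply h.inf_ne hi
    rw [e1, Subgroup.map_bot] at e
    rw [inf_of_le_right hle, ← e]
  · rw [e] at hk ⊢
    exact hN.conj_mem k hk g

/-- `M` is the normaliser of every characteristic subgroup `≠ 1` of `M ∩ N` -/
theorem Good.eq_norm {M : Subgroup G} (h : Good N M) {X : Subgroup (M ⊓ N : Subgroup G)} (hX : X.Characteristic)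
    (hXne : X ≠ ⊥) : M = normalizer ((X.map (M ⊓ N : Subgroup G).subtype : Subgroup G) : Set G) := by
  apply le_antisymm
  · intro m hm
    have key : ∀ m ∈ M, ∀ k ∈ X.map (M ⊓ N : Subgroup G).subtype, m * k * m⁻¹ ∈
        X.map (M ⊓ N : Subgroup G).subtype := by
      rintro m hm _ ⟨k, hk, rfl⟩
      have hn : ((M ⊓ N).subgroupOf M).Normal := by
        rw [inf_comm, inf_subgroupOf_right]
        infer_instance
      let E : ((M ⊓ N).subgroupOf M) ≃* (M ⊓ N : Subgroup G) := subgroupOfEquivOfLe inf_le_left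
      let τ : MulAut (M ⊓ N : Subgroup G) := MulAut.congr E (MulAut.conjNormal (⟨m, hm⟩ : M))
      have hτ : X.map τ.toMonoidHom = X := Subgroup.characteristic_iff_map_eq.1 hX τ
      have h1 : τ k ∈ X := by
        rw [← hτ]
        exact ⟨k, hk, rfl⟩
      refine ⟨τ k, h1, ?_⟩
      show ((τ k : (M ⊓ N : Subgroup G)) : G) = m * (k : G) * m⁻¹
      have h2 : ((τ k : (M ⊓ N : Subgroup G)) : G) = (((MulAut.conjNormal (⟨m, hm⟩ : M) (E.symm k) :
        ((M ⊓ N).subgroupOf M)) : M) : G) := rfl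
      rw [h2, MulAut.conjNormal_apply]
      rfl
    rw [mem_normalizer_iff]
    intro k
    refine ⟨key m hm k, fun hk => ?_⟩
    have h3 := key m⁻¹ (M.inv_mem hm) _ hk
    have e2 : m⁻¹ * (m * k * m⁻¹) * m⁻¹⁻¹ = k := by group
    rwa [e2] at h3
  · intro g hg
    exact h.norm X hX hXne g fun k hk => (mem_normalizer_iff.1 hg k).1 hk

/-- the normalisers of the Sylow `p`-subgroups of `N` -/
def RS (N : Subgroup G) (p : ℕ) : Set (Subgroup G) :=
  Set.range fun P : Sylow p N => normalizer (((P : Subgroup N).map N.subtype : Subgroup G) : Set G)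

theorem ncard_RS {p : ℕ} : (RS N p).ncard ≤ Nat.card (Sylow p N) := by
  rw [RS, ← Set.image_univ, ← Set.ncard_univ]
  exact Set.ncard_image_le Set.finite_univ

theorem Good.mem_RS {M : Subgroup G} (h : Good N M) {p n : ℕ} [hp : Fact p.Prime] {X : Subgroup (M ⊓ N : Subgroup G)}
    (hX : X.Characteristic) (hc : Nat.card X = p ^ n) (hn0 : n ≠ 0) (hpn : ¬ p ^ (n + 1) ∣ Nat.card N) :
    M ∈ RS N p := by
  have hne : X ≠ ⊥ := by
    rintro rfl
    rw [card_bot] at hc
    have := Nat.one_lt_pow hn0 hp.out.one_lt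
    omega
  let f : (M ⊓ N : Subgroup G) →* N := inclusion inf_le_right
  have hf : Function.Injective f := inclusion_injective _
  have e1 : (X.map f).map N.subtype = X.map (M ⊓ N : Subgroup G).subtype := by
    rw [map_map]
    rfl
  have e2 : Nat.card (X.map f) = p ^ n := by
    rw [← hc]
    exact Nat.card_congr (X.equivMapOfInjective f hf).symm.toEquiv
  obtain ⟨P, hP⟩ := H342.EP.exists_sylow_eq e2 hpn
  refine ⟨P, ?_⟩
  show normalizer (((P : Subgroup N).map N.subtype : Subgroup G) : Set G) = M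
  rw [hP, e1, ← h.eq_norm hX hne]

theorem card_sylow_eq {P : Type*} [Group P] [Finite P] {p n m : ℕ} [hp : Fact p.Prime] (S : Sylow p P)
    (h : Nat.card P = p ^ n * m) (hm : ¬ p ∣ m) : Nat.card (S : Subgroup P) = p ^ n := by
  have h1 := S.card_eq_multiplicity
  rw [h, Nat.factorization_mul (pow_ne_zero _ hp.out.ne_zero) (by rintro rfl; exact hm (dvd_zero _))] at h1
  simpa only [Nat.factorization_eq_zero_of_not_dvd hm, hp.out.factorization_self, Nat.factorization_pow, _root_.Finsupp.coe_add, _root_.Finsupp.coe_smul, _root_.nsmul_eq_mul, _root_.Pi.add_apply, _root_.Pi.mul_apply, _root_.Pi.natCast_apply, _root_.Nat.cast_id, _root_.mul_one, _root_.add_zero] using h1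

/-- Burnside: a Sylow subgroup of a simple group is not its own normaliser, when it is abelian -/
theorem card_sylow_ne {N : Type*} [Group N] [Finite N] (hs : IsSimpleGroup N) {p m : ℕ} [hp : Fact p.Prime]
    (P : Sylow p N) (hab : ∀ a ∈ (P : Subgroup N), ∀ b ∈ (P : Subgroup N), a * b = b * a)
    (hm : Nat.card (P : Subgroup N) * m = Nat.card N) (hm1 : m ≠ 1) (hP1 : Nat.card (P : Subgroup N) ≠ 1) :
    Nat.card (Sylow p N) ≠ m := by
  intro e
  rw [P.card_eq_index_normalizer] at e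
  have e' : (normalizer ((P : Subgroup N) : Set N)).index = m := e
  have h1 := card_mul_index (normalizer ((P : Subgroup N) : Set N))
  rw [e', ← hm] at h1
  have hm0 : 0 < m := by
    rcases Nat.eq_zero_or_pos m with rfl | h
    · rw [mul_zero] at hm
      exact absurd hm.symm Nat.card_pos.ne'
    · exact h
  have h2 := Nat.eq_of_mul_eq_mul_right hm0 h1
  have h3 : (P : Subgroup N) = normalizer ((P : Subgroup N) : Set N) :=
    Subgroup.eq_of_le_of_card_ge le_normalizer h2.le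
  have hle : normalizer ((P : Subgroup N) : Set N) ≤ centralizer ((P : Subgroup N) : Set N) := by
    rw [← h3]
    intro a ha
    rw [mem_centralizer_iff]
    exact fun b hb => hab b hb a ha
  have h4 := (MonoidHom.ker_transferSylow_isComplement' P hle).card_mul_card
  have h4' : Nat.card (MonoidHom.transferSylow P hle).ker * Nat.card (P : Subgroup N) = Nat.card N := h4
  rcases hs.eq_bot_or_eq_top_of_normal (MonoidHom.transferSylow P hle).ker inferInstance with h5 | h5
  · rw [h5, card_bot, one_mul, ← hm] at h4'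
    have h6 : Nat.card (P : Subgroup N) * 1 = Nat.card (P : Subgroup N) * m := by rw [mul_one, ← h4']
    exact hm1 (Nat.eq_of_mul_eq_mul_left Nat.card_pos h6).symm
  · rw [h5, card_top] at h4'
    exact hP1 (Nat.eq_of_mul_eq_mul_left (Nat.card_pos (α := N)) (by rw [h4', mul_one]))

end good

/-! ### Extremely primitive groups -/

section ept

variable {Q : Type*} [Group Q] [Finite Q] {A : Subgroup Q} {Γ : Subgroup (MulAut Q)} (h : EPT A Γ) {N : Subgroup Q}
  (hNA : N ≤ A) (hn : ∀ a ∈ A, ∀ n ∈ N, a * n * a⁻¹ ∈ N) (hsN : IsSimpleGroup N)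
  (hC : ∀ a ∈ A, (∀ n ∈ N, a * n = n * a) → a = 1)

include hNA hn hsN hC in
/-- `N` is the least normal subgroup `≠ 1` of `A` -/
theorem le_of_norm {K : Subgroup Q} (hK : K ≤ A) (hKn : ∀ a ∈ A, ∀ k ∈ K, a * k * a⁻¹ ∈ K) (hne : K ≠ ⊥) : N ≤ K := by
  have hKN : (K.subgroupOf N).Normal := ⟨fun k hk n => hKn n (hNA n.2) k hk⟩
  rcases hsN.eq_bot_or_eq_top_of_normal _ hKN with e | e
  · exfalso
    apply hne
    rw [Subgroup.eq_bot_iff_forall]
    intro k hk
    apply hC k (hK hk)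
    intro n hn'
    have h5 : k * n * k⁻¹ * n⁻¹ ∈ N := N.mul_mem (hn k (hK hk) n hn') (N.inv_mem hn')
    have h6 : k * n * k⁻¹ * n⁻¹ ∈ K := by
      have e1 : k * n * k⁻¹ * n⁻¹ = k * (n * k⁻¹ * n⁻¹) := by group
      rw [e1]
      exact K.mul_mem hk (hKn n (hNA hn') _ (K.inv_mem hk))
    have h7 : (⟨_, h5⟩ : N) ∈ K.subgroupOf N := h6
    rw [e, mem_bot] at h7
    have h8 : k * n * k⁻¹ * n⁻¹ = 1 := congrArg (fun y : N => (y : Q)) h7
    rw [mul_inv_eq_one, mul_inv_eq_iff_eq_mul] at h8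
    exact h8
  · rwa [subgroupOf_eq_top] at e

include h hNA hn hsN hC in
/-- `N` is invariant under `Γ` -/
theorem map_mem {σ : MulAut Q} (hσ : σ ∈ Γ) {n : Q} (hn' : n ∈ N) : σ n ∈ N := by
  have h1 : N ≤ N.map (σ⁻¹ : MulAut Q).toMonoidHom := by
    refine le_of_norm hNA hn hsN hC ?_ ?_ ?_
    · rintro _ ⟨y, hy, rfl⟩
      exact (h.inv _ (inv_mem hσ) y).2 (hNA hy)
    · rintro a ha _ ⟨y, hy, rfl⟩
      refine ⟨σ a * y * (σ a)⁻¹, hn _ ((h.inv σ hσ a).2 ha) y hy, ?_⟩
      show σ⁻¹ (σ a * y * (σ a)⁻¹) = a * σ⁻¹ y * a⁻¹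
      rw [map_mul, map_mul, map_inv, MulAut.inv_apply_self]
    · rw [Ne, Subgroup.map_eq_bot_iff_of_injective _ (σ⁻¹ : MulAut Q).injective]
      rintro rfl
      exact (not_subsingleton (⊥ : Subgroup Q)) inferInstance
  obtain ⟨y, hy, e⟩ := h1 hn'
  have e' : σ⁻¹ y = n := e
  rw [← e', MulAut.apply_inv_self]
  exact hy

include h hNA hn hsN hC in
/-- the two point stabilisers are good -/
theorem good_of {x : Q} (hx : x ∉ A) : Good (N.subgroupOf A) ((A ⊓ cj x A : Subgroup Q).subgroupOf A) := by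
  refine ⟨?_, ?_, ?_⟩
  · intro hab
    obtain ⟨K, h1, h2, h3, h4⟩ := h.abM0 x hx fun a ha b hb =>
      congrArg (fun y : A => (y : Q)) (hab ⟨a, (mem_inf.1 ha).1⟩ ha ⟨b, (mem_inf.1 hb).1⟩ hb)
    have hKA : ∀ a ∈ A, ∀ k ∈ K, a * k * a⁻¹ ∈ K := fun a ha k hk => h2 _ ((h.conj a).2 ha) k hk
    have h5 := le_of_norm hNA hn hsN hC h1 hKA h3
    obtain ⟨y, hy⟩ := exists_ne (1 : N)
    apply hy
    apply Subtype.ext
    exact hC y (hNA y.2) fun n hn' => h4 y (h5 y.2) n (h5 hn')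
  · intro e
    rw [subgroupOf_eq_top] at e
    apply hx
    apply h.selfnorm
    intro a ha
    have h1 : A = cj x A := Subgroup.eq_of_le_of_card_ge (e.trans inf_le_right) (card_cj x A).le
    have h2 := conj_mem_cj (x := x) ha
    rwa [← h1] at h2
  · intro X hX hne g hg
    refine mem_subgroupOf.2 ⟨g.2, ?_⟩
    have e0 : ∀ k : Q, k ∈ (X.map ((A ⊓ cj x A : Subgroup Q).subgroupOf A ⊓ N.subgroupOf A : Subgroup A).subtype).map
        A.subtype ↔ ∃ y : ((A ⊓ cj x A : Subgroup Q).subgroupOf A ⊓ N.subgroupOf A : Subgroup A), y ∈ X ∧ ((y : A) : Q) = k := by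
      intro k
      constructor
      · rintro ⟨_, ⟨y, hy, rfl⟩, rfl⟩
        exact ⟨y, hy, rfl⟩
      · rintro ⟨y, hy, rfl⟩
        exact ⟨_, ⟨y, hy, rfl⟩, rfl⟩
    show (g : Q) ∈ cj x A
    rw [← h.conj_stab g.2]
    refine h.norm x hx ((X.map (Subgroup.subtype _)).map A.subtype) ?_ ?_ ?_ _ ((h.conj _).2 g.2) ?_
    · intro k hk
      obtain ⟨y, -, rfl⟩ := (e0 k).1 hk
      exact (mem_inf.1 y.2).1
    · intro σ hσ hσx k hk
      obtain ⟨k, hkX, rfl⟩ := (e0 k).1 hk
      have hs : ∀ y : ((A ⊓ cj x A : Subgroup Q).subgroupOf A ⊓ N.subgroupOf A : Subgroup A),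
          σ ((y : A) : Q) ∈ A := fun y => (h.inv σ hσ _).2 y.1.2
      let f : ((A ⊓ cj x A : Subgroup Q).subgroupOf A ⊓ N.subgroupOf A : Subgroup A) →*
          ((A ⊓ cj x A : Subgroup Q).subgroupOf A ⊓ N.subgroupOf A : Subgroup A) :=
        { toFun := fun y => ⟨⟨σ ((y : A) : Q), hs y⟩, h.stab_M0 hσ hσx (mem_inf.1 y.2).1,
            map_mem h hNA hn hsN hC hσ (mem_inf.1 y.2).2⟩
          map_one' := Subtype.ext (Subtype.ext (map_one σ))
          map_mul' := fun y z => Subtype.ext (Subtype.ext (map_mul σ _ _)) }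
      have hf : Function.Injective f := by
        intro y z e
        have e' : σ ((y : A) : Q) = σ ((z : A) : Q) := congrArg
          (fun w : ((A ⊓ cj x A : Subgroup Q).subgroupOf A ⊓ N.subgroupOf A : Subgroup A) => ((w : A) : Q)) e
        exact Subtype.ext (Subtype.ext (σ.injective e'))
      let τ : MulAut ((A ⊓ cj x A : Subgroup Q).subgroupOf A ⊓ N.subgroupOf A : Subgroup A) :=
        MulEquiv.ofBijective f (Finite.injective_iff_bijective.1 hf)
      have hτ : X.map τ.toMonoidHom = X := Subgroup.characteristic_iff_map_eq.1 hX τ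
      refine (e0 _).2 ⟨τ k, ?_, rfl⟩
      rw [← hτ]
      exact ⟨k, hkX, rfl⟩
    · rw [Ne, Subgroup.map_eq_bot_iff_of_injective _ A.subtype_injective,
        Subgroup.map_eq_bot_iff_of_injective _ (Subgroup.subtype_injective _)]
      exact hne
    · intro k hk
      obtain ⟨_, hk', rfl⟩ := hk
      exact ⟨_, hg _ hk', rfl⟩

include h hNA hn hsN hC in
theorem index_le_good : A.index ≤ {M : Subgroup A | Good (N.subgroupOf A) M}.ncard ^ 2 := by
  refine h.index_le.trans (Nat.pow_le_pow_left ?_ 2)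
  refine Set.ncard_le_ncard_of_injOn (fun M => M.subgroupOf A) ?_ ?_ (Set.toFinite _)
  · rintro _ ⟨x, hx, rfl⟩
    exact good_of h hNA hn hsN hC hx
  · rintro _ ⟨x, _, rfl⟩ _ ⟨y, _, rfl⟩ e
    have e' : (A ⊓ cj x A : Subgroup Q).subgroupOf A = (A ⊓ cj y A : Subgroup Q).subgroupOf A := e
    have h1 := congrArg (fun M : Subgroup A => M.map A.subtype) e'
    simp only [subgroupOf_map_subtype] at h1
    rwa [inf_of_le_left inf_le_left, inf_of_le_left inf_le_left] at h1

end ept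

/-! ### The socle `PSL₂(13)` -/

section l213

variable {G : Type*} [Group G] [Finite G] {N : Subgroup G} [hN : N.Normal]

theorem good_mem (hs : IsSimpleGroup N) (hc : Nat.card N = 1092) (hi : N.index ≤ 2) {M : Subgroup G} (h : Good N M) :
    M ∈ RS N 13 ∪ RS N 7 ∪ RS N 3 ∪ RS N 2 := by
  have p13 : Fact (Nat.Prime 13) := ⟨by norm_num⟩
  have p7 : Fact (Nat.Prime 7) := ⟨by norm_num⟩
  have p3 : Fact (Nat.Prime 3) := ⟨by norm_num⟩
  have p2 : Fact (Nat.Prime 2) := ⟨by norm_num⟩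
  have hKd : Nat.card (M ⊓ N : Subgroup G) ∣ 1092 := by
    rw [← hc]
    exact card_dvd_of_le inf_le_right
  -- the case of a unique Sylow subgroup
  have key : ∀ p : ℕ, ∀ [Fact p.Prime], p ∣ Nat.card (M ⊓ N : Subgroup G) → ¬ p ^ 2 ∣ 1092 →
      Nat.card (Sylow p (M ⊓ N : Subgroup G)) = 1 → M ∈ RS N p := by
    intro p hp hd hd1 hone
    have hsub : Subsingleton (Sylow p (M ⊓ N : Subgroup G)) := (Nat.card_eq_one_iff_unique.1 hone).1
    obtain ⟨P⟩ : Nonempty (Sylow p (M ⊓ N : Subgroup G)) := inferInstance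
    have h1 : (P : Subgroup (M ⊓ N : Subgroup G)).Characteristic := inferInstance
    obtain ⟨n, hn⟩ := IsPGroup.iff_card.1 P.2
    have hn' : Nat.card (P : Subgroup (M ⊓ N : Subgroup G)) = p ^ n := hn
    have h2 : p ^ n ∣ 1092 := by
      rw [← hn']
      exact (card_subgroup_dvd_card _).trans hKd
    have h3 : n < 2 := by
      by_contra hlt
      exact hd1 ((pow_dvd_pow p (by omega)).trans h2)
    have h4 : n ≠ 0 := by
      rintro rfl
      have h5 := P.ne_bot_of_dvd_card hd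
      rw [pow_zero, card_eq_one] at hn'
      exact h5 hn'
    have h5 : n = 1 := by omega
    subst h5
    exact h.mem_RS h1 hn' one_ne_zero (by rw [hc]; exact hd1)
  by_cases h13 : 13 ∣ Nat.card (M ⊓ N : Subgroup G)
  · have h1 : Nat.card (Sylow 13 (M ⊓ N : Subgroup G)) ∣ 84 := H342.EP.card_sylow_dvd (a := 1) (by norm_num only [_root_.Subgroup.mem_inf]; exact hKd)
    have h2 : Nat.card (Sylow 13 (M ⊓ N : Subgroup G)) % 13 = 1 := H342.EP.card_sylow_mod
    have h3 : ∀ n ∈ Nat.divisors 84, n % 13 = 1 → n = 1 ∨ n = 14 := by decide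
    rcases h3 _ (Nat.mem_divisors.2 ⟨h1, by norm_num⟩) h2 with h4 | h4
    · exact Or.inl (Or.inl (Or.inl (key 13 h13 (by norm_num) h4)))
    · exfalso
      obtain ⟨P⟩ : Nonempty (Sylow 13 (M ⊓ N : Subgroup G)) := inferInstance
      have h5 : 14 ∣ Nat.card (M ⊓ N : Subgroup G) := by
        rw [← h4]
        exact P.card_dvd_index.trans (index_dvd_card _)
      have h6 : 91 ∣ Nat.card (M ⊓ N : Subgroup G) := by
        have : (91 : ℕ) ∣ Nat.lcm 14 13 := by decide
        exact this.trans (Nat.lcm_dvd h5 h13)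
      have h7 : Nat.card ((M ⊓ N : Subgroup G).subgroupOf N) = Nat.card (M ⊓ N : Subgroup G) :=
        Nat.card_congr (subgroupOfEquivOfLe inf_le_right).toEquiv
      rw [← h7] at h6
      have h8 := H342.EP.eq_top_of_dvd hs hc h6
      rw [subgroupOf_eq_top] at h8
      exact h.not_le (by omega) (h8.trans inf_le_left)
  by_cases h7 : 7 ∣ Nat.card (M ⊓ N : Subgroup G)
  · have hK84 : Nat.card (M ⊓ N : Subgroup G) ∣ 7 ^ 1 * 12 := by
      have h1 : (Nat.card (M ⊓ N : Subgroup G)).Coprime 13 := by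
        rw [Nat.coprime_comm, Nat.Prime.coprime_iff_not_dvd p13.out]
        exact h13
      exact h1.dvd_of_dvd_mul_left (m := 13) (by norm_num only [_root_.Subgroup.mem_inf]; exact hKd)
    have h1 : Nat.card (Sylow 7 (M ⊓ N : Subgroup G)) ∣ 12 := H342.EP.card_sylow_dvd (a := 1) hK84
    have h2 : Nat.card (Sylow 7 (M ⊓ N : Subgroup G)) % 7 = 1 := H342.EP.card_sylow_mod
    have h3 : ∀ n ∈ Nat.divisors 12, n % 7 = 1 → n = 1 := by decide
    have h4 := h3 _ (Nat.mem_divisors.2 ⟨h1, by norm_num⟩) h2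
    exact Or.inl (Or.inl (Or.inr (key 7 h7 (by norm_num) h4)))
  have hK12 : Nat.card (M ⊓ N : Subgroup G) ∣ 3 ^ 1 * 4 := by
    have h1 : (Nat.card (M ⊓ N : Subgroup G)).Coprime (13 * 7) := by
      apply Nat.Coprime.mul_right
      · rw [Nat.coprime_comm, Nat.Prime.coprime_iff_not_dvd p13.out]
        exact h13
      · rw [Nat.coprime_comm, Nat.Prime.coprime_iff_not_dvd p7.out]
        exact h7
    exact h1.dvd_of_dvd_mul_left (m := 13 * 7) (by norm_num only [_root_.Subgroup.mem_inf]; exact hKd)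
  by_cases h3 : 3 ∣ Nat.card (M ⊓ N : Subgroup G)
  · have h1 : Nat.card (Sylow 3 (M ⊓ N : Subgroup G)) ∣ 4 := H342.EP.card_sylow_dvd (a := 1) hK12
    have h2 : Nat.card (Sylow 3 (M ⊓ N : Subgroup G)) % 3 = 1 := H342.EP.card_sylow_mod
    have h5 : ∀ n ∈ Nat.divisors 4, n % 3 = 1 → n = 1 ∨ n = 4 := by decide
    rcases h5 _ (Nat.mem_divisors.2 ⟨h1, by norm_num⟩) h2 with h4 | h4
    · exact Or.inl (Or.inr (key 3 h3 (by norm_num) h4))
    · refine Or.inr ?_
      obtain ⟨P⟩ : Nonempty (Sylow 3 (M ⊓ N : Subgroup G)) := inferInstance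
      have h6 : 4 ∣ Nat.card (M ⊓ N : Subgroup G) := by
        rw [← h4]
        exact P.card_dvd_index.trans (index_dvd_card _)
      have h8 : Nat.card (M ⊓ N : Subgroup G) = 12 := by
        have h9 : (12 : ℕ) ∣ Nat.card (M ⊓ N : Subgroup G) := by
          have : (12 : ℕ) ∣ Nat.lcm 4 3 := by decide
          exact this.trans (Nat.lcm_dvd h6 h3)
        exact Nat.dvd_antisymm (hK12.trans (by norm_num)) h9
      obtain ⟨W, hW1, hW2, -⟩ := H342.EP.exists_V h8 h4
      have hWc : W.Characteristic := by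
        rw [characteristic_iff_le_comap]
        intro φ w hw
        refine hW2 _ ?_
        have h9 : w ^ 4 = 1 := by
          have h10 := pow_card_eq_one' (x := (⟨w, hw⟩ : W))
          rw [hW1] at h10
          exact Subtype.ext_iff.1 h10
        show (φ w) ^ 4 = 1
        rw [← map_pow, h9, map_one]
      exact h.mem_RS (n := 2) hWc (by rw [hW1]; norm_num) two_ne_zero (by rw [hc]; norm_num)
  · refine Or.inr ?_
    have hK4 : Nat.card (M ⊓ N : Subgroup G) ∣ 4 := by
      have h1 : (Nat.card (M ⊓ N : Subgroup G)).Coprime 3 := by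
        rw [Nat.coprime_comm, Nat.Prime.coprime_iff_not_dvd p3.out]
        exact h3
      exact h1.dvd_of_dvd_mul_left (m := 3) (by norm_num only [_root_.Subgroup.mem_inf] at hK12 ⊢; exact hK12)
    have h2 : ∀ n ∈ Nat.divisors 4, n = 1 ∨ n = 2 ∨ n = 4 := by decide
    rcases h2 _ (Nat.mem_divisors.2 ⟨hK4, by norm_num⟩) with h4 | h4 | h4
    · exact absurd (card_eq_one.1 h4) (h.inf_ne (by omega))
    · exfalso
      -- a Sylow 2-subgroup of `N` centralises `M ∩ N`
      have hKne : (⊤ : Subgroup (M ⊓ N : Subgroup G)) ≠ ⊥ := by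
        intro e
        have e' := congrArg (fun X : Subgroup (M ⊓ N : Subgroup G) => Nat.card X) e
        simp only [card_top, card_bot] at e'
        omega
      have e1 : (⊤ : Subgroup (M ⊓ N : Subgroup G)).map (M ⊓ N : Subgroup G).subtype = M ⊓ N := by
        rw [← MonoidHom.range_eq_map, range_subtype]
      have hM := h.eq_norm (X := ⊤) inferInstance hKne
      rw [e1] at hM
      have hp2 : IsPGroup 2 ((M ⊓ N).subgroupOf N) := by
        refine IsPGroup.of_card (n := 1) ?_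
        rw [Nat.card_congr (subgroupOfEquivOfLe (inf_le_right : M ⊓ N ≤ N)).toEquiv, h4]
        norm_num
      obtain ⟨P, hP⟩ := hp2.exists_le_sylow
      have hPc : Nat.card P = 2 ^ 2 := card_sylow_eq (m := 273) P (by rw [hc]; norm_num) (by norm_num)
      have hcom := IsPGroup.isMulCommutative_of_card_eq_prime_sq (p := 2) (G := P) hPc
      have hle : (P : Subgroup N).map N.subtype ≤ M ⊓ N := by
        rintro _ ⟨y, hy, rfl⟩
        refine ⟨?_, y.2⟩
        show (y : G) ∈ M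
        rw [hM, mem_normalizer_iff]
        have hy' : ∀ k ∈ M ⊓ N, (y : G) * k = k * y := by
          intro k hk
          have h5 : (⟨k, (mem_inf.1 hk).2⟩ : N) ∈ (P : Subgroup N) := hP hk
          have h6 := hcom.is_comm.comm (⟨y, hy⟩ : P) ⟨⟨k, (mem_inf.1 hk).2⟩, h5⟩
          exact congrArg (fun z : P => ((z : N) : G)) h6
        intro k
        constructor
        · intro hk
          show (y : G) * k * (y : G)⁻¹ ∈ M ⊓ N
          rw [hy' k hk, mul_inv_cancel_right]
          exact hk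
        · intro hk
          have h7 : (y : G) * k * (y : G)⁻¹ ∈ M ⊓ N := hk
          have h8 := hy' _ h7
          have h9 : (y : G) * k * (y : G)⁻¹ = k := by
            have : (y : G) * ((y : G) * k * (y : G)⁻¹) = (y : G) * k := by rw [h8, inv_mul_cancel_right]
            exact mul_left_cancel this
          rw [← h9]
          exact h7
      have h10 := Nat.card_le_card_of_injective _ (inclusion_injective hle)
      rw [h4, Nat.card_congr ((P : Subgroup N).equivMapOfInjective _ N.subtype_injective).symm.toEquiv] at h10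
      have h11 : Nat.card (P : Subgroup N) = 2 ^ 2 := hPc
      omega
    · exact h.mem_RS (n := 2) (X := ⊤) inferInstance (by rw [card_top, h4]; norm_num) two_ne_zero
        (by rw [hc]; norm_num)

theorem card_good_le (hs : IsSimpleGroup N) (hc : Nat.card N = 1092) (hi : N.index ≤ 2) :
    {M : Subgroup G | Good N M}.ncard ≤ 274 := by
  have p13 : Fact (Nat.Prime 13) := ⟨by norm_num⟩
  have p7 : Fact (Nat.Prime 7) := ⟨by norm_num⟩
  have p3 : Fact (Nat.Prime 3) := ⟨by norm_num⟩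
  have p2 : Fact (Nat.Prime 2) := ⟨by norm_num⟩
  have c13 : (RS N 13).ncard ≤ 14 := by
    refine ncard_RS.trans ?_
    have h1 : Nat.card (Sylow 13 N) ∣ 84 := H342.EP.card_sylow_dvd (a := 1) (by norm_num only []; rw [hc])
    have h3 : ∀ n ∈ Nat.divisors 84, n % 13 = 1 → n ≤ 14 := by decide
    exact h3 _ (Nat.mem_divisors.2 ⟨h1, by norm_num⟩) H342.EP.card_sylow_mod
  have c7 : (RS N 7).ncard ≤ 78 := by
    refine ncard_RS.trans ?_
    have h1 : Nat.card (Sylow 7 N) ∣ 156 := H342.EP.card_sylow_dvd (a := 1) (by norm_num only []; rw [hc])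
    have h3 : ∀ n ∈ Nat.divisors 156, n % 7 = 1 → n ≤ 78 := by decide
    exact h3 _ (Nat.mem_divisors.2 ⟨h1, by norm_num⟩) H342.EP.card_sylow_mod
  have c3 : (RS N 3).ncard ≤ 91 := by
    refine ncard_RS.trans ?_
    have h1 : Nat.card (Sylow 3 N) ∣ 364 := H342.EP.card_sylow_dvd (a := 1) (by norm_num only []; rw [hc])
    obtain ⟨P⟩ : Nonempty (Sylow 3 N) := inferInstance
    have hPc : Nat.card P = 3 ^ 1 := card_sylow_eq (m := 364) P (by rw [hc]; norm_num) (by norm_num)
    have hPc' : Nat.card (P : Subgroup N) = 3 := by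
      have h5 : Nat.card (P : Subgroup N) = 3 ^ 1 := hPc
      rw [h5, pow_one]
    have hcyc : IsCyclic (P : Subgroup N) := isCyclic_of_prime_card (p := 3) hPc'
    have h2 := card_sylow_ne (m := 364) hs P (fun a ha b hb =>
      Subtype.ext_iff.1 (hcyc.isMulCommutative.is_comm.comm (⟨a, ha⟩ : (P : Subgroup N)) ⟨b, hb⟩))
      (by rw [hPc', hc]) (by norm_num) (by rw [hPc']; norm_num)
    have h3 : ∀ n ∈ Nat.divisors 364, n % 3 = 1 → n ≠ 364 → n ≤ 91 := by decide +kernel
    exact h3 _ (Nat.mem_divisors.2 ⟨h1, by norm_num⟩) H342.EP.card_sylow_mod h2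
  have c2 : (RS N 2).ncard ≤ 91 := by
    refine ncard_RS.trans ?_
    have h1 : Nat.card (Sylow 2 N) ∣ 273 := H342.EP.card_sylow_dvd (a := 2) (by norm_num only []; rw [hc])
    obtain ⟨P⟩ : Nonempty (Sylow 2 N) := inferInstance
    have hPc : Nat.card P = 2 ^ 2 := card_sylow_eq (m := 273) P (by rw [hc]; norm_num) (by norm_num)
    have hPc' : Nat.card (P : Subgroup N) = 4 := by
      have h5 : Nat.card (P : Subgroup N) = 2 ^ 2 := hPc
      rw [h5]
      norm_num
    have hcom := IsPGroup.isMulCommutative_of_card_eq_prime_sq (p := 2) (G := P) hPc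
    have h2 := card_sylow_ne (m := 273) hs P (fun a ha b hb =>
      congrArg (fun z : P => (z : N)) (hcom.is_comm.comm (⟨a, ha⟩ : P) ⟨b, hb⟩))
      (by rw [hPc', hc]) (by norm_num) (by rw [hPc']; norm_num)
    have h3 : ∀ n ∈ Nat.divisors 273, n ≠ 273 → n ≤ 91 := by decide +kernel
    exact h3 _ (Nat.mem_divisors.2 ⟨h1, by norm_num⟩) h2
  have hsub : {M : Subgroup G | Good N M} ⊆ RS N 13 ∪ RS N 7 ∪ RS N 3 ∪ RS N 2 :=
    fun M hM => good_mem hs hc hi hM
  refine (Set.ncard_le_ncard hsub (Set.toFinite _)).trans ?_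
  refine (Set.ncard_union_le _ _).trans ?_
  have e1 := Set.ncard_union_le (RS N 13 ∪ RS N 7) (RS N 3)
  have e2 := Set.ncard_union_le (RS N 13) (RS N 7)
  omega

end l213

/-- **The socle is `PSL₂(13)`: `|Q : A| ≤ 274² = 75076`.** -/
theorem l213 {F : Type} [Field F] [Fintype F] (hF : Fintype.card F = 13) {Q : Type*} [Group Q] [Finite Q]
    {A : Subgroup Q} {Γ : Subgroup (MulAut Q)} (h : EPT A Γ)
    (hS : Cfsg.Agent.H419.EP.HasSoc A (Matrix.ProjectiveSpecialLinearGroup (Fin 2) F)) : A.index ≤ 75076 := by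
  have hF13 : Fact (Nat.Prime 13) := ⟨by norm_num⟩
  have f := Cfsg.Agent.LieClassical.FieldTransfer.pslCongr (ι := Fin 2) (ZMod.ringEquivOfPrime F (p := 13)
    (by norm_num) hF).symm
  have hS' := hS.congr f
  have hsL : IsSimpleGroup (Matrix.ProjectiveSpecialLinearGroup (Fin 2) (ZMod 13)) :=
    Matrix.ProjectiveSpecialLinearGroup.rank_two_simple (by rw [Nat.card_zmod]; norm_num)
  have hle := hS'.card_le
  rw [H342.EP.card_aut13] at hle
  obtain ⟨N, hNA, hn, hC, ⟨e⟩⟩ := hS'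
  have hsN : IsSimpleGroup N := e.isSimpleGroup
  have hc : Nat.card N = 1092 := by rw [Nat.card_congr e.toEquiv, H342.EP.card_psl13]
  have hN' : (N.subgroupOf A).Normal := ⟨fun k hk a => hn a a.2 k hk⟩
  let f : N.subgroupOf A ≃* N := subgroupOfEquivOfLe hNA
  have hc' : Nat.card (N.subgroupOf A) = 1092 := by rw [Nat.card_congr f.toEquiv, hc]
  have hs' : IsSimpleGroup (N.subgroupOf A) := f.isSimpleGroup
  have hi : (N.subgroupOf A).index ≤ 2 := by
    have h1 := card_mul_index (N.subgroupOf A)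
    rw [hc'] at h1
    omega
  have h1 := card_good_le hs' hc' hi
  exact (index_le_good h hNA hn hsN hC).trans ((Nat.pow_le_pow_left h1 2).trans (by norm_num))

end Cfsg.Agent.H919.EPX

private theorem dce_de492adcbfe4 : _root_.True := by
  try have : _root_.True := by simp only [_root_.Cfsg.Agent.H919.EPX.RS.eq_1]
  exact _root_.True.intro
end

-- part: H168/EP/MaxAlt
section
set_option linter.all false
open scoped Cfsg.Agent.FastGrp

/-!
# S3499: maximal subgroups of `A_n ≤ G ≤ S_n` not containing `A_n` (helper168)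
-/

set_option autoImplicit false

namespace Cfsg.Agent.H168.EP

open Equiv Equiv.Perm Subgroup MulAction Cfsg.Agent.H839.EP

variable {n : ℕ}

/-- the stabiliser of an equivalence relation -/
def stabS (r : Setoid (Fin n)) : Subgroup (Perm (Fin n)) where
  carrier := {g | ∀ x y, r (g x) (g y) ↔ r x y}
  one_mem' := fun _ _ => Iff.rfl
  mul_mem' := fun {g h} hg hh x y => (hg (h x) (h y)).trans (hh x y)
  inv_mem' := fun {g} hg x y => by
    have h1 := hg (g⁻¹ x) (g⁻¹ y)
    have e : ∀ z, g (g⁻¹ z) = z := fun z => g.apply_symm_apply z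
    rw [e, e] at h1
    exact h1.symm

/-- enough to be compatible in one direction (finite) for a subgroup -/
theorem le_stabS {r : Setoid (Fin n)} {L : Subgroup (Perm (Fin n))} (h : ∀ g ∈ L, ∀ x y, r x y → r (g x) (g y)) :
    L ≤ stabS r := by
  intro g hg x y
  refine ⟨fun h1 => ?_, h g hg x y⟩
  have h2 := h _ (L.inv_mem hg) _ _ h1
  have e : ∀ z, g⁻¹ (g z) = z := fun z => g.symm_apply_apply z
  rwa [e, e] at h2

theorem eq_bot_or_top_of_alt (hn : 3 ≤ n) {r : Setoid (Fin n)} (h : alternatingGroup (Fin n) ≤ stabS r) :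
    (∀ x y, r x y → x = y) ∨ ∀ x y, r x y := by
  have hpre : IsPreprimitive (alternatingGroup (Fin n)) (Fin n) :=
    alternatingGroup.isPreprimitive_of_three_le_card (Fin n) (by simpa only [_root_.Nat.card_eq_fintype_card, _root_.Fintype.card_fin] using hn)
  by_cases hr : ∀ x y, r x y → x = y
  · exact Or.inl hr
  right
  push Not at hr
  obtain ⟨x, y, hxy, hne⟩ := hr
  have hB : IsBlock (alternatingGroup (Fin n)) {z | r x z} := by
    rw [isBlock_iff_smul_eq_or_disjoint]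
    intro g
    rw [or_iff_not_imp_right, Set.not_disjoint_iff]
    rintro ⟨z, ⟨w, hw, rfl⟩, hz⟩
    have hg := h g.2
    have h1 : r x ((g : Perm (Fin n)) w) := hz
    have h2 : r ((g : Perm (Fin n)) x) x := r.trans ((hg x w).2 hw) (r.symm h1)
    ext v
    constructor
    · rintro ⟨u, hu, rfl⟩
      exact r.trans (r.symm h2) ((hg x u).2 hu)
    · intro hv
      refine ⟨(g : Perm (Fin n))⁻¹ v, ?_, (g : Perm (Fin n)).apply_symm_apply v⟩
      change r x ((g : Perm (Fin n))⁻¹ v)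
      rw [← hg]
      have e : (g : Perm (Fin n)) ((g : Perm (Fin n))⁻¹ v) = v := (g : Perm (Fin n)).apply_symm_apply v
      rw [e]
      exact r.trans h2 hv
  rcases hpre.isTrivialBlock_of_isBlock hB with h1 | h1
  · exact absurd (h1 (r.refl x) hxy) hne
  · have h2 : ∀ z, r x z := by
      intro z
      have : z ∈ {z | r x z} := by rw [h1]; exact Set.mem_univ z
      exact this
    intro u v
    exact r.trans (r.symm (h2 u)) (h2 v)

/-- **not primitive**: `L` is the stabiliser of an equivalence relation -/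
theorem MaxNot.eq_stabS (hn : 5 ≤ n) {G L : Subgroup (Perm (Fin n))} (hG : alternatingGroup (Fin n) ≤ G) (hL : MaxNot G L)
    (hnp : ¬ IsPreprimitive L (Fin n)) : ∃ r : Setoid (Fin n), L = G ⊓ stabS r := by
  have key : ∀ r : Setoid (Fin n), (∃ x y, r x y ∧ x ≠ y) → (∃ x y, ¬ r x y) → L ≤ stabS r → L = G ⊓ stabS r := by
    intro r ⟨x, y, hxy, hne⟩ ⟨u, v, huv⟩ hLr
    apply Cfsg.Agent.H839.EP.MaxNot.eq_inf hG hL hLr
    intro hA
    rcases eq_bot_or_top_of_alt (by omega) hA with h1 | h1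
    · exact hne (h1 x y hxy)
    · exact huv (h1 u v)
  by_cases htr : IsPretransitive L (Fin n)
  · -- a block
    obtain ⟨B, hB, hBt⟩ : ∃ B : Set (Fin n), IsBlock L B ∧ ¬ IsTrivialBlock B := by
      by_contra hcon
      push Not at hcon
      exact hnp { htr with isTrivialBlock_of_isBlock := fun {B} hB => hcon B hB }
    have hBne : B.Nonempty := by
      rw [Set.nonempty_iff_ne_empty]
      rintro rfl
      exact hBt (Or.inl Set.subsingleton_empty)
    obtain ⟨b, hb⟩ := hBne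
    have hstep : ∀ k : L, ∀ z, z ∈ B → (k : Perm (Fin n)) z ∈ B → ∀ w ∈ B, (k : Perm (Fin n)) w ∈ B := by
      intro k z hz hkz w hw
      have h1 := (isBlock_iff_smul_eq_or_disjoint.1 hB k).resolve_right (by
        rw [Set.not_disjoint_iff]
        exact ⟨(k : Perm (Fin n)) z, ⟨z, hz, rfl⟩, hkz⟩)
      rw [← h1]
      exact ⟨w, hw, rfl⟩
    let r : Setoid (Fin n) :=
      { r := fun x y => ∃ g ∈ L, g x ∈ B ∧ g y ∈ B
        iseqv :=
          { refl := fun x => by
              obtain ⟨g, hg⟩ := htr.exists_smul_eq x b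
              refine ⟨g, g.2, ?_, ?_⟩ <;>
              · have e : (g : Perm (Fin n)) x = b := hg
                rw [e]
                exact hb
            symm := fun ⟨g, hg, h1, h2⟩ => ⟨g, hg, h2, h1⟩
            trans := by
              rintro x y z ⟨g, hg, h1, h2⟩ ⟨h, hh, h3, h4⟩
              refine ⟨h, hh, ?_, h4⟩
              have e : ∀ w, (h * g⁻¹) (g w) = h w := fun w => congrArg h (g.symm_apply_apply w)
              have h5 := hstep ⟨h * g⁻¹, L.mul_mem hh (L.inv_mem hg)⟩ (g y) h2 (by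
                change (h * g⁻¹) (g y) ∈ B
                rw [e]
                exact h3) (g x) h1
              change (h * g⁻¹) (g x) ∈ B at h5
              rwa [e] at h5 } }
    refine ⟨r, key r ?_ ?_ ?_⟩
    · have h1 : ¬ B.Subsingleton := fun h => hBt (Or.inl h)
      rw [Set.not_subsingleton_iff] at h1
      obtain ⟨x, hx, y, hy, hne⟩ := h1
      exact ⟨x, y, ⟨1, L.one_mem, hx, hy⟩, hne⟩
    · by_contra hcon
      push Not at hcon
      apply hBt
      right
      rw [Set.eq_univ_iff_forall]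
      intro y
      obtain ⟨g, hg, h1, h2⟩ := hcon b y
      have h3 := hstep ⟨g⁻¹, L.inv_mem hg⟩ (g b) h1 (by
        change g⁻¹ (g b) ∈ B
        have e : g⁻¹ (g b) = b := g.symm_apply_apply b
        rw [e]
        exact hb) (g y) h2
      change g⁻¹ (g y) ∈ B at h3
      have e : g⁻¹ (g y) = y := g.symm_apply_apply y
      rwa [e] at h3
    · apply le_stabS
      rintro k hk x y ⟨g, hg, h1, h2⟩
      have e : ∀ w, (g * k⁻¹) (k w) = g w := fun w => congrArg g (k.symm_apply_apply w)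
      refine ⟨g * k⁻¹, L.mul_mem hg (L.inv_mem hk), ?_, ?_⟩
      · rw [e]; exact h1
      · rw [e]; exact h2
  · -- the orbits
    refine ⟨orbitRel L (Fin n), key _ ?_ ?_ ?_⟩
    · by_contra hcon
      push Not at hcon
      have hLb : L = ⊥ := by
        rw [Subgroup.eq_bot_iff_forall]
        intro g hg
        ext x
        have h1 : orbitRel L (Fin n) (g x) x := ⟨⟨g, hg⟩, rfl⟩
        rw [hcon _ _ h1, one_apply]
      have hnc : ¬ IsMulCommutative (alternatingGroup (Fin n)) := by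
        rw [alternatingGroup.isMulCommutative_iff_card_le_three]
        simp only [_root_.Nat.card_eq_fintype_card, _root_.Fintype.card_fin, _root_.not_le]
        omega
      have hnt : Nontrivial (alternatingGroup (Fin n)) := alternatingGroup.nontrivial_of_three_le_card (by simp only [_root_.Nat.card_eq_fintype_card, _root_.Fintype.card_fin]; omega)
      obtain ⟨g, hg⟩ := exists_ne (1 : alternatingGroup (Fin n))
      have hg' : (g : Perm (Fin n)) ≠ 1 := fun h => hg (Subtype.ext h)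
      rcases hL.max (zpowers (g : Perm (Fin n))) (by rw [hLb]; exact bot_le) (by
        rw [zpowers_le]
        exact hG g.2) with h1 | h1
      · apply hg'
        have h2 := mem_zpowers (g : Perm (Fin n))
        rw [h1, hLb, Subgroup.mem_bot] at h2
        exact h2
      · apply hnc
        refine ⟨⟨fun a b => ?_⟩⟩
        have ha := hG a.2
        have hb := hG b.2
        rw [← h1] at ha hb
        obtain ⟨i, hi⟩ := mem_zpowers_iff.1 ha
        obtain ⟨j, hj⟩ := mem_zpowers_iff.1 hb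
        apply Subtype.ext
        change (a : Perm (Fin n)) * b = b * a
        rw [← hi, ← hj, ← zpow_add, ← zpow_add, add_comm]
    · by_contra hcon
      push Not at hcon
      apply htr
      refine ⟨fun x y => ?_⟩
      obtain ⟨g, hg⟩ := hcon y x
      exact ⟨g, hg⟩
    · apply le_stabS
      rintro k hk x y ⟨g, hg⟩
      refine ⟨⟨k, hk⟩ * g * ⟨k, hk⟩⁻¹, ?_⟩
      have hg' : (g : Perm (Fin n)) y = x := hg
      change k ((g : Perm (Fin n)) (k⁻¹ (k y))) = k x
      have e : k⁻¹ (k y) = y := k.symm_apply_apply y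
      rw [e, hg']

/-- the number of setoids -/
theorem card_setoid_le : Nat.card (Setoid (Fin n)) ≤ n ^ n := by
  have h1 : Function.Injective (fun (r : Setoid (Fin n)) (x : Fin n) => (Quotient.mk r x).out) := by
    intro r s h
    apply Setoid.ext
    intro x y
    have h2 : ∀ z, (Quotient.mk r z).out = (Quotient.mk s z).out := fun z => congrFun h z
    constructor
    · intro hxy
      have h3 : Quotient.mk r x = Quotient.mk r y := Quotient.sound hxy
      have h4 : (Quotient.mk s x).out = (Quotient.mk s y).out := by rw [← h2, ← h2, h3]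
      exact Quotient.exact (Quotient.out_injective h4)
    · intro hxy
      have h3 : Quotient.mk s x = Quotient.mk s y := Quotient.sound hxy
      have h4 : (Quotient.mk r x).out = (Quotient.mk r y).out := by rw [h2, h2, h3]
      exact Quotient.exact (Quotient.out_injective h4)
  have h2 := Nat.card_le_card_of_injective _ h1
  rw [Nat.card_pi] at h2
  simpa only [_root_.ge_iff_le, _root_.Nat.card_eq_fintype_card, _root_.Fintype.card_fin, _root_.Finset.prod_const, _root_.Finset.card_univ] using h2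

/-- the number of the imprimitive ones -/
theorem ncard_imprim_le (G : Subgroup (Perm (Fin n))) :
    {L : Subgroup (Perm (Fin n)) | ∃ r : Setoid (Fin n), L = G ⊓ stabS r}.ncard ≤ n ^ n := by
  have : Finite (Setoid (Fin n)) := by
    apply Finite.of_injective (fun (r : Setoid (Fin n)) (x y : Fin n) => r x y)
    intro r s h
    apply Setoid.ext
    intro x y
    exact iff_of_eq (congrFun (congrFun h x) y)
  have h1 : {L : Subgroup (Perm (Fin n)) | ∃ r : Setoid (Fin n), L = G ⊓ stabS r} ⊆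
      Set.range (fun r : Setoid (Fin n) => G ⊓ stabS r) := by
    rintro _ ⟨r, rfl⟩
    exact ⟨r, rfl⟩
  refine (Set.ncard_le_ncard h1 (Set.toFinite _)).trans ?_
  rw [← Set.image_univ]
  refine (Set.ncard_image_le (Set.toFinite _)).trans ?_
  rw [Set.ncard_univ]
  exact card_setoid_le

/-- a primitive group, not `≥ A_n`, has small Sylow `p`-subgroups for `n < 3 p`, `p ≤ n - 3` -/
theorem not_sq_dvd {p : ℕ} (hp : p.Prime) (hp2 : 3 ≤ p) (hp3 : n < 3 * p) (hpn : p + 3 ≤ n) {L : Subgroup (Perm (Fin n))}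
    (hprim : IsPreprimitive L (Fin n)) (hL : ¬ alternatingGroup (Fin n) ≤ L) : ¬ p ^ 2 ∣ Nat.card L := by
  classical
  intro hd
  apply hL
  have hpf : Fact p.Prime := ⟨hp⟩
  obtain ⟨P, hP⟩ := Sylow.exists_subgroup_card_pow_prime p hd
  have hpg : IsPGroup p P := IsPGroup.of_card hP
  have hcomm : ∀ a b : P, a * b = b * a := by
    have := IsPGroup.isMulCommutative_of_card_eq_prime_sq hP
    intro a b
    exact mul_comm' a b
  have hPne : P ≠ ⊥ := by
    intro h
    rw [h, Subgroup.card_bot] at hP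
    exact absurd hP (Nat.one_lt_pow (by norm_num) hp.one_lt).ne
  obtain ⟨a, ha, ha1⟩ : ∃ a ∈ P, a ≠ 1 := by
    by_contra hcon
    push Not at hcon
    exact hPne ((Subgroup.eq_bot_iff_forall _).2 hcon)
  obtain ⟨y, hy⟩ : ∃ y, (a : Perm (Fin n)) y ≠ y := by
    by_contra hcon
    push Not at hcon
    exact ha1 (Subtype.ext (Equiv.ext hcon))
  -- the orbit of `y`
  have hor : Nat.card (orbit P y) = p := by
    obtain ⟨k, hk⟩ := hpg.card_orbit y
    have h1 : Nat.card (orbit P y) ≤ n := by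
      have h6 := Nat.card_le_card_of_injective (Subtype.val : orbit P y → Fin n) Subtype.val_injective
      rwa [Nat.card_eq_fintype_card (α := Fin n), Fintype.card_fin] at h6
    have h2 : k ≠ 0 := by
      rintro rfl
      rw [pow_zero, Nat.card_eq_one_iff_unique] at hk
      have hs := hk.1
      have h3 : (⟨(a : Perm (Fin n)) y, ⟨⟨a, ha⟩, rfl⟩⟩ : orbit P y) = ⟨y, mem_orbit_self y⟩ := Subsingleton.elim _ _
      exact hy (congrArg Subtype.val h3)
    have h3 : k < 2 := by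
      by_contra hcon
      have h4 : p ^ 2 ≤ p ^ k := Nat.pow_le_pow_right hp.pos (by omega)
      nlinarith only [hp2, hp3, hk, h1, h4]
    have h4 : k = 1 := by omega
    rw [hk, h4, pow_one]
  -- the stabiliser
  have hst : Nat.card (stabilizer P y) = p := by
    have h1 := (stabilizer P y).card_mul_index
    rw [index_stabilizer, ← Nat.card_coe_set_eq, hor, hP, pow_two] at h1
    exact Nat.eq_of_mul_eq_mul_right hp.pos h1
  have hsne : stabilizer P y ≠ ⊥ := by
    intro h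
    rw [h, Subgroup.card_bot] at hst
    exact hp.one_lt.ne hst
  obtain ⟨z, hz, hz1⟩ : ∃ z ∈ stabilizer P y, z ≠ 1 := by
    by_contra hcon
    push Not at hcon
    exact hsne ((Subgroup.eq_bot_iff_forall _).2 hcon)
  set w : Perm (Fin n) := ((z : L) : Perm (Fin n)) with hw
  have hwy : w y = y := hz
  have hw1 : w ≠ 1 := fun h => hz1 (Subtype.ext (Subtype.ext h))
  have hwo : orderOf w = p := by
    have h1 : (⟨z, hz⟩ : stabilizer P y) ^ p = 1 := by
      rw [← hst]
      exact pow_card_eq_one'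
    have h2 : z ^ p = 1 := congrArg Subtype.val h1
    have h3 : w ^ p = 1 := by
      have := congrArg (fun t : P => ((t : L) : Perm (Fin n))) h2
      simpa only [_root_.SubmonoidClass.coe_pow, _root_.OneMemClass.coe_one] using this
    exact orderOf_eq_prime h3 hw1
  -- the support of `w`
  have hsup : w.support.card < 2 * p := by
    have h1 : _root_.Disjoint w.support (orbit P y).toFinset := by
      rw [Finset.disjoint_left]
      intro x hx hxo
      rw [Set.mem_toFinset] at hxo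
      obtain ⟨u, rfl⟩ := hxo
      rw [mem_support] at hx
      apply hx
      have h2 := congrArg (fun t : P => ((t : L) : Perm (Fin n)) y) (hcomm z u)
      have h3 : w (((u : L) : Perm (Fin n)) y) = ((u : L) : Perm (Fin n)) (w y) := h2
      rw [hwy] at h3
      exact h3
    have h2 := Finset.card_le_univ (w.support ∪ (orbit P y).toFinset)
    rw [Finset.card_union_of_disjoint h1, Fintype.card_fin, Set.toFinset_card, ← Nat.card_eq_fintype_card, hor] at h2
    omega
  obtain ⟨k, hk⟩ := cycleType_prime_order (σ := w) (by rw [hwo]; exact hp)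
  rw [hwo] at hk
  have h1 := sum_cycleType w
  rw [hk, Multiset.sum_replicate, smul_eq_mul] at h1
  have h2 : k = 0 := by
    by_contra hcon
    have h3 : 2 ≤ k + 1 := by omega
    have h4 := Nat.mul_le_mul_right p h3
    omega
  subst h2
  refine Cfsg.Agent.S0713.result L hprim hp (by rw [Fintype.card_fin]; have := hp.two_le; omega) (by
    rw [Fintype.card_fin]
    exact hpn) (g := w) ?_ ?_ (z : L).2
  · rw [← card_cycleType_eq_one, hk]
    rfl
  · rw [← h1]
    omega

end Cfsg.Agent.H168.EP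
end

-- part: H742/EX/AutTab
section
prune_inst 0x400000
set_option linter.all false
open scoped Cfsg.Agent.FastGrp

/-!
# The simple groups of order dividing `|F₄(2)|` and their automorphism groups (helper742)

`exists_pair` : a known nonabelian simple group `S` whose order divides `|F₄(2)| = 3311126603366400` has a pair
`(|S|, c)` in `lst`, where `|Aut S| ∣ c |S|`, or is of order `|F₄(2)|`.
-/

set_option autoImplicit false

namespace Cfsg.Agent.H742.AutTab

open Cfsg Cfsg.Agent.OrdDiv Cfsg.Agent.H364.OutLie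

universe u

/-- `|Aut S|` divides `c |S|` -/
def AO (S : Type u) [Group S] (c : ℕ) : Prop := Nat.card (MulAut S) ∣ c * Nat.card S

theorem AO.of_out {S : Type u} [Group S] {c : ℕ} (h : Nat.card (Cfsg.Out S) ∣ c) : AO S c := by
  rw [AO, Subgroup.card_eq_card_quotient_mul_card_subgroup (Cfsg.Inn S)]
  exact Nat.mul_dvd_mul h (Subgroup.card_range_dvd _)

theorem AO.congr {S : Type u} [Group S] {T : Type*} [Group T] {c : ℕ} (e : S ≃* T)
    (h : Nat.card (MulAut T) = c * Nat.card T) : AO S c := by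
  rw [AO, mulaut_congr e, h, Nat.card_congr e.toEquiv]

theorem ao_psl {S : Type u} [Group S] {n p f : ℕ} (c : ℕ) (hp : p.Prime) (hf : 1 ≤ f) (hn : 2 ≤ n)
    (h2 : n = 2 → 4 ≤ p ^ f) (hc : (if n = 2 then 1 else 2) * Nat.gcd n (p ^ f - 1) * f = c)
    (h : OrdDiv.Real (.psl n (p ^ f)) S) : AO S c := by
  have := Fact.mk hp
  obtain ⟨F, _, _, hF, ⟨e⟩⟩ := h
  have h1 := Cfsg.Agent.S0813.result p f hf hF n hn h2
  rw [card_pgl hn, hF] at h1
  refine AO.congr e ?_
  rw [h1, ← hc]; ring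

theorem ao_psp {S : Type u} [Group S] {n p f : ℕ} (c : ℕ) (hp : p.Prime) (hf : 1 ≤ f) (hn : 2 ≤ n)
    (h2 : n = 2 → 3 ≤ p ^ f) (hc : (if n = 2 ∧ p = 2 then 2 else 1) * Nat.gcd 2 (p ^ f - 1) * f = c)
    (h : OrdDiv.Real (.psp n (p ^ f)) S) : AO S c := by
  have := Fact.mk hp
  obtain ⟨F, _, _, hF, ⟨e⟩⟩ := h
  have h1 := Cfsg.Agent.S0814.result p f hf hF n hn h2
  exact AO.congr e (by rw [h1, ← hc])

theorem ao_psu {S : Type u} [Group S] {n p f : ℕ} (c : ℕ) (hp : p.Prime) (hf : 1 ≤ f) (hn : 3 ≤ n)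
    (h2 : ¬ (n = 3 ∧ p ^ f = 2)) (hc : Nat.gcd n (p ^ f + 1) * (2 * f) = c)
    (h : OrdDiv.Real (.psu n (p ^ f)) S) : AO S c := by
  have := Fact.mk hp
  obtain ⟨F, _, _, hF, ⟨e⟩⟩ := h
  have h1 := Cfsg.Agent.S0815.result p f hf rfl hF n hn h2
  exact AO.congr e (by rw [h1, ← hc])

theorem ao_oplus {S : Type u} [Group S] {n p f : ℕ} (c : ℕ) (hp : p.Prime) (hf : 1 ≤ f) (hn : 4 ≤ n)
    (hc : (if n = 4 then 3 else 1) * (if p = 2 then 2 else (if Even (n * (p ^ f - 1) / 2) then 8 else 4)) * f = c)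
    (h : OrdDiv.Real (.oplus n (p ^ f)) S) : AO S c := by
  have := Fact.mk hp
  obtain ⟨F, _, _, hF, ⟨e⟩⟩ := h
  have h1 := Cfsg.Agent.S0817.result p f hf hF n hn
  exact AO.congr e (by rw [h1, ← hc])

theorem ao_ominus {S : Type u} [Group S] {n p f : ℕ} (c : ℕ) (hp : p.Prime) (hf : 1 ≤ f) (hn : 4 ≤ n)
    (hc : (if p = 2 then 2 else (if Even (n * (p ^ f - 1) / 2) then 4 else 8)) * f = c)
    (h : OrdDiv.Real (.ominus n (p ^ f)) S) : AO S c := by
  have := Fact.mk hp
  obtain ⟨F, _, _, a, b, hF, hab, ⟨e⟩⟩ := h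
  have h1 := Cfsg.Agent.S0818.result p f hf hF n hn a b hab
  exact AO.congr e (by rw [h1, ← hc])

theorem card_out_congr' {X : Type u} {Y : Type*} [Group X] [Group Y] (e : X ≃* Y) :
    Nat.card (Cfsg.Out X) = Nat.card (Cfsg.Out Y) := Cfsg.Agent.H934.OutB.card_out_congr e

theorem ao_g2 {S : Type u} [Group S] {p f : ℕ} (c : ℕ) (hp : p.Prime) (hf : 1 ≤ f)
    (h2 : 3 ≤ p ^ f) (hc : (if p = 3 then 2 * f else f) = c) (h : OrdDiv.Real (.g2 (p ^ f)) S) : AO S c := by
  have := Fact.mk hp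
  obtain ⟨F, _, _, hF, ⟨e⟩⟩ := h
  have := charP_of_card hp hf hF
  refine AO.of_out ?_
  rw [card_out_congr' e, Cfsg.Agent.S2121.result p f hF h2, hc]

theorem ao_td4 {S : Type u} [Group S] {p f : ℕ} (c : ℕ) (hp : p.Prime) (hf : 1 ≤ f)
    (hc : 3 * f = c) (h : OrdDiv.Real (.td4 (p ^ f)) S) : AO S c := by
  have := Fact.mk hp
  obtain ⟨F, _, _, hF, ⟨e⟩⟩ := h
  have hF' : Fintype.card F = p ^ (3 * f) := by rw [hF, ← pow_mul, mul_comm]
  have := charP_of_card hp (by omega) hF'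
  refine AO.of_out ?_
  rw [card_out_congr' e, Cfsg.Agent.S2129.result p f hF' hf, hc]

theorem ao_sz {S : Type u} [Group S] {f : ℕ} (h : OrdDiv.Real (.sz (2 ^ f)) S) : AO S f := by
  obtain ⟨F, _, _, m, hm, hF, hq, ⟨e⟩⟩ := h
  have hfm : f = 2 * m + 1 := Nat.pow_right_injective (le_refl 2) hq
  refine AO.of_out ?_
  rw [card_out_congr' e, Cfsg.Agent.S2126.result hm (hF.trans hq), hfm]

theorem ao_alt {S : Type u} [Group S] {n : ℕ} (hn : 4 ≤ n) (h6 : n ≠ 6) (h : OrdDiv.Real (.alt n) S) : AO S 2 := by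
  obtain ⟨e⟩ := h
  have : Nontrivial (Fin n) := Fin.nontrivial_iff_two_le.2 (by omega)
  refine AO.congr e ?_
  have h1 := Nat.card_congr (Equiv.ofBijective _ (Cfsg.Agent.S2119.result n hn h6))
  rw [← h1, two_mul_nat_card_alternatingGroup]

theorem ao_alt6 {S : Type u} [Group S] (h : OrdDiv.Real (.alt 6) S) : AO S 4 := by
  obtain ⟨e⟩ := h
  haveI : Fact (Nat.Prime 3) := ⟨by norm_num⟩
  haveI : Fintype (GaloisField 3 2) := Fintype.ofFinite _
  have hF : Fintype.card (GaloisField 3 2) = 9 := by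
    rw [← Nat.card_eq_fintype_card, GaloisField.card 3 2 (by norm_num)]
    norm_num
  obtain ⟨e'⟩ := Cfsg.Agent.S0254.result hF
  exact ao_psl (n := 2) (p := 3) (f := 2) 4 (by norm_num) (by norm_num) (by norm_num) (by norm_num) (by norm_num)
    ⟨GaloisField 3 2, inferInstance, inferInstance, by rw [hF]; norm_num, ⟨e.trans e'.symm⟩⟩

theorem ao_tits {S : Type u} [Group S] (h : OrdDiv.Real .tits S) : AO S 2 := by
  refine AO.of_out ?_
  have h1 : Nat.card (Cfsg.Out S) ≤ 2 := Cfsg.Agent.H867.TitsOut.card_out_le h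
  rcases Nat.eq_zero_or_pos (Nat.card (Cfsg.Out S)) with h2 | h2
  · exfalso
    obtain ⟨e⟩ := h
    have hfin : Finite S := Finite.of_equiv _ e.symm.toEquiv
    have : Finite (MulAut S) := inferInstance
    exact Nat.card_pos.ne' h2
  · interval_cases Nat.card (Cfsg.Out S) <;> norm_num

theorem ao_j2 {S : Type u} [Group S] (h : OrdDiv.Real .j2 S) : AO S 2 := by
  refine AO.of_out ?_
  obtain ⟨e⟩ := h
  rw [card_out_congr' e, Cfsg.Agent.S2066.result]

/-- the factorisation of `|F₄(2)|` -/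
def lF : List (ℕ × ℕ) := [(2, 24), (3, 6), (5, 2), (7, 2), (13, 1), (17, 1)]

/-- `(|S|, c)` with `|Aut S| ∣ c |S|` -/
def lst : List (ℕ × ℕ) :=
  [(60, 2), (360, 4), (2520, 2), (20160, 2), (181440, 2), (1814400, 2), (168, 2), (60, 2), (20160, 12),
    (987033600, 4), (504, 3), (4080, 4), (1425715200, 24), (262080, 6), (5616, 2), (6065280, 4), (360, 4),
    (42456960, 4), (9828, 6), (60, 2), (7800, 4), (168, 2), (58800, 4), (1092, 2), (2448, 2), (1451520, 1),
    (47377612800, 1), (979200, 4), (1056706560, 6), (25920, 2), (25920, 2), (62400, 4), (6048, 2), (3265920, 8),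
    (174182400, 6), (197406720, 2), (251596800, 2), (4245696, 2), (211341312, 3), (29120, 3), (17971200, 2),
    (604800, 2)]

theorem cands_eq : cands lF 3311126603366400 =
    [.alt 5, .alt 6, .alt 7, .alt 8, .alt 9, .alt 10, .psl 3 2, .psl 4 2, .psl 2 4, .psl 3 4, .psl 4 4, .psl 2 8,
      .psl 2 16, .psl 3 16, .psl 2 64, .psl 3 3, .psl 4 3, .psl 2 9, .psl 3 9, .psl 2 27, .psl 2 5, .psl 2 25,
      .psl 2 7, .psl 2 49, .psl 2 13, .psl 2 17, .psp 3 2, .psp 4 2, .psp 2 4, .psp 2 8, .psp 2 3, .psu 4 2,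
      .psu 3 4, .psu 3 3, .psu 4 3, .oplus 4 2, .ominus 4 2, .g2 4, .g2 3, .f4 2, .td4 2, .sz 8, .tits, .j2] := by
  decide +kernel

/-- **The table** -/
theorem exists_pair (tab : OrderTable.{u}) {S : Type u} [Group S] (known : IsKnownSimple' S)
    (hna : ¬ ∀ a b : S, a * b = b * a) (hd : Nat.card S ∣ 3311126603366400) :
    Nat.card S = 3311126603366400 ∨ ∃ x ∈ lst, Nat.card S = x.1 ∧ AO S x.2 := by
  obtain ⟨g, hg, hr, hc⟩ := exists_good tab known hna (l := lF) (N := 3311126603366400) (by decide +kernel) hd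
  rw [cands_eq] at hg
  simp only [List.mem_cons, List.not_mem_nil, or_false] at hg
  have key : ∀ v c : ℕ, ordN g = v → AO S c → (v, c) ∈ lst →
      Nat.card S = 3311126603366400 ∨ ∃ x ∈ lst, Nat.card S = x.1 ∧ AO S x.2 := fun v c h1 h2 h3 =>
    Or.inr ⟨(v, c), h3, hc.trans h1, h2⟩
  rcases hg with rfl | rfl | rfl | rfl | rfl | rfl | rfl | rfl | rfl | rfl | rfl | rfl | rfl | rfl | rfl | rfl | rfl |
    rfl | rfl | rfl | rfl | rfl | rfl | rfl | rfl | rfl | rfl | rfl | rfl | rfl | rfl | rfl | rfl | rfl | rfl |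
    rfl | rfl | rfl | rfl | rfl | rfl | rfl | rfl | rfl
  · exact key 60 2 (by decide +kernel) (ao_alt (by norm_num) (by norm_num) hr) (by decide)
  · exact key 360 4 (by decide +kernel) (ao_alt6 hr) (by decide)
  · exact key 2520 2 (by decide +kernel) (ao_alt (by norm_num) (by norm_num) hr) (by decide)
  · exact key 20160 2 (by decide +kernel) (ao_alt (by norm_num) (by norm_num) hr) (by decide)
  · exact key 181440 2 (by decide +kernel) (ao_alt (by norm_num) (by norm_num) hr) (by decide)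
  · exact key 1814400 2 (by decide +kernel) (ao_alt (by norm_num) (by norm_num) hr) (by decide)
  · exact key 168 2 (by decide +kernel) (ao_psl (n := 3) (p := 2) (f := 1) 2 (by norm_num) (by norm_num)
      (by norm_num) (by norm_num) (by norm_num) hr) (by decide)
  · exact key 20160 2 (by decide +kernel) (ao_psl (n := 4) (p := 2) (f := 1) 2 (by norm_num) (by norm_num)
      (by norm_num) (by norm_num) (by norm_num) hr) (by decide)
  · exact key 60 2 (by decide +kernel) (ao_psl (n := 2) (p := 2) (f := 2) 2 (by norm_num) (by norm_num)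
      (by norm_num) (by norm_num) (by norm_num) hr) (by decide)
  · exact key 20160 12 (by decide +kernel) (ao_psl (n := 3) (p := 2) (f := 2) 12 (by norm_num) (by norm_num)
      (by norm_num) (by norm_num) (by norm_num) hr) (by decide)
  · exact key 987033600 4 (by decide +kernel) (ao_psl (n := 4) (p := 2) (f := 2) 4 (by norm_num) (by norm_num)
      (by norm_num) (by norm_num) (by norm_num) hr) (by decide)
  · exact key 504 3 (by decide +kernel) (ao_psl (n := 2) (p := 2) (f := 3) 3 (by norm_num) (by norm_num)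
      (by norm_num) (by norm_num) (by norm_num) hr) (by decide)
  · exact key 4080 4 (by decide +kernel) (ao_psl (n := 2) (p := 2) (f := 4) 4 (by norm_num) (by norm_num)
      (by norm_num) (by norm_num) (by norm_num) hr) (by decide)
  · exact key 1425715200 24 (by decide +kernel) (ao_psl (n := 3) (p := 2) (f := 4) 24 (by norm_num) (by norm_num)
      (by norm_num) (by norm_num) (by norm_num) hr) (by decide)
  · exact key 262080 6 (by decide +kernel) (ao_psl (n := 2) (p := 2) (f := 6) 6 (by norm_num) (by norm_num)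
      (by norm_num) (by norm_num) (by norm_num) hr) (by decide)
  · exact key 5616 2 (by decide +kernel) (ao_psl (n := 3) (p := 3) (f := 1) 2 (by norm_num) (by norm_num)
      (by norm_num) (by norm_num) (by norm_num) hr) (by decide)
  · exact key 6065280 4 (by decide +kernel) (ao_psl (n := 4) (p := 3) (f := 1) 4 (by norm_num) (by norm_num)
      (by norm_num) (by norm_num) (by norm_num) hr) (by decide)
  · exact key 360 4 (by decide +kernel) (ao_psl (n := 2) (p := 3) (f := 2) 4 (by norm_num) (by norm_num)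
      (by norm_num) (by norm_num) (by norm_num) hr) (by decide)
  · exact key 42456960 4 (by decide +kernel) (ao_psl (n := 3) (p := 3) (f := 2) 4 (by norm_num) (by norm_num)
      (by norm_num) (by norm_num) (by norm_num) hr) (by decide)
  · exact key 9828 6 (by decide +kernel) (ao_psl (n := 2) (p := 3) (f := 3) 6 (by norm_num) (by norm_num)
      (by norm_num) (by norm_num) (by norm_num) hr) (by decide)
  · exact key 60 2 (by decide +kernel) (ao_psl (n := 2) (p := 5) (f := 1) 2 (by norm_num) (by norm_num)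
      (by norm_num) (by norm_num) (by norm_num) hr) (by decide)
  · exact key 7800 4 (by decide +kernel) (ao_psl (n := 2) (p := 5) (f := 2) 4 (by norm_num) (by norm_num)
      (by norm_num) (by norm_num) (by norm_num) hr) (by decide)
  · exact key 168 2 (by decide +kernel) (ao_psl (n := 2) (p := 7) (f := 1) 2 (by norm_num) (by norm_num)
      (by norm_num) (by norm_num) (by norm_num) hr) (by decide)
  · exact key 58800 4 (by decide +kernel) (ao_psl (n := 2) (p := 7) (f := 2) 4 (by norm_num) (by norm_num)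
      (by norm_num) (by norm_num) (by norm_num) hr) (by decide)
  · exact key 1092 2 (by decide +kernel) (ao_psl (n := 2) (p := 13) (f := 1) 2 (by norm_num) (by norm_num)
      (by norm_num) (by norm_num) (by norm_num) hr) (by decide)
  · exact key 2448 2 (by decide +kernel) (ao_psl (n := 2) (p := 17) (f := 1) 2 (by norm_num) (by norm_num)
      (by norm_num) (by norm_num) (by norm_num) hr) (by decide)
  · exact key 1451520 1 (by decide +kernel) (ao_psp (n := 3) (p := 2) (f := 1) 1 (by norm_num) (by norm_num)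
      (by norm_num) (by norm_num) (by norm_num) hr) (by decide)
  · exact key 47377612800 1 (by decide +kernel) (ao_psp (n := 4) (p := 2) (f := 1) 1 (by norm_num) (by norm_num)
      (by norm_num) (by norm_num) (by norm_num) hr) (by decide)
  · exact key 979200 4 (by decide +kernel) (ao_psp (n := 2) (p := 2) (f := 2) 4 (by norm_num) (by norm_num)
      (by norm_num) (by norm_num) (by norm_num) hr) (by decide)
  · exact key 1056706560 6 (by decide +kernel) (ao_psp (n := 2) (p := 2) (f := 3) 6 (by norm_num) (by norm_num)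
      (by norm_num) (by norm_num) (by norm_num) hr) (by decide)
  · exact key 25920 2 (by decide +kernel) (ao_psp (n := 2) (p := 3) (f := 1) 2 (by norm_num) (by norm_num)
      (by norm_num) (by norm_num) (by norm_num) hr) (by decide)
  · exact key 25920 2 (by decide +kernel) (ao_psu (n := 4) (p := 2) (f := 1) 2 (by norm_num) (by norm_num)
      (by norm_num) (by norm_num) (by norm_num) hr) (by decide)
  · exact key 62400 4 (by decide +kernel) (ao_psu (n := 3) (p := 2) (f := 2) 4 (by norm_num) (by norm_num)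
      (by norm_num) (by norm_num) (by norm_num) hr) (by decide)
  · exact key 6048 2 (by decide +kernel) (ao_psu (n := 3) (p := 3) (f := 1) 2 (by norm_num) (by norm_num)
      (by norm_num) (by norm_num) (by norm_num) hr) (by decide)
  · exact key 3265920 8 (by decide +kernel) (ao_psu (n := 4) (p := 3) (f := 1) 8 (by norm_num) (by norm_num)
      (by norm_num) (by norm_num) (by norm_num) hr) (by decide)
  · exact key 174182400 6 (by decide +kernel) (ao_oplus (n := 4) (p := 2) (f := 1) 6 (by norm_num) (by norm_num)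
      (by norm_num) (by norm_num) hr) (by decide)
  · exact key 197406720 2 (by decide +kernel) (ao_ominus (n := 4) (p := 2) (f := 1) 2 (by norm_num) (by norm_num)
      (by norm_num) (by norm_num) hr) (by decide)
  · exact key 251596800 2 (by decide +kernel) (ao_g2 (p := 2) (f := 2) 2 (by norm_num) (by norm_num)
      (by norm_num) (by norm_num) hr) (by decide)
  · exact key 4245696 2 (by decide +kernel) (ao_g2 (p := 3) (f := 1) 2 (by norm_num) (by norm_num)
      (by norm_num) (by norm_num) hr) (by decide)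
  · exact Or.inl (hc.trans (by decide +kernel))
  · exact key 211341312 3 (by decide +kernel) (ao_td4 (p := 2) (f := 1) 3 (by norm_num) (by norm_num)
      (by norm_num) hr) (by decide)
  · exact key 29120 3 (by decide +kernel) (ao_sz (f := 3) hr) (by decide)
  · exact key 17971200 2 (by decide +kernel) (ao_tits hr) (by decide)
  · exact key 604800 2 (by decide +kernel) (ao_j2 hr) (by decide)

end Cfsg.Agent.H742.AutTab

private theorem dce_1a2661175666 : _root_.True := by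
  try have : _root_.True := by simp only [_root_.Cfsg.Agent.H742.AutTab.AO.eq_1]
  exact _root_.True.intro
end

-- part: H523/EPX/AdjF4
section
set_option linter.all false
open scoped Cfsg.Agent.FastGrp

/-!
# S5745: `T ^ k`, `k ≥ 2`, in `F₄(q)` and the prime graph (helper523)

* `exists_comm` : `EPS H N e`, `k ≥ 2`: for primes `r ≠ s` dividing `|T|` there is an element of order `r s`;
* `f4_adj` : in `F₄(q)` the numbers `e(r,q)`, `e(s,q)` are adjacent (`H130.F4Graph.Adj`);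
* `f4_two_57`, `f4_three_57` : no `T ^ k`, `k ≥ 2`, in `F₄(2)`, `F₄(3)` if 5 and 7 divide `|T|` (`A₇²` in `F₄(2)`, `Sz(8)²`,
  `L₃(4)²`, `A₈²`, `A₉²` in `F₄(3)`).
-/

set_option autoImplicit false

namespace Cfsg.Agent.H523.EPX

open Cfsg Cfsg.Lie Cfsg.Agent.H209.EPX

universe u

section

variable {G : Type*} [Group G] {H N : Subgroup G} {T : Type} [Group T] {k : ℕ} {e : N ≃* (Fin k → T)}

theorem finite_T [Finite G] (h : EPS H N e) : Finite T := by
  classical
  have : Finite (Fin k → T) := Finite.of_equiv _ e.toEquiv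
  exact Finite.of_injective (fun t : T => (Pi.mulSingle ⟨0, h.pos⟩ t : Fin k → T))
    (Pi.mulSingle_injective (M := fun _ : Fin k => T) _)

/-- **two factors give elements of order `r s`** -/
theorem exists_comm [Finite G] (h : EPS H N e) (hk : 2 ≤ k) {r s : ℕ} (hr : r.Prime) (hs : s.Prime) (hrs : r ≠ s)
    (hrT : r ∣ Nat.card T) (hsT : s ∣ Nat.card T) : ∃ x : G, orderOf x = r * s := by
  classical
  have := Fact.mk hr
  have := Fact.mk hs
  have hfin := finite_T h
  obtain ⟨a, ha⟩ := exists_prime_orderOf_dvd_card' r hrT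
  obtain ⟨b, hb⟩ := exists_prime_orderOf_dvd_card' s hsT
  let i : Fin k := ⟨0, by omega⟩
  let j : Fin k := ⟨1, by omega⟩
  have hij : i ≠ j := by
    intro hc
    have := congrArg Fin.val hc
    simp [i, j] at this
  let x : Fin k → T := Pi.mulSingle i a
  let y : Fin k → T := Pi.mulSingle j b
  have hx : orderOf x = r := by
    rw [← ha]
    exact orderOf_injective (MonoidHom.mulSingle (fun _ : Fin k => T) i)
      (Pi.mulSingle_injective (M := fun _ : Fin k => T) _) a
  have hy : orderOf y = s := by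
    rw [← hb]
    exact orderOf_injective (MonoidHom.mulSingle (fun _ : Fin k => T) j)
      (Pi.mulSingle_injective (M := fun _ : Fin k => T) _) b
  have hxy : Commute x y := Pi.mulSingle_commute (f := fun _ : Fin k => T) hij a b
  have hcop : (orderOf x).Coprime (orderOf y) := by
    rw [hx, hy]
    exact (Nat.coprime_primes hr hs).2 hrs
  have h1 : orderOf (x * y) = r * s := by rw [hxy.orderOf_mul_eq_mul_orderOf_of_coprime hcop, hx, hy]
  refine ⟨((e.symm (x * y) : N) : G), ?_⟩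
  rw [Subgroup.orderOf_coe, ← h1]
  exact orderOf_injective e.symm.toMonoidHom e.symm.injective (x * y)

end

section

variable {F : Type u} [Field F] [Fintype F] {H N : Subgroup ↥(chevF4.group F)} {T : Type} [Group T] {k : ℕ}
  {e : N ≃* (Fin k → T)} (h : EPS H N e) (hk : 2 ≤ k)

include h hk

/-- **adjacency in the prime graph of `F₄(q)`** -/
theorem f4_adj {r s : ℕ} (hr : r.Prime) (hs : s.Prime) (hrs : r ≠ s) (hr2 : r ≠ 2) (hs2 : s ≠ 2)
    (hrq : ¬ r ∣ Fintype.card F) (hsq : ¬ s ∣ Fintype.card F)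
    (her : orderOf ((Fintype.card F : ℕ) : ZMod r) ∈ [1, 2, 3, 4, 6, 8, 12])
    (hes : orderOf ((Fintype.card F : ℕ) : ZMod s) ∈ [1, 2, 3, 4, 6, 8, 12])
    (hrT : r ∣ Nat.card T) (hsT : s ∣ Nat.card T) :
    Cfsg.Agent.H130.F4Graph.Adj (orderOf ((Fintype.card F : ℕ) : ZMod r)) (orderOf ((Fintype.card F : ℕ) : ZMod s)) := by
  have hfin : Finite ↥(chevF4.group F) := inferInstance
  exact (Cfsg.Agent.H130.F4Graph.odd_iff hr hs hrs hr2 hs2 hrq hsq her hes).1 (exists_comm h hk hr hs hrs hrT hsT)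

/-- no `T ^ k`, `k ≥ 2`, in `F₄(2)` if `5` and `7` divide `|T|` -/
theorem f4_two_57 (hF : Nat.card F = 2) (h5 : 5 ∣ Nat.card T) (h7 : 7 ∣ Nat.card T) : False := by
  have hc : Fintype.card F = 2 := by rw [← Nat.card_eq_fintype_card, hF]
  have o5 : orderOf ((Fintype.card F : ℕ) : ZMod 5) = 4 := by
    rw [hc, orderOf_eq_iff (by norm_num)]
    decide
  have o7 : orderOf ((Fintype.card F : ℕ) : ZMod 7) = 3 := by
    rw [hc, orderOf_eq_iff (by norm_num)]
    decide
  have h1 := f4_adj h hk (r := 5) (s := 7) (by norm_num) (by norm_num) (by norm_num) (by norm_num) (by norm_num)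
    (by rw [hc]; norm_num) (by rw [hc]; norm_num) (by rw [o5]; decide) (by rw [o7]; decide) h5 h7
  rw [o5, o7] at h1
  revert h1
  decide

end

end Cfsg.Agent.H523.EPX
end

-- part: H82/TS/Star
section
prune_inst 0x242000005822120000180012800018061c000000004b0000b8a10742030ede60a023af0149200d1350328a08000400200210045000100000002004000021032890e85206a348a10c26009f803083580c00000000000000000000000000041000000400000
set_option linter.all false
open scoped Cfsg.Agent.FastGrp

/-!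
# Upper bounds for centralizers of semisimple elements (T*, S5745; helper82)

`R : RGD cs h p T n X`, `x ∈ L_J` of order a power of the prime `r ≠ p`, `x` in no conjugate of `P_J'` for `J' ⊊ J`.

* `stab_of_mem` : `x ∈ P_J ∩ m P_J m⁻¹` (`m` over `w`) implies `w⁻¹ Φ_J ⊆ Φ_J`;
* `card_fix_le` : `#{g P_J : x ∈ g P_J g⁻¹} ≤ ∑_{w J = J} |C_{V_J}(x) : C_{V_J ∩ wP_J}(x)|`;
* `star` : `|C(x)| ≤ |C_{L_J}(x)| |C_{V_J}(x)| ∑_{w J = J} |C_{V_J}(x) : C_{V_J ∩ wP_J}(x)|`.
-/

set_option autoImplicit false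
set_option linter.unusedSectionVars false

namespace Cfsg.Agent.H82.TS

open CoxeterSystem Cfsg.Agent.ChevalleyStructure.CoxeterGeom Cfsg.Agent.Tits.Roots Cfsg.Agent.Tits.Core
  Cfsg.Agent.Tits.RootComb Cfsg.Agent.Tits.Exchange Cfsg.Agent.Nodes.Reps Cfsg.Agent.Nodes.BNOf
  Cfsg.Agent.Nodes.StabComb Cfsg.Agent.Nodes.Bruhat Cfsg.Agent.Nodes.OppDec Cfsg.Agent.Nodes.LeviDec
  Cfsg.Agent.KFacts.RgdPar

/-! ### Coprime action on a coset -/

theorem exists_fixed {Y : Type*} [Group Y] [Finite Y] {r k : ℕ} [hr : Fact r.Prime] {x : Y} (hx : x ^ r ^ k = 1)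
    (D : Subgroup Y) (hD : ¬ r ∣ Nat.card D) (hxD : ∀ d ∈ D, x * d * x⁻¹ ∈ D) (v : Y)
    (hv : v⁻¹ * (x * v * x⁻¹) ∈ D) : ∃ c : Y, v⁻¹ * c ∈ D ∧ x * c = c * x := by
  classical
  let S := {c : Y // v⁻¹ * c ∈ D}
  have hfin : Finite S := inferInstance
  let _ : Fintype S := Fintype.ofFinite S
  let f : Function.End S := fun c => ⟨x * c.1 * x⁻¹, by
    have h1 : v⁻¹ * (x * c.1 * x⁻¹) = (v⁻¹ * (x * v * x⁻¹)) * (x * (v⁻¹ * c.1) * x⁻¹) := by group
    rw [h1]
    exact D.mul_mem hv (hxD _ c.2)⟩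
  have hf : ∀ (m : ℕ) (c : S), ((f ^ m) c).1 = x ^ m * c.1 * (x ^ m)⁻¹ := by
    intro m
    induction m with
    | zero => intro c; rw [pow_zero, pow_zero]; change c.1 = _; group
    | succ m ih =>
      intro c
      rw [pow_succ]
      change ((f ^ m) (f c)).1 = _
      rw [ih]
      change x ^ m * (x * c.1 * x⁻¹) * (x ^ m)⁻¹ = _
      rw [pow_succ]; group
  have hf1 : f ^ r ^ k = 1 := by
    funext c
    apply Subtype.ext
    rw [hf, hx]
    change _ = c.1
    group
  have h1 := Equiv.Perm.card_fixedPoints_modEq hf1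
  have h2 : Fintype.card S = Nat.card D := by
    rw [← Nat.card_eq_fintype_card]
    refine Nat.card_congr ⟨fun c => ⟨v⁻¹ * c.1, c.2⟩, fun d => ⟨v * d.1, ?_⟩, ?_, ?_⟩
    · rw [inv_mul_cancel_left]; exact d.2
    · intro c; exact Subtype.ext (by simp)
    · intro d; exact Subtype.ext (by simp)
  rw [h2] at h1
  have h3 : 0 < Fintype.card f.fixedPoints := by
    by_contra h4
    have h5 : Fintype.card f.fixedPoints = 0 := by omega
    rw [h5] at h1
    exact hD ((Nat.modEq_zero_iff_dvd).1 h1)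
  obtain ⟨c, hc⟩ := Fintype.card_pos_iff.1 h3
  have hc' : f c = c := hc
  refine ⟨c.1, c.2, ?_⟩
  have h4 : x * c.1 * x⁻¹ = c.1 := congrArg Subtype.val hc'
  exact mul_inv_eq_iff_eq_mul.1 h4

variable {I W Y : Type*} [Fintype I] [DecidableEq I] [Group W] [Group Y] {M : CoxeterMatrix I}
  {cs : CoxeterSystem M W} {A : I → I → ℤ} {h : IsCartan M A} {p : ℕ} {T : Subgroup Y} {n : I → Y}
  {X : (I → ℤ) → Subgroup Y}

/-- the height outside `J` -/
noncomputable def htJ (J : Set I) : (I → ℤ) →+ ℤ :=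
  { toFun := fun x => ∑ k, (open Classical in if k ∈ J then 0 else x k)
    map_zero' := by simp
    map_add' := fun x y => by
      classical
      rw [← Finset.sum_add_distrib]
      refine Finset.sum_congr rfl fun k _ => ?_
      by_cases hk : k ∈ J <;> simp [hk] }

theorem htJ_apply (J : Set I) (x : I → ℤ) : htJ J x = ∑ k, (open Classical in if k ∈ J then 0 else x k) := rfl

theorem htJ_sr (J : Set I) (i : I) : htJ J (sr i) = open Classical in if i ∈ J then 0 else 1 := by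
  classical
  rw [htJ_apply, Finset.sum_eq_single i]
  · rw [sr_self]
  · intro k _ hk
    rw [sr_ne hk]; simp
  · intro hi
    exact absurd (Finset.mem_univ i) hi

theorem htJ_sr_nonneg (J : Set I) (i : I) : 0 ≤ htJ J (sr i) := by
  rw [htJ_sr]; split_ifs <;> simp

theorem htJ_zero (J : Set I) : {i | htJ J (sr i) = 0} = J := by
  ext i
  simp only [Set.mem_ofPred_eq, htJ_sr]
  by_cases hi : i ∈ J <;> simp [hi]

theorem PS_htJ (J : Set I) : PS T X (Half cs h (htJ J)) = PJ cs h T X J := by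
  have := PS_half_of_dom (cs := cs) (h := h) (T := T) (X := X) (htJ_sr_nonneg J)
  rwa [htJ_zero] at this

theorem rootsJ_htJ (J : Set I) : RootsJ cs h J = {x | IsRoot cs h x ∧ htJ J x = 0} := by
  have := rootsJ_eq (cs := cs) (h := h) (htJ_sr_nonneg J)
  rwa [htJ_zero] at this

variable (R : RGD cs h p T n X)

include R

/-- `x` lies in no conjugate of `P_J'`, `J' ⊊ J` -/
def Ell (cs : CoxeterSystem M W) (h : IsCartan M A) (T : Subgroup Y) (X : (I → ℤ) → Subgroup Y) (J : Set I) (x : Y) :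
    Prop := ∀ J' ⊆ J, ∀ g : Y, x ∈ cj g (PJ cs h T X J') → J' = J

omit R in
theorem Ell.conj {J : Set I} {x : Y} (hx : Ell cs h T X J x) (a : Y) : Ell cs h T X J (a⁻¹ * x * a) := by
  intro J' hJ' g hg
  refine hx J' hJ' (a * g) ?_
  rw [cj_mul]
  have h1 := (conj_mem_cj (g := a) (A := cj g (PJ cs h T X J'))).2 hg
  have h2 : a * (a⁻¹ * x * a) * a⁻¹ = x := by group
  rwa [h2] at h1

omit R in
theorem Ell.conj' {J : Set I} {x : Y} (hx : Ell cs h T X J x) (a : Y) : Ell cs h T X J (a * x * a⁻¹) := by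
  have := hx.conj a⁻¹
  rwa [inv_inv] at this

/-- `x ∈ P_J ∩ m P_J m⁻¹` implies `w⁻¹ Φ_J ⊆ Φ_J` -/
theorem stab_of_mem [Finite W] {J : Set I} {x : Y} (hell : Ell cs h T X J x) (hx : x ∈ PJ cs h T X J) {w : W} {m : Y}
    (hm : Rp cs R.nsys w m) (hxm : x ∈ cj m (PJ cs h T X J)) (hw : ∀ i ∈ J, 0 ≤ rep cs h w⁻¹ (sr i)) {i : I}
    (hi : i ∈ J) : rep cs h w⁻¹ (sr i) ∈ RootsJ cs h J := by
  classical
  set f := htJ (I := I) J with hf
  set g := pull cs h f w⁻¹ with hg
  -- `x ∈ PS Ω`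
  have h1 : x ∈ PS T X {z | IsRoot cs h z ∧ ∀ φ ∈ [f, g], 0 ≤ φ z} := by
    refine (inter R [f, g] (PJ_le_GG hx) fun φ hφ => ?_).1
    simp only [List.mem_cons, List.not_mem_nil, or_false] at hφ
    rcases hφ with rfl | rfl
    · rw [PS_htJ]; exact hx
    · rw [← PS_htJ, cj_PS R hm (fun z hz => hz.1)] at hxm
      refine PS_mono (fun z hz => ?_) hxm
      have hz' : rep cs h w⁻¹ z ∈ Half cs h f := hz
      refine ⟨?_, hz'.2⟩
      have := hz'.1.act w
      rwa [rep_apply_inv] at this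
  -- a bound for `g`
  obtain ⟨N, hN, hN2⟩ := exists_bound (cs := cs) (h := h) g
  have hgi : ∀ i ∈ J, 0 ≤ g (sr i) := fun i hi => dom_nonneg (htJ_sr_nonneg J) (hw i hi)
  have hfi : ∀ i ∈ J, f (sr i) = 0 := fun i hi => by rw [hf, htJ_sr, if_pos hi]
  have hfo : ∀ i, i ∉ J → f (sr i) = 1 := fun i hi => by rw [hf, htJ_sr, if_neg hi]
  set l : (I → ℤ) →+ ℤ := N • f + g with hl
  have hlap : ∀ z, l z = N * f z + g z := fun z => by
    rw [hl, AddMonoidHom.add_apply, AddMonoidHom.smul_apply, smul_eq_mul]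
  have hlo : ∀ i, i ∉ J → 0 < l (sr i) := by
    intro i hi
    rw [hlap, hfo i hi]
    have := hN2 _ (isRoot_sr cs h i)
    rw [abs_lt] at this
    omega
  have hli : ∀ i ∈ J, l (sr i) = g (sr i) := by
    intro i hi
    rw [hlap, hfi i hi]
    omega
  have hl0 : ∀ i, 0 ≤ l (sr i) := by
    intro i
    by_cases hi : i ∈ J
    · rw [hli i hi]; exact hgi i hi
    · exact (hlo i hi).le
  have h2 : x ∈ PJ cs h T X {i | l (sr i) = 0} := by
    rw [← PS_half_of_dom (cs := cs) (h := h) (T := T) (X := X) hl0]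
    refine PS_mono (Ω' := Half cs h l) ?_ h1
    intro z hz
    refine ⟨hz.1, ?_⟩
    have ha := hz.2 f (by simp)
    have hb := hz.2 g (by simp)
    rw [hlap]
    exact add_nonneg (mul_nonneg hN.le ha) hb
  have h3 : {i | l (sr i) = 0} ⊆ J := by
    intro i hi
    by_contra hiJ
    have := hlo i hiJ
    rw [hi] at this
    exact lt_irrefl _ this
  have h4 := hell _ h3 1 (by rwa [cj_one])
  have h5 : i ∈ {i | l (sr i) = 0} := by rw [h4]; exact hi
  have h6 : g (sr i) = 0 := by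
    rw [← hli i hi]; exact h5
  rw [rootsJ_htJ]
  exact ⟨(isRoot_sr cs h i).act _, h6⟩

omit R in
/-- the elements of `W` stabilising the positive roots of `J` -/
def NJ (cs : CoxeterSystem M W) (h : IsCartan M A) (J : Set I) : Set W :=
  {w | (∀ i ∈ J, rep cs h w⁻¹ (sr i) ∈ PosJ cs h J) ∧ ∀ i ∈ J, rep cs h w (sr i) ∈ PosJ cs h J}

omit R in
theorem roots_of_NJ {J : Set I} {w : W} (hw : w ∈ NJ cs h J) {x : I → ℤ} (hx : x ∈ RootsJ cs h J) :
    rep cs h w x ∈ RootsJ cs h J :=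
  H470.EPK.preserve (fun j hj => PosJ_subset _ (hw.2 j hj)) hx

omit R in
theorem inv_NJ {J : Set I} {w : W} (hw : w ∈ NJ cs h J) : w⁻¹ ∈ NJ cs h J :=
  ⟨fun i hi => by rw [inv_inv]; exact hw.2 i hi, fun i hi => hw.1 i hi⟩

theorem cj_LJ {J : Set I} {w : W} {m : Y} (hm : Rp cs R.nsys w m) (hw : w ∈ NJ cs h J) :
    cj m (LJ cs h T X J) = LJ cs h T X J := by
  unfold LJ
  rw [cj_sup, cj_T R hm, cj_Sup_eq R hm (fun x hx => hx.1)]
  congr 2
  ext x
  constructor
  · intro hx
    have hx' : rep cs h w⁻¹ x ∈ RootsJ cs h J := hx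
    have := roots_of_NJ hw hx'
    rwa [rep_apply_inv] at this
  · intro hx
    exact roots_of_NJ (inv_NJ hw) hx

/-- the cosets `g P_J` with `x ∈ g P_J g⁻¹` -/
theorem exists_form [Finite W] [Finite Y] {J : Set I} {x : Y} {r k : ℕ} [hr : Fact r.Prime] (hx : x ^ r ^ k = 1)
    (hrV : ¬ r ∣ Nat.card (VJ cs h X J)) (hell : Ell cs h T X J x) (hxL : x ∈ LJ cs h T X J) (m : W → Y)
    (hm : ∀ w, Rp cs R.nsys w (m w)) {g : Y} (hgG : g ∈ GG cs h T X) (hg : x ∈ cj g (PJ cs h T X J)) :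
    ∃ w ∈ NJ cs h J, ∃ c ∈ VJ cs h X J, x * c = c * x ∧ (c * m w)⁻¹ * g ∈ PJ cs h T X J := by
  obtain ⟨w0, hc⟩ := (mem_GG R).1 hgG
  obtain ⟨b, hb, m0, hm0, b', hb', rfl⟩ := hc
  obtain ⟨u, hu, u', hu', h1, h2⟩ := H470.EPK.exists_red (cs := cs) (h := h) J _ w0 rfl
  obtain ⟨a, ha⟩ := exists_rp cs R.nsys u
  obtain ⟨a', ha'⟩ := exists_rp cs R.nsys u'
  set w := u * w0 * u' with hw
  have hm1 : Rp cs R.nsys w (a * m0 * a') := (ha.mul hm0).mul ha'
  have ht : (m w)⁻¹ * (a * m0 * a') ∈ T := (hm w).unique hm1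
  have hTP : T ≤ PJ cs h T X J := T_le_LJ.trans LJ_le_PJ
  -- `g = y m_w y'`
  obtain ⟨y, hy, y', hy', e⟩ : ∃ y ∈ PJ cs h T X J, ∃ y' ∈ PJ cs h T X J, b * m0 * b' = y * m w * y' := by
    refine ⟨b * a⁻¹, mul_mem (B_le_PJ hb) (inv_mem (LJ_le_PJ (rp_mem_LJ R hu ha))),
      ((m w)⁻¹ * (a * m0 * a')) * (a'⁻¹ * b'),
      mul_mem (hTP ht) (mul_mem (inv_mem (LJ_le_PJ (rp_mem_LJ R hu' ha'))) (B_le_PJ hb')), by group⟩
  rw [e] at hg ⊢
  have hg1 : x ∈ cj (y * m w) (PJ cs h T X J) := by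
    rwa [cj_mul, cj_eq_of_mem hy'] at hg
  have hxP : x ∈ PJ cs h T X J := LJ_le_PJ hxL
  have hg2 : y⁻¹ * x * y ∈ cj (m w) (PJ cs h T X J) := by
    rw [cj_mul] at hg1
    exact mem_cj.1 hg1
  have hyx : y⁻¹ * x * y ∈ PJ cs h T X J := mul_mem (mul_mem (inv_mem hy) hxP) hy
  have h3 : ∀ i ∈ J, rep cs h w⁻¹ (sr i) ∈ RootsJ cs h J := fun i hi =>
    stab_of_mem R (hell.conj y) hyx (hm w) hg2 h2 hi
  have h3' : ∀ i ∈ J, rep cs h w (sr i) ∈ RootsJ cs h J := fun i hi => by
    have := H470.EPK.preserve_inv (fun x hx => H470.EPK.preserve h3 hx) (PosJ_subset _ (sr_mem_PosJ (cs := cs) (h := h) hi))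
    rwa [inv_inv] at this
  have hwN : w ∈ NJ cs h J :=
    ⟨fun i hi => ⟨(h3 i hi).1, h2 i hi, (h3 i hi).2⟩, fun i hi => ⟨(h3' i hi).1, h1 i hi, (h3' i hi).2⟩⟩
  have hL : cj (m w) (LJ cs h T X J) = LJ cs h T X J := cj_LJ R (hm w) hwN
  -- `y = v l`
  obtain ⟨v, hv, l, hl, rfl⟩ : ∃ v ∈ VJ cs h X J, ∃ l ∈ LJ cs h T X J, y = v * l := by
    obtain ⟨l, hl, v, hv, e1⟩ := (mem_PJ R).1 hy
    refine ⟨l * v * l⁻¹, (Subgroup.mem_normalizer_iff.1 (LJ_le_normalizer_VJ R J hl) v).1 hv, l, hl, ?_⟩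
    rw [e1]; group
  have hl' : (m w)⁻¹ * l * m w ∈ LJ cs h T X J := by
    rw [← hL] at hl
    exact mem_cj.1 hl
  have hl2 : l ∈ cj (m w) (PJ cs h T X J) := cj_mono _ LJ_le_PJ (by rw [hL]; exact hl)
  have hx2 : x ∈ cj (m w) (PJ cs h T X J) := cj_mono _ LJ_le_PJ (by rw [hL]; exact hxL)
  have hg3 : v⁻¹ * x * v ∈ cj (m w) (PJ cs h T X J) := by
    have h5 : v⁻¹ * x * v = l * ((v * l)⁻¹ * x * (v * l)) * l⁻¹ := by group
    rw [h5]
    exact mul_mem (mul_mem hl2 hg2) (inv_mem hl2)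
  have hxn : ∀ z, z ∈ VJ cs h X J ↔ x * z * x⁻¹ ∈ VJ cs h X J :=
    Subgroup.mem_normalizer_iff.1 (LJ_le_normalizer_VJ R J hxL)
  set D : Subgroup Y := VJ cs h X J ⊓ cj (m w) (PJ cs h T X J) with hD
  have hDr : ¬ r ∣ Nat.card D := fun h6 => hrV (h6.trans (Subgroup.card_dvd_of_le inf_le_left))
  obtain ⟨c, hc1, hc2⟩ := exists_fixed hx D hDr (fun d hd => ⟨(hxn d).1 hd.1, Subgroup.mul_mem _ (Subgroup.mul_mem _ hx2 hd.2) (Subgroup.inv_mem _ hx2)⟩)
    v ⟨by
      have h6 : v⁻¹ * (x * v * x⁻¹) = v⁻¹ * (x * v * x⁻¹) := rfl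
      exact Subgroup.mul_mem _ (Subgroup.inv_mem _ hv) ((hxn v).1 hv), by
      have h6 : v⁻¹ * (x * v * x⁻¹) = (v⁻¹ * x * v) * x⁻¹ := by group
      rw [h6]
      exact Subgroup.mul_mem _ hg3 (Subgroup.inv_mem _ hx2)⟩
  refine ⟨w, hwN, c, ?_, hc2, ?_⟩
  · have h6 : c = v * (v⁻¹ * c) := by group
    rw [h6]
    exact mul_mem hv hc1.1
  · have h6 : (c * m w)⁻¹ * (v * l * m w * y') =
        ((m w)⁻¹ * (v⁻¹ * c)⁻¹ * m w) * ((m w)⁻¹ * l * m w) * y' := by group
    rw [h6]
    refine mul_mem (mul_mem ?_ (LJ_le_PJ hl')) hy'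
    exact mem_cj.1 (inv_mem hc1.2)

/-! ### counting -/

omit R in
/-- the centralizer of `x` -/
abbrev Cx (x : Y) : Subgroup Y := Subgroup.centralizer {x}

omit R in
theorem mem_Cx {x c : Y} : c ∈ Cx x ↔ x * c = c * x := by
  rw [Subgroup.mem_centralizer_singleton_iff]
  exact ⟨fun h => h.symm, fun h => h.symm⟩

/-- **T\***: `|C(x) : C_{P_J}(x)| ≤ ∑_{w J = J} |C_{V_J}(x) : C_{V_J}(x) ∩ m_w P_J m_w⁻¹|` -/
theorem relIndex_le [Finite W] [Finite Y] {J : Set I} {x : Y} {r k : ℕ} [hr : Fact r.Prime] (hx : x ^ r ^ k = 1)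
    (hrV : ¬ r ∣ Nat.card (VJ cs h X J)) (hell : Ell cs h T X J x) (hxL : x ∈ LJ cs h T X J) (m : W → Y)
    (hm : ∀ w, Rp cs R.nsys w (m w)) (hG : Cx x ≤ GG cs h T X) (S : Finset W) (hS : ∀ w ∈ NJ cs h J, w ∈ S) :
    (PJ cs h T X J).relIndex (Cx x) ≤
      ∑ w ∈ S, (cj (m w) (PJ cs h T X J)).relIndex (Cx x ⊓ VJ cs h X J) := by
  classical
  set P := PJ cs h T X J with hP
  set V := Cx x ⊓ VJ cs h X J with hV
  have h0 : ∀ q : (Cx x) ⧸ P.subgroupOf (Cx x), ∃ w : S, ∃ c : V, (c.1 * m w.1)⁻¹ * (q.out).1 ∈ P := by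
    intro q
    have h1 : x ∈ cj (q.out).1 P := by
      rw [mem_cj]
      have h2 := mem_Cx.1 (q.out).2
      have h3 : (q.out).1⁻¹ * x * (q.out).1 = x := by
        rw [mul_assoc, h2]; group
      rw [h3]
      exact LJ_le_PJ hxL
    obtain ⟨w, hw, c, hc, hc1, hc2⟩ := exists_form R hx hrV hell hxL m hm (hG (q.out).2) h1
    exact ⟨⟨w, hS w hw⟩, ⟨c, mem_Cx.2 hc1, hc⟩, hc2⟩
  choose fw fc hf using h0
  let F : ((Cx x) ⧸ P.subgroupOf (Cx x)) → Σ w : S, V ⧸ (cj (m w.1) P).subgroupOf V :=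
    fun q => ⟨fw q, QuotientGroup.mk (fc q)⟩
  have hinj : Function.Injective F := by
    intro q q' hq
    have h1 : fw q = fw q' := congrArg Sigma.fst hq
    have h2 : (cj (m (fw q).1) P).subgroupOf V = (cj (m (fw q').1) P).subgroupOf V := by rw [h1]
    have h3 : (fc q).1⁻¹ * (fc q').1 ∈ cj (m (fw q).1) P := by
      have h4 : ∀ (w w' : S) (a b : V), (⟨w, QuotientGroup.mk a⟩ : Σ w : S, V ⧸ (cj (m w.1) P).subgroupOf V) =
          ⟨w', QuotientGroup.mk b⟩ → a.1⁻¹ * b.1 ∈ cj (m w.1) P := by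
        intro w w' a b hab
        obtain ⟨h5, h6⟩ := Sigma.mk.inj hab
        subst h5
        have h7 := QuotientGroup.eq.1 (eq_of_heq h6)
        exact Subgroup.mem_subgroupOf.1 h7
      exact h4 _ _ _ _ hq
    have h4 := hf q
    have h5 := hf q'
    rw [← h1] at h5
    have h6 : (m (fw q).1)⁻¹ * ((fc q).1⁻¹ * (fc q').1) * m (fw q).1 ∈ P := mem_cj.1 h3
    have h7 : (q.out).1⁻¹ * (q'.out).1 ∈ P := by
      have h8 : (q.out).1⁻¹ * (q'.out).1 = (((fc q).1 * m (fw q).1)⁻¹ * (q.out).1)⁻¹ *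
          ((m (fw q).1)⁻¹ * ((fc q).1⁻¹ * (fc q').1) * m (fw q).1) *
          (((fc q').1 * m (fw q).1)⁻¹ * (q'.out).1) := by group
      rw [h8]
      exact mul_mem (mul_mem (inv_mem h4) h6) h5
    have h8 : (QuotientGroup.mk q.out : (Cx x) ⧸ P.subgroupOf (Cx x)) = QuotientGroup.mk q'.out :=
      QuotientGroup.eq.2 (Subgroup.mem_subgroupOf.2 h7)
    rwa [QuotientGroup.out_eq', QuotientGroup.out_eq'] at h8
  have h1 := Nat.card_le_card_of_injective F hinj
  rw [Nat.card_sigma] at h1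
  have h2 : P.relIndex (Cx x) = Nat.card ((Cx x) ⧸ P.subgroupOf (Cx x)) := rfl
  rw [h2]
  refine h1.trans ?_
  rw [← Finset.sum_coe_sort S (fun w => (cj (m w) P).relIndex V)]
  exact le_of_eq rfl

omit R in
/-- `C = A B`, `A ∩ B = 1`, both normalised by `x` -/
theorem card_split [Finite Y] {x : Y} {A B C : Subgroup Y} (hC : ∀ c ∈ C, ∃ a ∈ A, ∃ b ∈ B, c = a * b)
    (hA : x ∈ Subgroup.normalizer (A : Set Y)) (hB : x ∈ Subgroup.normalizer (B : Set Y))
    (hAB : ∀ z ∈ A, z ∈ B → z = 1) {c : Y} (hc : c ∈ C) (hx : x * c = c * x) :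
    ∃ a ∈ Cx x ⊓ A, ∃ b ∈ Cx x ⊓ B, c = a * b := by
  obtain ⟨l, hl, v, hv, rfl⟩ := hC c hc
  have hlx : x * l * x⁻¹ ∈ A := (Subgroup.mem_normalizer_iff.1 hA l).1 hl
  have hvx : x * v * x⁻¹ ∈ B := (Subgroup.mem_normalizer_iff.1 hB v).1 hv
  have h2 : l⁻¹ * (x * l * x⁻¹) = v * (x * v * x⁻¹)⁻¹ := by
    have h3 : (x * l * x⁻¹) * (x * v * x⁻¹) = l * v := by
      calc (x * l * x⁻¹) * (x * v * x⁻¹) = x * (l * v) * x⁻¹ := by group
        _ = l * v := by rw [hx]; group
    calc l⁻¹ * (x * l * x⁻¹) = l⁻¹ * ((x * l * x⁻¹) * (x * v * x⁻¹)) * (x * v * x⁻¹)⁻¹ := by group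
      _ = _ := by rw [h3]; group
  have h3 : l⁻¹ * (x * l * x⁻¹) = 1 := by
    refine hAB _ (mul_mem (inv_mem hl) hlx) ?_
    rw [h2]
    exact mul_mem hv (inv_mem hvx)
  have h4 : x * l = l * x := by
    have h5 : x * l * x⁻¹ = l := by
      calc x * l * x⁻¹ = l * (l⁻¹ * (x * l * x⁻¹)) := by group
        _ = l := by rw [h3, mul_one]
    exact mul_inv_eq_iff_eq_mul.1 h5
  have h6 : x * v = v * x := by
    have h7 : x * (l * v) = l * (x * v) := by rw [← mul_assoc, h4, mul_assoc]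
    rw [h7, mul_assoc] at hx
    exact mul_left_cancel hx
  exact ⟨l, ⟨mem_Cx.2 h4, hl⟩, v, ⟨mem_Cx.2 h6, hv⟩, rfl⟩

omit R in
theorem card_le_mul [Finite Y] {A B C : Subgroup Y} (hC : ∀ c ∈ C, ∃ a ∈ A, ∃ b ∈ B, c = a * b) :
    Nat.card C ≤ Nat.card A * Nat.card B := by
  have h0 : ∀ g : C, ∃ l : A, ∃ v : B, g.1 = l.1 * v.1 := by
    rintro ⟨g, hg⟩
    obtain ⟨a, ha, b, hb, e⟩ := hC g hg
    exact ⟨⟨a, ha⟩, ⟨b, hb⟩, e⟩
  choose fl fv hf using h0
  rw [← Nat.card_prod]
  refine Nat.card_le_card_of_injective (fun g => (fl g, fv g)) fun g g' hg => ?_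
  have h1 : fl g = fl g' := congrArg Prod.fst hg
  have h2 : fv g = fv g' := congrArg Prod.snd hg
  apply Subtype.ext
  rw [hf g, hf g', h1, h2]

omit R in
theorem relIndex_le_card [Finite Y] {A C D : Subgroup Y} (hC : ∀ c ∈ C, ∃ a ∈ A, ∃ b ∈ D, c = a * b) :
    D.relIndex C ≤ Nat.card A := by
  have h0 : ∀ q : C ⧸ D.subgroupOf C, ∃ a : A, a.1⁻¹ * (q.out).1 ∈ D := by
    intro q
    obtain ⟨a, ha, b, hb, e⟩ := hC _ (q.out).2
    exact ⟨⟨a, ha⟩, by rw [e]; simpa using hb⟩
  choose f hf using h0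
  refine Nat.card_le_card_of_injective f fun q q' hq => ?_
  have h1 := hf q
  have h2 := hf q'
  rw [← hq] at h2
  have h7 : (q.out).1⁻¹ * (q'.out).1 ∈ D := by
    have h8 : (q.out).1⁻¹ * (q'.out).1 = ((f q).1⁻¹ * (q.out).1)⁻¹ * ((f q).1⁻¹ * (q'.out).1) := by group
    rw [h8]
    exact mul_mem (inv_mem h1) h2
  have h8 : (QuotientGroup.mk q.out : C ⧸ D.subgroupOf C) = QuotientGroup.mk q'.out :=
    QuotientGroup.eq.2 (Subgroup.mem_subgroupOf.2 h7)
  rwa [QuotientGroup.out_eq', QuotientGroup.out_eq'] at h8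

theorem card_Cx_PJ_le [Finite W] [Finite Y] {J : Set I} {x : Y} (hxL : x ∈ LJ cs h T X J) :
    Nat.card (Cx x ⊓ PJ cs h T X J : Subgroup Y) ≤
      Nat.card (Cx x ⊓ LJ cs h T X J : Subgroup Y) * Nat.card (Cx x ⊓ VJ cs h X J : Subgroup Y) := by
  refine card_le_mul fun c hc => ?_
  refine card_split (x := x) (C := PJ cs h T X J) (fun c hc => (mem_PJ R).1 hc) (Subgroup.le_normalizer hxL)
    (LJ_le_normalizer_VJ R J hxL) (fun z hz hz' => ?_) hc.2 (mem_Cx.1 hc.1)
  have h1 : z ∈ LJ cs h T X J ⊓ VJ cs h X J := ⟨hz, hz'⟩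
  rwa [LJ_inf_VJ R J, Subgroup.mem_bot] at h1

/-! ### rays -/

omit R in
/-- the ray of `α` : the roots outside `J` proportional to `α` modulo `J` -/
def Ray (cs : CoxeterSystem M W) (h : IsCartan M A) (J : Set I) (α : I → ℤ) : Set (I → ℤ) :=
  {β | β ∈ NotJ cs h J ∧ ∃ a b : ℤ, 0 < a ∧ 0 < b ∧ ∀ k, k ∉ J → a * β k = b * α k}

omit R in
/-- closed saturated sets of roots outside `J` -/
structure JSet (cs : CoxeterSystem M W) (h : IsCartan M A) (J : Set I) (S : Set (I → ℤ)) : Prop where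
  sub : S ⊆ NotJ cs h J
  cl : ∀ x ∈ S, ∀ y ∈ S, ∀ z, Btwn cs h x y z → z ∈ S
  st : ∀ x ∈ RootsJ cs h J, ∀ y ∈ S, ∀ z, Btwn cs h x y z → z ∈ S
  sat : ∀ x ∈ S, Ray cs h J x ⊆ S

omit R in
theorem htJ_pos {J : Set I} {x : I → ℤ} (hx : x ∈ NotJ cs h J) : 0 < htJ J x := by
  classical
  obtain ⟨-, h0, k, hk, hk0⟩ := hx
  rw [htJ_apply]
  refine Finset.sum_pos' (fun j _ => ?_) ⟨k, Finset.mem_univ _, by rw [if_neg hk]; exact hk0⟩
  split_ifs
  · exact le_rfl
  · exact h0 j

omit R in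
theorem jset_NotJ (J : Set I) : JSet cs h J (NotJ cs h J) where
  sub := subset_rfl
  cl := fun x hx y hy z hz => by
    obtain ⟨hxr, hx0, k, hk, hk0⟩ := hx
    have h1 : 0 < z k := btwn_apply_pos hz hk0 (hy.2.1 k)
    exact ⟨hz.1, nonneg_of_pos_apply hz.1 h1, k, hk, h1⟩
  st := fun x hx y hy z hz => btwn_NotJ hx hy hz
  sat := fun x _ _ hy => hy.1

omit R in
theorem ell_rootsJ {J : Set I} {ell : (I → ℤ) →+ ℤ} (hJ : ∀ j ∈ J, ell (sr j) = 0) {x : I → ℤ}
    (hx : ∀ k, k ∉ J → x k = 0) : ell x = 0 := by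
  rw [map_eq_sum]
  refine Finset.sum_eq_zero fun k _ => ?_
  by_cases hk : k ∈ J
  · rw [hJ k hk, mul_zero]
  · rw [hx k hk, zero_mul]

omit R in
theorem ell_ray {J : Set I} {ell : (I → ℤ) →+ ℤ} (hJ : ∀ j ∈ J, ell (sr j) = 0) {x y : I → ℤ}
    (hy : y ∈ Ray cs h J x) : ∃ a b : ℤ, 0 < a ∧ 0 < b ∧ a * ell y = b * ell x := by
  obtain ⟨-, a, b, ha, hb, e⟩ := hy
  refine ⟨a, b, ha, hb, ?_⟩
  have h1 : ell (a • y - b • x) = 0 := ell_rootsJ hJ fun k hk => by
    rw [Pi.sub_apply, Pi.smul_apply, Pi.smul_apply, smul_eq_mul, smul_eq_mul, e k hk, sub_self]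
  rw [map_sub, map_zsmul, map_zsmul, smul_eq_mul, smul_eq_mul, sub_eq_zero] at h1
  exact h1

omit R in
theorem JSet.pos {J : Set I} {S : Set (I → ℤ)} (hS : JSet cs h J S) {ell : (I → ℤ) →+ ℤ}
    (hJ : ∀ j ∈ J, ell (sr j) = 0) : JSet cs h J {x | x ∈ S ∧ 0 < ell x} where
  sub := fun x hx => hS.sub hx.1
  cl := fun x hx y hy z hz => ⟨hS.cl x hx.1 y hy.1 z hz, Nodes.Slope.btwn_pos' hz ell hx.2 hy.2.le⟩
  st := fun x hx y hy z hz => ⟨hS.st x hx y hy.1 z hz,
    Nodes.Slope.btwn_pos' hz.symm ell hy.2 (ell_rootsJ hJ hx.2).ge⟩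
  sat := fun x hx y hy => by
    refine ⟨hS.sat x hx.1 hy, ?_⟩
    obtain ⟨a, b, ha, hb, e⟩ := ell_ray hJ hy
    have h1 : 0 < a * ell y := by rw [e]; exact mul_pos hb hx.2
    exact (pos_iff_pos_of_mul_pos h1).1 ha

omit R in
theorem JSet.nonpos {J : Set I} {S : Set (I → ℤ)} (hS : JSet cs h J S) {ell : (I → ℤ) →+ ℤ}
    (hJ : ∀ j ∈ J, ell (sr j) = 0) : JSet cs h J {x | x ∈ S ∧ ell x ≤ 0} where
  sub := fun x hx => hS.sub hx.1
  cl := fun x hx y hy z hz => ⟨hS.cl x hx.1 y hy.1 z hz, Nodes.Slope.btwn_nonpos' hz ell hx.2 hy.2⟩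
  st := fun x hx y hy z hz => ⟨hS.st x hx y hy.1 z hz,
    Nodes.Slope.btwn_nonpos' hz ell (ell_rootsJ hJ hx.2).le hy.2⟩
  sat := fun x hx y hy => by
    refine ⟨hS.sat x hx.1 hy, ?_⟩
    obtain ⟨a, b, ha, hb, e⟩ := ell_ray hJ hy
    by_contra h1
    push Not at h1
    have h2 := mul_pos ha h1
    rw [e] at h2
    exact absurd (mul_nonpos_of_nonneg_of_nonpos hb.le hx.2) (not_le.2 h2)

theorem JSet.norm {J : Set I} {S : Set (I → ℤ)} (hS : JSet cs h J S) :
    LJ cs h T X J ≤ Subgroup.normalizer (RGD.Sup X S : Set Y) := by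
  refine sup_le (R.T_le_normalizer fun x hx => (hS.sub hx).1) (RGD.Sup_le fun x hx => ?_)
  refine R.le_normalizer hx.1 fun y hy => ⟨(hS.sub hy).1, Or.inr ⟨ne_neg_of_NotJ hx (hS.sub hy), fun z hz => ?_⟩⟩
  exact hS.st x hx y hy z hz

theorem JSet.split [Finite W] [Finite Y] {J : Set I} {S : Set (I → ℤ)} (hS : JSet cs h J S) {ell : (I → ℤ) →+ ℤ}
    (hJ : ∀ j ∈ J, ell (sr j) = 0) {x : Y} (hxL : x ∈ LJ cs h T X J) {c : Y} (hc : c ∈ Cx x ⊓ RGD.Sup X S) :
    ∃ a ∈ Cx x ⊓ RGD.Sup X {y | y ∈ S ∧ 0 < ell y}, ∃ b ∈ Cx x ⊓ RGD.Sup X {y | y ∈ S ∧ ell y ≤ 0}, c = a * b := by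
  have hcl : Nodes.Slope.Closed cs h S := ⟨fun y hy => (hS.sub hy).1, hS.cl⟩
  refine card_split (x := x) (C := RGD.Sup X S)
    (fun c hc => Nodes.Slope.split R hcl (htJ J) ell (fun y hy => htJ_pos (hS.sub hy)) hc)
    ((hS.pos hJ).norm R hxL) ((hS.nonpos hJ).norm R hxL) (fun z hz hz' => ?_) hc.2 (mem_Cx.1 hc.1)
  refine Nodes.Slope.sup_inf_sup' R ell (htJ J)
    (RGD.Sup_mono (S' := {x | IsRoot cs h x ∧ 0 < ell x}) ?_ hz)
    (RGD.Sup_mono (S' := {x | IsRoot cs h x ∧ ell x ≤ 0 ∧ 0 < htJ J x}) ?_ hz')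
  · intro y hy
    exact ⟨(hS.sub hy.1).1, hy.2⟩
  · intro y hy
    exact ⟨(hS.sub hy.1).1, hy.2, htJ_pos (hS.sub hy.1)⟩

omit R in
/-- two roots on different rays are separated -/
theorem exists_sep {J : Set I} {α β : I → ℤ} (hα : α ∈ NotJ cs h J) (hβ : β ∈ NotJ cs h J)
    (hne : β ∉ Ray cs h J α) : ∃ ell : (I → ℤ) →+ ℤ, (∀ j ∈ J, ell (sr j) = 0) ∧ 0 < ell α ∧ ell β ≤ 0 := by
  obtain ⟨k, hk, l, hl, hkl⟩ : ∃ k, k ∉ J ∧ ∃ l, l ∉ J ∧ α k * β l ≠ α l * β k := by
    by_contra hcon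
    push Not at hcon
    apply hne
    obtain ⟨-, h0, l, hl, hl0⟩ := hα
    obtain ⟨hβr, hβ0, k, hk, hk0⟩ := hβ
    refine ⟨⟨hβr, hβ0, k, hk, hk0⟩, α l, β l, hl0, ?_, fun k hk => ?_⟩
    · by_contra h1
      have h2 : β l = 0 := le_antisymm (not_lt.1 h1) (hβ0 l)
      have h3 := hcon k hk l hl
      rw [h2, mul_zero] at h3
      exact absurd h3 (mul_pos hl0 hk0).ne
    · rw [← hcon k hk l hl, mul_comm]
  have key : ∀ s : ℤ, ∃ ell : (I → ℤ) →+ ℤ, ∀ γ, ell γ = s * (γ k * β l - γ l * β k) := fun s =>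
    ⟨{ toFun := fun γ => s * (γ k * β l - γ l * β k)
       map_zero' := by simp
       map_add' := fun x y => by simp only [Pi.add_apply]; ring }, fun _ => rfl⟩
  have hs : ∀ s : ℤ, 0 < s * (α k * β l - α l * β k) →
      ∃ ell : (I → ℤ) →+ ℤ, (∀ j ∈ J, ell (sr j) = 0) ∧ 0 < ell α ∧ ell β ≤ 0 := by
    intro s hs
    obtain ⟨ell, hell⟩ := key s
    refine ⟨ell, fun j hj => ?_, by rw [hell]; exact hs, ?_⟩
    · rw [hell, sr_ne (show k ≠ j by rintro rfl; exact hk hj), sr_ne (show l ≠ j by rintro rfl; exact hl hj)]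
      ring
    · rw [hell]
      exact le_of_eq (by ring)
  rcases lt_or_gt_of_ne (sub_ne_zero.2 hkl) with h1 | h1
  · exact hs (-1) (by linarith)
  · exact hs 1 (by linarith)

open Classical in
theorem card_JSet_le [Finite W] [Finite Y] {J : Set I} {x : Y} (hxL : x ∈ LJ cs h T X J) (PR : Finset (I → ℤ))
    (hPR : ∀ β, β ∈ PR ↔ β ∈ NotJ cs h J)
    (φ : (I → ℤ) → ℕ) (hφ : ∀ α ∈ NotJ cs h J, Nat.card (Cx x ⊓ RGD.Sup X (Ray cs h J α) : Subgroup Y) ≤
      ∏ β ∈ PR.filter (fun β => β ∈ Ray cs h J α), φ β) : ∀ (N : ℕ) (S : Set (I → ℤ)), JSet cs h J S → S.ncard = N →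
    Nat.card (Cx x ⊓ RGD.Sup X S : Subgroup Y) ≤ ∏ β ∈ PR.filter (fun β => β ∈ S), φ β := by
  intro N
  induction N using Nat.strong_induction_on with
  | _ N ih =>
    intro S hS hN
    have hfin : S.Finite := (RGD.finite_roots (cs := cs) (h := h)).subset fun y hy => (hS.sub hy).1
    by_cases hne : S = ∅
    · subst hne
      have h1 : RGD.Sup X (∅ : Set (I → ℤ)) = ⊥ := by
        rw [eq_bot_iff]
        exact RGD.Sup_le fun z hz => absurd hz (by simp)
      rw [h1, inf_bot_eq, Subgroup.card_bot]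
      simp
    obtain ⟨α, hα⟩ := Set.nonempty_iff_ne_empty.2 hne
    by_cases hsub : S ⊆ Ray cs h J α
    · have h1 : S = Ray cs h J α := subset_antisymm hsub (hS.sat α hα)
      rw [h1]
      exact hφ α (hS.sub hα)
    · obtain ⟨β, hβ, hβn⟩ := Set.not_subset.1 hsub
      obtain ⟨ell, hJ, ha, hb⟩ := exists_sep (hS.sub hα) (hS.sub hβ) hβn
      have h1 : ({y | y ∈ S ∧ 0 < ell y} : Set (I → ℤ)).ncard < N := by
        rw [← hN]
        refine Set.ncard_lt_ncard ⟨fun y hy => hy.1, fun h2 => ?_⟩ hfin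
        exact absurd (h2 hβ).2 (not_lt.2 hb)
      have h2 : ({y | y ∈ S ∧ ell y ≤ 0} : Set (I → ℤ)).ncard < N := by
        rw [← hN]
        refine Set.ncard_lt_ncard ⟨fun y hy => hy.1, fun h2 => ?_⟩ hfin
        exact absurd (h2 hα).2 (not_le.2 ha)
      have h3 := ih _ h1 _ (hS.pos hJ) rfl
      have h4 := ih _ h2 _ (hS.nonpos hJ) rfl
      refine (card_le_mul fun c hc => hS.split R hJ hxL hc).trans ((Nat.mul_le_mul h3 h4).trans (le_of_eq ?_))
      rw [Finset.prod_filter, Finset.prod_filter, Finset.prod_filter, ← Finset.prod_mul_distrib]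
      refine Finset.prod_congr rfl fun y _ => ?_
      by_cases h5 : y ∈ S
      · rcases lt_or_ge 0 (ell y) with h7 | h7
        · simp [h5, h7]
        · simp [h5, h7, not_lt.2 h7]
      · simp [h5]

theorem relIndex_le_w [Finite W] [Finite Y] {J : Set I} {x : Y} (hxL : x ∈ LJ cs h T X J) {w : W} {m : Y}
    (hm : Rp cs R.nsys w m) (hw : w ∈ NJ cs h J) :
    (cj m (PJ cs h T X J)).relIndex (Cx x ⊓ VJ cs h X J) ≤
      Nat.card (Cx x ⊓ RGD.Sup X {y | y ∈ NotJ cs h J ∧ 0 < (-pull cs h (htJ J) w⁻¹) y} : Subgroup Y) := by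
  have hJ : ∀ j ∈ J, (-pull cs h (htJ J) w⁻¹) (sr j) = 0 := by
    intro j hj
    have h1 := PosJ_subset J (hw.1 j hj)
    rw [rootsJ_htJ] at h1
    rw [AddMonoidHom.neg_apply, pull_apply, h1.2, neg_zero]
  refine relIndex_le_card fun c hc => ?_
  obtain ⟨a, ha, b, hb, e⟩ := (jset_NotJ (cs := cs) (h := h) J).split R hJ hxL hc
  refine ⟨a, ha, b, ?_, e⟩
  have h1 : RGD.Sup X {y | y ∈ NotJ cs h J ∧ (-pull cs h (htJ J) w⁻¹) y ≤ 0} ≤ cj m (PJ cs h T X J) := by
    rw [← PS_htJ, cj_PS R hm (fun z hz => hz.1)]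
    refine RGD.Sup_le fun y hy => X_le_PS ?_
    refine ⟨hy.1.1.act _, ?_⟩
    have h2 := hy.2
    rw [AddMonoidHom.neg_apply, pull_apply] at h2
    exact neg_nonpos.1 h2
  exact h1 hb.2

omit R in
theorem neg_iff {J : Set I} {w : W} (hw : w ∈ NJ cs h J) {y : I → ℤ} (hy : y ∈ NotJ cs h J) :
    0 < (-pull cs h (htJ J) w⁻¹) y ↔ ¬ 0 ≤ rep cs h w⁻¹ y := by
  rw [AddMonoidHom.neg_apply, pull_apply, neg_pos]
  constructor
  · intro h1 h2
    exact absurd (dom_nonneg (htJ_sr_nonneg J) h2) (not_le.2 h1)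
  · intro h1
    have h2 : rep cs h w⁻¹ y ≤ 0 := ((hy.1.act w⁻¹).pos_or_neg).resolve_left h1
    have h3 := dom_nonneg (htJ_sr_nonneg J) (neg_nonneg.2 h2)
    rw [map_neg] at h3
    refine lt_of_le_of_ne (by omega) fun h4 => ?_
    have h5 : rep cs h w⁻¹ y ∈ RootsJ cs h J := by
      rw [rootsJ_htJ]
      exact ⟨hy.1.act _, h4⟩
    have h6 := roots_of_NJ hw h5
    rw [rep_apply_inv] at h6
    obtain ⟨-, -, k, hk, hk0⟩ := hy
    exact absurd (h6.2 k hk) hk0.ne'

open Classical in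
/-- **T\***, evaluation form: if `|C_{V_ρ}(x)| ≤ ∏_{β ∈ ρ} φ β` for all rays `ρ` outside `J` then
`|C(x)| ≤ |C_{L_J}(x)| ∏_β φ β ∑_{w J = J} ∏_{w β < 0} φ β`. -/
theorem star [Finite W] [Finite Y] {J : Set I} {x : Y} {r k : ℕ} [hr : Fact r.Prime] (hx : x ^ r ^ k = 1)
    (hrV : ¬ r ∣ Nat.card (VJ cs h X J)) (hell : Ell cs h T X J x) (hxL : x ∈ LJ cs h T X J)
    (hG : Cx x ≤ GG cs h T X) (PR : Finset (I → ℤ)) (hPR : ∀ β, β ∈ PR ↔ β ∈ NotJ cs h J)
    (φ : (I → ℤ) → ℕ) (hφ : ∀ α ∈ NotJ cs h J, Nat.card (Cx x ⊓ RGD.Sup X (Ray cs h J α) : Subgroup Y) ≤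
      ∏ β ∈ PR.filter (fun β => β ∈ Ray cs h J α), φ β)
    (S : Finset W) (hS : ∀ w ∈ NJ cs h J, w ∈ S) :
    Nat.card (Cx x) ≤ Nat.card (Cx x ⊓ LJ cs h T X J : Subgroup Y) * (∏ β ∈ PR, φ β) *
      ∑ w ∈ S, ∏ β ∈ PR.filter (fun β => ¬ 0 ≤ rep cs h w β), φ β := by
  choose m hm using fun w : W => exists_rp cs R.nsys w
  set S' : Finset W := S.filter (fun w => w ∈ NJ cs h J) with hS'
  have h1 := relIndex_le R hx hrV hell hxL m hm hG S' (fun w hw => Finset.mem_filter.2 ⟨hS w hw, hw⟩)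
  have hV : Nat.card (Cx x ⊓ VJ cs h X J : Subgroup Y) ≤ ∏ β ∈ PR, φ β := by
    have h2 := card_JSet_le R hxL PR hPR φ hφ _ _ (jset_NotJ J) rfl
    refine h2.trans (le_of_eq ?_)
    congr 1
    exact Finset.filter_true_of_mem fun β hβ => (hPR β).1 hβ
  have h2 : Nat.card (Cx x) = Nat.card (Cx x ⊓ PJ cs h T X J : Subgroup Y) * (PJ cs h T X J).relIndex (Cx x) := by
    have h3 := Subgroup.card_mul_index ((PJ cs h T X J).subgroupOf (Cx x))
    rw [← h3, ← Subgroup.inf_subgroupOf_left]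
    rw [Nat.card_congr (Subgroup.subgroupOfEquivOfLe (inf_le_left : Cx x ⊓ PJ cs h T X J ≤ Cx x)).toEquiv]
    rw [Subgroup.inf_subgroupOf_left]
    rfl
  rw [h2]
  refine Nat.mul_le_mul ((card_Cx_PJ_le R hxL).trans (Nat.mul_le_mul_left _ hV)) (h1.trans ?_)
  have h3 : ∀ w ∈ S', (cj (m w) (PJ cs h T X J)).relIndex (Cx x ⊓ VJ cs h X J) ≤
      ∏ β ∈ PR.filter (fun β => ¬ 0 ≤ rep cs h w⁻¹ β), φ β := by
    intro w hw
    have hw' : w ∈ NJ cs h J := (Finset.mem_filter.1 hw).2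
    refine (relIndex_le_w R hxL (hm w) hw').trans ?_
    have hJ : ∀ j ∈ J, (-pull cs h (htJ J) w⁻¹) (sr j) = 0 := by
      intro j hj
      have h1 := PosJ_subset J (hw'.1 j hj)
      rw [rootsJ_htJ] at h1
      rw [AddMonoidHom.neg_apply, pull_apply, h1.2, neg_zero]
    refine (card_JSet_le R hxL PR hPR φ hφ _ _ ((jset_NotJ J).pos hJ) rfl).trans (le_of_eq ?_)
    rw [Finset.prod_filter, Finset.prod_filter]
    refine Finset.prod_congr rfl fun β hβ => ?_
    have h5 := (hPR β).1 hβ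
    have h6 := neg_iff hw' h5
    by_cases h7 : 0 ≤ rep cs h w⁻¹ β
    · rw [if_neg (fun h8 => (h6.1 h8.2) h7), if_neg (fun h8 => h8 h7)]
    · rw [if_pos ⟨h5, h6.2 h7⟩, if_pos h7]
  refine (Finset.sum_le_sum h3).trans ?_
  have h4 : ∑ w ∈ S', ∏ β ∈ PR.filter (fun β => ¬ 0 ≤ rep cs h w⁻¹ β), φ β =
      ∑ w ∈ S'.image (fun w => w⁻¹), ∏ β ∈ PR.filter (fun β => ¬ 0 ≤ rep cs h w β), φ β := by
    rw [Finset.sum_image (fun a _ b _ hab => inv_injective hab)]
  rw [h4]
  refine Finset.sum_le_sum_of_subset fun w hw => ?_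
  obtain ⟨v, hv, rfl⟩ := Finset.mem_image.1 hw
  exact hS _ (inv_NJ (Finset.mem_filter.1 hv).2)

end Cfsg.Agent.H82.TS
end

-- part: H874/TS/Lev
section
prune_inst 0x140001004c00120000000002800018060a000000000b0000d8210300028eda208022af00490009034022a2000004000000100450000000000020000000210328906842040340a10c260099803082400000000000000000000000000000041000000400000
set_option linter.all false
open scoped Cfsg.Agent.FastGrp

-- part: H874/TS/Base
section
/-!
# `F₄(2)` : evaluation of T* (helper874, S5745), the frame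

The root group datum of `LL = F₄(2)`; subgroups generated by root groups as `RG P`; codes of the elements fixed by a word.
-/

set_option autoImplicit false
set_option linter.unusedSectionVars false
set_option maxRecDepth 100000

namespace Cfsg.Agent.H874.TS

open CoxeterSystem Cfsg.Agent.ChevalleyStructure.CoxeterGeom Cfsg.Agent.Tits.Roots Cfsg.Agent.Tits.Core
  Cfsg.Agent.Nodes.Reps Cfsg.Agent.Nodes.BNOf
  Cfsg.Agent.Nodes.StabComb Cfsg.Agent.Nodes.Bruhat Cfsg.Agent.Nodes.LeviDec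
open Cfsg.Lie Cfsg.Agent.ChevalleyStructure Cfsg.Agent.ChevalleyStructure.Elts
  Cfsg.Agent.ChevalleyStructure.RootVec
  Cfsg.Agent.ChevalleyStructure.CoxeterGeomTypes
open Cfsg.Agent.Nodes Cfsg.Agent.Nodes.RGDChev
open Cfsg.Agent.SigZero.FFourTwo (isType)
open Cfsg.Agent.FourTwo.Base Cfsg.Agent.FourTwo.Classes Cfsg.Agent.FourTwo.Par
open Cfsg.Agent.FourTwo.UCode (reflU conjU mulU invU el_mod)
open Cfsg.Agent.ChevalleyStructure.TwF4.Rel (sp refl)
open Cfsg.Agent.ChevalleyStructure.F4TwU (posList mem_posList)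
open Cfsg.Agent.H82.TS

/-- the Coxeter system -/
abbrev c0 : CoxeterSystem CoxeterMatrix.F₄ CoxeterMatrix.F₄.Group := CoxeterMatrix.F₄.toCoxeterSystem

abbrev h0 := (isType).isCartan

/-- the torus (trivial) -/
abbrev T0 : Subgroup LL := (chevF4.diagonalSubgroup (ZMod 2)).subgroupOf (chevF4.group (ZMod 2))

/-- the root groups -/
abbrev X0 : (Fin 4 → ℤ) → Subgroup LL := fun v => (XV chevF4 4 (ZMod 2) v).subgroupOf (chevF4.group (ZMod 2))

abbrev n0 (i : Fin 4) : LL := ⟨nn isType (ZMod 2) i, nn_mem_group isType i⟩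

instance finW : Finite CoxeterMatrix.F₄.Group := finite_W isType c0

theorem rg : RGD c0 h0 2 T0 n0 X0 := rgd isType c0 2

theorem T0_eq : T0 = ⊥ := by
  have h1 : chevF4.diagonalSubgroup (ZMod 2) = ⊥ := Cfsg.Agent.FourTwo.BN.diag_eq_bot
  show (chevF4.diagonalSubgroup (ZMod 2)).subgroupOf (chevF4.group (ZMod 2)) = ⊥
  rw [h1, Subgroup.bot_subgroupOf]

theorem mem_X0 {r : ℕ} (hr : r < 48) {g : LL} : g ∈ X0 (vec chevF4 4 r) ↔ g = 1 ∨ g = x r := by
  show (g : GL chevF4.Idx (ZMod 2)) ∈ XV chevF4 4 (ZMod 2) (vec chevF4 4 r) ↔ _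
  rw [XV_vec isType (ZMod 2) hr, mem_rootSubgroup_iff isType.inList r]
  constructor
  · rintro ⟨t, ht⟩
    rcases zmod_cases t with rfl | rfl
    · left
      apply Subtype.ext
      rw [ht]
      exact Units.ext (Elts.x_zero isType.inList r)
    · right
      apply Subtype.ext
      rw [ht]
      exact Units.ext rfl
  · rintro (rfl | rfl)
    · exact ⟨0, Units.ext (Elts.x_zero isType.inList r).symm⟩
    · exact ⟨1, Units.ext rfl⟩

theorem isRoot_iff' {v : Fin 4 → ℤ} : IsRoot c0 h0 v ↔ ∃ r < 48, vec chevF4 4 r = v := isRoot_iff isType c0 v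

theorem Sup_eq {S : Set (Fin 4 → ℤ)} {P : ℕ → Bool} (hS : ∀ v ∈ S, IsRoot c0 h0 v)
    (hP : ∀ r < 48, (P r = true ↔ vec chevF4 4 r ∈ S)) : RGD.Sup X0 S = RG P := by
  apply le_antisymm
  · refine RGD.Sup_le fun v hv => ?_
    obtain ⟨r, hr, rfl⟩ := isRoot_iff'.1 (hS v hv)
    intro g hg
    rcases (mem_X0 hr).1 hg with rfl | rfl
    · exact one_mem _
    · exact x_mem_RG hr ((hP r hr).2 hv)
  · exact RG_le fun r hr hp => RGD.le_Sup ((hP r hr).1 hp) ((mem_X0 hr).2 (Or.inr rfl))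

/-! ### Words -/

/-- letters: `(true, i)` is `n i`, `(false, c)` is `ec c` -/
def lt (l : Bool × ℕ) : LL := if l.1 then n l.2 else ec l.2

/-- the element of a word -/
def we (w : List (Bool × ℕ)) : LL := (w.map lt).prod

theorem we_nil : we [] = 1 := rfl

theorem we_cons (l : Bool × ℕ) (w : List (Bool × ℕ)) : we (l :: w) = lt l * we w := by simp [we]

theorem we_append (w w' : List (Bool × ℕ)) : we (w ++ w') = we w * we w' := by simp [we]

/-- conjugation of a code by a letter -/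
def st1 (l : Bool × ℕ) (e : ℕ) : ℕ := cond l.1 (reflU l.2 e) (conjU l.2 e)

def ok1 (l : Bool × ℕ) (e : ℕ) : Bool := !l.1 || (decide (l.2 < 4) && !(e.testBit (sp l.2 - 24)))

def cw : List (Bool × ℕ) → ℕ → ℕ
  | [], e => e
  | l :: w, e => st1 l (cw w e)

def okw : List (Bool × ℕ) → ℕ → Bool
  | [], _ => true
  | l :: w, e => okw w e && ok1 l (cw w e)

theorem ec_st1 {l : Bool × ℕ} {e : ℕ} (h : ok1 l e = true) : ec (st1 l e) = lt l * ec e * (lt l)⁻¹ := by
  obtain ⟨b, c⟩ := l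
  cases b
  · exact ec_conjU c e
  · simp only [ok1, Bool.not_true, Bool.false_or, Bool.and_eq_true, decide_eq_true_eq, Bool.not_eq_true'] at h
    exact ec_reflU h.1 h.2

theorem ec_cw : ∀ {w : List (Bool × ℕ)} {e : ℕ}, okw w e = true → ec (cw w e) = we w * ec e * (we w)⁻¹
  | [], e, _ => by rw [we_nil, one_mul, inv_one, mul_one]; rfl
  | l :: w, e, h => by
    simp only [okw, Bool.and_eq_true] at h
    rw [cw, ec_st1 h.2, ec_cw h.1, we_cons]
    group

/-- the codes of the products of the letters of a sublist -/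
def subs : List ℕ → List ℕ
  | [] => [0]
  | j :: l => subs l ++ (subs l).map fun e => mulU (2 ^ j) e

theorem ec_mod (e : ℕ) : ec (e % 2 ^ 24) = ec e := Subtype.ext (el_mod (ZMod 2) e)

theorem exists_sub (S : ℕ → Bool) : ∀ (l : List ℕ), (∀ j ∈ l, 24 ≤ j ∧ j < 48) →
    ∃ e ∈ subs (l.map fun j => j - 24), wd (l.filter S) = ec e
  | [], _ => ⟨0, by simp [subs], by rw [List.filter_nil, ec_zero]; rfl⟩
  | j :: l, hl => by
    obtain ⟨e, he, h1⟩ := exists_sub S l fun i hi => hl i (List.mem_cons_of_mem _ hi)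
    have hj := hl j List.mem_cons_self
    rw [List.map_cons, subs]
    by_cases hS : S j = true
    · refine ⟨mulU (2 ^ (j - 24)) e, List.mem_append_right _ (List.mem_map.2 ⟨e, he, rfl⟩), ?_⟩
      rw [List.filter_cons_of_pos hS, wd_cons, h1, ec_mulU, x_eq_ec hj.1 hj.2]
    · exact ⟨e, List.mem_append_left _ he, by rw [List.filter_cons_of_neg hS, h1]⟩

/-- the codes of `RG P` -/
def cds (P : ℕ → Bool) : List ℕ := subs (((posList 24).filter P).map fun j => j - 24)

theorem exists_cd {P : ℕ → Bool} (h : closedB P = true) {g : LL} (hg : g ∈ RG P) : ∃ e ∈ cds P, g = ec e := by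
  obtain ⟨S, rfl⟩ := nf_RG h hg
  obtain ⟨e, he, h1⟩ := exists_sub S ((posList 24).filter P) fun j hj => by
    rw [List.mem_filter, mem_posList] at hj
    exact hj.1
  refine ⟨e, he, ?_⟩
  rw [← h1, List.filter_filter]
  congr 1
  exact List.filter_congr fun r _ => by rw [Bool.and_comm]

/-- the number of codes of `RG P` fixed by the word -/
def fixn (w : List (Bool × ℕ)) (P : ℕ → Bool) : ℕ :=
  ((cds P).filter fun e => Nat.beq (cw w e % 2 ^ 24) (e % 2 ^ 24)).length

def okP (w : List (Bool × ℕ)) (P : ℕ → Bool) : Bool := closedB P && (cds P).all (okw w)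

theorem card_fix_le {P : ℕ → Bool} {w : List (Bool × ℕ)} (h : okP w P = true) :
    Nat.card (Cx (we w) ⊓ RG P : Subgroup LL) ≤ fixn w P := by
  rw [okP, Bool.and_eq_true, List.all_eq_true] at h
  set L := (cds P).filter fun e => Nat.beq (cw w e % 2 ^ 24) (e % 2 ^ 24) with hL
  have h1 : ∀ g : (Cx (we w) ⊓ RG P : Subgroup LL), ∃ i : Fin L.length, (g : LL) = ec (L.get i) := by
    rintro ⟨g, hg1, hg2⟩
    obtain ⟨e, he, rfl⟩ := exists_cd h.1 hg2
    have h2 : ec (cw w e) = ec e := by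
      rw [ec_cw (h.2 e he)]
      have h3 := mem_Cx.1 hg1
      rw [h3, mul_inv_cancel_right]
    have h3 : cw w e % 2 ^ 24 = e % 2 ^ 24 := by
      refine Cfsg.Agent.FourTwo.Classes.ec_inj (Nat.mod_lt _ (by norm_num)) (Nat.mod_lt _ (by norm_num)) ?_
      rw [ec_mod, ec_mod, h2]
    have h4 : e ∈ L := by
      rw [hL, List.mem_filter]
      exact ⟨he, by rw [h3]; exact Nat.beq_refl _⟩
    obtain ⟨i, hi⟩ := List.get_of_mem h4
    exact ⟨i, by rw [hi]⟩
  choose f hf using h1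
  have hinj : Function.Injective f := by
    intro a b hab
    apply Subtype.ext
    rw [hf a, hf b, hab]
  have h5 := Nat.card_le_card_of_injective f hinj
  rwa [Nat.card_fin] at h5

end Cfsg.Agent.H874.TS
end

-- part: H874/TS/Tup
section
/-!
# `F₄(2)` : evaluation of T* (helper874, S5745), the elements of `W` stabilising `J`
-/

set_option autoImplicit false
set_option linter.unusedSectionVars false
set_option maxRecDepth 100000

namespace Cfsg.Agent.H874.TS

open CoxeterSystem Cfsg.Agent.ChevalleyStructure.CoxeterGeom Cfsg.Agent.Tits.Roots Cfsg.Agent.Tits.Core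
  Cfsg.Agent.Nodes.Reps Cfsg.Agent.Nodes.BNOf
  Cfsg.Agent.Nodes.StabComb Cfsg.Agent.Nodes.Bruhat Cfsg.Agent.Nodes.LeviDec
open Cfsg.Lie Cfsg.Agent.ChevalleyStructure Cfsg.Agent.ChevalleyStructure.Elts
  Cfsg.Agent.ChevalleyStructure.RootVec
  Cfsg.Agent.ChevalleyStructure.CoxeterGeomTypes
open Cfsg.Agent.Nodes Cfsg.Agent.Nodes.RGDChev
open Cfsg.Agent.SigZero.FFourTwo (isType)
open Cfsg.Agent.FourTwo.Base Cfsg.Agent.FourTwo.Classes Cfsg.Agent.FourTwo.Par
open Cfsg.Agent.FourTwo.UCode (reflU conjU mulU invU el_mod)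
open Cfsg.Agent.ChevalleyStructure.TwF4.Rel (sp refl)
open Cfsg.Agent.ChevalleyStructure.F4TwU (posList mem_posList)
open Cfsg.Agent.H82.TS

/-! ### Tables -/

/-- the coefficients of the positive roots, three bits each -/
def RT : ℕ := 151792888451889274503715207562125876022649549817029850533312116702644211513969778885120

/-- the codes of the roots -/
def cds0 : List ℕ := [
  149, 152, 157, 169, 181, 186, 189, 188, 200, 205, 208, 217, 220, 225, 237, 219, 224, 227, 236, 239, 244, 248, 251, 253,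
  3, 5, 8, 12, 17, 20, 29, 32, 37, 19, 31, 36, 39, 48, 51, 56, 68, 67, 70, 75, 87, 99, 104, 107]

/-- the set of the codes -/
def MK : ℕ := 18574311351605408540218629318074086439470892773773480136547182123325209579816

/-- the index of the positive root of `± r` -/
def ix (r : ℕ) : ℕ := cond (Nat.ble 24 r) (r - 24) (23 - r)

/-- the absolute value of the coefficient -/
def vN (r k : ℕ) : ℕ := Nat.land (Nat.shiftRight RT (12 * ix r + 3 * k)) 7

theorem vec_tab : ∀ r : Fin 48, ∀ k : Fin 4, vec chevF4 4 r k = (if r.1 < 24 then -1 else 1) * (vN r k : ℤ) := by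
  decide +kernel

theorem vec_pos {r : ℕ} (hr : r < 48) (h : 24 ≤ r) (k : Fin 4) : vec chevF4 4 r k = vN r k := by
  rw [vec_tab ⟨r, hr⟩ k, if_neg (show ¬ r < 24 by omega), one_mul]

theorem vec_zero {r : ℕ} (hr : r < 48) (k : Fin 4) : vec chevF4 4 r k = 0 ↔ vN r k = 0 := by
  rw [vec_tab ⟨r, hr⟩ k]
  split_ifs <;> simp

/-- the separating functional -/
def num (v : Fin 4 → ℤ) : ℤ := 19 * v 0 + 12 * v 1 + 5 * v 2 + 3 * v 3

/-- the code -/
def cd (v : Fin 4 → ℤ) : ℕ := (num v % 256).toNat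

theorem cd_eq (v : Fin 4 → ℤ) : (cd v : ℤ) = num v % 256 := Int.toNat_of_nonneg (Int.emod_nonneg _ (by norm_num))

theorem cd_tab : ∀ r : Fin 48, cd (vec chevF4 4 r) = cds0.getD r 0 := by decide +kernel

theorem cds0_nodup : cds0.Nodup := by decide +kernel

/-- membership of a code -/
def isR (z : ℕ) : Bool := Nat.testBit MK z

theorem isR_tab : ∀ r : Fin 48, isR (cds0.getD r 0) = true := by decide +kernel

theorem isR_cd {v : Fin 4 → ℤ} (hv : IsRoot c0 h0 v) : isR (cd v) = true := by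
  obtain ⟨r, hr, rfl⟩ := isRoot_iff'.1 hv
  rw [cd_tab ⟨r, hr⟩]
  exact isR_tab ⟨r, hr⟩

theorem mem_cds0 {v : Fin 4 → ℤ} (hv : IsRoot c0 h0 v) : cd v ∈ cds0 := by
  obtain ⟨r, hr, rfl⟩ := isRoot_iff'.1 hv
  rw [cd_tab ⟨r, hr⟩, List.getD_eq_getElem _ _ (by show r < cds0.length; exact hr)]
  exact List.getElem_mem _

theorem cd_inj {v v' : Fin 4 → ℤ} (hv : IsRoot c0 h0 v) (hv' : IsRoot c0 h0 v') (h : cd v = cd v') : v = v' := by
  obtain ⟨r, hr, rfl⟩ := isRoot_iff'.1 hv
  obtain ⟨s, hs, rfl⟩ := isRoot_iff'.1 hv'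
  rw [cd_tab ⟨r, hr⟩, cd_tab ⟨s, hs⟩, List.getD_eq_getElem _ _ (by show r < cds0.length; exact hr),
    List.getD_eq_getElem _ _ (by show s < cds0.length; exact hs)] at h
  have h1 : r = s := (List.Nodup.getElem_inj_iff cds0_nodup).1 h
  rw [h1]

theorem vec_inj {r s : ℕ} (hr : r < 48) (hs : s < 48) (h : vec chevF4 4 r = vec chevF4 4 s) : r = s := by
  have h1 : cd (vec chevF4 4 r) = cd (vec chevF4 4 s) := by rw [h]
  rw [cd_tab ⟨r, hr⟩, cd_tab ⟨s, hs⟩, List.getD_eq_getElem _ _ (by show r < cds0.length; exact hr),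
    List.getD_eq_getElem _ _ (by show s < cds0.length; exact hs)] at h1
  exact (List.Nodup.getElem_inj_iff cds0_nodup).1 h1

theorem cd_neg_tab : ∀ r : Fin 48, (¬ ∀ k, 0 ≤ vec chevF4 4 r k) → 128 ≤ cd (vec chevF4 4 r) := by
  decide +kernel

theorem cd_neg {v : Fin 4 → ℤ} (hv : IsRoot c0 h0 v) (h : ¬ 0 ≤ v) : 128 ≤ cd v := by
  obtain ⟨r, hr, rfl⟩ := isRoot_iff'.1 hv
  exact cd_neg_tab ⟨r, hr⟩ h

/-- the code of the image of the positive root `r` -/
def lin (r t0 t1 t2 t3 : ℕ) : ℕ := Nat.land (vN r 0 * t0 + vN r 1 * t1 + vN r 2 * t2 + vN r 3 * t3) 255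

theorem land_255 (n : ℕ) : Nat.land n 255 = n % 256 := Nat.and_two_pow_sub_one_eq_mod n 8

/-- the tuple of `w` -/
noncomputable def tup (w : CoxeterMatrix.F₄.Group) : ℕ × ℕ × ℕ × ℕ :=
  (cd (rep c0 h0 w (sr 0)), cd (rep c0 h0 w (sr 1)), cd (rep c0 h0 w (sr 2)), cd (rep c0 h0 w (sr 3)))

theorem num_add (v v' : Fin 4 → ℤ) : num (v + v') = num v + num v' := by
  simp only [num, Pi.add_apply]; ring

theorem num_smul (c : ℤ) (v : Fin 4 → ℤ) : num (c • v) = c * num v := by
  simp only [num, Pi.smul_apply, smul_eq_mul]; ring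

theorem eq_sum (v : Fin 4 → ℤ) : v = v 0 • sr 0 + v 1 • sr 1 + v 2 • sr 2 + v 3 • sr 3 := by
  funext k
  (revert k; simp only [sr, _root_.Fin.forall_fin_succ, Fin.isValue, _root_.zsmul_eq_mul, _root_.Pi.add_apply, _root_.Pi.mul_apply, _root_.Pi.intCast_apply, _root_.Int.cast_eq, _root_.Pi.single_eq_same, _root_.mul_one, _root_.ne_eq, _root_.zero_ne_one, _root_.not_false_eq_true, _root_.Pi.single_eq_of_ne, _root_.MulZeroClass.mul_zero, _root_.add_zero, Fin.reduceEq, _root_.Fin.succ_ne_zero, _root_.zero_add, _root_.Fin.succ_zero_eq_one, _root_.Fin.succ_one_eq_two, Fin.reduceSucc, _root_.IsEmpty.forall_iff, _root_.and_self])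

theorem isRoot_vec' {r : ℕ} (hr : r < 48) : IsRoot c0 h0 (vec chevF4 4 r) := isRoot_iff'.2 ⟨r, hr, rfl⟩

theorem cd_rep (w : CoxeterMatrix.F₄.Group) {r : ℕ} (hr : r < 48) (h24 : 24 ≤ r) :
    cd (rep c0 h0 w (vec chevF4 4 r)) = lin r (tup w).1 (tup w).2.1 (tup w).2.2.1 (tup w).2.2.2 := by
  have h1 : num (rep c0 h0 w (vec chevF4 4 r)) = vN r 0 * num (rep c0 h0 w (sr 0)) +
      vN r 1 * num (rep c0 h0 w (sr 1)) + vN r 2 * num (rep c0 h0 w (sr 2)) + vN r 3 * num (rep c0 h0 w (sr 3)) := by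
    conv_lhs => rw [eq_sum (vec chevF4 4 r)]
    rw [map_add, map_add, map_add, map_smul, map_smul, map_smul, map_smul, num_add, num_add, num_add, num_smul,
      num_smul, num_smul, num_smul, vec_pos hr h24, vec_pos hr h24, vec_pos hr h24, vec_pos hr h24]
    rfl
  have h2 : (cd (rep c0 h0 w (vec chevF4 4 r)) : ℤ) =
      (lin r (tup w).1 (tup w).2.1 (tup w).2.2.1 (tup w).2.2.2 : ℕ) := by
    rw [cd_eq, h1, lin, land_255]
    push_cast
    have e : ∀ i : Fin 4, num (rep c0 h0 w (sr i)) ≡ (cd (rep c0 h0 w (sr i)) : ℤ) [ZMOD 256] := fun i => by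
      rw [cd_eq]; exact (Int.mod_modEq _ _).symm
    exact ((((e 0).mul_left _).add ((e 1).mul_left _)).add ((e 2).mul_left _)).add ((e 3).mul_left _)
  exact_mod_cast h2

theorem tup_injective : Function.Injective tup := by
  intro w w' h
  apply rep_injective (cs := c0) (h := h0)
  have h1 : ∀ i : Fin 4, rep c0 h0 w (sr i) = rep c0 h0 w' (sr i) := by
    intro i
    refine cd_inj ((isRoot_sr c0 h0 i).act w) ((isRoot_sr c0 h0 i).act w') ?_
    simp only [tup, Prod.mk.injEq] at h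
    fin_cases i
    · exact h.1
    · exact h.2.1
    · exact h.2.2.1
    · exact h.2.2.2
  refine LinearMap.ext fun v => ?_
  rw [eq_sum v]
  simp only [map_add, map_smul, h1]

theorem isR_tup (w : CoxeterMatrix.F₄.Group) {r : ℕ} (hr : r < 48) (h24 : 24 ≤ r) :
    isR (lin r (tup w).1 (tup w).2.1 (tup w).2.2.1 (tup w).2.2.2) = true := by
  rw [← cd_rep w hr h24]
  exact isR_cd ((isRoot_vec' hr).act w)

/-! ### The subsets `J` (as masks) -/

/-- the subset of the mask -/
def JJ (m : ℕ) : Set (Fin 4) := {i | Nat.testBit m i = true}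

/-- in the span of `J` -/
def rtB (m r : ℕ) : Bool :=
  (Nat.testBit m 0 || Nat.beq (vN r 0) 0) && (Nat.testBit m 1 || Nat.beq (vN r 1) 0) &&
    (Nat.testBit m 2 || Nat.beq (vN r 2) 0) && (Nat.testBit m 3 || Nat.beq (vN r 3) 0)

/-- positive, in the span of `J` -/
def posB (m r : ℕ) : Bool := Nat.ble 24 r && rtB m r

/-- positive, not in the span of `J` -/
def notB (m r : ℕ) : Bool := Nat.ble 24 r && Nat.ble r 47 && !(rtB m r)

theorem all_fin4 {p : Fin 4 → Prop} : (∀ k, p k) ↔ p 0 ∧ p 1 ∧ p 2 ∧ p 3 :=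
  ⟨fun h => ⟨h 0, h 1, h 2, h 3⟩, fun h k => by fin_cases k <;> tauto⟩

theorem rtB_iff {m r : ℕ} : rtB m r = true ↔ ∀ k : Fin 4, Nat.testBit m k = true ∨ vN r k = 0 := by
  rw [all_fin4]
  simp only [rtB, Bool.and_eq_true, Bool.or_eq_true, Nat.beq_eq]
  itauto

theorem pos_iff {r : ℕ} (hr : r < 48) : 24 ≤ r ↔ 0 ≤ vec chevF4 4 r := by
  have h : ∀ r : Fin 48, 24 ≤ r.1 ↔ ∀ k, 0 ≤ vec chevF4 4 r k := by decide +kernel
  exact h ⟨r, hr⟩

theorem mem_RootsJ {m r : ℕ} (hr : r < 48) : vec chevF4 4 r ∈ RootsJ c0 h0 (JJ m) ↔ rtB m r = true := by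
  rw [rtB_iff]
  constructor
  · rintro ⟨-, h⟩ k
    by_cases hk : Nat.testBit m k = true
    · exact Or.inl hk
    · right
      rw [← vec_zero hr]
      exact h k hk
  · intro h
    refine ⟨isRoot_vec' hr, fun k hk => ?_⟩
    rw [vec_zero hr]
    rcases h k with h | h
    · exact absurd h hk
    · exact h

theorem mem_PosJ {m r : ℕ} (hr : r < 48) : vec chevF4 4 r ∈ PosJ c0 h0 (JJ m) ↔ posB m r = true := by
  rw [posB, Bool.and_eq_true, Nat.ble_eq, ← mem_RootsJ hr, pos_iff hr]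
  exact ⟨fun h => ⟨h.2.1, h.1, h.2.2⟩, fun h => ⟨h.2.1, h.1, h.2.2⟩⟩

theorem mem_NotJ {m r : ℕ} (hr : r < 48) : vec chevF4 4 r ∈ NotJ c0 h0 (JJ m) ↔ notB m r = true := by
  rw [notB, Bool.and_eq_true, Bool.and_eq_true, Nat.ble_eq, Nat.ble_eq, Bool.not_eq_true',
    ← Bool.not_eq_true, ← mem_RootsJ hr, pos_iff hr]
  constructor
  · rintro ⟨h1, h2, k, hk, hk0⟩
    exact ⟨⟨h2, by omega⟩, fun h => hk0.ne' (h.2 k hk)⟩
  · rintro ⟨⟨h1, -⟩, h2⟩
    refine ⟨isRoot_vec' hr, h1, ?_⟩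
    by_contra hcon
    push Not at hcon
    exact h2 ⟨isRoot_vec' hr, fun k hk => le_antisymm (hcon k hk) (h1 k)⟩

/-- the coefficient outside `J` -/
def oc (m r k : ℕ) : ℕ := cond (Nat.testBit m k) 0 (vN r k)

/-- the height outside `J` -/
def oh (m r : ℕ) : ℕ := oc m r 0 + oc m r 1 + oc m r 2 + oc m r 3

/-- the ray of `a` -/
def rayB (m a r : ℕ) : Bool :=
  notB m r && Nat.beq (oc m r 0 * oh m a) (oc m a 0 * oh m r) && Nat.beq (oc m r 1 * oh m a) (oc m a 1 * oh m r) &&
    Nat.beq (oc m r 2 * oh m a) (oc m a 2 * oh m r) && Nat.beq (oc m r 3 * oh m a) (oc m a 3 * oh m r)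

theorem rayB_iff {m a r : ℕ} : rayB m a r = true ↔
    notB m r = true ∧ ∀ k : Fin 4, oc m r k * oh m a = oc m a k * oh m r := by
  rw [all_fin4]
  simp only [rayB, Bool.and_eq_true, Nat.beq_eq]
  tauto

theorem oh_pos {m r : ℕ} (h : notB m r = true) : 0 < oh m r := by
  by_contra h0
  have h1 : ∀ k : Fin 4, oc m r k = 0 := by
    rw [all_fin4]
    unfold oh at h0
    exact ⟨by show oc m r 0 = 0; omega, by show oc m r 1 = 0; omega, by show oc m r 2 = 0; omega,
      by show oc m r 3 = 0; omega⟩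
  have h2 : rtB m r = true := by
    rw [rtB_iff]
    intro k
    have := h1 k
    unfold oc at this
    cases hk : Nat.testBit m k
    · rw [hk] at this; exact Or.inr this
    · exact Or.inl rfl
  simp only [notB, Bool.and_eq_true, Bool.not_eq_true', h2] at h
  exact absurd h.2 (by simp)

theorem oc_eq {m r : ℕ} (hr : r < 48) (h24 : 24 ≤ r) {k : Fin 4} (hk : k ∉ JJ m) :
    (oc m r k : ℤ) = vec chevF4 4 r k := by
  rw [vec_pos hr h24, oc]
  have : Nat.testBit m k = false := by simpa [JJ] using hk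
  rw [this]
  rfl

theorem oc_zero {m r : ℕ} {k : Fin 4} (hk : k ∈ JJ m) : oc m r k = 0 := by
  have : Nat.testBit m k = true := hk
  rw [oc, this]
  rfl

theorem ge_of_notB {m r : ℕ} (h : notB m r = true) : 24 ≤ r := by
  simp only [notB, Bool.and_eq_true, Nat.ble_eq] at h
  exact h.1.1

theorem lt_of_notB {m r : ℕ} (h : notB m r = true) : r < 48 := by
  simp only [notB, Bool.and_eq_true, Nat.ble_eq] at h
  omega

theorem mem_Ray {m a r : ℕ} (ha : a < 48) (hr : r < 48) (ha' : notB m a = true) :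
    vec chevF4 4 r ∈ Ray c0 h0 (JJ m) (vec chevF4 4 a) ↔ rayB m a r = true := by
  have ha24 := ge_of_notB ha'
  rw [rayB_iff, ← mem_NotJ hr]
  constructor
  · rintro ⟨h1, c, d, hc, hd, h2⟩
    refine ⟨h1, ?_⟩
    have hr24 := ge_of_notB ((mem_NotJ hr).1 h1)
    have h3 : ∀ k : Fin 4, c * (oc m r k : ℤ) = d * (oc m a k : ℤ) := by
      intro k
      by_cases hk : k ∈ JJ m
      · rw [oc_zero hk, oc_zero hk, Nat.cast_zero, mul_zero, mul_zero]
      · rw [oc_eq hr hr24 hk, oc_eq ha ha24 hk]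
        exact h2 k hk
    have h4 : c * (oh m r : ℤ) = d * (oh m a : ℤ) := by
      have e0 := h3 0
      have e1 := h3 1
      have e2 := h3 2
      have e3 := h3 3
      unfold oh
      push_cast at e0 e1 e2 e3 ⊢
      rw [mul_add, mul_add, mul_add, mul_add, mul_add, mul_add]
      exact congrArg₂ _ (congrArg₂ _ (congrArg₂ _ e0 e1) e2) e3
    intro k
    have h5 : c * ((oc m r k : ℤ) * oh m a) = c * ((oc m a k : ℤ) * oh m r) := by
      calc c * ((oc m r k : ℤ) * oh m a) = (c * (oc m r k : ℤ)) * oh m a := by ring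
        _ = (d * (oc m a k : ℤ)) * oh m a := by rw [h3 k]
        _ = (oc m a k : ℤ) * (d * oh m a) := by ring
        _ = (oc m a k : ℤ) * (c * oh m r) := by rw [h4]
        _ = c * ((oc m a k : ℤ) * oh m r) := by ring
    exact_mod_cast mul_left_cancel₀ hc.ne' h5
  · rintro ⟨h1, h2⟩
    have hr' := (mem_NotJ hr).1 h1
    have hr24 := ge_of_notB hr'
    refine ⟨h1, oh m a, oh m r, by exact_mod_cast oh_pos ha', by exact_mod_cast oh_pos hr', fun k hk => ?_⟩
    rw [← oc_eq hr hr24 hk, ← oc_eq ha ha24 hk]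
    have := h2 k
    have h3 : ((oc m r k * oh m a : ℕ) : ℤ) = ((oc m a k * oh m r : ℕ) : ℤ) := by rw [this]
    push_cast at h3
    rw [mul_comm, h3, mul_comm]

/-! ### Enumeration of the elements of `W` stabilising `J` -/

/-- candidates for the image of the simple root `k` -/
def cand (m k : ℕ) : List ℕ :=
  cond (Nat.testBit m k) (((List.range' 24 24).filter (posB m)).map fun r => cds0.getD r 0) cds0

/-- the tuples of the elements stabilising `J` -/
def tups (m : ℕ) : List (ℕ × ℕ × ℕ × ℕ) :=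
  (cand m 1).flatMap fun t1 => (cand m 2).flatMap fun t2 =>
    cond (isR (lin 28 0 t1 t2 0) && isR (lin 30 0 t1 t2 0))
      ((cand m 3).flatMap fun t3 => cond (isR (lin 26 0 t1 t2 t3) && isR (lin 29 0 t1 t2 t3))
        ((cand m 0).flatMap fun t0 => cond (isR (lin 34 t0 t1 t2 t3) &&
          (List.range' 24 24).all fun r => isR (lin r t0 t1 t2 t3)) [(t0, t1, t2, t3)] []) []) []

theorem lin_congr {r t0 t1 t2 t3 s0 s1 s2 s3 : ℕ} (h0 : vN r 0 = 0 ∨ t0 = s0) (h1 : vN r 1 = 0 ∨ t1 = s1)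
    (h2 : vN r 2 = 0 ∨ t2 = s2) (h3 : vN r 3 = 0 ∨ t3 = s3) : lin r t0 t1 t2 t3 = lin r s0 s1 s2 s3 := by
  have e : ∀ {a b c : ℕ}, (a = 0 ∨ b = c) → a * b = a * c := by
    rintro a b c (rfl | rfl)
    · rw [zero_mul, zero_mul]
    · rfl
  unfold lin
  rw [e h0, e h1, e h2, e h3]

theorem mem_tups {m : ℕ} {w : CoxeterMatrix.F₄.Group} (hw : w ∈ NJ c0 h0 (JJ m)) : tup w ∈ tups m := by
  have hc : ∀ k : Fin 4, cd (rep c0 h0 w (sr k)) ∈ cand m k := by
    intro k
    unfold cand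
    cases hk : Nat.testBit m k
    · rw [cond_false]
      exact mem_cds0 ((isRoot_sr c0 h0 k).act w)
    · rw [cond_true, List.mem_map]
      have h1 := hw.2 k hk
      obtain ⟨r, hr, h2⟩ := isRoot_iff'.1 h1.1
      rw [← h2, mem_PosJ hr] at h1
      refine ⟨r, ?_, ?_⟩
      · rw [List.mem_filter, List.mem_range'_1]
        refine ⟨⟨?_, hr⟩, h1⟩
        simp only [posB, Bool.and_eq_true, Nat.ble_eq] at h1
        exact h1.1
      · rw [← h2, cd_tab ⟨r, hr⟩]
  have hl : ∀ r, 24 ≤ r → r < 48 → isR (lin r (tup w).1 (tup w).2.1 (tup w).2.2.1 (tup w).2.2.2) = true :=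
    fun r h1 h2 => isR_tup w h2 h1
  have e1 : lin 28 0 (tup w).2.1 (tup w).2.2.1 0 = lin 28 (tup w).1 (tup w).2.1 (tup w).2.2.1 (tup w).2.2.2 :=
    lin_congr (Or.inl (by decide +kernel)) (Or.inr rfl) (Or.inr rfl) (Or.inl (by decide +kernel))
  have e2 : lin 30 0 (tup w).2.1 (tup w).2.2.1 0 = lin 30 (tup w).1 (tup w).2.1 (tup w).2.2.1 (tup w).2.2.2 :=
    lin_congr (Or.inl (by decide +kernel)) (Or.inr rfl) (Or.inr rfl) (Or.inl (by decide +kernel))
  have e3 : lin 26 0 (tup w).2.1 (tup w).2.2.1 (tup w).2.2.2 =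
      lin 26 (tup w).1 (tup w).2.1 (tup w).2.2.1 (tup w).2.2.2 :=
    lin_congr (Or.inl (by decide +kernel)) (Or.inr rfl) (Or.inr rfl) (Or.inr rfl)
  have e4 : lin 29 0 (tup w).2.1 (tup w).2.2.1 (tup w).2.2.2 =
      lin 29 (tup w).1 (tup w).2.1 (tup w).2.2.1 (tup w).2.2.2 :=
    lin_congr (Or.inl (by decide +kernel)) (Or.inr rfl) (Or.inr rfl) (Or.inr rfl)
  unfold tups
  rw [List.mem_flatMap]
  refine ⟨(tup w).2.1, hc 1, ?_⟩
  rw [List.mem_flatMap]
  refine ⟨(tup w).2.2.1, hc 2, ?_⟩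
  rw [e1, e2, hl 28 (by omega) (by omega), hl 30 (by omega) (by omega), Bool.and_self, cond_true, List.mem_flatMap]
  refine ⟨(tup w).2.2.2, hc 3, ?_⟩
  rw [e3, e4, hl 26 (by omega) (by omega), hl 29 (by omega) (by omega), Bool.and_self, cond_true, List.mem_flatMap]
  refine ⟨(tup w).1, hc 0, ?_⟩
  have e6 : ((List.range' 24 24).all fun r => isR (lin r (tup w).1 (tup w).2.1 (tup w).2.2.1 (tup w).2.2.2)) =
      true := by
    rw [List.all_eq_true]
    intro r hr
    rw [List.mem_range'_1] at hr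
    exact hl r (by omega) (by omega)
  rw [hl 34 (by omega) (by omega), e6, Bool.and_self, cond_true, List.mem_singleton]

/-- the exponent of a tuple -/
def ex (Fl : List ℕ) (t : ℕ × ℕ × ℕ × ℕ) : ℕ :=
  (Fl.filter fun r => Nat.ble 128 (lin r t.1 t.2.1 t.2.2.1 t.2.2.2)).length

/-- the sum over `N_J` -/
def sumW (m : ℕ) (Fl : List ℕ) : ℕ := ((tups m).map fun t => 2 ^ ex Fl t).sum

theorem sum_toFinset_le {α : Type*} [DecidableEq α] (g : α → ℕ) : ∀ l : List α, ∑ t ∈ l.toFinset, g t ≤ (l.map g).sum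
  | [] => by simp
  | a :: l => by
    have ih := sum_toFinset_le g l
    rw [List.toFinset_cons, List.map_cons, List.sum_cons]
    by_cases ha : a ∈ l.toFinset
    · rw [Finset.insert_eq_of_mem ha]
      exact ih.trans (Nat.le_add_left _ _)
    · rw [Finset.sum_insert ha]
      exact Nat.add_le_add_left ih _

theorem sum_le (m : ℕ) (g : ℕ × ℕ × ℕ × ℕ → ℕ) (S : Finset CoxeterMatrix.F₄.Group)
    (hS : ∀ w ∈ S, w ∈ NJ c0 h0 (JJ m)) : ∑ w ∈ S, g (tup w) ≤ ((tups m).map g).sum := by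
  classical
  rw [← Finset.sum_image (f := g) (g := tup) (fun a _ b _ h => tup_injective h)]
  refine (Finset.sum_le_sum_of_subset ?_).trans (sum_toFinset_le g (tups m))
  intro t ht
  obtain ⟨w, hw, rfl⟩ := Finset.mem_image.1 ht
  exact List.mem_toFinset.2 (mem_tups (hS w hw))

end Cfsg.Agent.H874.TS
end

-- part: H82/TS/Odd
section
/-!
# Centralizers of elliptic elements in the Levi subgroup are `p'`-groups (T*, S5745; helper82)

* `not_dvd` : `x ∈ L_J` elliptic: `p ∤ |C_{L_J}(x)|`.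
-/

set_option autoImplicit false
set_option linter.unusedSectionVars false

namespace Cfsg.Agent.H82.TS

open CoxeterSystem Cfsg.Agent.ChevalleyStructure.CoxeterGeom Cfsg.Agent.Tits.Roots Cfsg.Agent.Tits.Core
  Cfsg.Agent.Tits.RootComb Cfsg.Agent.Tits.Exchange Cfsg.Agent.Nodes.Reps Cfsg.Agent.Nodes.BNOf
  Cfsg.Agent.Nodes.StabComb Cfsg.Agent.Nodes.Bruhat Cfsg.Agent.Nodes.OppDec Cfsg.Agent.Nodes.LeviDec
  Cfsg.Agent.KFacts.RgdPar Cfsg.Agent.KFacts.RgdCharP

variable {I W Y : Type*} [Fintype I] [DecidableEq I] [Group W] [Group Y] {M : CoxeterMatrix I}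
  {cs : CoxeterSystem M W} {A : I → I → ℤ} {h : IsCartan M A} {p : ℕ} {T : Subgroup Y} {n : I → Y}
  {X : (I → ℤ) → Subgroup Y}

/-- `W_J w W_K` contains `w₁` with `w₁ (K) > 0`, `w₁⁻¹ (J) > 0` -/
theorem exists_red2 (J K : Set I) : ∀ (k : ℕ) (w : W), cs.length w = k → ∃ u ∈ WJ cs J, ∃ u' ∈ WJ cs K,
    (∀ i ∈ K, 0 ≤ rep cs h (u * w * u') (sr i)) ∧ ∀ i ∈ J, 0 ≤ rep cs h (u * w * u')⁻¹ (sr i) := by
  intro k
  induction k using Nat.strong_induction_on with
  | _ k ih =>
    intro w hw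
    by_cases h1 : ∀ i ∈ K, 0 ≤ rep cs h w (sr i)
    · by_cases h2 : ∀ i ∈ J, 0 ≤ rep cs h w⁻¹ (sr i)
      · exact ⟨1, one_mem _, 1, one_mem _, by simpa only [_root_.one_mul, _root_.mul_one] using h1, by simpa only [_root_.one_mul, _root_.mul_one] using h2⟩
      · push Not at h2
        obtain ⟨i, hi, h3⟩ := h2
        have h4 : cs.length (w⁻¹ * cs.simple i) < cs.length w⁻¹ := by
          rw [lt_iff cs h]
          exact ((nonneg_or_nonpos cs h w⁻¹ i).resolve_left h3)
        have h5 : cs.length (cs.simple i * w) < k := by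
          have e1 : cs.simple i * w = (w⁻¹ * cs.simple i)⁻¹ := by rw [mul_inv_rev, inv_inv, cs.inv_simple]
          rw [e1, cs.length_inv, ← hw, ← cs.length_inv w]
          exact h4
        obtain ⟨u, hu, u', hu', h6, h7⟩ := ih _ h5 (cs.simple i * w) rfl
        refine ⟨u * cs.simple i, mul_mem hu (simple_mem_WJ cs hi), u', hu', ?_, ?_⟩
        · rwa [mul_assoc u]
        · rwa [mul_assoc u]
    · push Not at h1
      obtain ⟨i, hi, h3⟩ := h1
      have h4 : cs.length (w * cs.simple i) < k := by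
        rw [← hw, lt_iff cs h]
        exact ((nonneg_or_nonpos cs h w i).resolve_left h3)
      obtain ⟨u, hu, u', hu', h6, h7⟩ := ih _ h4 (w * cs.simple i) rfl
      refine ⟨u, hu, cs.simple i * u', mul_mem (simple_mem_WJ cs hi) hu', ?_, ?_⟩
      · rwa [show u * w * (cs.simple i * u') = u * (w * cs.simple i) * u' by group]
      · rwa [show u * w * (cs.simple i * u') = u * (w * cs.simple i) * u' by group]

variable (R : RGD cs h p T n X)

include R

/-- `x ∈ P_J ∩ m P_K m⁻¹`, `x` elliptic for `J`: `w⁻¹ Φ_J ⊆ Φ_K` -/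
theorem stab2 [Finite W] {J K : Set I} {x : Y} (hell : Ell cs h T X J x) (hx : x ∈ PJ cs h T X J) {w : W} {m : Y}
    (hm : Rp cs R.nsys w m) (hxm : x ∈ cj m (PJ cs h T X K)) (hw : ∀ i ∈ J, 0 ≤ rep cs h w⁻¹ (sr i)) {i : I}
    (hi : i ∈ J) : rep cs h w⁻¹ (sr i) ∈ RootsJ cs h K := by
  classical
  set f := htJ (I := I) J with hf
  set g := pull cs h (htJ (I := I) K) w⁻¹ with hg
  have h1 : x ∈ PS T X {z | IsRoot cs h z ∧ ∀ φ ∈ [f, g], 0 ≤ φ z} := by
    refine (inter R [f, g] (PJ_le_GG hx) fun φ hφ => ?_).1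
    simp only [List.mem_cons, List.not_mem_nil, or_false] at hφ
    rcases hφ with rfl | rfl
    · rw [PS_htJ]; exact hx
    · rw [← PS_htJ, cj_PS R hm (fun z hz => hz.1)] at hxm
      refine PS_mono (fun z hz => ?_) hxm
      have hz' : rep cs h w⁻¹ z ∈ Half cs h (htJ (I := I) K) := hz
      refine ⟨?_, hz'.2⟩
      have := hz'.1.act w
      rwa [rep_apply_inv] at this
  obtain ⟨N, hN, hN2⟩ := exists_bound (cs := cs) (h := h) g
  have hgi : ∀ i ∈ J, 0 ≤ g (sr i) := fun i hi => dom_nonneg (htJ_sr_nonneg K) (hw i hi)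
  have hfi : ∀ i ∈ J, f (sr i) = 0 := fun i hi => by rw [hf, htJ_sr, if_pos hi]
  have hfo : ∀ i, i ∉ J → f (sr i) = 1 := fun i hi => by rw [hf, htJ_sr, if_neg hi]
  set l : (I → ℤ) →+ ℤ := N • f + g with hl
  have hlap : ∀ z, l z = N * f z + g z := fun z => by
    rw [hl, AddMonoidHom.add_apply, AddMonoidHom.smul_apply, smul_eq_mul]
  have hlo : ∀ i, i ∉ J → 0 < l (sr i) := by
    intro i hi
    rw [hlap, hfo i hi]
    have := hN2 _ (isRoot_sr cs h i)
    rw [abs_lt] at this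
    omega
  have hli : ∀ i ∈ J, l (sr i) = g (sr i) := by
    intro i hi
    rw [hlap, hfi i hi]
    omega
  have hl0 : ∀ i, 0 ≤ l (sr i) := by
    intro i
    by_cases hi : i ∈ J
    · rw [hli i hi]; exact hgi i hi
    · exact (hlo i hi).le
  have h2 : x ∈ PJ cs h T X {i | l (sr i) = 0} := by
    rw [← PS_half_of_dom (cs := cs) (h := h) (T := T) (X := X) hl0]
    refine PS_mono (Ω' := Half cs h l) ?_ h1
    intro z hz
    refine ⟨hz.1, ?_⟩
    have ha := hz.2 f (by simp)
    have hb := hz.2 g (by simp)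
    rw [hlap]
    exact add_nonneg (mul_nonneg hN.le ha) hb
  have h3 : {i | l (sr i) = 0} ⊆ J := by
    intro i hi
    by_contra hiJ
    have := hlo i hiJ
    rw [hi] at this
    exact lt_irrefl _ this
  have h4 := hell _ h3 1 (by rwa [cj_one])
  have h5 : i ∈ {i | l (sr i) = 0} := by rw [h4]; exact hi
  have h6 : g (sr i) = 0 := by
    rw [← hli i hi]; exact h5
  rw [rootsJ_htJ]
  exact ⟨(isRoot_sr cs h i).act _, h6⟩

/-- an elliptic element of `L_J` commutes with no element `≠ 1` of order `p` of `L_J` -/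
theorem eq_one_of_comm [Finite W] [Finite Y] [hp : Fact p.Prime] (hBT : BT cs h p T X) (hG : GG cs h T X = ⊤)
    {J : Set I} {x : Y} (hell : Ell cs h T X J x) (hxL : x ∈ LJ cs h T X J) {u : Y} (hu : u ∈ LJ cs h T X J)
    (hup : u ^ p = 1) (hxu : x * u = u * x) : u = 1 := by
  classical
  by_contra hu1
  set Q : Subgroup Y := Subgroup.zpowers u ⊔ VJ cs h X J with hQ
  have huP : IsPGroup p (Subgroup.zpowers u) := by
    refine IsPGroup.of_card (n := 1) ?_
    rw [Nat.card_zpowers, pow_one]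
    exact orderOf_eq_prime hup hu1
  have huV : Subgroup.zpowers u ≤ Subgroup.normalizer (VJ cs h X J : Set Y) := by
    rw [Subgroup.zpowers_le]
    exact LJ_le_normalizer_VJ R J hu
  have hQp : IsPGroup p Q := huP.to_sup_of_normal_right' (isPGroup_VJ R J) huV
  have huQ : u ∈ Q := (le_sup_left : Subgroup.zpowers u ≤ Q) (Subgroup.mem_zpowers u)
  have hQ1 : Q ≠ ⊥ := fun h1 => hu1 (Subgroup.mem_bot.1 (h1 ▸ huQ))
  obtain ⟨g, K, hK, hQV, hNP⟩ := hBT Q hQp hQ1
  have hxQ : x ∈ Subgroup.normalizer (Q : Set Y) := by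
    rw [mem_normalizer_iff_cj, hQ, cj_sup, mem_normalizer_iff_cj.1 (LJ_le_normalizer_VJ R J hxL)]
    congr 1
    have h1 : x * u * x⁻¹ = u := mul_inv_eq_iff_eq_mul.2 hxu
    show (Subgroup.zpowers u).map (MulAut.conj x).toMonoidHom = _
    rw [MonoidHom.map_zpowers]
    show Subgroup.zpowers (x * u * x⁻¹) = _
    rw [h1]
  have hxg : x ∈ cj g (PJ cs h T X K) := hNP hxQ
  obtain ⟨w0, hc⟩ := (mem_GG R).1 (show g ∈ GG cs h T X by rw [hG]; trivial)
  obtain ⟨b, hb, m0, hm0, b', hb', rfl⟩ := hc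
  obtain ⟨u1, hu1', u2, hu2, h1, h2⟩ := exists_red2 (cs := cs) (h := h) J K _ w0 rfl
  obtain ⟨a, ha⟩ := exists_rp cs R.nsys u1
  obtain ⟨a', ha'⟩ := exists_rp cs R.nsys u2
  set w := u1 * w0 * u2 with hw
  set m := a * m0 * a' with hm
  have hm1 : Rp cs R.nsys w m := (ha.mul hm0).mul ha'
  set y := b * a⁻¹ with hy
  set y' := a'⁻¹ * b' with hy'
  have hyP : y ∈ PJ cs h T X J := mul_mem (B_le_PJ hb) (inv_mem (LJ_le_PJ (rp_mem_LJ R hu1' ha)))
  have hyP' : y' ∈ PJ cs h T X K := mul_mem (inv_mem (LJ_le_PJ (rp_mem_LJ R hu2 ha'))) (B_le_PJ hb')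
  have e : b * m0 * b' = y * m * y' := by rw [hy, hm, hy']; group
  rw [e] at hxg hQV
  have hcjV : ∀ (L : Set I), ∀ z ∈ PJ cs h T X L, cj z (VJ cs h X L) = VJ cs h X L := fun L z hz =>
    mem_normalizer_iff_cj.1 (PJ_le_normalizer_VJ R L hz)
  have hQV' : cj y⁻¹ Q ≤ cj m (VJ cs h X K) := by
    have h3 := cj_mono y⁻¹ hQV
    rwa [cj_mul, hcjV K y' hyP', cj_mul, cj_inv_cj] at h3
  have hx1 : y⁻¹ * x * y ∈ cj m (PJ cs h T X K) := by
    rw [cj_mul, cj_eq_of_mem hyP', cj_mul] at hxg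
    exact mem_cj.1 hxg
  have hx2 : y⁻¹ * x * y ∈ PJ cs h T X J := mul_mem (mul_mem (inv_mem hyP) (LJ_le_PJ hxL)) hyP
  have h3 : ∀ i ∈ J, rep cs h w⁻¹ (sr i) ∈ RootsJ cs h K := fun i hi =>
    stab2 R (hell.conj y) hx2 hm1 hx1 h2 hi
  have h4 : ∀ δ ∈ RootsJ cs h J, rep cs h w⁻¹ δ ∈ RootsJ cs h K := by
    intro δ hδ
    refine ⟨hδ.1.act _, fun k hk => ?_⟩
    rw [H470.EPK.rep_coord]
    refine Finset.sum_eq_zero fun j _ => ?_
    by_cases hj : j ∈ J
    · rw [(h3 j hj).2 k hk, mul_zero]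
    · rw [hδ.2 j hj, zero_mul]
  have hLL : LJ cs h T X J ≤ cj m (LJ cs h T X K) := by
    unfold LJ
    rw [cj_sup, cj_T R hm1, cj_Sup_eq R hm1 (fun z hz => hz.1)]
    exact sup_le_sup_left (RGD.Sup_mono fun δ hδ => h4 δ hδ) _
  have hVV : VJ cs h X J ≤ cj m (VJ cs h X K) := by
    have h5 : cj y⁻¹ (VJ cs h X J) ≤ cj m (VJ cs h X K) := (cj_mono _ le_sup_right).trans hQV'
    rwa [hcjV J _ (inv_mem hyP)] at h5
  obtain ⟨l, hl, v, hv, e2⟩ := (mem_PJ R).1 hyP
  have h5 : y⁻¹ * u * y ∈ cj m (VJ cs h X K) := by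
    refine hQV' ?_
    have := (conj_mem_cj (g := y⁻¹) (A := Q)).2 huQ
    rwa [inv_inv] at this
  have h6 : l⁻¹ * u * l ∈ cj m (VJ cs h X K) := by
    have h7 : l⁻¹ * u * l = v * (y⁻¹ * u * y) * v⁻¹ := by rw [e2]; group
    rw [h7]
    exact mul_mem (mul_mem (hVV hv) h5) (inv_mem (hVV hv))
  have h7 : l⁻¹ * u * l ∈ cj m (LJ cs h T X K) := hLL (mul_mem (mul_mem (inv_mem hl) hu) hl)
  have h8 : m⁻¹ * (l⁻¹ * u * l) * m ∈ LJ cs h T X K ⊓ VJ cs h X K := ⟨mem_cj.1 h7, mem_cj.1 h6⟩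
  rw [LJ_inf_VJ R K, Subgroup.mem_bot] at h8
  apply hu1
  have h9 : u = l * (m * (m⁻¹ * (l⁻¹ * u * l) * m) * m⁻¹) * l⁻¹ := by group
  rw [h9, h8]; group

/-- `x ∈ L_J` elliptic: `p ∤ |C_{L_J}(x)|` -/
theorem not_dvd [Finite W] [Finite Y] [hp : Fact p.Prime] (hBT : BT cs h p T X) (hG : GG cs h T X = ⊤)
    {J : Set I} {x : Y} (hell : Ell cs h T X J x) (hxL : x ∈ LJ cs h T X J) :
    ¬ p ∣ Nat.card (Cx x ⊓ LJ cs h T X J : Subgroup Y) := by
  intro h1
  obtain ⟨⟨u, hu⟩, hup⟩ := exists_prime_orderOf_dvd_card' p h1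
  have h2 : orderOf u = p := by rw [← hup, ← Subgroup.orderOf_coe]
  have h3 := eq_one_of_comm R hBT hG hell hxL hu.2 (by rw [← h2]; exact pow_orderOf_eq_one u) (mem_Cx.1 hu.1)
  rw [h3, orderOf_one] at h2
  exact hp.out.one_lt.ne h2

end Cfsg.Agent.H82.TS
end

-- part: H27/TS/Ex
section
/-!
Elliptic parts of semisimple elements of a group with root group data (engine T*).

* `exists_conj_mem` : an `r`-element of `K` is conjugate in `K` into `H` when `r ∤ |K : H|`;
* `exists_conj_levi` : an `r`-element `x` of `P_J` is conjugate in `P_J` into `L_J` (`r` prime to `p`);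
* `exists_elliptic` **(EX)** : an `r`-element of `GG` has a conjugate in some `L_J` no conjugate of which is in a
  smaller parabolic subgroup;
* `dvd_relIndex` **(CO)** : then `r ∣ |L_J : L_J ∩ P_{J'}|` for `J' ⊂ J`.
-/

set_option autoImplicit false
set_option linter.unusedSectionVars false

namespace Cfsg.Agent.H27.TS.Ex

open CoxeterSystem Cfsg.Agent.ChevalleyStructure.CoxeterGeom Cfsg.Agent.Tits.Roots Cfsg.Agent.Tits.Core
  Cfsg.Agent.Tits.Exchange Cfsg.Agent.Nodes.Reps Cfsg.Agent.Nodes.BNOf Cfsg.Agent.Nodes.StabComb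
  Cfsg.Agent.Nodes.Bruhat Cfsg.Agent.Nodes.OppDec Cfsg.Agent.Nodes.LeviDec

section General

variable {G : Type*} [Group G]

/-- an `r`-element of `K` is conjugate in `K` into `H` when `r ∤ |K : H|` -/
theorem exists_conj_mem {r : ℕ} (hr : r.Prime) {H K : Subgroup G} {x : G} (hx : x ∈ K) {k : ℕ}
    (hk : x ^ r ^ k = 1) (hi : ¬ r ∣ H.relIndex K) : ∃ s ∈ K, s⁻¹ * x * s ∈ H := by
  have := Fact.mk hr
  have hQ : IsPGroup r ↥(Subgroup.zpowers (⟨x, hx⟩ : K)) := by
    intro g
    obtain ⟨⟨g, hg⟩, hg'⟩ := g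
    obtain ⟨m, hm⟩ := Subgroup.mem_zpowers_iff.1 hg'
    refine ⟨k, ?_⟩
    ext
    have h1 : (g : G) = x ^ m := by
      have := congrArg (Subtype.val : K → G) hm
      simpa using this.symm
    simp only [SubmonoidClass.mk_pow, OneMemClass.coe_one]
    rw [h1, ← zpow_natCast, ← zpow_mul, mul_comm, zpow_mul, zpow_natCast, hk, one_zpow]
  obtain ⟨q, hq⟩ := hQ.nonempty_fixed_point_of_prime_not_dvd_card (K ⧸ H.subgroupOf K) hi
  obtain ⟨s, rfl⟩ := QuotientGroup.mk_surjective q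
  have h1 := hq ⟨⟨x, hx⟩, Subgroup.mem_zpowers _⟩
  have h2 : (QuotientGroup.mk ((⟨x, hx⟩ : K) * s) : K ⧸ H.subgroupOf K) = QuotientGroup.mk s := h1
  rw [eq_comm, QuotientGroup.eq] at h2
  refine ⟨s, s.2, ?_⟩
  have h3 := Subgroup.mem_subgroupOf.1 h2
  simpa only [mul_assoc, _root_.Subgroup.coe_mul, _root_.InvMemClass.coe_inv] using h3

/-- `|⟨L, V⟩ : L|` divides `|V|` when `L` normalises `V` -/
theorem relIndex_sup_dvd [Finite G] {L V : Subgroup G} (hLV : L ≤ Subgroup.normalizer (V : Set G)) :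
    L.relIndex (L ⊔ V) ∣ Nat.card V := by
  have h1 : (L ⊓ V).relIndex L * L.relIndex (L ⊔ V) = (L ⊓ V).relIndex V * V.relIndex (L ⊔ V) := by
    rw [Subgroup.relIndex_mul_relIndex _ _ _ inf_le_left le_sup_left,
      Subgroup.relIndex_mul_relIndex _ _ _ inf_le_right le_sup_right]
  have h2 : V.relIndex (L ⊔ V) = V.relIndex L := by
    rw [← Subgroup.relIndex_subgroupOf (L := Subgroup.normalizer (V : Set G)) (sup_le hLV Subgroup.le_normalizer),
      ← Subgroup.relIndex_subgroupOf (L := Subgroup.normalizer (V : Set G)) hLV,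
      Subgroup.subgroupOf_sup hLV Subgroup.le_normalizer, Subgroup.relIndex_sup_right]
  rw [h2, Subgroup.inf_relIndex_left, Subgroup.inf_relIndex_right, mul_comm] at h1
  have h3 : L.relIndex (L ⊔ V) = L.relIndex V :=
    Nat.eq_of_mul_eq_mul_right (Nat.pos_of_dvd_of_pos (Subgroup.relIndex_dvd_card V L) Nat.card_pos) h1
  rw [h3]
  exact Subgroup.relIndex_dvd_card _ _

/-- the primes dividing the order of a `p`-group divide `p` -/
theorem dvd_of_isPGroup [Finite G] {p r : ℕ} (hr : r.Prime) {V : Subgroup G} (hV : IsPGroup p V)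
    (h : r ∣ Nat.card V) : r ∣ p := by
  have := Fact.mk hr
  obtain ⟨v, hv⟩ := exists_prime_orderOf_dvd_card' r h
  obtain ⟨k, hk⟩ := hV v
  have h1 : r ∣ p ^ k := by rw [← hv]; exact orderOf_dvd_of_pow_eq_one hk
  exact hr.dvd_of_dvd_pow h1

/-- an `r`-element `l v`, `l` in a subgroup `L` normalising the `p`-group `V`, is conjugate into `L` -/
theorem exists_conj_of_mul [Finite G] {p r : ℕ} (hr : r.Prime) (hrp : ¬ r ∣ p) {L V : Subgroup G}
    (hLV : L ≤ Subgroup.normalizer (V : Set G)) (hV : IsPGroup p V) {l v : G} (hl : l ∈ L) (hv : v ∈ V)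
    {k : ℕ} (hk : (l * v) ^ r ^ k = 1) : ∃ s ∈ Subgroup.zpowers l ⊔ V, s⁻¹ * (l * v) * s ∈ Subgroup.zpowers l := by
  have h1 : Subgroup.zpowers l ≤ Subgroup.normalizer (V : Set G) := (Subgroup.zpowers_le.2 hl).trans hLV
  refine exists_conj_mem hr (mul_mem (Subgroup.mem_sup_left (Subgroup.mem_zpowers l))
    (Subgroup.mem_sup_right hv)) hk fun h2 => hrp ?_
  exact dvd_of_isPGroup hr hV (h2.trans (relIndex_sup_dvd h1))

end General

variable {I W Y : Type*} [Fintype I] [DecidableEq I] [Group W] [Group Y] {M : CoxeterMatrix I}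
  {cs : CoxeterSystem M W} {A : I → I → ℤ} {h : IsCartan M A} {p : ℕ} {T : Subgroup Y} {n : I → Y}
  {X : (I → ℤ) → Subgroup Y}

theorem PJ_univ_eq : PJ cs h T X Set.univ = GG cs h T X := by
  refine le_antisymm PJ_le_GG ?_
  rw [← LJ_univ]
  exact LJ_le_PJ

variable (R : RGD cs h p T n X)

include R

theorem isPGroup_VJ [Finite W] (J : Set I) : IsPGroup p ↥(VJ cs h X J) :=
  R.isPGroup_Upos.to_le (VJ_le_U J)

/-- an `r`-element of `P_J` is conjugate in `P_J` (by an element of `V_J`) into `L_J` -/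
theorem exists_conj_levi [Finite W] [Finite Y] {r : ℕ} (hr : r.Prime) (hrp : ¬ r ∣ p) {J : Set I} {x : Y}
    (hx : x ∈ PJ cs h T X J) {k : ℕ} (hk : x ^ r ^ k = 1) :
    ∃ s ∈ VJ cs h X J, s⁻¹ * x * s ∈ LJ cs h T X J := by
  obtain ⟨l, hl, v, hv, rfl⟩ := (mem_PJ R).1 hx
  obtain ⟨s, hs, h1⟩ := exists_conj_of_mul hr hrp (LJ_le_normalizer_VJ R J) (isPGroup_VJ R J) hl hv hk
  have h2 : s ∈ ((VJ cs h X J ⊔ Subgroup.zpowers l : Subgroup Y) : Set Y) := by
    rw [sup_comm]; exact hs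
  rw [Subgroup.coe_mul_of_right_le_normalizer_left _ _
    ((Subgroup.zpowers_le.2 hl).trans (LJ_le_normalizer_VJ R J)), Set.mem_mul] at h2
  obtain ⟨a, ha, b, hb, rfl⟩ := h2
  refine ⟨a, ha, ?_⟩
  have hb' : b ∈ LJ cs h T X J := Subgroup.zpowers_le.2 hl hb
  have h3 : a⁻¹ * (l * v) * a = b * ((a * b)⁻¹ * (l * v) * (a * b)) * b⁻¹ := by group
  rw [h3]
  exact mul_mem (mul_mem hb' (Subgroup.zpowers_le.2 hl h1)) (inv_mem hb')

/-- **(EX)** an `r`-element of `GG` is conjugate to an elliptic element of some `L_J` -/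
theorem exists_elliptic [Finite W] [Finite Y] {r : ℕ} (hr : r.Prime) (hrp : ¬ r ∣ p) {x : Y}
    (hx : x ∈ GG cs h T X) {k : ℕ} (hk : x ^ r ^ k = 1) :
    ∃ (g : Y) (J : Set I), g⁻¹ * x * g ∈ LJ cs h T X J ∧
      ∀ J' ⊆ J, ∀ a : Y, a⁻¹ * (g⁻¹ * x * g) * a ∈ PJ cs h T X J' → J' = J := by
  classical
  have hne : {J : Set I | ∃ g : Y, g⁻¹ * x * g ∈ PJ cs h T X J}.Nonempty :=
    ⟨Set.univ, 1, by rw [PJ_univ_eq]; simpa using hx⟩
  obtain ⟨J, ⟨⟨g, hg⟩, hmin⟩⟩ := (Set.toFinite {J : Set I | ∃ g : Y, g⁻¹ * x * g ∈ PJ cs h T X J}).exists_minimal hne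
  have hk' : (g⁻¹ * x * g) ^ r ^ k = 1 := by
    have := conj_pow (i := r ^ k) (a := g⁻¹) (b := x)
    rw [inv_inv] at this
    rw [this, hk]; group
  obtain ⟨s, hs, h1⟩ := exists_conj_levi R hr hrp hg hk'
  have e : ∀ a : Y, a⁻¹ * ((g * s)⁻¹ * x * (g * s)) * a = (g * s * a)⁻¹ * x * (g * s * a) := fun a => by group
  refine ⟨g * s, J, ?_, ?_⟩
  · have : (g * s)⁻¹ * x * (g * s) = s⁻¹ * (g⁻¹ * x * g) * s := by group
    rw [this]; exact h1
  · intro J' hJ' a ha
    rw [e] at ha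
    exact Set.Subset.antisymm hJ' (hmin ⟨_, ha⟩ hJ')

open Cfsg.Agent.H82.TS

omit R in
/-- `Ell` unfolded -/
theorem ell_iff {J : Set I} {x : Y} :
    Ell cs h T X J x ↔ ∀ J' ⊆ J, ∀ a : Y, a⁻¹ * x * a ∈ PJ cs h T X J' → J' = J := by
  unfold Ell
  refine forall_congr' fun J' => forall_congr' fun _ => forall_congr' fun a => ?_
  rw [mem_cj]

/-- **(EX)**, `Ell` form -/
theorem exists_ell [Finite W] [Finite Y] {r : ℕ} (hr : r.Prime) (hrp : ¬ r ∣ p) {x : Y}
    (hx : x ∈ GG cs h T X) {k : ℕ} (hk : x ^ r ^ k = 1) :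
    ∃ (g : Y) (J : Set I), g⁻¹ * x * g ∈ LJ cs h T X J ∧ Ell cs h T X J (g⁻¹ * x * g) := by
  obtain ⟨g, J, h1, h2⟩ := exists_elliptic R hr hrp hx hk
  exact ⟨g, J, h1, ell_iff.2 h2⟩

/-- `r ∤ |V_J|` -/
theorem not_dvd_card_VJ [Finite W] [Finite Y] {r : ℕ} (hr : r.Prime) (hrp : ¬ r ∣ p) (J : Set I) :
    ¬ r ∣ Nat.card (VJ cs h X J) := fun h1 => hrp (dvd_of_isPGroup hr (isPGroup_VJ R J) h1)

end Cfsg.Agent.H27.TS.Ex
end

-- part: H874/TS/Eval
section
/-!
# `F₄(2)` : evaluation of T* (helper874, S5745), the theorem `eval`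
-/

set_option autoImplicit false
set_option linter.unusedSectionVars false
set_option maxRecDepth 100000

namespace Cfsg.Agent.H874.TS

open CoxeterSystem Cfsg.Agent.ChevalleyStructure.CoxeterGeom Cfsg.Agent.Tits.Roots Cfsg.Agent.Tits.Core
  Cfsg.Agent.Nodes.Reps Cfsg.Agent.Nodes.BNOf
  Cfsg.Agent.Nodes.StabComb Cfsg.Agent.Nodes.Bruhat Cfsg.Agent.Nodes.LeviDec
open Cfsg.Lie Cfsg.Agent.ChevalleyStructure Cfsg.Agent.ChevalleyStructure.Elts
  Cfsg.Agent.ChevalleyStructure.RootVec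
  Cfsg.Agent.ChevalleyStructure.CoxeterGeomTypes
open Cfsg.Agent.Nodes Cfsg.Agent.Nodes.RGDChev
open Cfsg.Agent.SigZero.FFourTwo (isType)
open Cfsg.Agent.FourTwo.Base Cfsg.Agent.FourTwo.Classes Cfsg.Agent.FourTwo.Par
open Cfsg.Agent.FourTwo.UCode (reflU conjU mulU invU el_mod)
open Cfsg.Agent.ChevalleyStructure.TwF4.Rel (sp refl)
open Cfsg.Agent.ChevalleyStructure.F4TwU (posList mem_posList)
open Cfsg.Agent.H82.TS

/-! ### The frame facts -/

theorem GG_top : GG c0 h0 T0 X0 = ⊤ := Cfsg.Agent.KFacts.RgdFilt.GG_eq_top (G1_eq_top isType c0)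

theorem bt : Cfsg.Agent.KFacts.RgdCharP.BT c0 h0 2 T0 X0 := fun _ hS hS1 =>
  Cfsg.Agent.KFacts.RgdBorelTits.borel_tits (Cfsg.Agent.KFacts.RgdFiltChev.filt (K := ZMod 2) isType c0 2)
    GG_top hS hS1

theorem LJ_eq (m : ℕ) : LJ c0 h0 T0 X0 (JJ m) = RG (rtB m) := by
  unfold LJ
  rw [T0_eq, bot_sup_eq]
  exact Sup_eq (fun v hv => hv.1) fun r hr => (mem_RootsJ hr).symm

/-- the positive roots outside `J` -/
def PR (m : ℕ) : Finset (Fin 4 → ℤ) := (((List.range 48).filter (notB m)).map (vec chevF4 4)).toFinset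

theorem mem_PR {m : ℕ} {β : Fin 4 → ℤ} : β ∈ PR m ↔ β ∈ NotJ c0 h0 (JJ m) := by
  rw [PR, List.mem_toFinset, List.mem_map]
  constructor
  · rintro ⟨r, hr, rfl⟩
    rw [List.mem_filter, List.mem_range] at hr
    exact (mem_NotJ hr.1).2 hr.2
  · intro h
    obtain ⟨r, hr, rfl⟩ := isRoot_iff'.1 h.1
    exact ⟨r, List.mem_filter.2 ⟨List.mem_range.2 hr, (mem_NotJ hr).1 h⟩, rfl⟩

/-- the weights -/
def phi (Fl : List ℕ) (β : Fin 4 → ℤ) : ℕ := if β ∈ Fl.map (vec chevF4 4) then 2 else 1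

theorem prod_phi (Fl : List ℕ) (A : Finset (Fin 4 → ℤ)) :
    ∏ β ∈ A, phi Fl β = 2 ^ (A.filter fun β => β ∈ Fl.map (vec chevF4 4)).card := by
  unfold phi
  rw [Finset.prod_ite, Finset.prod_const, Finset.prod_const_one, mul_one]

theorem prod_le (Fl : List ℕ) (A : Finset (Fin 4 → ℤ)) (p : ℕ → Bool)
    (hp : ∀ r ∈ Fl, vec chevF4 4 r ∈ A → p r = true) : ∏ β ∈ A, phi Fl β ≤ 2 ^ (Fl.filter p).length := by
  rw [prod_phi]
  refine Nat.pow_le_pow_right (by norm_num) ?_
  have h1 : (A.filter fun β => β ∈ Fl.map (vec chevF4 4)) ⊆ ((Fl.filter p).map (vec chevF4 4)).toFinset := by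
    intro β hβ
    rw [Finset.mem_filter, List.mem_map] at hβ
    obtain ⟨h1, r, hr, rfl⟩ := hβ
    rw [List.mem_toFinset]
    exact List.mem_map_of_mem (List.mem_filter.2 ⟨hr, hp r hr h1⟩)
  refine (Finset.card_le_card h1).trans ((List.toFinset_card_le _).trans ?_)
  rw [List.length_map]

theorem le_prod (Fl : List ℕ) (A : Finset (Fin 4 → ℤ)) (p : ℕ → Bool) (hnd : Fl.Nodup) (h48 : ∀ r ∈ Fl, r < 48)
    (hp : ∀ r ∈ Fl, p r = true → vec chevF4 4 r ∈ A) : 2 ^ (Fl.filter p).length ≤ ∏ β ∈ A, phi Fl β := by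
  rw [prod_phi]
  refine Nat.pow_le_pow_right (by norm_num) ?_
  have h1 : ((Fl.filter p).map (vec chevF4 4)).toFinset ⊆ A.filter fun β => β ∈ Fl.map (vec chevF4 4) := by
    intro β hβ
    rw [List.mem_toFinset, List.mem_map] at hβ
    obtain ⟨r, hr, rfl⟩ := hβ
    rw [List.mem_filter] at hr
    exact Finset.mem_filter.2 ⟨hp r hr.1 hr.2, List.mem_map_of_mem hr.1⟩
  have h2 : ((Fl.filter p).map (vec chevF4 4)).Nodup := by
    refine List.Nodup.map_on ?_ (hnd.filter _)
    intro a ha b hb hab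
    exact vec_inj (h48 a (List.mem_filter.1 ha).1) (h48 b (List.mem_filter.1 hb).1) hab
  have h3 := Finset.card_le_card h1
  rwa [List.toFinset_card_of_nodup h2, List.length_map] at h3

/-- the check for the rays (masks of roots) -/
def chkR (m : ℕ) (w : List (Bool × ℕ)) (Fl : List ℕ) (RY : List ℕ) : Bool :=
  ((List.range 48).all fun a => !(notB m a) ||
      RY.any fun l => Nat.testBit l a && (List.range 48).all fun r => rayB m a r == Nat.testBit l r) &&
    (RY.all fun l => okP w (Nat.testBit l) &&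
      Nat.ble (fixn w (Nat.testBit l)) (2 ^ (Fl.filter (Nat.testBit l)).length)) &&
    decide Fl.Nodup && Fl.all (notB m)

/-- **The evaluation.** -/
theorem eval {m : ℕ} {w : List (Bool × ℕ)} {Fl : List ℕ} {RY : List ℕ} {B : ℕ}
    (hR : chkR m w Fl RY = true) (hB : sumW m Fl = B) {r k : ℕ} (hr : r.Prime) (hr2 : r ≠ 2)
    (hx : we w ^ r ^ k = 1) (hell : Ell c0 h0 T0 X0 (JJ m) (we w))
    (hxL : we w ∈ LJ c0 h0 T0 X0 (JJ m)) :
    Nat.card (Cx (we w)) ≤
      Nat.card (Cx (we w) ⊓ LJ c0 h0 T0 X0 (JJ m) : Subgroup LL) * 2 ^ Fl.length * B := by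
  classical
  have hF : Fact r.Prime := ⟨hr⟩
  have hrp : ¬ r ∣ 2 := fun h => hr2 ((Nat.prime_dvd_prime_iff_eq hr Nat.prime_two).1 h)
  simp only [chkR, Bool.and_eq_true, List.all_eq_true, List.mem_range, Bool.or_eq_true, Bool.not_eq_true',
    List.any_eq_true, beq_iff_eq, decide_eq_true_eq] at hR
  obtain ⟨⟨⟨h1, h2⟩, h3⟩, h4⟩ := hR
  have h48 : ∀ r ∈ Fl, r < 48 := fun s hs => lt_of_notB (h4 s hs)
  have hfin : (NJ c0 h0 (JJ m)).Finite := Set.toFinite _
  have hst := star rg (J := JJ m) hx (Cfsg.Agent.H27.TS.Ex.not_dvd_card_VJ rg hr hrp (JJ m)) hell hxL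
    (by rw [GG_top]; exact le_top) (PR m) (fun β => mem_PR) (phi Fl) (fun α hα => ?_) hfin.toFinset
    (fun w hw => (Set.Finite.mem_toFinset hfin).2 hw)
  · refine hst.trans ?_
    refine Nat.mul_le_mul (Nat.mul_le_mul_left _ ?_) ?_
    · have := prod_le Fl (PR m) (fun _ => true) (fun _ _ _ => rfl)
      rwa [List.filter_true] at this
    · rw [← hB]
      refine (Finset.sum_le_sum fun w' hw' => ?_).trans (sum_le m (fun t => 2 ^ ex Fl t) hfin.toFinset
        fun w' hw' => (Set.Finite.mem_toFinset hfin).1 hw')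
      refine prod_le Fl _ (fun r => Nat.ble 128 (lin r (tup w').1 (tup w').2.1 (tup w').2.2.1 (tup w').2.2.2))
        fun s hs hsA => ?_
      rw [Nat.ble_eq, ← cd_rep w' (h48 s hs) (ge_of_notB (h4 s hs))]
      exact cd_neg ((isRoot_vec' (h48 s hs)).act w') (Finset.mem_filter.1 hsA).2
  · obtain ⟨a, ha, rfl⟩ := isRoot_iff'.1 hα.1
    have ha' : notB m a = true := (mem_NotJ ha).1 hα
    obtain ⟨l, hl, -, h5⟩ := (h1 a ha).resolve_left (by rw [ha']; exact Bool.noConfusion)
    obtain ⟨h6, h7⟩ := h2 l hl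
    have h8 : RGD.Sup X0 (Ray c0 h0 (JJ m) (vec chevF4 4 a)) = RG (Nat.testBit l) :=
      Sup_eq (fun v hv => hv.1.1) fun s hs => by rw [← h5 s hs, mem_Ray ha hs ha']
    rw [h8]
    refine (card_fix_le h6).trans ((Nat.le_of_ble_eq_true h7).trans ?_)
    refine le_prod Fl _ _ h3 h48 fun s hs hsl => ?_
    rw [Finset.mem_filter, mem_PR]
    have h9 : vec chevF4 4 s ∈ Ray c0 h0 (JJ m) (vec chevF4 4 a) :=
      (mem_Ray ha (h48 s hs) ha').2 (by rw [h5 s (h48 s hs)]; exact hsl)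
    exact ⟨h9.1, h9⟩

end Cfsg.Agent.H874.TS
end

-- part: H874/TS/Syl
section
/-!
# Sylow 3-subgroups `3 ≀ 3` (helper874, S5745)

* `exists_conj_in` : elements of prime power order are conjugate into a Sylow subgroup given by its order;
* `step` : `A ⊔ ⟨t⟩`, `t ^ 3 = 1`, `t` normalises `A`;
* `Two.exists_inv`, `Cyc.exists_inv` : the elements of order three of `3 × 3` and `3 ≀ 3` commute with an involution.
-/

set_option autoImplicit false
set_option linter.unusedSectionVars false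

namespace Cfsg.Agent.H874.TS

theorem exists_conj_in {G : Type*} [Group G] [Finite G] {r : ℕ} [hr : Fact r.Prime] {L Q : Subgroup G} (hQL : Q ≤ L)
    {b : ℕ} (hQ : Nat.card Q = r ^ b) {N : ℕ} (hL : Nat.card L ∣ N) (hN : ¬ r ^ (b + 1) ∣ N) {y : G} (hyL : y ∈ L) {k : ℕ}
    (hy : y ^ r ^ k = 1) : ∃ g ∈ L, g * y * g⁻¹ ∈ Q := by
  have hcQ : Nat.card (Q.subgroupOf L) = r ^ b := by
    rw [Nat.card_congr (Subgroup.subgroupOfEquivOfLe hQL).toEquiv, hQ]
  have h1 : r ^ b ∣ Nat.card L := by rw [← hcQ]; exact Subgroup.card_subgroup_dvd_card _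
  have hpos : Nat.card L ≠ 0 := Nat.card_pos.ne'
  have h2 : (Nat.card L).factorization r = b := by
    apply le_antisymm
    · by_contra hcon
      push Not at hcon
      exact hN (dvd_trans ((hr.out.pow_dvd_iff_le_factorization hpos).2 hcon) hL)
    · exact (hr.out.pow_dvd_iff_le_factorization hpos).1 h1
  let P : Sylow r L := Sylow.ofCard (Q.subgroupOf L) (by rw [hcQ, h2])
  have h3 : IsPGroup r (Subgroup.zpowers (⟨y, hyL⟩ : L)) := by
    refine IsPGroup.of_card (n := (orderOf (⟨y, hyL⟩ : L)).factorization r) ?_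
    rw [Nat.card_zpowers]
    have h4 : orderOf (⟨y, hyL⟩ : L) ∣ r ^ k := orderOf_dvd_of_pow_eq_one (Subtype.ext (by simpa only [_root_.SubmonoidClass.mk_pow, _root_.OneMemClass.coe_one] using hy))
    obtain ⟨j, -, hj⟩ := (Nat.dvd_prime_pow hr.out).1 h4
    rw [hj, hr.out.factorization_pow, Finsupp.single_eq_same]
  obtain ⟨P', hP'⟩ := h3.exists_le_sylow
  obtain ⟨g, hg⟩ := MulAction.exists_smul_eq L P' P
  refine ⟨g, g.2, ?_⟩
  have h5 : g * ⟨y, hyL⟩ * g⁻¹ ∈ (P : Subgroup L) := by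
    rw [← hg, Sylow.coe_subgroup_smul, Subgroup.mem_pointwise_smul_iff_inv_smul_mem, ← map_inv, MulAut.smul_def,
      MulAut.conj_apply]
    have h6 : g⁻¹ * (g * ⟨y, hyL⟩ * g⁻¹) * g⁻¹⁻¹ = ⟨y, hyL⟩ := by group
    rw [h6]
    exact hP' (Subgroup.mem_zpowers _)
  exact h5

/-- `A ⊔ ⟨t⟩` -/
theorem step {G : Type*} [Group G] [Finite G] {A : Subgroup G} {t : G} (hn : ∀ a ∈ A, t * a * t⁻¹ ∈ A) (h3 : t ^ 3 = 1)
    (ht : t ∉ A) : ∃ B : Subgroup G, Nat.card B = 3 * Nat.card A ∧ (∀ g, g ∈ B ↔ ∃ a ∈ A, ∃ i : ℕ, i < 3 ∧ g = a * t ^ i) := by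
  have hn' : ∀ (i : ℕ), ∀ a ∈ A, t ^ i * a * (t ^ i)⁻¹ ∈ A := by
    intro i
    induction i with
    | zero => intro a ha; simpa using ha
    | succ i ih =>
      intro a ha
      have h1 := hn _ (ih a ha)
      have h2 : t ^ (i + 1) * a * (t ^ (i + 1))⁻¹ = t * (t ^ i * a * (t ^ i)⁻¹) * t⁻¹ := by rw [pow_succ']; group
      rw [h2]; exact h1
  have hmod : ∀ i : ℕ, t ^ i = t ^ (i % 3) := fun i => by
    conv_lhs => rw [← Nat.div_add_mod i 3, pow_add, pow_mul, h3, one_pow, one_mul]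
  let B : Subgroup G :=
    { carrier := {g | ∃ a ∈ A, ∃ i : ℕ, i < 3 ∧ g = a * t ^ i}
      one_mem' := ⟨1, A.one_mem, 0, by norm_num, by simp⟩
      mul_mem' := by
        rintro _ _ ⟨a, ha, i, hi, rfl⟩ ⟨b, hb, j, hj, rfl⟩
        refine ⟨a * (t ^ i * b * (t ^ i)⁻¹), A.mul_mem ha (hn' i b hb), (i + j) % 3, Nat.mod_lt _ (by norm_num), ?_⟩
        rw [← hmod, pow_add]; group
      inv_mem' := by
        rintro _ ⟨a, ha, i, hi, rfl⟩
        have h1 : (t ^ i)⁻¹ = t ^ (2 * i) := by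
          rw [inv_eq_iff_mul_eq_one, ← pow_add, show i + 2 * i = 3 * i by ring, pow_mul, h3, one_pow]
        refine ⟨t ^ (2 * i) * a⁻¹ * (t ^ (2 * i))⁻¹, hn' _ _ (A.inv_mem ha), (2 * i) % 3, Nat.mod_lt _ (by norm_num), ?_⟩
        rw [← hmod, mul_inv_rev, h1]; group }
  refine ⟨B, ?_, fun g => Iff.rfl⟩
  have hinj : ∀ i < 3, ∀ j < 3, i ≤ j → ∀ a ∈ A, ∀ b ∈ A, a * t ^ i = b * t ^ j → i = j := by
    intro i hi j hj hij a ha b hb h
    by_contra hne
    have h1 : t ^ (j - i) ∈ A := by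
      have h2 : t ^ j = t ^ (j - i) * t ^ i := by rw [← pow_add, Nat.sub_add_cancel hij]
      have h3 : t ^ (j - i) = b⁻¹ * a := by
        rw [h2, ← mul_assoc] at h
        have := mul_right_cancel h
        rw [this]; group
      rw [h3]; exact A.mul_mem (A.inv_mem hb) ha
    have h4 : j - i = 1 ∨ j - i = 2 := by omega
    rcases h4 with h4 | h4
    · rw [h4, pow_one] at h1; exact ht h1
    · rw [h4] at h1
      have h5 : t = t ^ 2 * t ^ 2 := by rw [← pow_add, show 2 + 2 = 3 + 1 by norm_num, pow_add, h3, one_mul, pow_one]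
      exact ht (by rw [h5]; exact A.mul_mem h1 h1)
  let F : A × Fin 3 → B := fun x => ⟨x.1 * t ^ (x.2 : ℕ), x.1, x.1.2, x.2, x.2.2, rfl⟩
  have hF : Function.Bijective F := by
    constructor
    · rintro ⟨a, i⟩ ⟨b, j⟩ h
      have h1 : (a : G) * t ^ (i : ℕ) = b * t ^ (j : ℕ) := congrArg Subtype.val h
      have h2 : i = j := by
        apply Fin.ext
        rcases le_total (i : ℕ) j with hij | hij
        · exact hinj i i.2 j j.2 hij a a.2 b b.2 h1
        · exact (hinj j j.2 i i.2 hij b b.2 a a.2 h1.symm).symm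
      subst h2
      have h3 := mul_right_cancel h1
      rw [Subtype.ext h3]
    · rintro ⟨_, a, ha, i, hi, rfl⟩
      exact ⟨(⟨a, ha⟩, ⟨i, hi⟩), rfl⟩
  rw [← Nat.card_congr (Equiv.ofBijective F hF), Nat.card_prod, Nat.card_fin, mul_comm]

/-- two commuting elements of order three with commuting involutions -/
structure Two {G : Type*} [Group G] (L : Subgroup G) (s1 s2 x1 x2 : G) : Prop where
  s1L : s1 ∈ L
  s2L : s2 ∈ L
  x1L : x1 ∈ L
  x2L : x2 ∈ L
  ss : s1 * s2 = s2 * s1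
  s1p : s1 ^ 3 = 1
  s2p : s2 ^ 3 = 1
  x1p : x1 ^ 2 = 1
  x2p : x2 ^ 2 = 1
  x12 : x1 * s2 = s2 * x1
  x21 : x2 * s1 = s1 * x2
  x11 : x1 * s1 ≠ s1 * x1
  x22 : x2 * s2 ≠ s2 * x2

theorem Two.sub {G : Type*} [Group G] [Finite G] {L : Subgroup G} {s1 s2 x1 x2 : G} (h : Two L s1 s2 x1 x2) :
    ∃ B : Subgroup G, Nat.card B = 9 ∧ B ≤ L ∧ ∀ g, g ∈ B ↔ ∃ i < 3, ∃ j < 3, g = s1 ^ i * s2 ^ j := by
  obtain ⟨A, hA, hA'⟩ := step (A := (⊥ : Subgroup G)) (t := s1) (fun a ha => by
    rw [Subgroup.mem_bot] at ha ⊢; rw [ha]; group) h.s1p (by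
    rw [Subgroup.mem_bot]; rintro rfl; exact h.x11 (by simp))
  have hA2 : ∀ g ∈ A, ∃ i < 3, g = s1 ^ i := by
    intro g hg
    obtain ⟨a, ha, i, hi, rfl⟩ := (hA' g).1 hg
    rw [Subgroup.mem_bot] at ha
    exact ⟨i, hi, by rw [ha, one_mul]⟩
  have hA3 : ∀ i < 3, s1 ^ i ∈ A := fun i hi => (hA' _).2 ⟨1, Subgroup.one_mem _, i, hi, by rw [one_mul]⟩
  obtain ⟨B, hB, hB'⟩ := step (A := A) (t := s2) (fun a ha => by
    obtain ⟨i, hi, rfl⟩ := hA2 a ha
    have h1 : Commute s2 (s1 ^ i) := (show Commute s2 s1 from h.ss.symm).pow_right i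
    rw [h1.eq, mul_inv_cancel_right]; exact hA3 i hi) h.s2p (fun hs => by
    obtain ⟨i, hi, h1⟩ := hA2 s2 hs
    exact h.x22 (by rw [h1]; exact ((show Commute x2 s1 from h.x21).pow_right i).eq))
  refine ⟨B, ?_, ?_, fun g => ⟨fun hg => ?_, fun hg => ?_⟩⟩
  · rw [hB, hA, Subgroup.card_bot]
  · intro g hg
    obtain ⟨a, ha, j, hj, rfl⟩ := (hB' g).1 hg
    obtain ⟨i, hi, rfl⟩ := hA2 a ha
    exact L.mul_mem (L.pow_mem h.s1L _) (L.pow_mem h.s2L _)
  · obtain ⟨a, ha, j, hj, rfl⟩ := (hB' g).1 hg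
    obtain ⟨i, hi, rfl⟩ := hA2 a ha
    exact ⟨i, hi, j, hj, rfl⟩
  · obtain ⟨i, hi, j, hj, rfl⟩ := hg
    exact (hB' _).2 ⟨_, hA3 i hi, j, hj, rfl⟩

/-- `B₂`: the two further involutions -/
theorem Two.exists_inv {G : Type*} [Group G] [Finite G] {L : Subgroup G} {s1 s2 x1 x2 c d : G} (h : Two L s1 s2 x1 x2)
    (hcL : c ∈ L) (hdL : d ∈ L) (hc2 : c ^ 2 = 1) (hd2 : d ^ 2 = 1) (hc1 : c * s1 = s2 * c) (hc3 : c * s2 = s1 * c)
    (hd1 : d * s1 = s2⁻¹ * d) (hd3 : d * s2 = s1⁻¹ * d) {i j : ℕ} (hi : i < 3) (hj : j < 3) :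
    ∃ u ∈ L, u ^ 2 = 1 ∧ u ≠ 1 ∧ (s1 ^ i * s2 ^ j) * u = u * (s1 ^ i * s2 ^ j) := by
  have hcx : Commute x1 s2 := h.x12
  have hcx2 : Commute x2 s1 := h.x21
  have hs : Commute s1 s2 := h.ss
  have hx1 : x1 ≠ 1 := by rintro rfl; exact h.x11 (by simp)
  have hx2 : x2 ≠ 1 := by rintro rfl; exact h.x22 (by simp)
  have hcne : c ≠ 1 := by
    rintro rfl
    rw [one_mul, mul_one] at hc1
    exact h.x11 (by rw [hc1]; exact h.x12)
  have hdne : d ≠ 1 := by
    rintro rfl
    rw [one_mul, mul_one] at hd1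
    exact h.x11 (by rw [hd1]; exact hcx.inv_right.eq)
  rcases Nat.eq_zero_or_pos i with rfl | hi0
  · exact ⟨x1, h.x1L, h.x1p, hx1, by rw [pow_zero, one_mul]; exact (hcx.pow_right j).eq.symm⟩
  rcases Nat.eq_zero_or_pos j with rfl | hj0
  · exact ⟨x2, h.x2L, h.x2p, hx2, by rw [pow_zero, mul_one]; exact (hcx2.pow_right i).eq.symm⟩
  have hcc : ∀ k : ℕ, c * s1 ^ k = s2 ^ k * c := fun k => (show SemiconjBy c s1 s2 from hc1).pow_right k
  have hcc' : ∀ k : ℕ, c * s2 ^ k = s1 ^ k * c := fun k => (show SemiconjBy c s2 s1 from hc3).pow_right k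
  have hdd : ∀ k : ℕ, d * s1 ^ k = s2⁻¹ ^ k * d := fun k => (show SemiconjBy d s1 s2⁻¹ from hd1).pow_right k
  have hdd' : ∀ k : ℕ, d * s2 ^ k = s1⁻¹ ^ k * d := fun k => (show SemiconjBy d s2 s1⁻¹ from hd3).pow_right k
  have hinv1 : s1⁻¹ = s1 ^ 2 := by rw [inv_eq_iff_mul_eq_one, ← pow_succ', h.s1p]
  have hinv2 : s2⁻¹ = s2 ^ 2 := by rw [inv_eq_iff_mul_eq_one, ← pow_succ', h.s2p]
  have p1 : ∀ k : ℕ, s1 ^ (k + 3) = s1 ^ k := fun k => by rw [pow_add, h.s1p, mul_one]
  have p2 : ∀ k : ℕ, s2 ^ (k + 3) = s2 ^ k := fun k => by rw [pow_add, h.s2p, mul_one]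
  have key : ∀ a b : ℕ, a = b → ∃ u ∈ L, u ^ 2 = 1 ∧ u ≠ 1 ∧ (s1 ^ a * s2 ^ b) * u = u * (s1 ^ a * s2 ^ b) := by
    rintro a b rfl
    refine ⟨c, hcL, hc2, hcne, ?_⟩
    have e : c * (s1 ^ a * s2 ^ a) = s2 ^ a * s1 ^ a * c := by
      rw [← mul_assoc, hcc, mul_assoc, hcc', ← mul_assoc]
    rw [e, (hs.pow_pow a a).eq]
  have key2 : ∀ a b : ℕ, (s2 ^ 2) ^ a = s2 ^ b → (s1 ^ 2) ^ b = s1 ^ a →
      ∃ u ∈ L, u ^ 2 = 1 ∧ u ≠ 1 ∧ (s1 ^ a * s2 ^ b) * u = u * (s1 ^ a * s2 ^ b) := by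
    intro a b h1 h2
    refine ⟨d, hdL, hd2, hdne, ?_⟩
    have e : d * (s1 ^ a * s2 ^ b) = s2⁻¹ ^ a * s1⁻¹ ^ b * d := by
      rw [← mul_assoc, hdd, mul_assoc, hdd', ← mul_assoc]
    rw [e, hinv2, hinv1, h1, h2, (hs.pow_pow a b).eq]
  interval_cases i <;> interval_cases j
  · exact key 1 1 rfl
  · exact key2 1 2 (by rw [pow_one]) (by rw [← pow_mul]; exact p1 1)
  · exact key2 2 1 (by rw [← pow_mul]; exact p2 1) (by rw [pow_one])
  · exact key 2 2 rfl

/-- `3 ≀ 3` -/
structure Cyc {G : Type*} [Group G] (L : Subgroup G) (s0 s1 s2 x0 x1 x2 p t c0 c1 c2 : G) : Prop where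
  s0L : s0 ∈ L
  s1L : s1 ∈ L
  s2L : s2 ∈ L
  x0L : x0 ∈ L
  x1L : x1 ∈ L
  x2L : x2 ∈ L
  pL : p ∈ L
  tL : t ∈ L
  c0L : c0 ∈ L
  c1L : c1 ∈ L
  c2L : c2 ∈ L
  s01 : s0 * s1 = s1 * s0
  s02 : s0 * s2 = s2 * s0
  s12 : s1 * s2 = s2 * s1
  s0p : s0 ^ 3 = 1
  s1p : s1 ^ 3 = 1
  s2p : s2 ^ 3 = 1
  x0p : x0 ^ 2 = 1
  x1p : x1 ^ 2 = 1
  x2p : x2 ^ 2 = 1
  tp : t ^ 2 = 1
  c0p : c0 ^ 2 = 1
  c1p : c1 ^ 2 = 1
  c2p : c2 ^ 2 = 1
  pp : p ^ 3 = 1
  x01 : x0 * s1 = s1 * x0
  x02 : x0 * s2 = s2 * x0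
  x10 : x1 * s0 = s0 * x1
  x12 : x1 * s2 = s2 * x1
  x20 : x2 * s0 = s0 * x2
  x21 : x2 * s1 = s1 * x2
  x00 : x0 * s0 ≠ s0 * x0
  x11 : x1 * s1 ≠ s1 * x1
  x22 : x2 * s2 ≠ s2 * x2
  p0 : p * s0 = s1 * p
  p1 : p * s1 = s2 * p
  p2 : p * s2 = s0 * p
  pt : p * t = t * p
  t1 : t ≠ 1
  c00 : c0 * s0 = s0 * c0
  c01 : c0 * s1 = s2 * c0
  c02 : c0 * s2 = s1 * c0
  c10 : c1 * s0 = s2 * c1
  c11 : c1 * s1 = s1 * c1
  c12 : c1 * s2 = s0 * c1
  c20 : c2 * s0 = s1 * c2
  c21 : c2 * s1 = s0 * c2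
  c22 : c2 * s2 = s2 * c2

section Cyc

variable {G : Type*} [Group G] [Finite G] {L : Subgroup G} {s0 s1 s2 x0 x1 x2 p t c0 c1 c2 : G}
  (h : Cyc L s0 s1 s2 x0 x1 x2 p t c0 c1 c2)

include h

theorem Cyc.sub : ∃ B : Subgroup G, Nat.card B = 81 ∧ B ≤ L ∧
    ∀ g, g ∈ B → ∃ i < 3, ∃ j < 3, ∃ k < 3, ∃ l < 3, g = s0 ^ i * s1 ^ j * s2 ^ k * p ^ l := by
  have hT : Two L s0 s1 x0 x1 := ⟨h.s0L, h.s1L, h.x0L, h.x1L, h.s01, h.s0p, h.s1p, h.x0p, h.x1p, h.x01, h.x10, h.x00, h.x11⟩
  obtain ⟨A, hA, hAL, hA'⟩ := hT.sub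
  have hc20 : Commute s2 s0 := h.s02.symm
  have hc21 : Commute s2 s1 := h.s12.symm
  have hs2A : ∀ a ∈ A, Commute s2 a := by
    intro a ha
    obtain ⟨i, -, j, -, rfl⟩ := (hA' a).1 ha
    exact (hc20.pow_right i).mul_right (hc21.pow_right j)
  obtain ⟨B, hB, hB'⟩ := step (A := A) (t := s2) (fun a ha => by
    rw [(hs2A a ha).eq, mul_inv_cancel_right]; exact ha) h.s2p (fun hs => by
    obtain ⟨i, -, j, -, h1⟩ := (hA' s2).1 hs
    refine h.x22 ?_
    rw [h1]
    exact (((show Commute x2 s0 from h.x20).pow_right i).mul_right ((show Commute x2 s1 from h.x21).pow_right j)).eq)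
  have hB2 : ∀ g, g ∈ B ↔ ∃ i < 3, ∃ j < 3, ∃ k < 3, g = s0 ^ i * s1 ^ j * s2 ^ k := by
    intro g
    rw [hB']
    constructor
    · rintro ⟨a, ha, k, hk, rfl⟩
      obtain ⟨i, hi, j, hj, rfl⟩ := (hA' a).1 ha
      exact ⟨i, hi, j, hj, k, hk, rfl⟩
    · rintro ⟨i, hi, j, hj, k, hk, rfl⟩
      exact ⟨_, (hA' _).2 ⟨i, hi, j, hj, rfl⟩, k, hk, rfl⟩
  have hB3 : ∀ i j k : ℕ, s0 ^ i * s1 ^ j * s2 ^ k ∈ B := by
    intro i j k
    refine (hB2 _).2 ⟨i % 3, Nat.mod_lt _ (by norm_num), j % 3, Nat.mod_lt _ (by norm_num), k % 3,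
      Nat.mod_lt _ (by norm_num), ?_⟩
    rw [← pow_eq_pow_mod i h.s0p, ← pow_eq_pow_mod j h.s1p, ← pow_eq_pow_mod k h.s2p]
  have hconj : ∀ i j k : ℕ, p * (s0 ^ i * s1 ^ j * s2 ^ k) = (s0 ^ k * s1 ^ i * s2 ^ j) * p := by
    intro i j k
    have e0 : p * s0 ^ i = s1 ^ i * p := (show SemiconjBy p s0 s1 from h.p0).pow_right i
    have e1 : p * s1 ^ j = s2 ^ j * p := (show SemiconjBy p s1 s2 from h.p1).pow_right j
    have e2 : p * s2 ^ k = s0 ^ k * p := (show SemiconjBy p s2 s0 from h.p2).pow_right k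
    have k1 : Commute (s1 ^ i * s2 ^ j) (s0 ^ k) :=
      (((show Commute s1 s0 from h.s01.symm).pow_pow i k)).mul_left ((show Commute s2 s0 from h.s02.symm).pow_pow j k)
    calc p * (s0 ^ i * s1 ^ j * s2 ^ k) = (p * s0 ^ i) * s1 ^ j * s2 ^ k := by group
      _ = s1 ^ i * (p * s1 ^ j) * s2 ^ k := by rw [e0]; group
      _ = s1 ^ i * s2 ^ j * (p * s2 ^ k) := by rw [e1]; group
      _ = (s1 ^ i * s2 ^ j) * s0 ^ k * p := by rw [e2]; group
      _ = s0 ^ k * (s1 ^ i * s2 ^ j) * p := by rw [k1.eq]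
      _ = _ := by group
  obtain ⟨C, hC, hC'⟩ := step (A := B) (t := p) (fun a ha => by
    obtain ⟨i, -, j, -, k, -, rfl⟩ := (hB2 a).1 ha
    rw [hconj, mul_inv_cancel_right]
    exact hB3 _ _ _) h.pp (fun hp => by
    obtain ⟨i, -, j, -, k, -, h1⟩ := (hB2 p).1 hp
    have h2 : Commute p s0 := by
      rw [h1]
      exact ((((Commute.refl s0).pow_left i).mul_left ((show Commute s1 s0 from h.s01.symm).pow_left j))).mul_left
        ((show Commute s2 s0 from h.s02.symm).pow_left k)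
    have h3 : s1 = s0 := by
      have := h.p0
      rw [h2.eq] at this
      exact (mul_right_cancel this).symm
    exact h.x11 (by rw [h3]; exact h.x10))
  refine ⟨C, by rw [hC, hB, hA], ?_, fun g hg => ?_⟩
  · intro g hg
    obtain ⟨a, ha, l, -, rfl⟩ := (hC' g).1 hg
    obtain ⟨i, -, j, -, k, -, rfl⟩ := (hB2 a).1 ha
    exact L.mul_mem (L.mul_mem (L.mul_mem (L.pow_mem h.s0L _) (L.pow_mem h.s1L _)) (L.pow_mem h.s2L _)) (L.pow_mem h.pL _)
  · obtain ⟨a, ha, l, hl, rfl⟩ := (hC' g).1 hg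
    obtain ⟨i, hi, j, hj, k, hk, rfl⟩ := (hB2 a).1 ha
    exact ⟨i, hi, j, hj, k, hk, l, hl, rfl⟩

theorem Cyc.conj (i j k : ℕ) : p * (s0 ^ i * s1 ^ j * s2 ^ k) = (s0 ^ k * s1 ^ i * s2 ^ j) * p := by
  have e0 : p * s0 ^ i = s1 ^ i * p := (show SemiconjBy p s0 s1 from h.p0).pow_right i
  have e1 : p * s1 ^ j = s2 ^ j * p := (show SemiconjBy p s1 s2 from h.p1).pow_right j
  have e2 : p * s2 ^ k = s0 ^ k * p := (show SemiconjBy p s2 s0 from h.p2).pow_right k
  have k1 : Commute (s1 ^ i * s2 ^ j) (s0 ^ k) :=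
    (((show Commute s1 s0 from h.s01.symm).pow_pow i k)).mul_left ((show Commute s2 s0 from h.s02.symm).pow_pow j k)
  calc p * (s0 ^ i * s1 ^ j * s2 ^ k) = (p * s0 ^ i) * s1 ^ j * s2 ^ k := by group
    _ = s1 ^ i * (p * s1 ^ j) * s2 ^ k := by rw [e0]; group
    _ = s1 ^ i * s2 ^ j * (p * s2 ^ k) := by rw [e1]; group
    _ = (s1 ^ i * s2 ^ j) * s0 ^ k * p := by rw [e2]; group
    _ = s0 ^ k * (s1 ^ i * s2 ^ j) * p := by rw [k1.eq]
    _ = _ := by group

theorem Cyc.mul (i j k i' j' k' : ℕ) : (s0 ^ i * s1 ^ j * s2 ^ k) * (s0 ^ i' * s1 ^ j' * s2 ^ k') =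
    s0 ^ (i + i') * s1 ^ (j + j') * s2 ^ (k + k') := by
  have a1 : Commute (s1 ^ j * s2 ^ k) (s0 ^ i') :=
    (((show Commute s1 s0 from h.s01.symm).pow_pow j i')).mul_left ((show Commute s2 s0 from h.s02.symm).pow_pow k i')
  have a2 : Commute (s2 ^ k) (s1 ^ j') := (show Commute s2 s1 from h.s12.symm).pow_pow k j'
  calc (s0 ^ i * s1 ^ j * s2 ^ k) * (s0 ^ i' * s1 ^ j' * s2 ^ k') =
      s0 ^ i * ((s1 ^ j * s2 ^ k) * s0 ^ i') * s1 ^ j' * s2 ^ k' := by group
    _ = s0 ^ i * (s0 ^ i' * (s1 ^ j * s2 ^ k)) * s1 ^ j' * s2 ^ k' := by rw [a1.eq]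
    _ = s0 ^ (i + i') * s1 ^ j * (s2 ^ k * s1 ^ j') * s2 ^ k' := by rw [pow_add]; group
    _ = s0 ^ (i + i') * s1 ^ j * (s1 ^ j' * s2 ^ k) * s2 ^ k' := by rw [a2.eq]
    _ = s0 ^ (i + i') * s1 ^ (j + j') * s2 ^ (k + k') := by rw [pow_add s1, pow_add s2]; group

theorem Cyc.mod (i j k : ℕ) : s0 ^ i * s1 ^ j * s2 ^ k = s0 ^ (i % 3) * s1 ^ (j % 3) * s2 ^ (k % 3) := by
  rw [← pow_eq_pow_mod i h.s0p, ← pow_eq_pow_mod j h.s1p, ← pow_eq_pow_mod k h.s2p]

/-- the elements outside the base group -/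
theorem Cyc.out {i j k : ℕ} (hi : i < 3) (hj : j < 3) (hk : k < 3)
    (hg : (s0 ^ i * s1 ^ j * s2 ^ k * p) ^ 3 = 1) :
    ∃ u ∈ L, u ^ 2 = 1 ∧ u ≠ 1 ∧ (s0 ^ i * s1 ^ j * s2 ^ k * p) * u = u * (s0 ^ i * s1 ^ j * s2 ^ k * p) := by
  have hn : s0 ^ (i + j + k) * s1 ^ (i + j + k) * s2 ^ (i + j + k) = 1 := by
    rw [← hg]
    have e : ∀ e e1 e2 : G, p * e = e1 * p → p * e1 = e2 * p → (e * p) ^ 3 = e * e1 * e2 * p ^ 3 := by
      intro e e1 e2 h1 h2
      calc (e * p) ^ 3 = e * (p * e) * (p * e) * p := by simp only [pow_succ, pow_zero, one_mul, mul_assoc]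
        _ = e * (e1 * p) * (e1 * p) * p := by rw [h1]
        _ = e * e1 * (p * e1) * (p * p) := by simp only [mul_assoc]
        _ = e * e1 * (e2 * p) * (p * p) := by rw [h2]
        _ = e * e1 * e2 * p ^ 3 := by simp only [pow_succ, pow_zero, one_mul, mul_assoc]
    rw [e _ _ _ (h.conj i j k) (h.conj k i j), h.pp, mul_one, h.mul, h.mul]
    have e4 : i + k + j = i + j + k := by ring
    have e5 : j + i + k = i + j + k := by ring
    have e6 : k + j + i = i + j + k := by ring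
    rw [e4, e5, e6]
  have hd : (i + j + k) % 3 = 0 := by
    by_contra hne
    set n := i + j + k with hnn
    have h1 : s0 ^ n = (s1 ^ n * s2 ^ n)⁻¹ := by
      rw [eq_inv_iff_mul_eq_one, ← mul_assoc]; exact hn
    have h2 : Commute x0 (s0 ^ n) := by
      rw [h1]
      exact (((show Commute x0 s1 from h.x01).pow_right n).mul_right ((show Commute x0 s2 from h.x02).pow_right n)).inv_right
    have h3 : s0 = s0 ^ n ∨ s0 = s0 ^ n * s0 ^ n := by
      rw [← pow_add, pow_eq_pow_mod n h.s0p, pow_eq_pow_mod (n + n) h.s0p]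
      have h4 : n % 3 = 1 ∨ n % 3 = 2 := by omega
      rcases h4 with h4 | h4
      · left; rw [h4, pow_one]
      · right; rw [show (n + n) % 3 = 1 by omega, pow_one]
    apply h.x00
    rcases h3 with h3 | h3
    · rw [h3]; exact h2.eq
    · rw [h3]; exact (h2.mul_right h2).eq
  -- `u = s1 ^ j * s2 ^ (j + k)`
  have hu : (s0 ^ 0 * s1 ^ j * s2 ^ (j + k)) * p = (s0 ^ i * s1 ^ j * s2 ^ k * p) * (s0 ^ 0 * s1 ^ j * s2 ^ (j + k)) := by
    rw [mul_assoc (s0 ^ i * s1 ^ j * s2 ^ k), h.conj, ← mul_assoc, h.mul, h.mod 0, h.mod (i + (j + k))]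
    congr 2
    · congr 1
      congr 1
      omega
    · congr 1
      omega
  set u := s0 ^ 0 * s1 ^ j * s2 ^ (j + k) with hudef
  have huL : u ∈ L := L.mul_mem (L.mul_mem (L.pow_mem h.s0L _) (L.pow_mem h.s1L _)) (L.pow_mem h.s2L _)
  refine ⟨u * t * u⁻¹, L.mul_mem (L.mul_mem huL h.tL) (L.inv_mem huL), ?_, ?_, ?_⟩
  · have : (u * t * u⁻¹) ^ 2 = u * t ^ 2 * u⁻¹ := by simp only [pow_two]; group
    rw [this, h.tp, mul_one, mul_inv_cancel]
  · intro h1
    exact h.t1 (conj_eq_one_iff.1 h1)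
  · have hy : s0 ^ i * s1 ^ j * s2 ^ k * p = u * p * u⁻¹ := by rw [hu, mul_inv_cancel_right]
    rw [hy]
    calc u * p * u⁻¹ * (u * t * u⁻¹) = u * (p * t) * u⁻¹ := by group
      _ = u * (t * p) * u⁻¹ := by rw [h.pt]
      _ = _ := by group

theorem Cyc.exists_inv {i j k l : ℕ} (hi : i < 3) (hj : j < 3) (hk : k < 3) (hl : l < 3)
    (hg : (s0 ^ i * s1 ^ j * s2 ^ k * p ^ l) ^ 3 = 1) :
    ∃ u ∈ L, u ^ 2 = 1 ∧ u ≠ 1 ∧ (s0 ^ i * s1 ^ j * s2 ^ k * p ^ l) * u = u * (s0 ^ i * s1 ^ j * s2 ^ k * p ^ l) := by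
  have hx0 : x0 ≠ 1 := by rintro rfl; exact h.x00 (by simp)
  have hx1 : x1 ≠ 1 := by rintro rfl; exact h.x11 (by simp)
  have hx2 : x2 ≠ 1 := by rintro rfl; exact h.x22 (by simp)
  interval_cases l
  · rw [pow_zero, mul_one]
    by_cases hi0 : i = 0
    · subst hi0
      refine ⟨x0, h.x0L, h.x0p, hx0, ?_⟩
      rw [pow_zero, one_mul]
      exact (((show Commute x0 s1 from h.x01).pow_right j).mul_right ((show Commute x0 s2 from h.x02).pow_right k)).eq.symm
    by_cases hj0 : j = 0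
    · subst hj0
      refine ⟨x1, h.x1L, h.x1p, hx1, ?_⟩
      rw [pow_zero, mul_one]
      exact (((show Commute x1 s0 from h.x10).pow_right i).mul_right ((show Commute x1 s2 from h.x12).pow_right k)).eq.symm
    by_cases hk0 : k = 0
    · subst hk0
      refine ⟨x2, h.x2L, h.x2p, hx2, ?_⟩
      rw [pow_zero, mul_one]
      exact (((show Commute x2 s0 from h.x20).pow_right i).mul_right ((show Commute x2 s1 from h.x21).pow_right j)).eq.symm
    have h3 : i = j ∨ i = k ∨ j = k := by omega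
    have c0s : ∀ a b d : ℕ, c0 * (s0 ^ a * s1 ^ b * s2 ^ d) = (s0 ^ a * s2 ^ b * s1 ^ d) * c0 := fun a b d =>
      ((((show SemiconjBy c0 s0 s0 from h.c00).pow_right a).mul_right
        ((show SemiconjBy c0 s1 s2 from h.c01).pow_right b)).mul_right ((show SemiconjBy c0 s2 s1 from h.c02).pow_right d)).eq
    have c1s : ∀ a b d : ℕ, c1 * (s0 ^ a * s1 ^ b * s2 ^ d) = (s2 ^ a * s1 ^ b * s0 ^ d) * c1 := fun a b d =>
      ((((show SemiconjBy c1 s0 s2 from h.c10).pow_right a).mul_right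
        ((show SemiconjBy c1 s1 s1 from h.c11).pow_right b)).mul_right ((show SemiconjBy c1 s2 s0 from h.c12).pow_right d)).eq
    have c2s : ∀ a b d : ℕ, c2 * (s0 ^ a * s1 ^ b * s2 ^ d) = (s1 ^ a * s0 ^ b * s2 ^ d) * c2 := fun a b d =>
      ((((show SemiconjBy c2 s0 s1 from h.c20).pow_right a).mul_right
        ((show SemiconjBy c2 s1 s0 from h.c21).pow_right b)).mul_right ((show SemiconjBy c2 s2 s2 from h.c22).pow_right d)).eq
    have k01 : ∀ a b : ℕ, s0 ^ a * s1 ^ b = s1 ^ b * s0 ^ a := fun a b => ((show Commute s0 s1 from h.s01).pow_pow a b).eq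
    have k02 : ∀ a b : ℕ, s0 ^ a * s2 ^ b = s2 ^ b * s0 ^ a := fun a b => ((show Commute s0 s2 from h.s02).pow_pow a b).eq
    have k12 : ∀ a b : ℕ, s1 ^ a * s2 ^ b = s2 ^ b * s1 ^ a := fun a b => ((show Commute s1 s2 from h.s12).pow_pow a b).eq
    rcases h3 with rfl | rfl | rfl
    · refine ⟨c2, h.c2L, h.c2p, ?_, ?_⟩
      · rintro rfl
        have := h.c20
        rw [one_mul, mul_one] at this
        exact h.x11 (by rw [← this]; exact h.x10)
      · rw [c2s, ← k01]
    · refine ⟨c1, h.c1L, h.c1p, ?_, ?_⟩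
      · rintro rfl
        have := h.c10
        rw [one_mul, mul_one] at this
        exact h.x22 (by rw [← this]; exact h.x20)
      · rw [c1s]
        congr 1
        rw [k01 i j, mul_assoc, k02 i i, ← mul_assoc, k12 j i]
    · refine ⟨c0, h.c0L, h.c0p, ?_, ?_⟩
      · rintro rfl
        have := h.c01
        rw [one_mul, mul_one] at this
        exact h.x22 (by rw [← this]; exact h.x21)
      · rw [c0s]
        congr 1
        rw [mul_assoc, k12 j j, ← mul_assoc]
  · rw [pow_one] at hg ⊢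
    exact h.out hi hj hk hg
  · -- the inverse
    have hp2 : (p ^ 2)⁻¹ = p := by rw [inv_eq_iff_mul_eq_one, ← pow_succ, h.pp]
    have hinv : (s0 ^ i * s1 ^ j * s2 ^ k)⁻¹ = s0 ^ (2 * i) * s1 ^ (2 * j) * s2 ^ (2 * k) := by
      rw [inv_eq_iff_mul_eq_one, h.mul, h.mod]
      rw [show (i + 2 * i) % 3 = 0 by omega, show (j + 2 * j) % 3 = 0 by omega, show (k + 2 * k) % 3 = 0 by omega]
      simp
    have e1 : (s0 ^ i * s1 ^ j * s2 ^ k * p ^ 2)⁻¹ =
        s0 ^ (2 * k % 3) * s1 ^ (2 * i % 3) * s2 ^ (2 * j % 3) * p := by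
      rw [mul_inv_rev, hp2, hinv, h.conj, h.mod]
    have hg' : (s0 ^ (2 * k % 3) * s1 ^ (2 * i % 3) * s2 ^ (2 * j % 3) * p) ^ 3 = 1 := by
      rw [← e1, inv_pow, hg, inv_one]
    obtain ⟨u, huL, hu2, hu1, hu⟩ := h.out (Nat.mod_lt _ (by norm_num)) (Nat.mod_lt _ (by norm_num))
      (Nat.mod_lt _ (by norm_num)) hg'
    refine ⟨u, huL, hu2, hu1, ?_⟩
    rw [← e1] at hu
    have h4 : Commute (s0 ^ i * s1 ^ j * s2 ^ k * p ^ 2)⁻¹ u := hu
    exact (Commute.inv_left_iff.1 h4).eq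

end Cyc

end Cfsg.Agent.H874.TS
end

-- part: H874/TS/Lev
section
/-!
# `F₄(2)` (helper874, S5745): Levi subgroups, Sylow subgroups for 3, 5, 7, excluded types
-/

set_option autoImplicit false
set_option linter.unusedSectionVars false
set_option maxRecDepth 100000

namespace Cfsg.Agent.H874.TS

open CoxeterSystem Cfsg.Agent.ChevalleyStructure.CoxeterGeom Cfsg.Agent.Tits.Roots Cfsg.Agent.Tits.Core
  Cfsg.Agent.Nodes.Reps Cfsg.Agent.Nodes.BNOf
  Cfsg.Agent.Nodes.StabComb Cfsg.Agent.Nodes.Bruhat Cfsg.Agent.Nodes.LeviDec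
open Cfsg.Lie Cfsg.Agent.ChevalleyStructure Cfsg.Agent.ChevalleyStructure.Elts
  Cfsg.Agent.ChevalleyStructure.RootVec
  Cfsg.Agent.ChevalleyStructure.CoxeterGeomTypes
open Cfsg.Agent.Nodes Cfsg.Agent.Nodes.RGDChev
open Cfsg.Agent.SigZero.FFourTwo (isType inv LC LB LD LE chkLC chkLB chkLD chkLE sumLC sumLB sumLD sumLE)
open Cfsg.Agent.FourTwo.Base Cfsg.Agent.FourTwo.Classes Cfsg.Agent.FourTwo.Par
open Cfsg.Agent.ChevalleyStructure.TwF4.Rel (sp refl)
open Cfsg.Agent.H82.TS

/-- the Levi subgroup -/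
abbrev LM (m : ℕ) : Subgroup LL := LJ c0 h0 T0 X0 (JJ m)

theorem LM_le_PJ (m : ℕ) : LM m ≤ PJ c0 h0 T0 X0 (JJ m) := LJ_le_PJ

theorem mem_LM {m : ℕ} {w : List ℕ} (h : ∀ r ∈ w, r < 48 ∧ rtB m r = true) : wd w ∈ LM m := by
  rw [LM, LJ_eq]
  exact wd_mem_RG h

/-- the order of the Levi subgroup -/
def OddPart (m s : ℕ) : Prop := ∃ a, Nat.card (LM m) ∣ 2 ^ a * s

theorem oddPart_of {m : ℕ} {J : List (Fin 4)} {L : List (List (Fin 4))}
    (hJ : ∀ i : Fin 4, i ∈ J ↔ Nat.testBit m i = true) (hc : Cfsg.Agent.SigZero.FFourTwo.chk J L = true) {s : ℕ}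
    (hs : (L.map fun ω => 2 ^ inv ω).sum = s) : OddPart m s := by
  obtain ⟨a, ha⟩ := Cfsg.Agent.H296.FFourPar.card_PJ_eq (K := ZMod 2) c0 hc
  have hset : ({i | i ∈ J} : Set (Fin 4)) = JJ m := by
    ext i
    exact hJ i
  have hT : Nat.card (T0 : Subgroup LL) = 1 := by rw [T0_eq, Subgroup.card_bot]
  rw [hset] at ha
  refine ⟨a, ?_⟩
  have h1 : Nat.card (PJ c0 h0 T0 X0 (JJ m)) = 2 ^ a * s := by
    rw [← hs]
    refine ha.trans ?_
    rw [Nat.card_zmod]
    show 2 ^ a * Nat.card (T0 : Subgroup LL) * _ = _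
    rw [hT, mul_one]
  rw [← h1]
  exact Subgroup.card_dvd_of_le (LM_le_PJ m)

theorem op0 : OddPart 0 1 := oddPart_of (J := []) (L := [[]]) (by decide) (by decide +kernel) (by decide +kernel)
theorem op1 : OddPart 1 3 := oddPart_of (J := [0]) (L := [[], [0]]) (by decide) (by decide +kernel) (by decide +kernel)
theorem op2 : OddPart 2 3 := oddPart_of (J := [1]) (L := [[], [1]]) (by decide) (by decide +kernel) (by decide +kernel)
theorem op4 : OddPart 4 3 := oddPart_of (J := [2]) (L := [[], [2]]) (by decide) (by decide +kernel) (by decide +kernel)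
theorem op8 : OddPart 8 3 := oddPart_of (J := [3]) (L := [[], [3]]) (by decide) (by decide +kernel) (by decide +kernel)
theorem op5 : OddPart 5 9 := oddPart_of (J := [0, 2]) (L := [[], [0], [2], [0, 2]]) (by decide) (by decide +kernel)
  (by decide +kernel)
theorem op9 : OddPart 9 9 := oddPart_of (J := [0, 3]) (L := [[], [0], [3], [0, 3]]) (by decide) (by decide +kernel)
  (by decide +kernel)
theorem op10 : OddPart 10 9 := oddPart_of (J := [1, 3]) (L := [[], [1], [3], [1, 3]]) (by decide) (by decide +kernel)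
  (by decide +kernel)
theorem op3 : OddPart 3 21 := oddPart_of (J := [0, 1]) (L := [[], [0], [1], [1, 0], [0, 1], [0, 1, 0]]) (by decide)
  (by decide +kernel) (by decide +kernel)
theorem op12 : OddPart 12 21 := oddPart_of (J := [2, 3]) (L := [[], [2], [3], [3, 2], [2, 3], [2, 3, 2]]) (by decide)
  (by decide +kernel) (by decide +kernel)
theorem op6 : OddPart 6 45 := oddPart_of (J := [1, 2])
  (L := [[], [1], [2], [1, 2], [2, 1], [1, 2, 1], [2, 1, 2], [1, 2, 1, 2]]) (by decide) (by decide +kernel)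
  (by decide +kernel)
theorem op7 : OddPart 7 2835 := oddPart_of (by decide) chkLC sumLC
theorem op14 : OddPart 14 2835 := oddPart_of (by decide) chkLB sumLB
theorem op11 : OddPart 11 63 := oddPart_of (by decide) chkLD sumLD
theorem op13 : OddPart 13 63 := oddPart_of (by decide) chkLE sumLE

theorem dvd_of_odd {c a s : ℕ} (h : c ∣ 2 ^ a * s) (h2 : ¬ 2 ∣ c) : c ∣ s := by
  refine Nat.Coprime.dvd_of_dvd_mul_left ?_ h
  exact Nat.Coprime.pow_right _ ((Nat.Prime.coprime_iff_not_dvd Nat.prime_two).2 h2).symm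

/-- conjugacy into a subgroup with the right order -/
theorem conj_in {m s : ℕ} (hop : OddPart m s) {r : ℕ} (hr : r.Prime) (hr2 : r ≠ 2) {Q : Subgroup LL} (hQL : Q ≤ LM m)
    {b : ℕ} (hQ : Nat.card Q = r ^ b) (hs : ¬ r ^ (b + 1) ∣ s) {y : LL} (hy : y ∈ LM m) {k : ℕ} (hyk : y ^ r ^ k = 1) :
    ∃ g ∈ LM m, g * y * g⁻¹ ∈ Q := by
  have hF : Fact r.Prime := ⟨hr⟩
  obtain ⟨a, ha⟩ := hop
  refine exists_conj_in hQL hQ ha (fun h => hs ?_) hy hyk
  refine Nat.Coprime.dvd_of_dvd_mul_left ?_ h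
  exact Nat.Coprime.pow _ _ ((Nat.coprime_primes hr Nat.prime_two).2 hr2)

/-- the order of the part of the centralizer in the Levi subgroup -/
theorem cent_dvd {m s : ℕ} (hop : OddPart m s) {y : LL} (hell : Ell c0 h0 T0 X0 (JJ m) y) (hy : y ∈ LM m) :
    Nat.card (Cx y ⊓ LM m : Subgroup LL) ∣ s := by
  obtain ⟨a, ha⟩ := hop
  exact dvd_of_odd ((Subgroup.card_dvd_of_le inf_le_right).trans ha) (not_dvd rg bt GG_top hell hy)

/-- not elliptic, if in a smaller Levi subgroup -/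
theorem not_ell {m m' : ℕ} (hsub : ∀ i : Fin 4, Nat.testBit m' i = true → Nat.testBit m i = true)
    (hne : ∃ i : Fin 4, Nat.testBit m i = true ∧ Nat.testBit m' i ≠ true) {y : LL}
    (hell : Ell c0 h0 T0 X0 (JJ m) y) {g : LL} (hg : g * y * g⁻¹ ∈ LM m') : False := by
  have h1 := hell (JJ m') (fun i hi => hsub i hi) g⁻¹ (by
    rw [mem_cj]
    have : g⁻¹⁻¹ * y * g⁻¹ = g * y * g⁻¹ := by rw [inv_inv]
    rw [this]
    exact LM_le_PJ m' hg)
  obtain ⟨i, hi, hi'⟩ := hne
  have h2 : i ∈ JJ m' := by rw [h1]; exact hi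
  exact hi' h2

theorem comm_false {m : ℕ} {y : LL} (hell : Ell c0 h0 T0 X0 (JJ m) y) (hy : y ∈ LM m) {u : LL} (hu : u ∈ LM m)
    (hu2 : u ^ 2 = 1) (hu1 : u ≠ 1) (hyu : y * u = u * y) : False :=
  hu1 (eq_one_of_comm rg bt GG_top hell hy hu hu2 hyu)

/-! ### Words -/

theorem wmul {a b c d : List ℕ} (h : chk (a ++ b) (c ++ d) = true) : wd a * wd b = wd c * wd d := by
  rw [← wd_append, ← wd_append]; exact wd_eq _ _ h

theorem wcomm {a b : List ℕ} (h : chk (a ++ b) (b ++ a) = true) : wd a * wd b = wd b * wd a := wmul h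

theorem wpow2 {a : List ℕ} (h : chk (a ++ a) [] = true) : wd a ^ 2 = 1 := by
  rw [pow_two, ← wd_append]; exact wd_eq _ _ h

theorem wpow3 {a : List ℕ} (h : chk (a ++ (a ++ a)) [] = true) : wd a ^ 3 = 1 := by
  rw [pow_succ', pow_two, ← wd_append, ← wd_append]; exact wd_eq _ _ h

/-- the element of order three of the root `r` -/
abbrev sg (r : ℕ) : LL := wd [47 - r, r]

theorem sg_eq (r : ℕ) : sg r = x (47 - r) * x r := by simp [wd]

theorem xs_ne {r : ℕ} (hr : r < 48) (h3 : sg r ^ 3 = 1) : wd [r] * sg r ≠ sg r * wd [r] := by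
  intro h
  rw [wd_one, sg_eq, mul_assoc (x (47 - r)), x_mul_self, mul_one] at h
  -- `x * (x' * x) = x'`
  have h1 : x r * x (47 - r) = x (47 - r) * x r := by
    have := congrArg (· * x r) h
    simpa only [mul_assoc, x_mul_self, mul_one] using this
  have h2 : sg r ^ 2 = 1 := by
    rw [sg_eq, pow_two]
    calc x (47 - r) * x r * (x (47 - r) * x r) = x (47 - r) * (x r * x (47 - r)) * x r := by group
      _ = x (47 - r) * (x (47 - r) * x r) * x r := by rw [h1]
      _ = (x (47 - r) * x (47 - r)) * (x r * x r) := by group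
      _ = 1 := by rw [x_mul_self, x_mul_self, mul_one]
  have h4 : sg r = 1 := by
    have : sg r ^ 3 = sg r ^ 2 * sg r := pow_succ _ _
    rw [h3, h2, one_mul] at this
    exact this.symm
  rw [sg_eq] at h4
  have h5 : x (47 - r) = x r := by
    rw [mul_eq_one_iff_eq_inv, x_inv] at h4; exact h4
  have h6 := Cfsg.Agent.FourTwo.BN.x_inj (by omega) hr h5
  omega

/-- the nodes -/
theorem sg_ne_one {r : ℕ} (hr : r < 48) (h3 : sg r ^ 3 = 1) : sg r ≠ 1 := by
  intro h
  exact xs_ne hr h3 (by rw [h, mul_one, one_mul])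

end Cfsg.Agent.H874.TS
end

private theorem dce_15ee4dea86ca : _root_.True := by
  try have : _root_.True := by simp only [_root_.Cfsg.Agent.H874.TS.rayB.eq_1]
  try have : _root_.True := by simp only [_root_.Cfsg.Agent.H874.TS.cw.eq_1]
  try have : _root_.True := by simp only [_root_.Cfsg.Agent.H874.TS.cw.eq_def]
  try have : _root_.True := by simp only [_root_.Cfsg.Agent.H874.TS.cw.eq_2]
  try have : _root_.True := by simp only [_root_.Cfsg.Agent.H874.TS.subs.eq_def]
  try have : _root_.True := by simp only [_root_.Cfsg.Agent.H874.TS.notB.eq_1]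
  try have : _root_.True := by simp only [_root_.Cfsg.Agent.H874.TS.we.eq_1]
  try have : _root_.True := by simp only [_root_.Cfsg.Agent.H874.TS.tup.eq_1]
  try have : _root_.True := by simp only [_root_.Cfsg.Agent.H874.TS.PR.eq_1]
  try have : _root_.True := by simp only [_root_.Cfsg.Agent.H874.TS.JJ.eq_1]
  try have : _root_.True := by simp only [_root_.Cfsg.Agent.H874.TS.okP.eq_1]
  try have : _root_.True := by simp only [_root_.Cfsg.Agent.H874.TS.LM.eq_1]
  try have : _root_.True := by simp only [_root_.Cfsg.Agent.H874.TS.rtB.eq_1]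
  try have : _root_.True := by simp only [_root_.Cfsg.Agent.H874.TS.ok1.eq_1]
  try have : _root_.True := by simp only [_root_.Cfsg.Agent.H874.TS.oc.eq_1]
  try have : _root_.True := by simp only [_root_.Cfsg.Agent.H874.TS.okw.eq_def]
  try have : _root_.True := by simp only [_root_.Cfsg.Agent.H874.TS.num.eq_1]
  try have : _root_.True := by simp only [_root_.Cfsg.Agent.H874.TS.lin.eq_1]
  try have : _root_.True := by simp only [_root_.Cfsg.Agent.H874.TS.posB.eq_1]
  try have : _root_.True := by simp only [_root_.Cfsg.Agent.H874.TS.okw.eq_2]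
  try have : _root_.True := by simp only [_root_.Cfsg.Agent.H874.TS.subs.eq_1]
  try have : _root_.True := by simp only [_root_.Cfsg.Agent.H874.TS.okw.eq_1]
  try have : _root_.True := by simp only [_root_.Cfsg.Agent.H874.TS.chkR.eq_1]
  try have : _root_.True := by simp only [_root_.Cfsg.Agent.H874.TS.subs.eq_2]
  exact _root_.True.intro
end

-- part: H203/EPX/Defs_mg
section
set_option linter.all false
open scoped Cfsg.Agent.FastGrp

-- part: H203/EPX/Defs
section
/-!
# S5745, the row `(²E₆(2), Fi₂₂)`: the interface of the `²E₆(2)`-side (helper203)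
-/

set_option autoImplicit false

open scoped commutatorElement

namespace Cfsg.Agent.H203.EPX

/-- The facts about a long root involution `r` of `G = ²E₆(2)`: `C_G(r) = Q : U₆(2)`, `Q = 2^(1+20)`, `u ∈ Q`. -/
structure GSide {G : Type*} [Group G] (r : G) (Q : Subgroup G) (u : G) : Prop where
  rr : r * r = 1
  r1 : r ≠ 1
  rQ : r ∈ Q
  le : Q ≤ Subgroup.centralizer {r}
  nor : ∀ x ∈ Subgroup.centralizer ({r} : Set G), ∀ v ∈ Q, x * v * x⁻¹ ∈ Q
  two : IsPGroup 2 Q
  com : ∀ v ∈ Q, ∀ w ∈ Q, ⁅v, w⁆ ∈ Subgroup.zpowers r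
  surj : ∀ v ∈ Q, v ∉ Subgroup.zpowers r → ∃ w ∈ Q, ⁅v, w⁆ = r
  /-- `9196830720 = |U₆(2)|` -/
  card : Nat.card (Subgroup.centralizer ({r} : Set G)) = Nat.card Q * 9196830720
  /-- `C_{Q/⟨r⟩}(C_G(r)) = 1` -/
  fix : ∀ v ∈ Q, (∀ x ∈ Subgroup.centralizer ({r} : Set G), ⁅x, v⁆ ∈ Subgroup.zpowers r) → v ∈ Subgroup.zpowers r
  uQ : u ∈ Q
  u1 : u ∉ Subgroup.zpowers r
  /-- a conjugate of `r` commuting with `r`, not in `Q`, does not fix `u⟨r⟩` -/
  tr : ∀ g : G, g * r * g⁻¹ * r = r * (g * r * g⁻¹) → g * r * g⁻¹ ∉ Q → ⁅g * r * g⁻¹, u⁆ ∉ Subgroup.zpowers r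
  seven : ∃ x ∈ Subgroup.centralizer ({r} : Set G), orderOf x = 7 ∧ x * u = u * x
  five : ∃ x ∈ Subgroup.centralizer ({r} : Set G), orderOf x = 5 ∧ x * u = u * x
  /-- opposite root involutions -/
  opp : ∀ g : G, orderOf (g * r * g⁻¹ * r) = 3 → ∀ v ∈ Q, v * (g * r * g⁻¹) = g * r * g⁻¹ * v → v = 1
  /-- Borel–Tits -/
  bt : ∀ d : G, orderOf d = 2 → 11 ∣ Nat.card (Subgroup.centralizer ({d} : Set G)) →
    ∃ g : G, Subgroup.centralizer ({d} : Set G) ≤ Subgroup.centralizer {g * r * g⁻¹}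

end Cfsg.Agent.H203.EPX
end

-- part: H891/EPF/YData
section
/-!
# S5745, `²E₆(2)` and `Fi₂₂`: elements of order 5 and 7 commuting with `x_46(1) x_70(1)` and `x_71(1)` (helper891)

`exists_y` : `y5`, `y7` in the subgroup `L₃(4)` generated by the root groups of the short simple roots.
-/

set_option autoImplicit false
set_option linter.unusedSectionVars false

namespace Cfsg.Agent.H891.TE6.Eng

open Cfsg Cfsg.Lie

def l15 : Ltr := ⟨15, 0, 0,
  [(4, 42), (124, 0), (44, 22), (46, 24), (48, 26), (50, 28), (52, 30), (54, 32), (64, 34), (66, 36), (68, 38), (70,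
  40), (126, 96), (128, 98), (130, 100), (132, 102), (134, 112), (136, 114), (138, 116), (140, 118), (142, 120),
  (144, 122)],
  [(124, 42)]⟩
theorem l15_eq : mkL chevE6 15 0 = l15 := by decide +kernel

def l35 : Ltr := ⟨35, 0, 0,
  [(8, 82), (84, 10), (20, 18), (26, 24), (30, 28), (36, 34), (48, 46), (52, 50), (58, 56), (66, 64), (74, 72), (80,
  78), (88, 86), (94, 92), (102, 100), (110, 108), (116, 114), (120, 118), (132, 130), (138, 136), (142, 140), (148,
  146)],
  [(84, 82)]⟩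
theorem l35_eq : mkL chevE6 35 0 = l35 := by decide +kernel

def l15w1 : Ltr := ⟨15, 1, 2,
  [(4, 42), (124, 0), (44, 22), (46, 24), (48, 26), (50, 28), (52, 30), (54, 32), (64, 34), (66, 36), (68, 38), (70,
  40), (126, 96), (128, 98), (130, 100), (132, 102), (134, 112), (136, 114), (138, 116), (140, 118), (142, 120),
  (144, 122)],
  [(124, 42)]⟩
theorem l15w1_eq : mkL chevE6 15 1 = l15w1 := by decide +kernel

def l35w2 : Ltr := ⟨35, 2, 1,
  [(8, 82), (84, 10), (20, 18), (26, 24), (30, 28), (36, 34), (48, 46), (52, 50), (58, 56), (66, 64), (74, 72), (80,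
  78), (88, 86), (94, 92), (102, 100), (110, 108), (116, 114), (120, 118), (132, 130), (138, 136), (142, 140), (148,
  146)],
  [(84, 82)]⟩
theorem l35w2_eq : mkL chevE6 35 2 = l35w2 := by decide +kernel

def l29 : Ltr := ⟨29, 0, 0,
  [(0, 70), (6, 70), (96, 4), (22, 16), (24, 18), (26, 20), (42, 40), (56, 50), (58, 52), (60, 54), (72, 64), (74,
  66), (76, 68), (98, 90), (100, 92), (102, 94), (112, 106), (114, 108), (116, 110), (126, 124), (146, 140), (148,
  142), (150, 144)],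
  [(96, 70)]⟩
theorem l29_eq : mkL chevE6 29 0 = l29 := by decide +kernel

def l34 : Ltr := ⟨34, 0, 0,
  [(6, 80), (10, 80), (86, 8), (18, 16), (24, 22), (32, 30), (38, 36), (46, 44), (54, 52), (60, 58), (68, 66), (76,
  74), (82, 78), (88, 84), (92, 90), (100, 98), (108, 106), (114, 112), (122, 120), (130, 128), (136, 134), (144,
  142), (150, 148)],
  [(86, 80)]⟩
theorem l34_eq : mkL chevE6 34 0 = l34 := by decide +kernel

def l70 : Ltr := ⟨70, 0, 0,
  [(2, 152), (6, 152), (14, 0), (14, 2), (14, 6), (14, 10), (12, 62), (16, 90), (18, 92), (20, 94), (22, 98), (24,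
  100), (26, 102), (34, 118), (36, 120), (38, 122), (44, 128), (46, 130), (48, 132), (64, 140), (66, 142), (68,
  144), (72, 146), (74, 148), (76, 150), (104, 154)],
  [(14, 152)]⟩
theorem l70_eq : mkL chevE6 70 0 = l70 := by decide +kernel


/-- `y5`, `y7`, `u` -/
def wY5 : List (ℕ × ℕ) := [(56, 0), (36, 0)] ++ [(15, 1), (35, 2)]
def wY7 : List (ℕ × ℕ) := [(42, 0), (37, 0)] ++ ([(56, 0), (36, 0)] ++ ([(15, 0), (35, 0)] ++ [(29, 0), (34, 0)]))
def wU : List (ℕ × ℕ) := [(46, 0)] ++ [(70, 0)]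
def lY5 : List Ltr := [l56, l36, l15w1, l35w2]
def lY7 : List Ltr := [l42, l37, l56, l36, l15, l35, l29, l34]
def lU : List Ltr := [l46, l70]

theorem acts_Y5 : Acts chevE6 wY5 (run M78 lY5) :=
  Acts.of_ltrs msk78 (by decide +kernel)
    (by simp only [wY5, lY5, ltrs, List.cons_append, List.nil_append, List.map_cons, List.map_nil, l56_eq, l36_eq,
      l15w1_eq, l35w2_eq])

theorem acts_Y7 : Acts chevE6 wY7 (run M78 lY7) :=
  Acts.of_ltrs msk78 (by decide +kernel)
    (by simp only [wY7, lY7, ltrs, List.cons_append, List.nil_append, List.map_cons, List.map_nil, l56_eq, l36_eq,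
      l15_eq, l35_eq, l42_eq, l37_eq, l29_eq, l34_eq])

theorem acts_U : Acts chevE6 wU (run M78 lU) :=
  Acts.of_ltrs msk78 (by decide +kernel)
    (by simp only [wU, lU, ltrs, List.cons_append, List.nil_append, List.map_cons, List.map_nil, l46_eq, l70_eq])

theorem acts_R : Acts chevE6 [(71, 0)] (run M78 [l71]) :=
  Acts.of_ltrs msk78 (by decide +kernel) (by simp only [ltrs, List.map_cons, List.map_nil, l71_eq])

/-! ### a faster evaluation: the moves with the same shift are done together -/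

private def mvGY (S : ℕ) (g : List (ℕ × ℕ)) : ℕ :=
  List.rec 0 (fun p _ ih => Nat.xor (Nat.land (Nat.shiftRight S p.1) p.2) ih) g

private def insY (e m : ℕ) : List (ℕ × ℕ) → List (ℕ × ℕ)
  | [] => [(e, m)]
  | p :: g => if p.1 = e then (e, m ^^^ p.2) :: g else p :: insY e m g

private def grpY : List (ℕ × ℕ) → List (ℕ × ℕ)
  | [] => []
  | p :: l => insY (160 + p.2 - p.1) (3 <<< p.1) (grpY l)

private theorem mvGY_ins (S e m : ℕ) (g : List (ℕ × ℕ)) : mvGY S (insY e m g) = ((S >>> e) &&& m) ^^^ mvGY S g := by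
  induction g with
  | nil => rfl
  | cons p g ih =>
    rw [insY]
    split_ifs with h
    · show ((S >>> e) &&& (m ^^^ p.2)) ^^^ mvGY S g = ((S >>> e) &&& m) ^^^ (((S >>> p.1) &&& p.2) ^^^ mvGY S g)
      rw [h, Nat.and_xor_distrib_left, Nat.xor_assoc]
    · show ((S >>> p.1) &&& p.2) ^^^ mvGY S (insY e m g) = ((S >>> e) &&& m) ^^^ (((S >>> p.1) &&& p.2) ^^^ mvGY S g)
      rw [ih, ← Nat.xor_assoc, Nat.xor_comm ((S >>> p.1) &&& p.2), Nat.xor_assoc]

private theorem mvGY_grp (S : ℕ) (l : List (ℕ × ℕ)) (h : ∀ p ∈ l, p.1 ≤ 160) : mvGY S (grpY l) = mv (S >>> 160) l := by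
  induction l with
  | nil => rfl
  | cons p l ih =>
    have h1 := h p List.mem_cons_self
    rw [grpY, mvGY_ins, ih fun q hq => h q (List.mem_cons_of_mem _ hq)]
    show _ ^^^ _ = ((S >>> 160 >>> p.2) &&& 3) <<< p.1 ^^^ _
    congr 1
    refine Nat.eq_of_testBit_eq fun i => ?_
    simp only [Nat.testBit_and, Nat.testBit_shiftLeft, Nat.testBit_shiftRight]
    by_cases hi : p.1 ≤ i
    · rw [show 160 + p.2 - p.1 + i = 160 + (p.2 + (i - p.1)) by omega, decide_eq_true (show i ≥ p.1 from hi)]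
      simp
    · rw [decide_eq_false (show ¬ i ≥ p.1 from hi)]
      simp

private def mulGY (t x : ℕ) : ℕ := Nat.rec x (fun _ y =>
  Nat.xor (Nat.land (Nat.shiftRight y 1) M78) (Nat.shiftLeft (Nat.xor (Nat.land y M78) (Nat.land (Nat.shiftRight y 1) M78)) 1)) t

private theorem mulGY_eq (t x : ℕ) : mulGY t x = mulp M78 t x := by
  induction t with
  | zero => rfl
  | succ t ih =>
    show _ = force (mulp M78 t x) fun s => force (Nat.land s M78) fun a => force (Nat.land (Nat.shiftRight s 1) M78) fun b =>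
      Nat.xor b (Nat.shiftLeft (Nat.xor a b) 1)
    rw [force_eq, force_eq, force_eq, ← ih]
    rfl

/-- the low bits of the state are not used: they keep the hash codes of the numbers apart -/
private def runSY (w : List Ltr) : ℕ → ℕ :=
  List.rec (fun S => Nat.shiftRight S 160) (fun a _ ih S => force (Nat.xor (Nat.xor S (Nat.mod S 4294967291))
    (Nat.shiftLeft (Nat.xor (mulGY a.t (mvGY S a.l1)) (mulGY a.t2 (mvGY S a.l2))) 160)) ih) w

private def runGY (w : List Ltr) (s : ℕ) : ℕ := force (Nat.xor (Nat.shiftLeft s 160) (Nat.mod s 4294967291)) (runSY w)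

private theorem mod_shiftY (S : ℕ) : (S % 4294967291) >>> 160 = 0 :=
  Nat.shiftRight_eq_zero _ _ ((Nat.mod_lt _ (by decide)).trans (by decide))

private def okGY : List Ltr → List Ltr → Bool
  | a :: w, b :: v => (decide (b.t = a.t ∧ b.t2 = a.t2 ∧ b.l1 = grpY a.l1 ∧ b.l2 = grpY a.l2) &&
      decide ((∀ p ∈ a.l1, p.1 ≤ 160) ∧ ∀ p ∈ a.l2, p.1 ≤ 160)) && okGY w v
  | [], [] => true
  | _, _ => false

private theorem runSY_eq : ∀ {w v : List Ltr}, okGY w v = true → ∀ S, runSY v S = run M78 w (S >>> 160)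
  | [], [], _, _ => rfl
  | a :: w, b :: v, h, S => by
    simp only [okGY, Bool.and_eq_true, decide_eq_true_eq] at h
    obtain ⟨⟨⟨h1, h2, h3, h4⟩, h5, h6⟩, h7⟩ := h
    show force ((S ^^^ S % 4294967291) ^^^ (mulGY b.t (mvGY S b.l1) ^^^ mulGY b.t2 (mvGY S b.l2)) <<< 160) (runSY v) =
      force (step M78 a (S >>> 160)) (run M78 w)
    rw [force_eq, force_eq, runSY_eq h7, Nat.shiftRight_xor_distrib, Nat.shiftRight_xor_distrib, mod_shiftY, Nat.xor_zero,
      Nat.shiftLeft_shiftRight, h1, h2, h3, h4, mvGY_grp S _ h5, mvGY_grp S _ h6, mulGY_eq, mulGY_eq]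
    rfl
  | [], _ :: _, h, _ => absurd h Bool.false_ne_true
  | _ :: _, [], h, _ => absurd h Bool.false_ne_true

private theorem runGY_eq {w v : List Ltr} (h : okGY w v = true) : run M78 w = runGY v := funext fun s => by
  show _ = force (s <<< 160 ^^^ s % 4294967291) (runSY v)
  rw [force_eq, runSY_eq h, Nat.shiftRight_xor_distrib, mod_shiftY, Nat.xor_zero, Nat.shiftLeft_shiftRight]

private def y56 : Ltr := ⟨56, 0, 0,
  [(182, 0xfff00000000000000000003ffc00000), (190, 0xff00000000000003fc00000000), (118, 0xc0000000000), (280, 0x30)],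
  [(242, 0xc0000000000)]⟩
private def y36 : Ltr := ⟨36, 0, 0,
  [(162, 0xc330c00cc303030c0c303030cc00c330c0000), (88, 0xc00000000000000000000), (236, 0x300)],
  [(162, 0xc00000000000000000000)]⟩
private def y15w1 : Ltr := ⟨15, 1, 2,
  [(138, 0x3ffc0000000000000000000fff00000000000), (130, 0x3fc0000000000000ff0000000000000000), (36, 0x30000000000000000000000000000000), (198, 0x30)],
  [(78, 0x30000000000000000000000000000000)]⟩
private def y35w2 : Ltr := ⟨35, 2, 1,
  [(158, 0x30cc300330c0c0c3030c0c0c330030cc300000), (86, 0x3000000000000000000000), (234, 0x300)],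
  [(158, 0x3000000000000000000000)]⟩
private def y42 : Ltr := ⟨42, 0, 0,
  [(166, 0x3f0000000fc000000000000fc0000003f0000), (162, 0x30000000000000000000030000000000), (168, 0xfc00003f0000000000000000), (94, 0xc00000000000000000), (250, 0xc0), (256, 0x3)],
  [(186, 0xc00000000000000000)]⟩
private def y37 : Ltr := ⟨37, 0, 0,
  [(162, 0x30c0c303030c0c0c000c0c0c303030c0c30000), (164, 0x30c0000000000000000000), (88, 0x300000000000000000000), (236, 0xc00), (240, 0xc0)],
  [(166, 0x300000000000000000000)]⟩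
private def y15 : Ltr := ⟨15, 0, 0,
  [(138, 0x3ffc0000000000000000000fff00000000000), (130, 0x3fc0000000000000ff0000000000000000), (36, 0x30000000000000000000000000000000), (198, 0x30)],
  [(78, 0x30000000000000000000000000000000)]⟩
private def y35 : Ltr := ⟨35, 0, 0,
  [(158, 0x30cc300330c0c0c3030c0c0c330030cc300000), (86, 0x3000000000000000000000), (234, 0x300)],
  [(158, 0x3000000000000000000000)]⟩
private def y29 : Ltr := ⟨29, 0, 0,
  [(154, 0xfc0000003f0000000000003f0000000fc00000), (158, 0xc00000000000000000000c0000000000), (152, 0xfc00003f000000000000000000), (68, 0x3000000000000000000000000), (224, 0xc0), (230, 0x3)],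
  [(134, 0x3000000000000000000000000)]⟩
private def y34 : Ltr := ⟨34, 0, 0,
  [(158, 0xc3030c0c0c30303000303030c0c0c3030c0000), (156, 0x30c00000000000000000000), (82, 0xc000000000000000000000), (230, 0xc00), (234, 0xc0)],
  [(154, 0xc000000000000000000000)]⟩
private def y46 : Ltr := ⟨46, 0, 0,
  [(162, 0x300000000000000000000000000000000003000), (166, 0x3f000000000000000000000003f0000000), (174, 0xfc0000000000fc000000000000), (176, 0xfc0000003f00000000000000), (100, 0xc000000000000000), (258, 0xc0)],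
  [(202, 0xc000000000000000)]⟩
private def y70 : Ltr := ⟨70, 0, 0,
  [(210, 0x300000000000000000000003000), (234, 0x3f0000000000003f0000), (236, 0x3f000000000fc00000), (244, 0x3f0fc00000000), (156, 0xc000), (152, 0xc000), (148, 0xc000), (146, 0xc000), (306, 0xc0), (310, 0xc)],
  [(298, 0xc000)]⟩
private def y71 : Ltr := ⟨71, 0, 0,
  [(250, 0xfffff003ffffc000), (158, 0x3000), (154, 0x3000), (148, 0x3000), (312, 0xc)],
  [(302, 0x3000)]⟩

private theorem rY5 : run M78 lY5 = runGY [y56, y36, y15w1, y35w2] := runGY_eq (by decide +kernel)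

private theorem rY7 : run M78 lY7 = runGY [y42, y37, y56, y36, y15, y35, y29, y34] := runGY_eq (by decide +kernel)

private theorem rYU : run M78 lU = runGY [y46, y70] := runGY_eq (by decide +kernel)

private theorem rYR : run M78 [l71] = runGY [y71] := runGY_eq (by decide +kernel)

theorem y5_pow : chkEq chevE6 (itf (run M78 lY5) 5) (fun s => s) = true := by
  rw [rY5]; decide +kernel
theorem y7_pow : chkEq chevE6 (itf (run M78 lY7) 7) (fun s => s) = true := by
  rw [rY7]; decide +kernel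
theorem y5_u : chkEq chevE6 (fun s => force (run M78 lY5 s) (run M78 lU)) (fun s => force (run M78 lU s) (run M78 lY5)) =
    true := by
  rw [rY5, rYU]; decide +kernel
theorem y7_u : chkEq chevE6 (fun s => force (run M78 lY7 s) (run M78 lU)) (fun s => force (run M78 lU s) (run M78 lY7)) =
    true := by
  rw [rY7, rYU]; decide +kernel
theorem y5_r : chkEq chevE6 (fun s => force (run M78 lY5 s) (run M78 [l71]))
    (fun s => force (run M78 [l71] s) (run M78 lY5)) = true := by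
  rw [rY5, rYR]; decide +kernel
theorem y7_r : chkEq chevE6 (fun s => force (run M78 lY7 s) (run M78 [l71]))
    (fun s => force (run M78 [l71] s) (run M78 lY7)) = true := by
  rw [rY7, rYR]; decide +kernel

end Cfsg.Agent.H891.TE6.Eng
end

-- part: H891/EPF/Y
section
/-!
# S5745, `²E₆(2)` and `Fi₂₂`: elements of order 5 and 7 (helper891)

`exists_y` : for `p = 5, 7` there is an element of order `p` commuting with `x_71(1)` and with `x_46(1) x_70(1)`.
-/

set_option autoImplicit false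
set_option linter.unusedSectionVars false

namespace Cfsg.Agent.H891.EPF

open Cfsg.Agent.Nodes.RGDTwGen Cfsg.Agent.Nodes.RGDChev Cfsg.Agent.Nodes.RGDFold
open Cfsg.Lie Cfsg.Agent.ChevalleyStructure Cfsg.Agent.ChevalleyStructure.Elts
open Cfsg.Agent.ChevalleyStructure.TwE6Basic (sg hE6)
open Cfsg.Agent.Nodes.RGDTwE6 Cfsg.Agent.KFacts.TwESix.Comb Cfsg.Agent.H891.TE6.Eng Cfsg.Agent.H891.TE6
open Cfsg.Agent.TwoESix.LeviA (Four)
open Cfsg.Agent.TwoESix.FlagH (xe)

universe u

attribute [local instance high] _root_.List.decidableBAll in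
set_option maxRecDepth 20000 in
theorem shoY : ∀ p ∈ ([(42, 37), (56, 36), (15, 35), (29, 34)] : List (Fin 72 × Fin 72)),
    TwE6Basic.rho p.1 = p.2 := by decide +kernel

variable {K : Type u} [Field K] [Fintype K] {φ : K →+* K} {ω : K}

section

variable [CharP K 2]

theorem wdG_ne (hω : ω ^ 2 + ω + 1 = 0) {w w' : List (ℕ × ℕ)} {f f' : ℕ → ℕ} (h : Acts chevE6 w f)
    (h' : Acts chevE6 w' f') {k : ℕ} (hk : k < 78) (hc : neqAt (f 1) (f' 1) k = true) :
    wdG ω hE6 w ≠ wdG ω hE6 w' := by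
  intro e
  have h1 := vecMul_acts hE6 hω h 1
  have h2 := vecMul_acts hE6 hω h' 1
  rw [e, h2] at h1
  obtain ⟨a, ha⟩ := Th.E8Recipe.exists_code (D := chevE6) (k := k) (lt_of_lt_of_eq hk (by decide +kernel))
  have h3 := congrFun h1 a
  rw [ha] at h3
  exact val_ne hω hc h3.symm

theorem mem_of_root (hφ : ∀ x, φ x = x ^ 2) (hqq : ∀ t : K, (t ^ 2) ^ 2 = t) {z : Fin 4 → ℤ} (hz : z ∈ rts)
    {g : GL chevE6.Idx K} (hg : g ∈ R chevE6 hp K J (sg φ) z) : g ∈ twistedE6 K 2 := by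
  have : Fact (Nat.Prime 2) := ⟨Nat.prime_two⟩
  exact R_le CoxeterMatrix.F₄.toCoxeterSystem isCartan foldData (foldGrp hφ hqq) 2 ((mem_rts _).2 hz) hg

theorem pow_omega (hω : ω ^ 2 + ω + 1 = 0) (i : ℕ) : ω ^ (2 * i % 3) = (ω ^ i) ^ 2 := by
  rw [← pow_mul, mul_comm i 2]
  conv_rhs => rw [← Nat.mod_add_div (2 * i) 3, pow_add, pow_mul, pow_three hω, one_pow, mul_one]

variable (hφ : ∀ x, φ x = x ^ 2) (hqq : ∀ t : K, (t ^ 2) ^ 2 = t) (hω : ω ^ 2 + ω + 1 = 0)

include hφ hqq hω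

theorem short_mem (r r' : Fin 72) (hr : TwE6Basic.rho r = r') (i : ℕ) :
    wdG ω hE6 [(r.val, i), (r'.val, 2 * i % 3)] ∈ twistedE6 K 2 := by
  refine mem_of_root hφ hqq (V_mem_rts r.val r.2) ?_
  have h1 := mem_short (K := K) (φ := φ) r (t := ω ^ i) (s := ω ^ (2 * i % 3)) hφ (pow_omega hω i) (by
    rw [pow_omega hω, hqq])
  rw [hr] at h1
  have e : wdG ω hE6 [(r.val, i), (r'.val, 2 * i % 3)] =
      xG hE6 r.val (ω ^ i) * xG hE6 r'.val (ω ^ (2 * i % 3)) := by
    rw [wdG_cons, wdG_cons]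
    show _ * (_ * 1) = _
    rw [mul_one]
  rw [e]
  exact h1

theorem wY5_mem : wdG ω hE6 wY5 ∈ twistedE6 K 2 := by
  unfold wY5
  rw [wdG_append]
  exact mul_mem (short_mem hφ hqq hω 56 36 (shoY (56, 36) (by simp)) 0)
    (short_mem hφ hqq hω 15 35 (shoY (15, 35) (by simp)) 1)

theorem wY7_mem : wdG ω hE6 wY7 ∈ twistedE6 K 2 := by
  unfold wY7
  rw [wdG_append, wdG_append, wdG_append]
  exact mul_mem (short_mem hφ hqq hω 42 37 (shoY (42, 37) (by simp)) 0)
    (mul_mem (short_mem hφ hqq hω 56 36 (shoY (56, 36) (by simp)) 0)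
    (mul_mem (short_mem hφ hqq hω 15 35 (shoY (15, 35) (by simp)) 0)
      (short_mem hφ hqq hω 29 34 (shoY (29, 34) (by simp)) 0)))

end

/-- the element `x_46(1) x_70(1)` -/
def uu (F : Four K φ) : ↥(twistedE6 K 2) := xe F 46 (by decide +kernel) * xe F 70 (by decide +kernel)

theorem wdG_one (r : ℕ) : wdG ω hE6 [(r, 0)] = xG hE6 r (1 : K) := by
  rw [wdG_cons]
  show _ * 1 = _
  rw [mul_one, pow_zero]

/-- **elements of order 5 and 7 commuting with `r` and `u`** -/
theorem exists_y (F : Four K φ) {p : ℕ} (hp' : p = 5 ∨ p = 7) : ∃ y : ↥(twistedE6 K 2), orderOf y = p ∧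
    y * xe F 71 (by decide +kernel) = xe F 71 (by decide +kernel) * y ∧ y * uu F = uu F * y := by
  have := F.charP
  obtain ⟨ω, hω⟩ := exists_omega (K := K) (by rw [F.card]; norm_num)
  have key : ∀ {w : List (ℕ × ℕ)} {l : List Ltr} {p k : ℕ}, p.Prime → wdG ω hE6 w ∈ twistedE6 K 2 →
      Acts chevE6 w (run M78 l) → chkEq chevE6 (itf (run M78 l) p) (fun s => s) = true →
      chkEq chevE6 (fun s => force (run M78 l s) (run M78 lU)) (fun s => force (run M78 lU s) (run M78 l)) = true →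
      chkEq chevE6 (fun s => force (run M78 l s) (run M78 [l71])) (fun s => force (run M78 [l71] s) (run M78 l)) =
        true → k < 78 → neqAt (run M78 l 1) 1 k = true → ∃ y : ↥(twistedE6 K 2), orderOf y = p ∧
      y * xe F 71 (by decide +kernel) = xe F 71 (by decide +kernel) * y ∧ y * uu F = uu F * y := by
    intro w l p k hpp hm ha h1 h2 h3 hk h4
    have hfact : Fact p.Prime := ⟨hpp⟩
    refine ⟨⟨wdG ω hE6 w, hm⟩, ?_, ?_, ?_⟩
    · refine orderOf_eq_prime (Subtype.ext ?_) (fun h => ?_)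
      · show wdG ω hE6 w ^ p = 1
        rw [← wdG_flatten]
        exact eq_of_chk hE6 hω (ha.iter p) Acts.nil h1
      · exact wdG_ne hω ha Acts.nil hk h4 (congrArg Subtype.val h)
    · refine Subtype.ext ?_
      show wdG ω hE6 w * xG hE6 71 (1 : K) = xG hE6 71 (1 : K) * wdG ω hE6 w
      rw [← wdG_one (ω := ω), ← wdG_append, ← wdG_append]
      exact eq_of_chk hE6 hω (ha.append acts_R) (acts_R.append ha) h3
    · refine Subtype.ext ?_
      show wdG ω hE6 w * (xG hE6 46 (1 : K) * xG hE6 70 (1 : K)) = xG hE6 46 (1 : K) * xG hE6 70 (1 : K) * wdG ω hE6 w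
      have e : xG hE6 46 (1 : K) * xG hE6 70 (1 : K) = wdG ω hE6 wU := by
        unfold wU
        rw [wdG_append, wdG_one, wdG_one]
      rw [e, ← wdG_append, ← wdG_append]
      exact eq_of_chk hE6 hω (ha.append acts_U) (acts_U.append ha) h2
  rcases hp' with rfl | rfl
  · exact key (by norm_num) (wY5_mem F.sq F.sqq hω) acts_Y5 y5_pow y5_u y5_r (k := 2) (by norm_num)
      (by decide +kernel)
  · exact key (by norm_num) (wY7_mem F.sq F.sqq hω) acts_Y7 y7_pow y7_u y7_r (k := 2) (by norm_num)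
      (by decide +kernel)

end Cfsg.Agent.H891.EPF
end

private theorem dce_55bbf96f68ec : _root_.True := by
  try have : _root_.True := by simp only [_root_.Cfsg.Agent.H891.TE6.Eng.wU.eq_1]
  try have : _root_.True := by simp only [_root_.Cfsg.Agent.H891.TE6.Eng.wY7.eq_1]
  try have : _root_.True := by simp only [_root_.Cfsg.Agent.H891.TE6.Eng.ltrs.eq_1]
  try have : _root_.True := by simp only [_root_.Cfsg.Agent.H891.TE6.Eng.wY5.eq_1]
  try have : _root_.True := by simp only [_root_.Cfsg.Agent.H891.TE6.Eng.lY7.eq_1]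
  try have : _root_.True := by simp only [_root_.Cfsg.Agent.H891.TE6.Eng.lY5.eq_1]
  try have : _root_.True := by simp only [_root_.Cfsg.Agent.H891.TE6.Eng.lU.eq_1]
  exact _root_.True.intro
end

-- part: H775/EPF/Defs2_mg
section
prune_inst 0x4100000482212000000000280001c068e00000000280000f8010a40028adb208022a120050009015002a208000400200210044000000000002004000025072990e842003340010c26009f802084000000000000000000000000000000041000200400000
set_option linter.all false
open scoped Cfsg.Agent.FastGrp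

-- part: H775/EPF/Defs
section
/-!
# S5745, row (2E6(2), Fi22): the interface (helper775; paper proof of helper918, tools/plans/S5745_Fi22.md)

* `HSide H N D` : facts on `H` (`N ≤ H`, `D` the 3-transpositions of `N = Fi22`);
* `GSide H N Q D d u x5 x7` : facts on `G` (`d ∈ D` a long root involution, `Q = O_2(C_G(d))`, `u ∈ Q`);
* `H775/EPF/Fi22Abs.lean`: `false_of : EP H → HSide H N D → GSide H N Q D d u x5 x7 → False`.
-/

set_option autoImplicit false

namespace Cfsg.Agent.H775.EPF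

variable {G : Type*} [Group G]

/-- The facts on `H`: `N = Fi22 ≤ H ≤ Aut(Fi22)`, `D` = the class of 3-transpositions. -/
structure HSide (H N : Subgroup G) (D : Set G) : Prop where
  le : N ≤ H
  /-- elements of order 3 of `H` are in `N` (`|H : N| ≤ 2`) -/
  cube : ∀ x ∈ H, x ^ 3 = 1 → x ∈ N
  sub : ∀ a ∈ D, a ∈ N
  conj : ∀ h ∈ H, ∀ a ∈ D, h * a * h⁻¹ ∈ D
  inv : ∀ a ∈ D, orderOf a = 2
  tri : ∀ a ∈ D, ∀ b ∈ D, a * b = b * a ∨ (a * b) ^ 3 = 1
  /-- `|D| = 3510` -/
  card : D.ncard < 3 ^ 12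
  comm : ∀ a ∈ D, ∃ b ∈ D, b ≠ a ∧ b * a = a * b
  /-- `C_N(x) = 7 × S3` for `x` of order 7 -/
  seven : ∀ a ∈ D, ∀ x ∈ N, orderOf x = 7 → x * a = a * x → ∃ b ∈ D, a * b ≠ b * a ∧ x * b = b * x ∧
    ∀ y ∈ N, orderOf y = 2 → x * y = y * x → y = a ∨ y = b ∨ y = a * b * a
  /-- the elements of `D` commuting with `x` of order 5 are the ten transpositions of an `S5` -/
  five : ∀ x ∈ N, orderOf x = 5 → ∀ s ∈ D, ∀ t ∈ D, ∀ w ∈ D, x * s = s * x → x * t = t * x → x * w = w * x →
    s * t ≠ t * s → w ≠ s → w ≠ t → w ≠ s * t * s → w * s = s * w ∨ w * t = t * w ∨ w * (s * t * s) = s * t * s * w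

/-- The facts on `G`: `d` a long root involution in `D`, `Q = O_2(C_G(d))` extraspecial, `u ∈ Q` not fixed modulo `⟨d⟩` by
any `e ∈ D` commuting with `d`, and centralised by elements of order 5 and 7 of `C_N(d)`. -/
structure GSide (H N Q : Subgroup G) (D : Set G) (d u x5 x7 : G) : Prop where
  dD : d ∈ D
  dQ : d ∈ Q
  uQ : u ∈ Q
  uH : u ∉ H
  /-- `d` is central in `Q` -/
  cen : ∀ x ∈ Q, x * d = d * x
  /-- `Q ∩ H = ⟨d⟩` -/
  inf : ∀ x ∈ Q, x ∈ H → x = 1 ∨ x = d
  /-- `C_H(d)` normalises `Q` -/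
  nrm : ∀ e ∈ D, e * d = d * e → ∀ x ∈ Q, e * x * e⁻¹ ∈ Q
  /-- no transvection fixes `u` modulo `⟨d⟩` -/
  no : ∀ e ∈ D, e * d = d * e → e ≠ d → u⁻¹ * e * u ≠ e ∧ u⁻¹ * e * u ≠ e * d
  m5 : x5 ∈ N
  o5 : orderOf x5 = 5
  d5 : x5 * d = d * x5
  u5 : x5 * u = u * x5
  m7 : x7 ∈ N
  o7 : orderOf x7 = 7
  d7 : x7 * d = d * x7
  u7 : x7 * u = u * x7
  /-- `C_Q` of an opposite root involution is trivial -/
  opp : ∀ e ∈ D, e * d ≠ d * e → ∀ v ∈ Q, v * e = e * v → v = 1

end Cfsg.Agent.H775.EPF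
end

-- part: H775/EPF/Defs2
section
/-!
# S5745, row (2E6(2), Fi22): the second half of the facts on `H` (helper775)
-/

set_option autoImplicit false

namespace Cfsg.Agent.H775.EPF

variable {G : Type*} [Group G]

/-- More facts on `N = Fi22`: `C_N(a) = 2.U6(2)` for `a ∈ D`. -/
structure HSide2 (H N : Subgroup G) (D : Set G) : Prop where
  norm : ∀ h ∈ H, ∀ n ∈ N, h * n * h⁻¹ ∈ N
  ne : D.Nonempty
  cl : ∀ a ∈ D, ∀ b ∈ D, ∃ g : G, g * a * g⁻¹ = b
  /-- `2 |U6(2)|` -/
  cardC : ∀ a ∈ D, Nat.card (N ⊓ Subgroup.centralizer {a} : Subgroup G) = 18393661440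
  /-- the proper normal subgroups of `C_N(a) = 2.U6(2)` -/
  quot : ∀ a ∈ D, ∀ J ≤ N ⊓ Subgroup.centralizer {a},
    (∀ c ∈ N ⊓ Subgroup.centralizer {a}, ∀ j ∈ J, c * j * c⁻¹ ∈ J) →
      (∀ j ∈ J, j = 1 ∨ j = a) ∨ J = N ⊓ Subgroup.centralizer {a}

end Cfsg.Agent.H775.EPF
end

-- part: H203/EPX/Bru
section
/-!
# S5745, the row `(²E₆(2), Fi₂₂)`: Bruhat reduction for the transvections (helper203)

`not_stab` : a conjugate `p x_b(1) p⁻¹`, `p ∈ C(r)`, does not fix `u⟨r⟩` if this holds for `99` explicit elements.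
-/

set_option autoImplicit false
set_option linter.unusedSectionVars false
set_option linter.unusedVariables false
set_option maxHeartbeats 400000

namespace Cfsg.Agent.H203.EPX

open CoxeterSystem Cfsg.Agent.ChevalleyStructure.CoxeterGeom Cfsg.Agent.Tits.Roots Cfsg.Agent.Tits.Core
  Cfsg.Agent.Tits.RootComb Cfsg.Agent.Nodes.Comb Cfsg.Agent.Nodes.Reps Cfsg.Agent.Nodes.BNOf
  Cfsg.Agent.Nodes.RGDTwGen Cfsg.Agent.Nodes.RGDChev Cfsg.Agent.Nodes.RGDFold
  Cfsg.Agent.Nodes.RGDFoldSL Cfsg.Agent.Nodes.RGDTwE6 Cfsg.Agent.Nodes.RGDTwTab Cfsg.Agent.Nodes.RGDTwCoordE6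
  Cfsg.Agent.Nodes.RGDTwCoord Cfsg.Agent.Nodes.RGDTwComE6 Cfsg.Agent.Nodes.RGDTwActE6
  Cfsg.Agent.Nodes.RGDLib Cfsg.Agent.Nodes.Bruhat Cfsg.Agent.Nodes.OppDec Cfsg.Agent.Nodes.Unique
open Cfsg.Lie Cfsg.Agent.ChevalleyStructure
open Cfsg.Agent.ChevalleyStructure.TwE6Basic (sg hE6)
open Cfsg.Agent.KFacts.TwESix.Comb (bf rts mem_rts bf_rep rho_root bf_rho pairing_eq bf_add_left bf_smul_left
  bf_neg_left bf_neg_right bf_sub_left)
open Cfsg.Agent.UGT.U2.FOne Cfsg.Agent.UGT.U2.FOne.TwESix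
open Cfsg.Agent.TwoESix.LeviA Cfsg.Agent.TwoESix.LeviB Cfsg.Agent.TwoESix.LeviC Cfsg.Agent.TwoESix.LeviD
  Cfsg.Agent.TwoESix.LongPairs Cfsg.Agent.TwoESix.LongCard Cfsg.Agent.TwoESix.FlagH Cfsg.Agent.TwoESix.SheetA
open Cfsg.Agent.H891.TE6 (one_mem_long long_cases)
open scoped commutatorElement MatrixGroups Pointwise

local notation "ρ" => Cfsg.Agent.KFacts.TwESix.Comb.rho

universe u

/-! ### The stabilizer of `u⟨r⟩` -/

/-- the elements of `C(r)` fixing `u⟨r⟩` -/
def Stb {G : Type*} [Group G] (r u : G) (hr : r * r = 1) (hu : u * r = r * u) : Subgroup G where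
  carrier := {t | t * r = r * t ∧ (t * u * t⁻¹ = u ∨ t * u * t⁻¹ = u * r)}
  one_mem' := ⟨by group, Or.inl (by group)⟩
  mul_mem' := by
    rintro a b ⟨ha, h1⟩ ⟨hb, h2⟩
    refine ⟨by rw [mul_assoc, hb, ← mul_assoc, ha, mul_assoc], ?_⟩
    have e : a * b * u * (a * b)⁻¹ = a * (b * u * b⁻¹) * a⁻¹ := by group
    have e2 : a * (u * r) * a⁻¹ = a * u * a⁻¹ * r := by
      have : a * (u * r) * a⁻¹ = a * u * (r * a⁻¹) := by group
      rw [this]
      have h3 : r * a⁻¹ = a⁻¹ * r := by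
        rw [mul_inv_eq_iff_eq_mul, mul_assoc, ← ha]; group
      rw [h3]; group
    rw [e]
    rcases h2 with h2 | h2
    · rw [h2]; exact h1
    · rw [h2, e2]
      rcases h1 with h1 | h1
      · right; rw [h1]
      · left; rw [h1, mul_assoc, hr, mul_one]
  inv_mem' := by
    rintro a ⟨ha, h1⟩
    have h3 : a⁻¹ * r = r * a⁻¹ := by
      rw [inv_mul_eq_iff_eq_mul, ← mul_assoc, ha, mul_assoc, mul_inv_cancel, mul_one]
    refine ⟨h3, ?_⟩
    rcases h1 with h1 | h1
    · left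
      have : a⁻¹ * u * a⁻¹⁻¹ = a⁻¹ * (a * u * a⁻¹) * a⁻¹⁻¹ := by rw [h1]
      rw [this]; group
    · right
      have h4 : u = a * (u * r) * a⁻¹ := by
        have e2 : a * (u * r) * a⁻¹ = a * u * a⁻¹ * r := by
          have : a * (u * r) * a⁻¹ = a * u * (r * a⁻¹) := by group
          rw [this, ← h3]; group
        rw [e2, h1, mul_assoc, hr, mul_one]
      calc a⁻¹ * u * a⁻¹⁻¹ = a⁻¹ * (a * (u * r) * a⁻¹) * a⁻¹⁻¹ := by rw [← h4]
        _ = u * r := by group

theorem mem_Stb_of_comm {G : Type*} [Group G] {r u : G} {hr : r * r = 1} {hu : u * r = r * u} {t : G}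
    (h1 : t * r = r * t) (h2 : t * u = u * t) : t ∈ Stb r u hr hu :=
  ⟨h1, Or.inl (by rw [h2, mul_inv_cancel_right])⟩

theorem mem_zpowers_two {G : Type*} [Group G] {r x : G} (hr : r * r = 1) (hx : x ∈ Subgroup.zpowers r) :
    x = 1 ∨ x = r := by
  obtain ⟨n, rfl⟩ := Subgroup.mem_zpowers_iff.1 hx
  have h2 : r ^ (2 : ℤ) = 1 := by rw [zpow_two, hr]
  rcases Int.even_or_odd' n with ⟨m, rfl | rfl⟩
  · left
    rw [zpow_mul, h2, one_zpow]
  · right
    rw [zpow_add, zpow_mul, h2, one_zpow, one_mul, zpow_one]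

/-! ### Tables -/

/-- the long roots of the Levi factor with the short roots at `60°` -/
def lst : List ((Fin 4 → ℤ) × (Fin 4 → ℤ) × (Fin 4 → ℤ)) :=
  [(![0, 1, 0, 0], ![0, 1, 1, 0], ![0, 1, 1, 1]), (![0, 1, 2, 0], ![0, 1, 1, 0], ![0, 1, 2, 1]),
    (![0, 1, 2, 2], ![0, 1, 1, 1], ![0, 1, 2, 1])]

/-- the roots `z`, `z 0 = 0`, `z 1 = 1` -/
def SN : Set (Fin 4 → ℤ) := {z | z ∈ rts ∧ z 0 = 0 ∧ z 1 = 1}

/-- the positive roots `z`, `z 0 = 0`, `z 1 = 0` -/
def SA : Set (Fin 4 → ℤ) := {z | z ∈ rts ∧ z 0 = 0 ∧ z 1 = 0 ∧ ∀ i, 0 ≤ z i}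

set_option maxRecDepth 20000 in
theorem tab_pos : ∀ z ∈ rts, (∀ i, 0 ≤ z i) → (z + ρ ∉ rts ∧ ρ ≠ -z) ∧
    (0 < z 0 ∨ (z 0 = 0 ∧ z 1 = 1) ∨ (z 0 = 0 ∧ z 1 = 0)) ∧
    (z 0 = 0 → z + ![0, 1, 2, 2] ∉ rts ∧ ![0, 1, 2, 2] ≠ -z) := by decide +kernel

set_option maxRecDepth 20000 in
theorem tab_c : (∀ z ∈ rts, bf z z = 4 → z 0 = 0 → ∃ l ∈ lst, z = l.1 ∨ z = -l.1) ∧
    (∀ z ∈ rts, z 0 = 0 → 0 < z 1 → z 1 = 1) := by decide +kernel

set_option maxRecDepth 20000 in
theorem tab_SA : ∀ z ∈ rts, z 0 = 0 → z 1 = 0 → (∀ i, 0 ≤ z i) →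
    (z + ![1, 0, 0, 0] ∉ rts ∧ ![1, 0, 0, 0] ≠ -z) ∧ (z + ![1, 3, 4, 2] ∉ rts ∧ ![1, 3, 4, 2] ≠ -z) ∧
    (∀ y ∈ rts, y 0 = 0 → y 1 = 1 → z ≠ -y) := by decide +kernel

set_option maxRecDepth 20000 in
theorem tab_lst : ∀ l ∈ lst, (l.1 ∈ rts ∧ -l.1 ∈ rts ∧ l.2.1 ∈ rts ∧ l.2.2 ∈ rts ∧ bf l.1 l.1 = 4 ∧
    bf (-l.1) (-l.1) = 4) ∧ (l.1 0 = 0 ∧ l.1 1 = 1 ∧ l.2.1 0 = 0 ∧ l.2.1 1 = 1 ∧ l.2.2 0 = 0 ∧ l.2.2 1 = 1) := by
  decide +kernel

set_option maxRecDepth 20000 in
theorem tab_lst3 : ∀ l ∈ lst, ∀ y ∈ rts, y 0 = 0 → y 1 = 1 → y ≠ l.1 → y ≠ l.2.1 → y ≠ l.2.2 →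
    y + -l.1 ∉ rts ∧ -l.1 ≠ -y := by decide +kernel

set_option maxRecDepth 20000 in
theorem tab_SN : ∀ y ∈ rts, y 0 = 0 → y 1 = 1 → ∀ z ∈ rts, z 0 = 0 → z 1 = 1 → y + z ∉ rts ∧ z ≠ -y := by
  decide +kernel

set_option maxRecDepth 20000 in
theorem tab_nn : ∀ z ∈ rts, z 0 = 0 → z 1 = 1 → ∀ i, 0 ≤ z i := by decide +kernel

set_option maxRecDepth 20000 in
theorem tab_RE : ∀ k : Fin 72, 0 < V chevE6 J k.val 0 → 36 ≤ k.val ∧ ¬ chevE6.InRootSub {j | j ∈ Jn} k.val := by
  decide +kernel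

variable {K : Type u} [Field K] [Fintype K] {φ : K →+* K} (F : Four K φ)

include F

/-! ### The frame -/

theorem r0_mem : r0 F ∈ X φ 2 ρ := by
  have := F.charP
  have h := one_mem_long (K := K) (φ := φ) (r := 71) (by decide +kernel)
  have e : V chevE6 J (71 : Fin 72).val = ρ := by decide +kernel
  rw [e] at h
  exact h

theorem a0_mem : a0 F ∈ X φ 2 ![0, 1, 2, 2] := by
  have := F.charP
  have h := one_mem_long (K := K) (φ := φ) (r := 60) (by decide +kernel)
  have e : V chevE6 J (60 : Fin 72).val = ![0, 1, 2, 2] := by decide +kernel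
  rw [e] at h
  exact h

theorem xe46_mem : xe F 46 (by decide +kernel) ∈ X φ 2 ![1, 0, 0, 0] := by
  have := F.charP
  have h := one_mem_long (K := K) (φ := φ) (r := 46) (by decide +kernel)
  have e : V chevE6 J (46 : Fin 72).val = ![1, 0, 0, 0] := by decide +kernel
  rw [e] at h
  exact h

theorem xe70_mem : xe F 70 (by decide +kernel) ∈ X φ 2 ![1, 3, 4, 2] := by
  have := F.charP
  have h := one_mem_long (K := K) (φ := φ) (r := 70) (by decide +kernel)
  have e : V chevE6 J (70 : Fin 72).val = ![1, 3, 4, 2] := by decide +kernel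
  rw [e] at h
  exact h

/-- `u = x_46(1) x_70(1)` -/
abbrev u0 : ↥(twistedE6 K 2) := xe F 46 (by decide +kernel) * xe F 70 (by decide +kernel)

omit F in
theorem long_eq {W : Type*} [Group W] {cs : CoxeterSystem CoxeterMatrix.F₄ W} (F : Four K φ) {z : Fin 4 → ℤ}
    (hz : IsRoot cs isCartan z) (hl : bf z z = 4) {g h : ↥(twistedE6 K 2)}
    (hg : g ∈ X φ 2 z) (hh : h ∈ X φ 2 z) (hg1 : g ≠ 1) (hh1 : h ≠ 1) : g = h := by
  have key : ∀ g ∈ X φ 2 z, g ≠ 1 → g = _root_.Cfsg.Agent.Nodes.RGDTwComE6.x φ 2 z 1 := by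
    intro g hg hg1
    obtain ⟨a, ha, rfl⟩ := (mem_X F.sq F.sqq hz _).1 hg
    have h1 := (ok_iff_long hz (show Lg z by unfold Lg; rw [← hl]; unfold bf Qv Q4; ring)).1 ha
    rw [F.sq] at h1
    have h2 : a * (a - 1) = 0 := by linear_combination h1
    rcases mul_eq_zero.1 h2 with h3 | h3
    · exact absurd (by rw [h3]; exact x_zero F.sq F.sqq hz) hg1
    · rw [sub_eq_zero.1 h3]
  rw [key g hg hg1, key h hh hh1]

/-- an element commuting with `X z`, `z` long -/
theorem comm_long_of {W : Type*} [Group W] {cs : CoxeterSystem CoxeterMatrix.F₄ W} {z : Fin 4 → ℤ}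
    (hz : IsRoot cs isCartan z) (hl : bf z z = 4) {g y : ↥(twistedE6 K 2)}
    (hg : ∀ y ∈ X φ 2 z, g * y * g⁻¹ ∈ X φ 2 z) (hy : y ∈ X φ 2 z) : g * y = y * g := by
  by_cases h1 : y = 1
  · rw [h1]; group
  have h2 : g * y * g⁻¹ = y := long_eq F hz hl (hg y hy) hy (fun h => h1 (by
    have : y = g⁻¹ * (g * y * g⁻¹) * g := by group
    rw [this, h]; group)) h1
  exact mul_inv_eq_iff_eq_mul.1 h2

theorem X_le_RE {z : Fin 4 → ℤ} (hz : 0 < z 0) : X φ 2 z ≤ RE K := by
  intro g hg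
  obtain ⟨h1, -⟩ := Subgroup.mem_subgroupOf.1 hg
  refine Subgroup.mem_subgroupOf.2 (Cfsg.Agent.ChevalleyStructure.TwistedU.rspan_le _ ?_ h1)
  rintro k ⟨hk, hkz⟩ t
  have hk' : k < 72 := by
    have : chevE6.nroots = 72 := nroots_eq
    omega
  obtain ⟨h3, h4⟩ := tab_RE ⟨k, hk'⟩ (by
    show 0 < V chevE6 J k 0
    rw [hkz]; exact hz)
  exact x_mem_UR (r := ⟨k, hk'⟩) h3 h4 t

theorem u0_RE : u0 F ∈ RE K :=
  mul_mem (X_le_RE F (by decide) (xe46_mem F)) (X_le_RE F (by decide) (xe70_mem F))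

theorem u0_r0 : u0 F * r0 F = r0 F * u0 F := RE_comm_r0 F (u0_RE F)

/-- the stabilizer of `u⟨r⟩` -/
abbrev St0 : Subgroup ↥(twistedE6 K 2) := Stb (r0 F) (u0 F) (r0_sq' F) (u0_r0 F)

theorem RE_le_St : RE K ≤ St0 F := by
  intro e he
  refine ⟨RE_comm_r0 F he, ?_⟩
  rcases comm_RE' F he (u0_RE F) with h | h
  · left
    rw [h, mul_inv_cancel_right]
  · right
    rw [h]
    have h2 : r0 F * e⁻¹ = e⁻¹ * r0 F := (RE_comm_r0 F (inv_mem he)).symm
    rw [mul_assoc (u0 F * e), h2]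
    group

variable {W : Type*} [Group W] (cs : CoxeterSystem CoxeterMatrix.F₄ W)

theorem T_comm {z : Fin 4 → ℤ} (hz : z ∈ rts) (hl : bf z z = 4) {g y : ↥(twistedE6 K 2)} (hg : g ∈ T K 2)
    (hy : y ∈ X φ 2 z) : g * y = y * g := by
  obtain ⟨cs, -⟩ : ∃ cs, cs = CoxeterMatrix.F₄.toCoxeterSystem := ⟨_, rfl⟩
  have := F.charP
  have : Fact (Nat.Prime 2) := ⟨Nat.prime_two⟩
  have hzr : IsRoot cs isCartan z := (mem_rts cs).2 hz
  refine comm_long_of F hzr hl (fun y hy => ?_) hy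
  rw [← (_root_.Cfsg.Agent.Nodes.RGDTwE6.rgd cs F.sq F.sqq 2).tor z hzr g hg]
  exact ⟨y, hy, rfl⟩

/-- `B ≤ C(r)` -/
theorem B_le_C : RGD.B cs isCartan (T K 2) (X φ 2) ≤ Subgroup.centralizer {r0 F} := by
  refine sup_le ?_ (RGD.Sup_le ?_)
  · intro t ht
    rw [Subgroup.mem_centralizer_singleton_iff]
    exact T_comm F (by decide +kernel) (by decide +kernel) ht (r0_mem F)
  · rintro z ⟨hz, h0⟩ g hg
    rw [Subgroup.mem_centralizer_singleton_iff]
    obtain ⟨⟨h1, h2⟩, -⟩ := tab_pos z ((mem_rts cs).1 hz) h0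
    exact commute_X F.sq F.sqq hz (rho_root cs) h1 h2 g hg _ (r0_mem F)

/-- the elements of `C(r)` commuting with `a₀` modulo `RE` -/
def CQ : Subgroup ↥(twistedE6 K 2) where
  carrier := {b | b * r0 F = r0 F * b ∧ b * a0 F * b⁻¹ * (a0 F)⁻¹ ∈ RE K}
  one_mem' := ⟨by group, by
    have : (1 : ↥(twistedE6 K 2)) * a0 F * 1⁻¹ * (a0 F)⁻¹ = 1 := by group
    rw [this]; exact one_mem _⟩
  mul_mem' := by
    rintro a b ⟨ha, h1⟩ ⟨hb, h2⟩
    refine ⟨by rw [mul_assoc, hb, ← mul_assoc, ha, mul_assoc], ?_⟩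
    have e : a * b * a0 F * (a * b)⁻¹ * (a0 F)⁻¹ = a * (b * a0 F * b⁻¹ * (a0 F)⁻¹) * a⁻¹ *
        (a * a0 F * a⁻¹ * (a0 F)⁻¹) := by group
    rw [e]
    exact mul_mem (R_norm F a ha _ h2) h1
  inv_mem' := by
    rintro a ⟨ha, h1⟩
    have h3 : a⁻¹ * r0 F = r0 F * a⁻¹ := by
      rw [inv_mul_eq_iff_eq_mul, ← mul_assoc, ha, mul_assoc, mul_inv_cancel, mul_one]
    refine ⟨h3, ?_⟩
    have e : a⁻¹ * a0 F * a⁻¹⁻¹ * (a0 F)⁻¹ = a⁻¹ * (a * a0 F * a⁻¹ * (a0 F)⁻¹)⁻¹ * a⁻¹⁻¹ := by group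
    rw [e]
    exact R_norm F _ h3 _ (inv_mem h1)

theorem mem_CQ_of_comm {b : ↥(twistedE6 K 2)} (h1 : b * r0 F = r0 F * b) (h2 : b * a0 F = a0 F * b) : b ∈ CQ F :=
  ⟨h1, by
    rw [h2]
    have : a0 F * b * b⁻¹ * (a0 F)⁻¹ = 1 := by group
    rw [this]; exact one_mem _⟩

theorem a0_comm_r0 : a0 F * r0 F = r0 F * a0 F := by
  have := F.charP
  exact Subtype.ext (comm60 (K := K)).symm

theorem a0_ne : a0 F ≠ 1 := by
  have := F.charP
  exact fun h => x_ne_one (K := K) (r := 60) (by norm_num) (congrArg Subtype.val h)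

theorem B_le_CQ : RGD.B cs isCartan (T K 2) (X φ 2) ≤ CQ F := by
  refine sup_le ?_ (RGD.Sup_le ?_)
  · intro t ht
    refine mem_CQ_of_comm F (T_comm F (by decide +kernel) (by decide +kernel) ht (r0_mem F))
      (T_comm F (by decide +kernel) (by decide +kernel) ht (a0_mem F))
  · rintro z ⟨hz, h0⟩ g hg
    obtain ⟨⟨h1, h2⟩, h3, h4⟩ := tab_pos z ((mem_rts cs).1 hz) h0
    have hgr : g * r0 F = r0 F * g := commute_X F.sq F.sqq hz (rho_root cs) h1 h2 g hg _ (r0_mem F)
    have key : z 0 = 0 → g ∈ CQ F := fun h5 => by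
      obtain ⟨h6, h7⟩ := h4 h5
      exact mem_CQ_of_comm F hgr (commute_X F.sq F.sqq hz ((mem_rts cs).2 (by decide +kernel)) h6 h7 g hg _
        (a0_mem F))
    rcases h3 with h3 | h3 | h3
    · have hgR := X_le_RE F h3 hg
      refine ⟨hgr, ?_⟩
      have e : g * a0 F * g⁻¹ * (a0 F)⁻¹ = g * (a0 F * g⁻¹ * (a0 F)⁻¹) := by group
      rw [e]
      exact mul_mem hgR (R_norm F _ (a0_comm_r0 F) _ (inv_mem hgR))
    · exact key h3.1
    · exact key h3.1

theorem closed_single {y : Fin 4 → ℤ} (hy : IsRoot cs isCartan y) : Closed cs isCartan {y} := by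
  intro a ha b hb z hz
  rw [Set.mem_singleton_iff] at ha hb ⊢
  rw [ha, hb] at hz
  exact btwn_self hy hz

/-- a root whose root group contains `r` is the highest root -/
theorem eq_rho {y : Fin 4 → ℤ} (hy : IsRoot cs isCartan y) (h : r0 F ∈ X φ 2 y) : y = ρ := by
  have := F.charP
  have : Fact (Nat.Prime 2) := ⟨Nat.prime_two⟩
  have hW : Finite W := Cfsg.Agent.KFacts.TwESix.Comb.finiteW cs
  have R := _root_.Cfsg.Agent.Nodes.RGDTwE6.rgd cs F.sq F.sqq 2
  have h0ρ : (0 : Fin 4 → ℤ) ≤ ρ := by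
    intro i
    fin_cases i <;> decide
  rcases hy.pos_or_neg with h0 | h0
  · by_contra hne
    have h1 := inf_eq R (S := {y}) (S' := {ρ}) (by
        intro z hz
        rw [Set.mem_singleton_iff] at hz
        rw [hz]
        exact ⟨hy, h0⟩)
      (by
        intro z hz
        rw [Set.mem_singleton_iff] at hz
        rw [hz]
        exact ⟨rho_root cs, h0ρ⟩)
      (closed_single F cs hy) (closed_single F cs (rho_root cs))
    have h3 : ({y} ∩ {ρ} : Set (Fin 4 → ℤ)) = ∅ := by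
      apply Set.eq_empty_of_forall_notMem
      rintro z ⟨hz1, hz2⟩
      rw [Set.mem_singleton_iff] at hz1 hz2
      exact hne (hz1.symm.trans hz2)
    have h4 : RGD.Sup (X φ 2) {y} ⊓ RGD.Sup (X φ 2) {ρ} ≤ ⊥ := by
      rw [h1, h3, Sup_empty]
    have h2 : r0 F ∈ RGD.Sup (X φ 2) {y} ⊓ RGD.Sup (X φ 2) {ρ} :=
      Subgroup.mem_inf.2 ⟨RGD.le_Sup (Set.mem_singleton y) h, RGD.le_Sup (Set.mem_singleton ρ) (r0_mem F)⟩
    exact r0_ne' F (Subgroup.mem_bot.1 (h4 h2))
  · exfalso
    apply r0_ne' F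
    refine eq_one_of_mem_UN_of_mem_B R (X_le_UN hy h0 h) ?_
    exact RGD.U_le_B (RGD.le_Sup (S := RGD.Pos cs isCartan) ⟨rho_root cs, h0ρ⟩ (r0_mem F))

/-! ### The decomposition of `B` -/

/-- `D = T ⟨X z : z > 0, z 0 = z 1 = 0⟩` -/
noncomputable abbrev DD0 (φ : K →+* K) : Subgroup ↥(twistedE6 K 2) := T K 2 ⊔ RGD.Sup (X φ 2) SA

theorem DD0_le_St : DD0 φ ≤ St0 F := by
  obtain ⟨cs, -⟩ : ∃ cs, cs = CoxeterMatrix.F₄.toCoxeterSystem := ⟨_, rfl⟩
  refine sup_le ?_ (RGD.Sup_le ?_)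
  · intro t ht
    refine mem_Stb_of_comm (T_comm F (by decide +kernel) (by decide +kernel) ht (r0_mem F)) ?_
    have h1 : t * xe F 46 (by decide +kernel) = xe F 46 (by decide +kernel) * t :=
      T_comm F (by decide +kernel) (by decide +kernel) ht (xe46_mem F)
    have h2 : t * xe F 70 (by decide +kernel) = xe F 70 (by decide +kernel) * t :=
      T_comm F (by decide +kernel) (by decide +kernel) ht (xe70_mem F)
    show t * (xe F 46 (by decide +kernel) * xe F 70 (by decide +kernel)) =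
      xe F 46 (by decide +kernel) * xe F 70 (by decide +kernel) * t
    rw [← mul_assoc, h1, mul_assoc, h2, mul_assoc]
  · rintro z ⟨hz, hz0, hz1, hzp⟩ g hg
    have hzr : IsRoot cs isCartan z := (mem_rts cs).2 hz
    obtain ⟨⟨h1, h2⟩, -⟩ := tab_pos z hz hzp
    obtain ⟨⟨h3, h4⟩, ⟨h5, h6⟩, -⟩ := tab_SA z hz hz0 hz1 hzp
    refine mem_Stb_of_comm (commute_X F.sq F.sqq hzr (rho_root cs) h1 h2 g hg _ (r0_mem F)) ?_
    have h7 := commute_X F.sq F.sqq hzr ((mem_rts cs).2 (by decide +kernel)) h3 h4 g hg _ (xe46_mem F)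
    have h8 := commute_X F.sq F.sqq hzr ((mem_rts cs).2 (by decide +kernel)) h5 h6 g hg _ (xe70_mem F)
    show g * (xe F 46 (by decide +kernel) * xe F 70 (by decide +kernel)) =
      xe F 46 (by decide +kernel) * xe F 70 (by decide +kernel) * g
    rw [← mul_assoc, h7, mul_assoc, h8, mul_assoc]

theorem DD0_le_norm : DD0 φ ≤ Subgroup.normalizer (RGD.Sup (X φ 2) SN : Set ↥(twistedE6 K 2)) := by
  obtain ⟨cs, -⟩ : ∃ cs, cs = CoxeterMatrix.F₄.toCoxeterSystem := ⟨_, rfl⟩
  have := F.charP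
  have : Fact (Nat.Prime 2) := ⟨Nat.prime_two⟩
  have R := _root_.Cfsg.Agent.Nodes.RGDTwE6.rgd cs F.sq F.sqq 2
  refine sup_le (R.T_le_normalizer fun z hz => (mem_rts cs).2 hz.1) (RGD.Sup_le ?_)
  rintro z ⟨hz, hz0, hz1, hzp⟩
  refine R.le_normalizer ((mem_rts cs).2 hz) ?_
  rintro y ⟨hy, hy0, hy1⟩
  refine ⟨(mem_rts cs).2 hy, Or.inr ⟨(tab_SA z hz hz0 hz1 hzp).2.2 y hy hy0 hy1, ?_⟩⟩
  rintro t ⟨ht, m, a, b, hm, ha, hb, he⟩
  have e0 := congrFun he 0
  have e1 := congrFun he 1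
  simp only [Pi.smul_apply, Pi.add_apply, smul_eq_mul] at e0 e1
  rw [hz0, hy0, mul_zero, mul_zero, add_zero] at e0
  rw [hz1, hy1, mul_zero, zero_add, mul_one] at e1
  have h0 : t 0 = 0 := (mul_eq_zero.1 e0).resolve_left hm.ne'
  have h1 : 0 < t 1 := by
    by_contra hcon
    have := mul_nonpos_of_nonneg_of_nonpos hm.le (not_lt.1 hcon)
    omega
  exact ⟨(mem_rts cs).1 ht, h0, tab_c.2 t ((mem_rts cs).1 ht) h0 h1⟩

/-- every element of `B` is `e d v`, `e ∈ RE`, `d ∈ D`, `v ∈ N` -/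
theorem B_dec {b : ↥(twistedE6 K 2)} (hb : b ∈ RGD.B cs isCartan (T K 2) (X φ 2)) :
    ∃ e ∈ RE K, ∃ d ∈ DD0 φ, ∃ v ∈ RGD.Sup (X φ 2) SN, b = e * (d * v) := by
  have h1 : RGD.B cs isCartan (T K 2) (X φ 2) ≤ RE K ⊔ (DD0 φ ⊔ RGD.Sup (X φ 2) SN) := by
    refine sup_le (le_trans (le_trans le_sup_left le_sup_left) le_sup_right) (RGD.Sup_le ?_)
    rintro z ⟨hz, h0⟩
    have hz' := (mem_rts cs).1 hz
    obtain ⟨-, h3, -⟩ := tab_pos z hz' h0
    rcases h3 with h3 | h3 | h3
    · exact (X_le_RE F h3).trans le_sup_left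
    · exact le_trans (RGD.le_Sup (S := SN) ⟨hz', h3.1, h3.2⟩) (le_trans le_sup_right le_sup_right)
    · exact le_trans (le_trans (RGD.le_Sup (S := SA) ⟨hz', h3.1, h3.2, h0⟩) le_sup_right)
        (le_trans le_sup_left le_sup_right)
  have hC : DD0 φ ⊔ RGD.Sup (X φ 2) SN ≤ Subgroup.normalizer (RE K : Set ↥(twistedE6 K 2)) := by
    have h2 : ∀ g, g * r0 F = r0 F * g → g ∈ Subgroup.normalizer (RE K : Set ↥(twistedE6 K 2)) := by
      intro g hg
      refine Subgroup.mem_normalizer_iff.2 fun y => ⟨fun hy => R_norm F g hg y hy, fun hy => ?_⟩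
      have hg' : g⁻¹ * r0 F = r0 F * g⁻¹ := by
        rw [inv_mul_eq_iff_eq_mul, ← mul_assoc, hg, mul_assoc, mul_inv_cancel, mul_one]
      have h3 := R_norm F g⁻¹ hg' _ hy
      have e : g⁻¹ * (g * y * g⁻¹) * g⁻¹⁻¹ = y := by group
      rwa [e] at h3
    refine sup_le (fun g hg => h2 g (DD0_le_St F hg).1) (RGD.Sup_le ?_)
    rintro z ⟨hz, hz0, hz1⟩ g hg
    obtain ⟨⟨h3, h4⟩, -⟩ := tab_pos z hz (tab_nn z hz hz0 hz1)
    exact h2 g (commute_X F.sq F.sqq ((mem_rts cs).2 hz) (rho_root cs) h3 h4 g hg _ (r0_mem F))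
  have h2 : b ∈ (RE K : Set ↥(twistedE6 K 2)) * ((DD0 φ ⊔ RGD.Sup (X φ 2) SN : Subgroup ↥(twistedE6 K 2)) :
      Set ↥(twistedE6 K 2)) := by
    rw [← Subgroup.coe_mul_of_right_le_normalizer_left _ _ hC]
    exact h1 hb
  obtain ⟨e, he, c, hc, rfl⟩ := h2
  have h3 : c ∈ (DD0 φ : Set ↥(twistedE6 K 2)) * (RGD.Sup (X φ 2) SN : Set ↥(twistedE6 K 2)) := by
    rw [← Subgroup.coe_mul_of_left_le_normalizer_right _ _ (DD0_le_norm F)]
    exact hc
  obtain ⟨d, hd, v, hv, rfl⟩ := h3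
  exact ⟨e, he, d, hd, v, hv, rfl⟩

/-! ### The abelian group `N` -/

theorem SN_comm {g h : ↥(twistedE6 K 2)} (hg : g ∈ RGD.Sup (X φ 2) SN) {z : Fin 4 → ℤ} (hz : z ∈ SN)
    (hh : h ∈ X φ 2 z) : h * g = g * h := by
  obtain ⟨cs, -⟩ : ∃ cs, cs = CoxeterMatrix.F₄.toCoxeterSystem := ⟨_, rfl⟩
  refine comm_Sup (fun y hy v hv => ?_) g hg
  obtain ⟨h1, h2⟩ := tab_SN z hz.1 hz.2.1 hz.2.2 y hy.1 hy.2.1 hy.2.2
  exact commute_X F.sq F.sqq ((mem_rts cs).2 hz.1) ((mem_rts cs).2 hy.1) h1 h2 h hh v hv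

/-- for `v ∈ N`, `v y v⁻¹`, `y ∈ X (-b)`, depends only on three components -/
theorem N_dec {l : (Fin 4 → ℤ) × (Fin 4 → ℤ) × (Fin 4 → ℤ)} (hl : l ∈ lst) {v : ↥(twistedE6 K 2)}
    (hv : v ∈ RGD.Sup (X φ 2) SN) : ∃ p1 ∈ X φ 2 l.1, ∃ p2 ∈ X φ 2 l.2.1, ∃ p3 ∈ X φ 2 l.2.2,
      ∃ c : ↥(twistedE6 K 2), (∀ y ∈ X φ 2 (-l.1), c * y = y * c) ∧ v = p1 * p2 * p3 * c := by
  obtain ⟨cs, -⟩ : ∃ cs, cs = CoxeterMatrix.F₄.toCoxeterSystem := ⟨_, rfl⟩
  obtain ⟨⟨t1, t2, t3, t4, t5, t6⟩, t7, t8, t9, t10, t11, t12⟩ := tab_lst l hl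
  have m1 : l.1 ∈ SN := ⟨t1, t7, t8⟩
  have m2 : l.2.1 ∈ SN := ⟨t3, t9, t10⟩
  have m3 : l.2.2 ∈ SN := ⟨t4, t11, t12⟩
  -- the elements of this form
  let P : Subgroup ↥(twistedE6 K 2) := RGD.Sup (X φ 2) SN
  have hcm : ∀ g ∈ P, ∀ h ∈ P, g * h = h * g := by
    intro g hg h hh
    have h1 : P ≤ Subgroup.centralizer ({h} : Set ↥(twistedE6 K 2)) := by
      refine RGD.Sup_le fun z hz x hx => ?_
      rw [Subgroup.mem_centralizer_singleton_iff]
      exact SN_comm F hh hz hx
    exact Subgroup.mem_centralizer_singleton_iff.1 (h1 hg)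
  let Q : Subgroup ↥(twistedE6 K 2) :=
    { carrier := {v | v ∈ P ∧ ∃ p1 ∈ X φ 2 l.1, ∃ p2 ∈ X φ 2 l.2.1, ∃ p3 ∈ X φ 2 l.2.2,
        ∃ c ∈ P, (∀ y ∈ X φ 2 (-l.1), c * y = y * c) ∧ v = p1 * p2 * p3 * c}
      one_mem' := ⟨one_mem _, 1, one_mem _, 1, one_mem _, 1, one_mem _, 1, one_mem _, fun y _ => by group, by group⟩
      mul_mem' := by
        rintro _ _ ⟨ha, p1, h1, p2, h2, p3, h3, c, hc, hcy, rfl⟩ ⟨hb, p1', h1', p2', h2', p3', h3', c', hc', hcy', rfl⟩
        refine ⟨mul_mem ha hb, p1 * p1', mul_mem h1 h1', p2 * p2', mul_mem h2 h2', p3 * p3', mul_mem h3 h3',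
          c * c', mul_mem hc hc', fun y hy => by rw [mul_assoc, hcy' y hy, ← mul_assoc, hcy y hy, mul_assoc], ?_⟩
        have i1 := RGD.le_Sup (X := X φ 2) m1 h1'
        have i2 := RGD.le_Sup (X := X φ 2) m2 h2
        have i2' := RGD.le_Sup (X := X φ 2) m2 h2'
        have i3 := RGD.le_Sup (X := X φ 2) m3 h3
        have i3' := RGD.le_Sup (X := X φ 2) m3 h3'
        calc p1 * p2 * p3 * c * (p1' * p2' * p3' * c')
            = p1 * p2 * p3 * (c * p1') * (p2' * p3' * c') := by group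
          _ = p1 * p2 * (p3 * p1') * c * (p2' * p3' * c') := by rw [hcm c hc p1' i1]; group
          _ = p1 * (p2 * p1') * p3 * c * (p2' * p3' * c') := by rw [hcm p3 i3 p1' i1]; group
          _ = p1 * p1' * p2 * p3 * (c * p2') * (p3' * c') := by rw [hcm p2 i2 p1' i1]; group
          _ = p1 * p1' * p2 * (p3 * p2') * c * (p3' * c') := by rw [hcm c hc p2' i2']; group
          _ = p1 * p1' * p2 * p2' * p3 * (c * p3') * c' := by rw [hcm p3 i3 p2' i2']; group
          _ = _ := by rw [hcm c hc p3' i3']; group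
      inv_mem' := by
        rintro _ ⟨ha, p1, h1, p2, h2, p3, h3, c, hc, hcy, rfl⟩
        refine ⟨inv_mem ha, p1⁻¹, inv_mem h1, p2⁻¹, inv_mem h2, p3⁻¹, inv_mem h3, c⁻¹, inv_mem hc, fun y hy => ?_, ?_⟩
        · have h4 := hcy y hy
          rw [inv_mul_eq_iff_eq_mul, ← mul_assoc, h4, mul_assoc, mul_inv_cancel, mul_one]
        · have i1 := inv_mem (RGD.le_Sup (X := X φ 2) m1 h1)
          have i2 := inv_mem (RGD.le_Sup (X := X φ 2) m2 h2)
          have i3 := inv_mem (RGD.le_Sup (X := X φ 2) m3 h3)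
          have i4 := inv_mem hc
          calc (p1 * p2 * p3 * c)⁻¹ = c⁻¹ * (p3⁻¹ * (p2⁻¹ * p1⁻¹)) := by group
            _ = (p3⁻¹ * (p2⁻¹ * p1⁻¹)) * c⁻¹ := hcm _ i4 _ (mul_mem i3 (mul_mem i2 i1))
            _ = (p2⁻¹ * p1⁻¹) * p3⁻¹ * c⁻¹ := by rw [hcm _ i3 _ (mul_mem i2 i1)]
            _ = _ := by rw [hcm _ i2 _ i1] }
  have h1 : P ≤ Q := by
    refine RGD.Sup_le fun z hz x hx => ?_
    have hxP : x ∈ P := RGD.le_Sup hz hx
    by_cases e1 : z = l.1
    · exact ⟨hxP, x, e1 ▸ hx, 1, one_mem _, 1, one_mem _, 1, one_mem _, fun y _ => by group, by group⟩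
    by_cases e2 : z = l.2.1
    · exact ⟨hxP, 1, one_mem _, x, e2 ▸ hx, 1, one_mem _, 1, one_mem _, fun y _ => by group, by group⟩
    by_cases e3 : z = l.2.2
    · exact ⟨hxP, 1, one_mem _, 1, one_mem _, x, e3 ▸ hx, 1, one_mem _, fun y _ => by group, by group⟩
    refine ⟨hxP, 1, one_mem _, 1, one_mem _, 1, one_mem _, x, hxP, fun y hy => ?_, by group⟩
    obtain ⟨h2, h3⟩ := tab_lst3 l hl z hz.1 hz.2.1 hz.2.2 e1 e2 e3
    exact commute_X F.sq F.sqq ((mem_rts cs).2 hz.1) ((mem_rts cs).2 t2) h2 h3 x hx y hy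
  obtain ⟨-, p1, h1, p2, h2, p3, h3, c, hc, hcy, e⟩ := h1 hv
  exact ⟨p1, h1, p2, h2, p3, h3, c, hcy, e⟩

/-! ### The reduction -/

/-- **(4a)** A conjugate of `a₀` under `C(r)` does not fix `u⟨r⟩`, if this holds for the `99` elements. -/
theorem not_stab
    (hpos : ∀ l ∈ lst, ∀ y ∈ X φ 2 l.1, y ≠ 1 → y ∉ St0 F)
    (hneg : ∀ l ∈ lst, ∀ p1 ∈ X φ 2 l.1, ∀ p2 ∈ X φ 2 l.2.1, ∀ p3 ∈ X φ 2 l.2.2, ∀ y ∈ X φ 2 (-l.1), y ≠ 1 →
      p1 * p2 * p3 * y * (p1 * p2 * p3)⁻¹ ∉ St0 F)
    {g : ↥(twistedE6 K 2)} (hg : g * r0 F = r0 F * g) : g * a0 F * g⁻¹ ∉ St0 F := by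
  obtain ⟨cs, -⟩ : ∃ cs, cs = CoxeterMatrix.F₄.toCoxeterSystem := ⟨_, rfl⟩
  have := F.charP
  have : Fact (Nat.Prime 2) := ⟨Nat.prime_two⟩
  have hW : Finite _ := Cfsg.Agent.KFacts.TwESix.Comb.finiteW cs
  have R := _root_.Cfsg.Agent.Nodes.RGDTwE6.rgd cs F.sq F.sqq 2
  have hgG : g ∈ GG cs isCartan (T K 2) (X φ 2) := by
    rw [GG_top φ F.sq F.sqq]; exact Subgroup.mem_top _
  obtain ⟨w, b₁, hb₁, k, hk, b₂, hb₂, rfl⟩ := (mem_GG R).1 hgG
  have h1 : ∀ b ∈ RGD.B cs isCartan (T K 2) (X φ 2), b * r0 F = r0 F * b := fun b hb =>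
    Subgroup.mem_centralizer_singleton_iff.1 (B_le_C F cs hb)
  have c1 := h1 b₁ hb₁
  have c2 := h1 b₂ hb₂
  have hkr : k * r0 F = r0 F * k := by
    have e : k = b₁⁻¹ * (b₁ * k * b₂) * b₂⁻¹ := by group
    have c1' : b₁⁻¹ * r0 F = r0 F * b₁⁻¹ := by
      rw [inv_mul_eq_iff_eq_mul, ← mul_assoc, c1, mul_assoc, mul_inv_cancel, mul_one]
    have c2' : b₂⁻¹ * r0 F = r0 F * b₂⁻¹ := by
      rw [inv_mul_eq_iff_eq_mul, ← mul_assoc, c2, mul_assoc, mul_inv_cancel, mul_one]
    have e3 : b₁⁻¹ * (b₁ * k * b₂) * b₂⁻¹ * r0 F = r0 F * (b₁⁻¹ * (b₁ * k * b₂) * b₂⁻¹) := by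
      calc b₁⁻¹ * (b₁ * k * b₂) * b₂⁻¹ * r0 F = b₁⁻¹ * (b₁ * k * b₂) * (b₂⁻¹ * r0 F) := by rw [mul_assoc]
        _ = b₁⁻¹ * (b₁ * k * b₂ * r0 F) * b₂⁻¹ := by rw [c2']; group
        _ = (b₁⁻¹ * r0 F) * (b₁ * k * b₂) * b₂⁻¹ := by rw [hg]; group
        _ = _ := by rw [c1']; group
    rw [← e] at e3
    exact e3
  -- `w ρ = ρ`
  have hwρ : rep cs isCartan w ρ = ρ := by
    refine eq_rho F cs ((rho_root cs).act w) ?_
    rw [← R.conj_rp hk (rho_root cs)]
    refine ⟨r0 F, r0_mem F, ?_⟩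
    show k * r0 F * k⁻¹ = r0 F
    rw [hkr, mul_inv_cancel_right]
  have ha : (![0, 1, 2, 2] : Fin 4 → ℤ) ∈ rts := by decide +kernel
  have har : IsRoot cs isCartan ![0, 1, 2, 2] := (mem_rts cs).2 ha
  obtain ⟨c, hc⟩ : ∃ c, c = rep cs isCartan w ![0, 1, 2, 2] := ⟨_, rfl⟩
  have hcr : IsRoot cs isCartan c := by rw [hc]; exact har.act w
  have hcl : bf c c = 4 := by
    rw [hc, bf_rep]
    decide +kernel
  have hc0 : c 0 = 0 := by
    have h2 : bf c ρ = bf ![0, 1, 2, 2] ρ := by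
      rw [hc]
      conv_lhs => rw [← hwρ]
      rw [bf_rep]
    have h3 : bf ![0, 1, 2, 2] ρ = 0 := by decide +kernel
    rw [h3, bf_rho] at h2
    omega
  obtain ⟨y, hy⟩ : ∃ y, y = k * a0 F * k⁻¹ := ⟨_, rfl⟩
  have hyc : y ∈ X φ 2 c := by
    rw [hc, ← R.conj_rp hk har]
    exact ⟨a0 F, a0_mem F, hy.symm⟩
  have hy1 : y ≠ 1 := by
    intro h
    apply a0_ne F
    have : a0 F = k⁻¹ * (k * a0 F * k⁻¹) * k := by group
    rw [this, ← hy, h]; group
  -- modulo `RE`
  have hq := (B_le_CQ F cs hb₂).2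
  obtain ⟨e, he⟩ : ∃ e, e = b₂ * a0 F * b₂⁻¹ * (a0 F)⁻¹ := ⟨_, rfl⟩
  rw [← he] at hq
  have hbk : (b₁ * k) * r0 F = r0 F * (b₁ * k) := by rw [mul_assoc, hkr, ← mul_assoc, c1, mul_assoc]
  have e1 : b₁ * k * b₂ * a0 F * (b₁ * k * b₂)⁻¹ = (b₁ * k) * e * (b₁ * k)⁻¹ * (b₁ * y * b₁⁻¹) := by
    rw [he, hy]; group
  have he1 := RE_le_St F (R_norm F _ hbk e hq)
  intro hmem
  rw [e1] at hmem
  have h2 : b₁ * y * b₁⁻¹ ∈ St0 F := (Subgroup.mul_mem_cancel_left _ he1).1 hmem
  obtain ⟨e', he', d, hd, v, hv, rfl⟩ := B_dec F cs hb₁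
  have e2 : e' * (d * v) * y * (e' * (d * v))⁻¹ = (e' * d) * (v * y * v⁻¹) * (e' * d)⁻¹ := by group
  have hed : e' * d ∈ St0 F := mul_mem (RE_le_St F he') (DD0_le_St F hd)
  rw [e2] at h2
  have h3 : v * y * v⁻¹ ∈ St0 F := by
    have h4 := mul_mem (mul_mem (inv_mem hed) h2) hed
    have e3 : (e' * d)⁻¹ * ((e' * d) * (v * y * v⁻¹) * (e' * d)⁻¹) * (e' * d) = v * y * v⁻¹ := by group
    rwa [e3] at h4
  obtain ⟨l, hl, h4 | h4⟩ := tab_c.1 c ((mem_rts cs).1 hcr) hcl hc0
  · subst h4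
    obtain ⟨⟨t1, t2, t3, t4, t5, t6⟩, t7, t8, t9, t10, t11, t12⟩ := tab_lst l hl
    have h5 := SN_comm F hv ⟨t1, t7, t8⟩ hyc
    rw [← h5, mul_inv_cancel_right] at h3
    exact hpos l hl y hyc hy1 h3
  · subst h4
    obtain ⟨p1, m1, p2, m2, p3, m3, c', hc', e4⟩ := N_dec F hl hv
    have e5 : v * y * v⁻¹ = p1 * p2 * p3 * y * (p1 * p2 * p3)⁻¹ := by
      have h5 := hc' y hyc
      have h6 : c' * y * c'⁻¹ = y := by rw [h5, mul_inv_cancel_right]
      calc v * y * v⁻¹ = p1 * p2 * p3 * (c' * y * c'⁻¹) * (p1 * p2 * p3)⁻¹ := by rw [e4]; group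
        _ = _ := by rw [h6]
    rw [e5] at h3
    exact hneg l hl p1 m1 p2 m2 p3 m3 y hyc hy1 h3

/-! ### The fields `tr` and `opp` of `GSide` -/

/-- **`tr`** -/
theorem tr
    (hpos : ∀ l ∈ lst, ∀ y ∈ X φ 2 l.1, y ≠ 1 → y ∉ St0 F)
    (hneg : ∀ l ∈ lst, ∀ p1 ∈ X φ 2 l.1, ∀ p2 ∈ X φ 2 l.2.1, ∀ p3 ∈ X φ 2 l.2.2, ∀ y ∈ X φ 2 (-l.1), y ≠ 1 →
      p1 * p2 * p3 * y * (p1 * p2 * p3)⁻¹ ∉ St0 F)
    (g : ↥(twistedE6 K 2)) (hc : g * r0 F * g⁻¹ * r0 F = r0 F * (g * r0 F * g⁻¹)) (hQ : g * r0 F * g⁻¹ ∉ RE K) :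
    ⁅g * r0 F * g⁻¹, u0 F⁆ ∉ Subgroup.zpowers (r0 F) := by
  have := F.charP
  obtain ⟨b, hb, h1, γ, hγ, h2⟩ := pair5 F g.2
  obtain ⟨t, ht⟩ : ∃ t, t = g * r0 F * g⁻¹ := ⟨_, rfl⟩
  rw [← ht] at hc hQ ⊢
  obtain ⟨b', hb'⟩ : ∃ b' : ↥(twistedE6 K 2), b' = ⟨b, hb⟩ := ⟨_, rfl⟩
  have hbr : b' * r0 F = r0 F * b' := by
    rw [hb']
    apply Subtype.ext
    show b * TwE6Basic.x 71 1 = TwE6Basic.x 71 1 * b
    exact mul_inv_eq_iff_eq_mul.1 h1
  have h2' : ((b' * t * b'⁻¹ : ↥(twistedE6 K 2)) : GL chevE6.Idx K) = TwE6Basic.x γ 1 := by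
    rw [hb', ht]
    exact h2
  -- `b t b⁻¹` commutes with `r`
  have hbt : (b' * t * b'⁻¹) * r0 F = r0 F * (b' * t * b'⁻¹) := by
    have h3 : b'⁻¹ * r0 F = r0 F * b'⁻¹ := by
      rw [inv_mul_eq_iff_eq_mul, ← mul_assoc, hbr, mul_assoc, mul_inv_cancel, mul_one]
    calc b' * t * b'⁻¹ * r0 F = b' * t * (b'⁻¹ * r0 F) := by group
      _ = b' * (t * r0 F) * b'⁻¹ := by rw [h3]; group
      _ = (b' * r0 F) * t * b'⁻¹ := by rw [hc]; group
      _ = _ := by rw [hbr]; group
  have hnot : b' * t * b'⁻¹ ∉ RE K := by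
    intro h3
    apply hQ
    have h4 : b'⁻¹ * r0 F = r0 F * b'⁻¹ := by
      rw [inv_mul_eq_iff_eq_mul, ← mul_assoc, hbr, mul_assoc, mul_inv_cancel, mul_one]
    have h5 := R_norm F _ h4 _ h3
    have e : b'⁻¹ * (b' * t * b'⁻¹) * b'⁻¹⁻¹ = t := by group
    rwa [e] at h5
  have hcx : TwE6Basic.x γ (1 : K) * TwE6Basic.x 71 1 = TwE6Basic.x 71 1 * TwE6Basic.x γ 1 := by
    have h3 := congrArg Subtype.val hbt
    rw [← h2']
    exact h3
  simp only [List.mem_cons, List.not_mem_nil, or_false] at hγ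
  have hta : b' * t * b'⁻¹ = a0 F := by
    rcases hγ with rfl | rfl | rfl | rfl | rfl
    · exfalso
      apply hnot
      have h3 : b' * t * b'⁻¹ = r0 F := Subtype.ext h2'
      rw [h3]; exact r0_mem_RE F
    · exfalso
      apply hnot
      have h3 : b' * t * b'⁻¹ = c0 F := Subtype.ext h2'
      rw [h3]; exact c_R F
    · exact Subtype.ext h2'
    · exfalso
      have h3 : (TwE6Basic.x 71 (1 : K) * TwE6Basic.x 25 1) ^ 2 = 1 := by
        rw [pow_two]
        calc TwE6Basic.x 71 (1 : K) * TwE6Basic.x 25 1 * (TwE6Basic.x 71 1 * TwE6Basic.x 25 1) = TwE6Basic.x 71 1 * (TwE6Basic.x 25 1 * TwE6Basic.x 71 1) * TwE6Basic.x 25 1 := by group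
          _ = (TwE6Basic.x 71 1 * TwE6Basic.x 71 1) * (TwE6Basic.x 25 1 * TwE6Basic.x 25 1) := by rw [hcx]; group
          _ = 1 := by rw [x_sq, x_sq, one_mul]
      rw [sq25] at h3
      exact x_ne_one (K := K) (r := 70) (by norm_num) h3
    · exfalso
      have h3 : (TwE6Basic.x 71 (1 : K) * TwE6Basic.x 0 1) ^ 2 = 1 := by
        rw [pow_two]
        calc TwE6Basic.x 71 (1 : K) * TwE6Basic.x 0 1 * (TwE6Basic.x 71 1 * TwE6Basic.x 0 1) = TwE6Basic.x 71 1 * (TwE6Basic.x 0 1 * TwE6Basic.x 71 1) * TwE6Basic.x 0 1 := by group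
          _ = (TwE6Basic.x 71 1 * TwE6Basic.x 71 1) * (TwE6Basic.x 0 1 * TwE6Basic.x 0 1) := by rw [hcx]; group
          _ = 1 := by rw [x_sq, x_sq, one_mul]
      have h4 := cube0 (K := K)
      rw [pow_succ, h3, one_mul] at h4
      have h5 : TwE6Basic.x 71 (1 : K) = TwE6Basic.x 0 1 := by
        rw [eq_inv_of_mul_eq_one_left h4, inv_eq_of_mul_eq_one_left (x_sq 0)]
      exact x_ne (K := K) (r := 71) (s := 0) (by norm_num) (by norm_num) (by norm_num) h5
  have hbr' : b'⁻¹ * r0 F = r0 F * b'⁻¹ := by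
    rw [inv_mul_eq_iff_eq_mul, ← mul_assoc, hbr, mul_assoc, mul_inv_cancel, mul_one]
  have h3 := not_stab F hpos hneg hbr'
  have e : b'⁻¹ * a0 F * b'⁻¹⁻¹ = t := by rw [← hta]; group
  rw [e] at h3
  intro h4
  apply h3
  refine ⟨hc, ?_⟩
  rcases mem_zpowers_two (r0_sq' F) h4 with h5 | h5
  · left
    rw [commutatorElement_def, mul_inv_eq_one] at h5
    exact h5
  · right
    rw [commutatorElement_def, mul_inv_eq_iff_eq_mul] at h5
    rw [h5, u0_r0 F]

end Cfsg.Agent.H203.EPX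
end

-- part: H622/Fi/GDef
section
/-!
# S5745, `²E₆(2)` and `Fi22`, G-side: the structure of `C_G(r)` (helper622)

`QSide r Q` : `r` an involution of `G`, `Q = O_2(C_G(r))` of type `2^{1+20}`.
* `QSide.conj` : conjugation;
* `QSide.inf`, `QSide.sup`, `QSide.fixed'` : a subgroup `C ≤ C_G(r)` of order `2 |U₆(2)|` whose proper normal
  subgroups are contained in `{1, r}` meets `Q` in `{1, r}`, covers `C_G(r)/Q` and has no fixed points on `Q/⟨r⟩`;
* `QSide.lift` : elements of order `p ≠ 2` of `C_G(r)` fixing `u` modulo `⟨r⟩` can be replaced by elements of `C`.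
-/

set_option autoImplicit false
set_option linter.unusedSectionVars false

namespace Cfsg.Agent.H622.Fi

open Subgroup

open scoped Pointwise

/-- the structure of `C_G(r)` -/
structure QSide {G : Type*} [Group G] (r : G) (Q : Subgroup G) : Prop where
  sq : r * r = 1
  ne : r ≠ 1
  rQ : r ∈ Q
  Qr : ∀ x ∈ Q, x * r = r * x
  norm : ∀ y, y * r = r * y → ∀ x ∈ Q, y * x * y⁻¹ ∈ Q
  two : IsPGroup 2 Q
  comm : ∀ x ∈ Q, ∀ y ∈ Q, x * y = y * x ∨ x * y = y * x * r
  fixed : ∀ x ∈ Q, (∀ y, y * r = r * y → y * x * y⁻¹ = x ∨ y * x * y⁻¹ = x * r) → x = 1 ∨ x = r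
  card : Nat.card (centralizer ({r} : Set G)) = Nat.card Q * 9196830720
  partner : ∀ x ∈ Q, x ≠ 1 → x ≠ r → ∃ w ∈ Q, x * w * x⁻¹ * w⁻¹ = r

variable {G : Type*} [Group G] {r : G} {Q : Subgroup G}

/-- **Conjugation.** -/
theorem QSide.conj (h : QSide r Q) (g : G) :
    QSide (g * r * g⁻¹) (Q.map (MulAut.conj g).toMonoidHom) := by
  have hm : ∀ x : G, x ∈ Q.map (MulAut.conj g).toMonoidHom ↔ g⁻¹ * x * g ∈ Q := by
    intro x
    constructor
    · rintro ⟨y, hy, rfl⟩
      have e : g⁻¹ * (MulAut.conj g).toMonoidHom y * g = y := by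
        show g⁻¹ * (g * y * g⁻¹) * g = y
        group
      rwa [e]
    · intro hx
      exact ⟨_, hx, by show g * (g⁻¹ * x * g) * g⁻¹ = x; group⟩
  have cj : ∀ {a b : G}, g⁻¹ * a * g = g⁻¹ * b * g → a = b := fun {a b} e => by
    have := congrArg (fun t => g * t * g⁻¹) e
    simpa only [mul_assoc, _root_.mul_inv_cancel_left, _root_.mul_inv_cancel, _root_.mul_one] using this
  have hy : ∀ y : G, y * (g * r * g⁻¹) = g * r * g⁻¹ * y → g⁻¹ * y * g * r = r * (g⁻¹ * y * g) := by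
    intro y e
    calc g⁻¹ * y * g * r = g⁻¹ * (y * (g * r * g⁻¹)) * g := by group
      _ = g⁻¹ * (g * r * g⁻¹ * y) * g := by rw [e]
      _ = _ := by group
  refine
    { sq := by
        calc g * r * g⁻¹ * (g * r * g⁻¹) = g * (r * r) * g⁻¹ := by group
          _ = 1 := by rw [h.sq]; group
      ne := fun e => h.ne (by
        have := congrArg (fun t => g⁻¹ * t * g) e
        simpa [mul_assoc] using this)
      rQ := ⟨r, h.rQ, rfl⟩
      Qr := ?_
      norm := ?_
      two := ?_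
      comm := ?_
      fixed := ?_
      card := ?_
      partner := ?_ }
  · rintro _ ⟨x, hx, rfl⟩
    show g * x * g⁻¹ * (g * r * g⁻¹) = g * r * g⁻¹ * (g * x * g⁻¹)
    calc g * x * g⁻¹ * (g * r * g⁻¹) = g * (x * r) * g⁻¹ := by group
      _ = g * (r * x) * g⁻¹ := by rw [h.Qr x hx]
      _ = _ := by group
  · intro y e x hx
    rw [hm] at hx ⊢
    have h1 := h.norm _ (hy y e) _ hx
    have e1 : g⁻¹ * (y * x * y⁻¹) * g = g⁻¹ * y * g * (g⁻¹ * x * g) * (g⁻¹ * y * g)⁻¹ := by group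
    rwa [e1]
  · exact h.two.map _
  · rintro _ ⟨x, hx, rfl⟩ _ ⟨y, hy', rfl⟩
    show g * x * g⁻¹ * (g * y * g⁻¹) = g * y * g⁻¹ * (g * x * g⁻¹) ∨
      g * x * g⁻¹ * (g * y * g⁻¹) = g * y * g⁻¹ * (g * x * g⁻¹) * (g * r * g⁻¹)
    have e1 : g * x * g⁻¹ * (g * y * g⁻¹) = g * (x * y) * g⁻¹ := by group
    rcases h.comm x hx y hy' with e | e
    · left
      rw [e1, e]; group
    · right
      rw [e1, e]; group
  · intro x hx hf
    rw [hm] at hx
    have h1 := h.fixed _ hx (fun y e => by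
      have e2 : (g * y * g⁻¹) * (g * r * g⁻¹) = (g * r * g⁻¹) * (g * y * g⁻¹) := by
        calc (g * y * g⁻¹) * (g * r * g⁻¹) = g * (y * r) * g⁻¹ := by group
          _ = g * (r * y) * g⁻¹ := by rw [e]
          _ = _ := by group
      rcases hf _ e2 with e3 | e3
      · left
        calc y * (g⁻¹ * x * g) * y⁻¹ = g⁻¹ * (g * y * g⁻¹ * x * (g * y * g⁻¹)⁻¹) * g := by group
          _ = _ := by rw [e3]
      · right
        calc y * (g⁻¹ * x * g) * y⁻¹ = g⁻¹ * (g * y * g⁻¹ * x * (g * y * g⁻¹)⁻¹) * g := by group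
          _ = g⁻¹ * (x * (g * r * g⁻¹)) * g := by rw [e3]
          _ = _ := by group)
    rcases h1 with e | e
    · left
      apply cj
      rw [e]; group
    · right
      apply cj
      rw [e]; group
  · have h1 : centralizer ({g * r * g⁻¹} : Set G) = (centralizer ({r} : Set G)).map (MulAut.conj g).toMonoidHom := by
      ext y
      rw [mem_centralizer_singleton_iff]
      constructor
      · intro e
        exact ⟨g⁻¹ * y * g, mem_centralizer_singleton_iff.2 (hy y e), by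
          show g * (g⁻¹ * y * g) * g⁻¹ = y; group⟩
      · rintro ⟨z, hz, rfl⟩
        have hz' := mem_centralizer_singleton_iff.1 hz
        show g * z * g⁻¹ * (g * r * g⁻¹) = g * r * g⁻¹ * (g * z * g⁻¹)
        calc g * z * g⁻¹ * (g * r * g⁻¹) = g * (z * r) * g⁻¹ := by group
          _ = g * (r * z) * g⁻¹ := by rw [hz']
          _ = _ := by group
    rw [h1, ← Nat.card_congr ((centralizer ({r} : Set G)).equivMapOfInjective _ (MulAut.conj g).injective).toEquiv,
      ← Nat.card_congr (Q.equivMapOfInjective _ (MulAut.conj g).injective).toEquiv, h.card]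
  · intro x hx hx1 hxr
    rw [hm] at hx
    obtain ⟨w, hw, e⟩ := h.partner _ hx (fun e => hx1 (cj (by rw [e]; group))) (fun e => hxr (cj (by rw [e]; group)))
    refine ⟨g * w * g⁻¹, ⟨w, hw, rfl⟩, ?_⟩
    rw [← e]; group

section Cov

variable [Finite G] {C : Subgroup G}

/-- the hypothesis on `C = C_N(r) = 2.U₆(2)` -/
structure Big (r : G) (C : Subgroup G) : Prop where
  le : ∀ c ∈ C, c * r = r * c
  mem : r ∈ C
  card : Nat.card C = 18393661440
  quot : ∀ J : Subgroup G, J ≤ C → (∀ c ∈ C, ∀ j ∈ J, c * j * c⁻¹ ∈ J) → (∀ j ∈ J, j = 1 ∨ j = r) ∨ J = C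

/-- `C ∩ Q = {1, r}` -/
theorem QSide.inf (h : QSide r Q) (hC : Big r C) : ∀ x ∈ C, x ∈ Q → x = 1 ∨ x = r := by
  rcases hC.quot (C ⊓ Q) inf_le_left (fun c hc j hj =>
    ⟨C.mul_mem (C.mul_mem hc hj.1) (C.inv_mem hc), h.norm c (hC.le c hc) j hj.2⟩) with h1 | h1
  · exact fun x hx hxQ => h1 x ⟨hx, hxQ⟩
  · exfalso
    have h2 : C ≤ Q := by rw [← h1]; exact inf_le_right
    have h3 : IsPGroup 2 C := h.two.to_le h2
    obtain ⟨n, hn⟩ := h3.exists_card_eq
    rw [hC.card] at hn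
    have h4 : 3 ∣ 2 ^ n := by rw [← hn]; norm_num
    have := Nat.prime_three.dvd_of_dvd_pow h4
    omega

end Cov

end Cfsg.Agent.H622.Fi
end

-- part: H622/Fi/GInst
section
/-!
# S5745, `²E₆(2)` and `Fi22`, G-side: `QSide (r0 F) (RE K)` (helper622)

* `card_RE` : `|RE K| = 2²¹`;
* `qside` : `QSide (r0 F) (RE K)`;
* `opp` : elements of `RE K` commuting with a root involution opposite to `r0` are trivial;
* `conj_a0` : root involutions commuting with `r0`, outside `RE K`, are conjugate to `a0 = x_60(1)` under `C(r0)`.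
-/

set_option autoImplicit false
set_option linter.unusedSectionVars false
set_option linter.unusedVariables false

namespace Cfsg.Agent.H622.Fi

open Cfsg Cfsg.Lie
open Cfsg.Agent.ChevalleyStructure
open Cfsg.Agent.ChevalleyStructure.Elts hiding x_add x_zero x_eq_one_iff
open Cfsg.Agent.ChevalleyStructure.TwE6Basic
open Cfsg.Agent.ChevalleyStructure.TwE6BN
open Cfsg.Agent.TwoESix
open Cfsg.Agent.TwoESix.LeviA
open Cfsg.Agent.TwoESix.LeviB
open Cfsg.Agent.TwoESix.LeviC
open Cfsg.Agent.TwoESix.LeviD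
open Cfsg.Agent.TwoESix.LongPairs
open Cfsg.Agent.TwoESix.LongCard
open Cfsg.Agent.TwoESix.FlagH
open Cfsg.Agent.TwoESix.FlagI
open Cfsg.Agent.TwoESix.KeyExtra
open Cfsg.Agent.TwoESix.SheetA
open Cfsg.Agent.BabyU (rootClass)

open scoped commutatorElement Pointwise

universe u

variable {K : Type u} [Field K] [Fintype K] {φ : K →+* K} (F : Four K φ)
include F

theorem card_LL : Nat.card ↥(LL K) = 9196830720 := card_levi F

/-- `|RE K| = 2²¹` -/
theorem card_RE : Nat.card ↥(RE K) = 2 ^ 21 := by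
  have := finite_E (K := K)
  apply le_antisymm
  · exact SheetMM.card_RE_le F
  · have h1 : Nat.card (Subgroup.centralizer ({r0 F} : Set ↥(twistedE6 K 2))) ≤ Nat.card (↥(RE K) × ↥(LL K)) := by
      have : Finite (↥(RE K) × ↥(LL K)) := by
        have : Finite (GL chevE6.Idx K) := inferInstance
        infer_instance
      refine Nat.card_le_card_of_surjective (fun p : ↥(RE K) × ↥(LL K) =>
        (⟨(p.1 : ↥(twistedE6 K 2)) * io K p.2, Subgroup.mem_centralizer_singleton_iff.2 (by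
          have e1 : (p.1 : ↥(twistedE6 K 2)) * r0 F = r0 F * p.1 := RE_comm_r0 F p.1.2
          have e2 : io K p.2 * r0 F = r0 F * io K p.2 := LL_r0 F (l := io K p.2) p.2.2
          rw [mul_assoc, e2, ← mul_assoc, e1, mul_assoc])⟩ :
          Subgroup.centralizer ({r0 F} : Set ↥(twistedE6 K 2)))) ?_
      rintro ⟨y, hy⟩
      obtain ⟨q, hq, l, hl, hlE, e⟩ := decompE F (Subgroup.mem_centralizer_singleton_iff.1 hy)
      exact ⟨(⟨q, hq⟩, ⟨l, hl⟩), Subtype.ext e.symm⟩
    rw [Nat.card_prod, card_cent F, card_LL F] at h1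
    omega

/-- **`QSide`.** -/
theorem qside : QSide (r0 F) (RE K) := by
  have hz := r0_sq' F
  refine
    { sq := hz
      ne := r0_ne' F
      rQ := r0_mem_RE F
      Qr := fun x' hx => RE_comm_r0 F hx
      norm := fun y hy x' hx => R_norm F y hy x' hx
      two := ?_
      comm := fun x' hx y hy => comm_RE' F hx hy
      fixed := ?_
      card := ?_
      partner := ?_ }
  · rintro ⟨x', hx⟩
    refine ⟨2, Subtype.ext ?_⟩
    show x' ^ 2 ^ 2 = 1
    have e : x' ^ 2 ^ 2 = x' * x' * (x' * x') := by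
      rw [show 2 ^ 2 = 4 from rfl, pow_succ, pow_succ, pow_two]; group
    rw [e]
    rcases sq_RE F x' hx with h | h <;> rw [h]
    · rw [one_mul]
    · exact hz
  · intro x' hx hf
    -- the fixed points modulo `⟨r0⟩` form a normal subgroup
    by_contra hcon
    push Not at hcon
    have hxz : x' * r0 F = r0 F * x' := RE_comm_r0 F hx
    let N : Subgroup ↥(twistedE6 K 2) :=
      { carrier := {v | v ∈ RE K ∧ ∀ y, y * r0 F = r0 F * y → y * v * y⁻¹ = v ∨ y * v * y⁻¹ = v * r0 F}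
        one_mem' := ⟨one_mem _, fun y _ => Or.inl (by group)⟩
        mul_mem' := by
          rintro a b ⟨ha, ha'⟩ ⟨hb, hb'⟩
          refine ⟨mul_mem ha hb, fun y hy => ?_⟩
          have e : y * (a * b) * y⁻¹ = (y * a * y⁻¹) * (y * b * y⁻¹) := by group
          have hbz := RE_comm_r0 F hb
          rcases ha' y hy with h1 | h1 <;> rcases hb' y hy with h2 | h2
          · left; rw [e, h1, h2]
          · right; rw [e, h1, h2, mul_assoc]
          · right
            rw [e, h1, h2, mul_assoc, ← hbz, mul_assoc]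
          · left
            rw [e, h1, h2]
            calc a * r0 F * (b * r0 F) = a * (r0 F * b) * r0 F := by group
              _ = a * (b * r0 F) * r0 F := by rw [← hbz]
              _ = a * b * (r0 F * r0 F) := by group
              _ = a * b := by rw [hz, mul_one]
        inv_mem' := by
          rintro a ⟨ha, ha'⟩
          refine ⟨inv_mem ha, fun y hy => ?_⟩
          have haz := RE_comm_r0 F (inv_mem ha)
          have e : y * a⁻¹ * y⁻¹ = (y * a * y⁻¹)⁻¹ := by group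
          rcases ha' y hy with h1 | h1
          · left; rw [e, h1]
          · right
            rw [e, h1, mul_inv_rev, inv_eq_of_mul_eq_one_left hz, ← haz] }
    rcases irr F N (fun v hv => hv.1) (fun y hy v hv => by
      have hyi : y⁻¹ * r0 F = r0 F * y⁻¹ := by
        rw [inv_mul_eq_iff_eq_mul, ← mul_assoc, hy, mul_assoc, mul_inv_cancel, mul_one]
      rcases hv.2 y hy with h1 | h1
      · rw [h1]; exact hv
      · rw [h1]
        refine mul_mem hv ⟨r0_mem_RE F, fun w hw => Or.inl ?_⟩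
        rw [hw, mul_inv_cancel_right]) with h | h
    · rcases h x' ⟨hx, hf⟩ with h1 | h1
      · exact hcon.1 h1
      · exact hcon.2 h1
    · obtain ⟨y, hy, h1, h2⟩ := exists_move' F
      have h3 : c0 F ∈ N := by rw [h]; exact c_R F
      rcases h3.2 y hy with h4 | h4
      · exact h1 h4
      · exact h2 h4
  · rw [card_cent F, card_RE F]
    norm_num
  · intro x' hx h1 h2
    by_contra hcon
    push Not at hcon
    rcases (large F).cent x' hx (fun y hy => by
      rcases comm_RE F hx hy with h | h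
      · exact h
      · exact absurd (by rw [← h, commutatorElement_def]) (hcon y hy)) with h | h
    · exact h1 h
    · exact h2 h

/-- representatives of the pairs of root involutions under `C(r0)` -/
theorem exists_type {s : ↥(twistedE6 K 2)} (hs : s ∈ rootClass K) :
    ∃ k : ↥(twistedE6 K 2), k * r0 F = r0 F * k ∧ ∃ γ ∈ [71, 70, 60, 25, 0],
      ((k * s * k⁻¹ : ↥(twistedE6 K 2)) : GL chevE6.Idx K) = x γ 1 := by
  obtain ⟨h, rfl⟩ := exists_conj F hs
  obtain ⟨k, hk, h1, γ, hγ, h2⟩ := pair_general F (one_mem (twistedE6 K 2)) h.2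
  refine ⟨⟨k, hk⟩, ?_, γ, hγ, h2⟩
  apply Subtype.ext
  show k * x 71 1 = x 71 1 * k
  rw [inv_one, one_mul, mul_one] at h1
  exact mul_inv_eq_iff_eq_mul.1 h1

/-- **Opposite root involutions.** -/
theorem opp {s : ↥(twistedE6 K 2)} (hs : s ∈ rootClass K) (hsr : s ≠ r0 F) (h3 : (r0 F * s) ^ 3 = 1)
    {v : ↥(twistedE6 K 2)} (hv : v ∈ RE K) (hvs : v * s = s * v) : v = 1 := by
  have := F.charP
  obtain ⟨k, hk, γ, hγ, e⟩ := exists_type F hs
  -- reduction to `s = x_γ(1)`
  set S := k * s * k⁻¹ with hS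
  have hkr : k * r0 F * k⁻¹ = r0 F := by rw [hk, mul_inv_cancel_right]
  have hS3 : (r0 F * S) ^ 3 = 1 := by
    have e1 : r0 F * S = k * (r0 F * s) * k⁻¹ := by
      rw [hS]
      calc r0 F * (k * s * k⁻¹) = (k * r0 F * k⁻¹) * (k * s * k⁻¹) := by rw [hkr]
        _ = _ := by group
    rw [e1, conj_pow, h3, mul_one, mul_inv_cancel]
  have hSr : S ≠ r0 F := by
    intro h
    apply hsr
    have h1 : s = k⁻¹ * S * k := by rw [hS]; group
    have h2 : k⁻¹ * r0 F * k = r0 F := by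
      rw [mul_assoc, ← hk, inv_mul_cancel_left]
    rw [h1, h, h2]
  have hss : S * S = 1 := by
    rw [hS]
    calc k * s * k⁻¹ * (k * s * k⁻¹) = k * (s * s) * k⁻¹ := by group
      _ = 1 := by rw [root_sq F hs]; group
  have hnc : ¬ r0 F * S = S * r0 F := by
    intro h
    apply hSr
    have h4 : (r0 F * S) ^ 2 = 1 := by
      rw [pow_two]
      calc r0 F * S * (r0 F * S) = r0 F * (S * r0 F) * S := by group
        _ = r0 F * (r0 F * S) * S := by rw [h]
        _ = (r0 F * r0 F) * (S * S) := by group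
        _ = 1 := by rw [r0_sq' F, hss, one_mul]
    rw [pow_succ, h4, one_mul] at hS3
    rw [← inv_eq_of_mul_eq_one_left (r0_sq' F)]
    exact (inv_eq_of_mul_eq_one_right hS3).symm
  have hV : k * v * k⁻¹ ∈ RE K := R_norm F k hk v hv
  have hVS : (k * v * k⁻¹) * S = S * (k * v * k⁻¹) := by
    rw [hS]
    calc k * v * k⁻¹ * (k * s * k⁻¹) = k * (v * s) * k⁻¹ := by group
      _ = k * (s * v) * k⁻¹ := by rw [hvs]
      _ = _ := by group
  have hnc' : ¬ x 71 (1 : K) * x γ 1 = x γ 1 * x 71 1 := fun h => hnc (Subtype.ext (by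
    show x 71 (1 : K) * (S : GL chevE6.Idx K) = (S : GL chevE6.Idx K) * x 71 1
    rw [e]; exact h))
  simp only [List.mem_cons, List.not_mem_nil, or_false] at hγ
  have hfin : k * v * k⁻¹ = 1 := by
    rcases hγ with rfl | rfl | rfl | rfl | rfl
    · exact absurd rfl hnc'
    · exact absurd comm70 hnc'
    · exact absurd comm60 hnc'
    · exfalso
      have h4 : (x 71 (1 : K) * x 25 1) ^ 3 = 1 := by
        have := congrArg Subtype.val hS3
        rw [← e]
        exact this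
      rw [pow_succ, sq25] at h4
      have h5 := sq25 (K := K)
      have h6 : x 71 (1 : K) * x 25 1 = x 70 1 := by
        have h7 : x 70 (1 : K) * x 70 1 = 1 := x_sq 70
        rw [← inv_eq_of_mul_eq_one_right h4, inv_eq_of_mul_eq_one_right h7]
      rw [h6, pow_two, x_sq] at h5
      exact x_ne_one (K := K) (r := 70) (by norm_num) h5.symm
    · have h4 : ((k * v * k⁻¹ : ↥(twistedE6 K 2)) : GL chevE6.Idx K) * x 0 (1 : K) =
          x 0 1 * ((k * v * k⁻¹ : ↥(twistedE6 K 2)) : GL chevE6.Idx K) := by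
        rw [← e]
        exact congrArg Subtype.val hVS
      exact Subtype.ext (UR_cent_bot (Subgroup.mem_subgroupOf.1 hV) h4)
  have h8 : v = k⁻¹ * (k * v * k⁻¹) * k := by group
  rw [h8, hfin]; group

theorem mem_zp {v : ↥(twistedE6 K 2)} : v ∈ Subgroup.zpowers (r0 F) ↔ v = 1 ∨ v = r0 F := by
  constructor
  · intro h
    obtain ⟨n, rfl⟩ := Subgroup.mem_zpowers_iff.1 h
    have h2 : r0 F ^ (2 : ℤ) = 1 := by
      have := r0_sq' F
      rw [zpow_two]; exact this
    rcases Int.even_or_odd' n with ⟨m, rfl | rfl⟩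
    · left
      rw [zpow_mul, h2, one_zpow]
    · right
      rw [zpow_add, zpow_mul, h2, one_zpow, one_mul, zpow_one]
  · rintro (rfl | rfl)
    · exact one_mem _
    · exact Subgroup.mem_zpowers _

theorem comm_mem_zp {x' v : ↥(twistedE6 K 2)} :
    ⁅x', v⁆ ∈ Subgroup.zpowers (r0 F) ↔ (x' * v * x'⁻¹ = v ∨ x' * v * x'⁻¹ = r0 F * v) := by
  rw [mem_zp F, commutatorElement_def, mul_inv_eq_one]
  exact or_congr Iff.rfl mul_inv_eq_iff_eq_mul

/-- conjugates of `r0` are root involutions -/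
theorem mem_root (g : ↥(twistedE6 K 2)) : g * r0 F * g⁻¹ ∈ rootClass K :=
  conj_T (show r0 F ∈ rootClass K from xe_T F 71 (by decide +kernel)) g

/-- **The facts on `²E₆(2)`** from (4a), (4b) and Borel–Tits. -/
theorem gside_of {u : ↥(twistedE6 K 2)} (hu : u ∈ RE K) (hu1 : u ∉ Subgroup.zpowers (r0 F))
    (h4 : ∀ a ∈ rootClass K, a * r0 F = r0 F * a → a ∉ RE K → ⁅a, u⁆ ∉ Subgroup.zpowers (r0 F))
    (h7 : ∃ y : ↥(twistedE6 K 2), y * r0 F = r0 F * y ∧ orderOf y = 7 ∧ y * u = u * y)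
    (h5 : ∃ y : ↥(twistedE6 K 2), y * r0 F = r0 F * y ∧ orderOf y = 5 ∧ y * u = u * y)
    (hbt : ∀ d : ↥(twistedE6 K 2), orderOf d = 2 → 11 ∣ Nat.card (Subgroup.centralizer ({d} : Set ↥(twistedE6 K 2))) →
      ∃ g : ↥(twistedE6 K 2), Subgroup.centralizer ({d} : Set ↥(twistedE6 K 2)) ≤
        Subgroup.centralizer {g * r0 F * g⁻¹}) :
    H203.EPX.GSide (r0 F) (RE K) u := by
  have Q := qside F
  have hc : ∀ {y : ↥(twistedE6 K 2)}, y ∈ Subgroup.centralizer ({r0 F} : Set ↥(twistedE6 K 2)) ↔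
      y * r0 F = r0 F * y := Subgroup.mem_centralizer_singleton_iff
  have hcr : ∀ v ∈ RE K, r0 F * v = v * r0 F := fun v hv => (Q.Qr v hv).symm
  refine
    { rr := Q.sq
      r1 := Q.ne
      rQ := Q.rQ
      le := fun v hv => hc.2 (Q.Qr v hv)
      nor := fun x' hx v hv => Q.norm x' (hc.1 hx) v hv
      two := Q.two
      com := fun v hv w hw => (comm_mem_zp F).2 ?_
      surj := fun v hv hv1 => ?_
      card := Q.card
      fix := fun v hv hf => (mem_zp F).2 (Q.fixed v hv fun y hy => ?_)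
      uQ := hu
      u1 := hu1
      tr := fun g hg hgQ => h4 _ (mem_root F g) hg hgQ
      seven := ?_
      five := ?_
      opp := fun g ho v hv hvs => ?_
      bt := hbt }
  · rcases Q.comm v hv w hw with h | h
    · left; rw [h, mul_inv_cancel_right]
    · right
      rw [h, hcr w hw]
      have h2 := Q.Qr v⁻¹ (inv_mem hv)
      calc w * v * r0 F * v⁻¹ = w * v * (r0 F * v⁻¹) := by group
        _ = w * v * (v⁻¹ * r0 F) := by rw [h2]
        _ = w * r0 F := by group
  · obtain ⟨w, hw, e⟩ := Q.partner v hv (fun h => hv1 ((mem_zp F).2 (Or.inl h))) (fun h => hv1 ((mem_zp F).2 (Or.inr h)))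
    exact ⟨w, hw, by rw [commutatorElement_def]; exact e⟩
  · rcases (comm_mem_zp F).1 (hf y (hc.2 hy)) with h | h
    · exact Or.inl h
    · right; rw [h, hcr v hv]
  · obtain ⟨y, h1, h2, h3⟩ := h7
    exact ⟨y, hc.2 h1, h2, h3⟩
  · obtain ⟨y, h1, h2, h3⟩ := h5
    exact ⟨y, hc.2 h1, h2, h3⟩
  · have h3 : (g * r0 F * g⁻¹ * r0 F) ^ 3 = 1 := by rw [← ho]; exact pow_orderOf_eq_one _
    refine opp F (mem_root F g) (fun e => ?_) ?_ hv hvs
    · rw [e, Q.sq, orderOf_one] at ho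
      norm_num at ho
    · have e : r0 F * (g * r0 F * g⁻¹) = r0 F * (g * r0 F * g⁻¹ * r0 F) * (r0 F)⁻¹ := by group
      rw [e, conj_pow, h3, mul_one, mul_inv_cancel]

end Cfsg.Agent.H622.Fi
end

-- part: H406/EPF/Bt
section
/-!
# S5745, the row `(²E₆(2), Fi₂₂)`: Borel–Tits in `²E₆(2)` (helper406)

`bt` : an involution whose centraliser has order divisible by `11` has its centraliser inside the centraliser of a long
root involution. The centraliser lies in a conjugate of a maximal parabolic subgroup; `11` divides the order of one class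
of them only, and these are the centralisers of the long root involutions (orders).
-/

set_option autoImplicit false

namespace Cfsg.Agent.H406.EPF

open CoxeterSystem Cfsg.Agent.ChevalleyStructure.CoxeterGeom Cfsg.Agent.Tits.Roots Cfsg.Agent.Tits.Core
  Cfsg.Agent.Tits.Exchange Cfsg.Agent.Nodes.Reps Cfsg.Agent.Nodes.BNOf Cfsg.Agent.Nodes.StabComb
  Cfsg.Agent.Nodes.Bruhat Cfsg.Agent.Nodes.OppDec Cfsg.Agent.Nodes.LeviDec Cfsg.Agent.Nodes.NormalForm
open Cfsg.Agent.H934.RowOrb Cfsg.Agent.H436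
open Cfsg.Lie Cfsg.Agent.ChevalleyStructure Cfsg.Agent.H35.ExcIdx Cfsg.Agent.H35.PoinNum Cfsg.Agent.H35.Poin
open Cfsg.Agent.H976.TwE6Par
open Cfsg.Agent.TwoESix.LeviA Cfsg.Agent.TwoESix.LongCard

universe u

/-- the values of `NN` at `2` -/
theorem NN_two : _root_.Cfsg.Agent.H976.TwE6Par.NN 2 0 = 93555 ∧ _root_.Cfsg.Agent.H976.TwE6Par.NN 2 1 = 315 ∧ _root_.Cfsg.Agent.H976.TwE6Par.NN 2 2 = 105 ∧ _root_.Cfsg.Agent.H976.TwE6Par.NN 2 3 = 16065 := by
  refine ⟨?_, ?_, ?_, ?_⟩ <;> rfl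

theorem cj_centralizer {G : Type*} [Group G] (g r : G) :
    cj g (Subgroup.centralizer ({r} : Set G)) = Subgroup.centralizer {g * r * g⁻¹} := by
  ext x
  constructor
  · rintro ⟨y, hy, rfl⟩
    have h1 := Subgroup.mem_centralizer_singleton_iff.1 hy
    refine Subgroup.mem_centralizer_singleton_iff.2 ?_
    show g * y * g⁻¹ * (g * r * g⁻¹) = g * r * g⁻¹ * (g * y * g⁻¹)
    calc g * y * g⁻¹ * (g * r * g⁻¹) = g * (y * r) * g⁻¹ := by group
      _ = g * (r * y) * g⁻¹ := by rw [h1]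
      _ = _ := by group
  · intro hx
    have h1 := Subgroup.mem_centralizer_singleton_iff.1 hx
    refine ⟨g⁻¹ * x * g, Subgroup.mem_centralizer_singleton_iff.2 ?_, ?_⟩
    · calc g⁻¹ * x * g * r = g⁻¹ * (x * (g * r * g⁻¹)) * g := by group
        _ = g⁻¹ * (g * r * g⁻¹ * x) * g := by rw [h1]
        _ = _ := by group
    · show g * (g⁻¹ * x * g) * g⁻¹ = x
      group

section

variable {K : Type u} [Field K] [Fintype K] {φ : K →+* K}

/-- the maximal parabolic subgroup of type `{j | j ≠ i}` -/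
noncomputable abbrev Pm (φ : K →+* K) (i : Fin 4) : Subgroup ↥(twistedE6 K 2) :=
  PJ CoxeterMatrix.F₄.toCoxeterSystem Nodes.RGDTwE6.isCartan (Nodes.RGDTwE6.T K 2) (Nodes.RGDTwE6.X φ 2) {j | j ≠ i}

/-- the orders of the maximal parabolic subgroups -/
theorem card_Pm (F : Four K φ) : ∃ a, ∀ i : Fin 4, Nat.card ↥(Pm φ i) = _root_.Cfsg.Agent.H976.TwE6Par.NN 2 i * (3 * 2 ^ a) := by
  have : Finite (GL chevE6.Idx K) := inferInstance
  have := F.charP
  have hp' : Fact (Nat.Prime 2) := ⟨Nat.prime_two⟩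
  have hφ := F.sq
  have hqq := F.sqq
  have hK : Fintype.card K = 2 ^ 2 := by rw [F.card]; norm_num
  have hpp : IsPrimePow 2 := Nat.prime_two.isPrimePow
  have hfin : Finite CoxeterMatrix.F₄.Group := Nodes.RGDFold.finite_W (hp := Nodes.RGDTwE6.hp)
    CoxeterMatrix.F₄.toCoxeterSystem Nodes.RGDTwE6.isCartan Nodes.RGDTwE6.foldData
  have hR := Nodes.RGDTwE6.rgd CoxeterMatrix.F₄.toCoxeterSystem hφ hqq 2
  have hc := card_X_tw (φ := φ) hφ hqq (by norm_num) hK
  have hT : Nat.gcd 3 (2 + 1) * Nat.card ↥(Nodes.RGDTwE6.T K 2) = (2 - 1) ^ 4 * (2 + 1) ^ 2 := by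
    rw [← Cfsg.Agent.S1102.result hpp hK]
    congr 1
    exact Nat.card_congr (Subgroup.subgroupOfEquivOfLe inf_le_right).toEquiv
  have hT3 : Nat.card ↥(Nodes.RGDTwE6.T K 2) = 3 := by
    norm_num only [] at hT
    omega
  obtain ⟨a, ha⟩ := (IsPGroup.iff_card (p := 2)).1 hR.isPGroup_Upos
  have hB : Nat.card ↥(RGD.B CoxeterMatrix.F₄.toCoxeterSystem
      Nodes.RGDTwE6.isCartan (Nodes.RGDTwE6.T K 2) (Nodes.RGDTwE6.X φ 2)) = 3 * 2 ^ a := by
    rw [card_B' hR, ha, hT3, mul_comm]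
  have hFA : FA [(2 : Fin 4)].length (2 ^ 2) * 1 = 1 + 2 ^ 2 := by simp [FA, Finset.sum_range_succ]
  have hN2 := card_step hR path2 (y := 2 ^ 2) (fun i hi => by
    rw [hc]; revert i; simp [fE]) (card_nil hR)
  rw [hFA] at hN2
  have hN12 := card_orbit hR orb1 hc (JL' := [2]) (by decide) hN2
  rw [sum_L1] at hN12
  have hN123 := card_orbit hR orb3 hc (JL' := [1, 2]) (by decide) hN12
  rw [sum_L3] at hN123
  have hN012 := card_orbit hR orb0 hc (JL' := [1, 2]) (by decide) hN12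
  rw [sum_L0] at hN012
  have hN023 := card_step hR path_T_2 (y := 2) (fun i hi => by rw [hc]; revert i; simp only [fE, _root_.Fin.isValue, _root_.List.mem_cons, _root_.List.not_mem_nil, _root_.or_false, _root_.Order.lt_two_iff, _root_.Nat.reducePow, _root_.ite_eq_left_iff, _root_.not_le, _root_.Nat.reduceEqDiff, _root_.imp_false, _root_.not_lt, _root_.forall_eq, _root_.Fin.coe_ofNat_eq_mod, _root_.Nat.zero_mod, _root_.zero_le])
    (card_step hR path_T_3 (y := 2 ^ 2) (fun i hi => by rw [hc]; revert i; simp only [fE, _root_.Fin.isValue, _root_.List.mem_cons, _root_.List.not_mem_nil, _root_.or_false, _root_.Order.lt_two_iff, _root_.Nat.reducePow, _root_.ite_eq_right_iff, _root_.Nat.reduceEqDiff, _root_.imp_false, _root_.not_le, _root_.forall_eq_or_imp, _root_.Fin.coe_ofNat_eq_mod, _root_.Nat.reduceMod, _root_.Std.le_refl, _root_.forall_eq, _root_.Nat.mod_succ, _root_.Nat.one_lt_ofNat, _root_.and_self]) (card_nil hR))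
  have hN013 := card_step hR path_T_0 (y := 2) (fun i hi => by rw [hc]; revert i; simp only [fE, _root_.Fin.isValue, _root_.List.mem_cons, _root_.List.not_mem_nil, _root_.or_false, _root_.Order.lt_two_iff, _root_.Nat.reducePow, _root_.ite_eq_left_iff, _root_.not_le, _root_.Nat.reduceEqDiff, _root_.imp_false, _root_.not_lt, _root_.forall_eq_or_imp, _root_.Fin.coe_ofNat_eq_mod, _root_.Nat.zero_mod, _root_.zero_le, _root_.forall_eq, _root_.Nat.one_mod, _root_.Std.le_refl, _root_.and_self])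
    (card_step hR path_T_1 (y := 2 ^ 2) (fun i hi => by rw [hc]; revert i; simp [fE]) (card_nil hR))
  have hF1 : FA [(0 : Fin 4)].length 2 * (FA [(2 : Fin 4), 3].length (2 ^ 2) * 1) =
      (1 + 2) * ((1 + 2 ^ 2) * (1 + 2 ^ 2 + 2 ^ 4)) := by
    simp only [FA, List.length_cons, List.length_nil, Finset.prod_range_succ, Finset.prod_range_zero,
      Finset.sum_range_succ, Finset.sum_range_zero]
    norm_num
  have hF2 : FA [(0 : Fin 4), 1].length 2 * (FA [(3 : Fin 4)].length (2 ^ 2) * 1) =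
      (1 + 2) * (1 + 2 + 2 ^ 2) * (1 + 2 ^ 2) := by
    simp only [FA, List.length_cons, List.length_nil, Finset.prod_range_succ, Finset.prod_range_zero,
      Finset.sum_range_succ, Finset.sum_range_zero]
    norm_num
  rw [hF1] at hN023
  rw [hF2] at hN013
  have hset : ∀ i : Fin 4, ({j | j ≠ i} : Set (Fin 4)) =
      {j | j ∈ (![([1, 2, 3] : List (Fin 4)), [0, 2, 3], [0, 1, 3], [0, 1, 2]] i)} := by
    intro i
    ext j
    show j ≠ i ↔ j ∈ _
    revert i j
    decide
  refine ⟨a, fun i => ?_⟩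
  rw [← hB]
  show Nat.card ↥(PJ _ _ _ _ _) = _
  rw [hset]
  fin_cases i
  · exact hN123
  · exact hN023
  · exact hN013
  · exact hN012

/-- the parabolic subgroup of type `{1, 2, 3}` is the centraliser of a long root involution -/
theorem Pm_zero (F : Four K φ) : ∃ g : ↥(twistedE6 K 2), Pm φ 0 = Subgroup.centralizer {g * r0 F * g⁻¹} := by
  have : Finite ↥(twistedE6 K 2) := finite_E
  have := F.charP
  have hp' : Fact (Nat.Prime 2) := ⟨Nat.prime_two⟩
  have hφ := F.sq
  have hqq := F.sqq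
  have hfin : Finite CoxeterMatrix.F₄.Group := Nodes.RGDFold.finite_W (hp := Nodes.RGDTwE6.hp)
    CoxeterMatrix.F₄.toCoxeterSystem Nodes.RGDTwE6.isCartan Nodes.RGDTwE6.foldData
  have hR := Nodes.RGDTwE6.rgd CoxeterMatrix.F₄.toCoxeterSystem hφ hqq 2
  have hG1 : Nodes.RGDLib.G1 CoxeterMatrix.F₄.toCoxeterSystem Nodes.RGDTwE6.isCartan (Nodes.RGDTwE6.X φ 2) = ⊤ :=
    Nodes.RGDTwE6.G1_eq_top _ hφ hqq
  obtain ⟨a, ha⟩ := card_Pm F
  obtain ⟨n0, n1, n2, n3⟩ := NN_two
  obtain ⟨i, g, hg⟩ := exists_par hR hG1 (H := Subgroup.centralizer {r0 F})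
    (by rw [index_cent F]; norm_num) (by
      intro h
      have h1 := index_cent F
      rw [h, Subgroup.index_top] at h1
      norm_num at h1)
  have hg' : cj g (Subgroup.centralizer {r0 F}) ≤ Pm φ i := hg
  have hcc : Nat.card ↥(cj g (Subgroup.centralizer {r0 F})) = 93555 * (3 * 2 ^ 36) := by
    rw [← card_cent F]
    exact Nat.card_congr ((Subgroup.centralizer {r0 F}).equivMapOfInjective (MulAut.conj g).toMonoidHom
      (MulAut.conj g).injective).symm.toEquiv
  have hd := Subgroup.card_dvd_of_le hg'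
  rw [hcc, ha i] at hd
  -- `i = 0`
  have h11 : (11 : ℕ) ∣ _root_.Cfsg.Agent.H976.TwE6Par.NN 2 i * (3 * 2 ^ a) := (by norm_num : (11 : ℕ) ∣ 93555 * (3 * 2 ^ 36)).trans hd
  have hi : i = 0 := by
    have hpr : Nat.Prime 11 := by norm_num
    rcases hpr.dvd_mul.1 h11 with h | h
    · fin_cases i
      · rfl
      · exfalso; change 11 ∣ _root_.Cfsg.Agent.H976.TwE6Par.NN 2 1 at h; rw [n1] at h; norm_num at h
      · exfalso; change 11 ∣ _root_.Cfsg.Agent.H976.TwE6Par.NN 2 2 at h; rw [n2] at h; norm_num at h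
      · exfalso; change 11 ∣ _root_.Cfsg.Agent.H976.TwE6Par.NN 2 3 at h; rw [n3] at h; norm_num at h
    · exfalso
      rcases hpr.dvd_mul.1 h with h | h
      · norm_num at h
      · have := hpr.dvd_of_dvd_pow h
        norm_num at this
  subst hi
  refine ⟨g, ?_⟩
  rw [← cj_centralizer]
  have ha36 : a ≤ 36 := by
    have h1 : 2 ^ a ∣ Nat.card ↥(twistedE6 K 2) := by
      have h2 := Subgroup.card_subgroup_dvd_card (Pm φ 0)
      rw [ha 0] at h2
      exact (Dvd.intro_left (_root_.Cfsg.Agent.H976.TwE6Par.NN 2 0 * 3) (by ring)).trans h2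
    rw [card_E F] at h1
    by_contra hc
    have h3 : 2 ^ 37 ∣ 76532479683774853939200 := (pow_dvd_pow 2 (by omega)).trans h1
    norm_num at h3
  refine (Subgroup.eq_of_le_of_card_ge hg' ?_).symm
  rw [hcc, ha 0, n0]
  exact Nat.mul_le_mul_left _ (Nat.mul_le_mul_left _ (Nat.pow_le_pow_right (by norm_num) ha36))

/-- **Borel–Tits for the involutions centralised by an element of order `11`.** -/
theorem bt (F : Four K φ) (d : ↥(twistedE6 K 2)) (hd : orderOf d = 2)
    (h11 : 11 ∣ Nat.card (Subgroup.centralizer ({d} : Set ↥(twistedE6 K 2)))) :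
    ∃ g : ↥(twistedE6 K 2), Subgroup.centralizer {d} ≤ Subgroup.centralizer {g * r0 F * g⁻¹} := by
  classical
  have : Finite ↥(twistedE6 K 2) := finite_E
  have := F.charP
  have hp' : Fact (Nat.Prime 2) := ⟨Nat.prime_two⟩
  have hφ := F.sq
  have hqq := F.sqq
  have hW : Finite CoxeterMatrix.F₄.Group := Cfsg.Agent.KFacts.TwESix.Comb.finiteW CoxeterMatrix.F₄.toCoxeterSystem
  have hF := Cfsg.Agent.KFacts.RgdFiltTwAll.filt_fold CoxeterMatrix.F₄.toCoxeterSystem Nodes.RGDTwE6.isCartan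
    Nodes.RGDTwE6.foldData (Nodes.RGDTwE6.foldGrp hφ hqq) 2
  have hK : IsPGroup 2 ↥(Subgroup.zpowers d) := IsPGroup.of_card (n := 1) (by rw [Nat.card_zpowers, hd, pow_one])
  have hK1 : Subgroup.zpowers d ≠ ⊥ := by
    rw [Ne, Subgroup.zpowers_eq_bot]
    rintro rfl
    rw [orderOf_one] at hd
    norm_num at hd
  obtain ⟨g, J, hJ, -, hn⟩ := Cfsg.Agent.KFacts.RgdFilt.borel_tits_of_filt hF
    (Nodes.RGDTwE6.G1_eq_top CoxeterMatrix.F₄.toCoxeterSystem hφ hqq) hK hK1
  obtain ⟨i, hi⟩ := (Set.ne_univ_iff_exists_notMem _).1 hJ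
  have h1 : Subgroup.centralizer ({d} : Set ↥(twistedE6 K 2)) ≤ cj g (Pm φ i) := by
    have h2 : Subgroup.centralizer ({d} : Set ↥(twistedE6 K 2)) ≤
        Subgroup.normalizer (Subgroup.zpowers d : Set ↥(twistedE6 K 2)) := by
      rw [← Subgroup.centralizer_closure, ← Subgroup.zpowers_eq_closure]
      exact Subgroup.centralizer_le_normalizer _
    refine (h2.trans hn).trans (Subgroup.map_mono (Cfsg.Agent.H505.Cop.PJ_mono fun j hj => ?_))
    rintro rfl
    exact hi hj
  obtain ⟨a, ha⟩ := card_Pm F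
  obtain ⟨n0, n1, n2, n3⟩ := NN_two
  have hcc : Nat.card ↥(cj g (Pm φ i)) = _root_.Cfsg.Agent.H976.TwE6Par.NN 2 i * (3 * 2 ^ a) := by
    rw [← ha i]
    exact Nat.card_congr ((Pm φ i).equivMapOfInjective (MulAut.conj g).toMonoidHom
      (MulAut.conj g).injective).symm.toEquiv
  have h11' : (11 : ℕ) ∣ _root_.Cfsg.Agent.H976.TwE6Par.NN 2 i * (3 * 2 ^ a) := by
    rw [← hcc]
    exact h11.trans (Subgroup.card_dvd_of_le h1)
  have hi0 : i = 0 := by
    have hpr : Nat.Prime 11 := by norm_num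
    rcases hpr.dvd_mul.1 h11' with h | h
    · fin_cases i
      · rfl
      · exfalso; change 11 ∣ _root_.Cfsg.Agent.H976.TwE6Par.NN 2 1 at h; rw [n1] at h; norm_num at h
      · exfalso; change 11 ∣ _root_.Cfsg.Agent.H976.TwE6Par.NN 2 2 at h; rw [n2] at h; norm_num at h
      · exfalso; change 11 ∣ _root_.Cfsg.Agent.H976.TwE6Par.NN 2 3 at h; rw [n3] at h; norm_num at h
    · exfalso
      rcases hpr.dvd_mul.1 h with h | h
      · norm_num at h
      · have := hpr.dvd_of_dvd_pow h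
        norm_num at this
  subst hi0
  obtain ⟨g0, hg0⟩ := Pm_zero F
  refine ⟨g * g0, h1.trans ?_⟩
  rw [hg0, cj_centralizer]
  refine le_of_eq ?_
  congr 2
  group

end

end Cfsg.Agent.H406.EPF
end

-- part: H203/EPX/GsideOf
section
/-!
# S5745, the row `(²E₆(2), Fi₂₂)`: the `²E₆(2)`-side (helper203, with helper406, helper622, helper891)
-/

set_option autoImplicit false

namespace Cfsg.Agent.H203.EPX

open Cfsg.Lie Cfsg.Agent.ChevalleyStructure
open Cfsg.Agent.Nodes.RGDTwE6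
open Cfsg.Agent.TwoESix.LeviA Cfsg.Agent.TwoESix.LongPairs Cfsg.Agent.TwoESix.LongCard Cfsg.Agent.TwoESix.FlagH
  Cfsg.Agent.TwoESix.SheetA
open Cfsg.Agent.BabyU (rootClass)
open scoped commutatorElement

universe u

variable {K : Type u} [Field K] [Fintype K] {φ : K →+* K} (F : Four K φ)

include F

theorem gside_of_chk
    (hpos : ∀ l ∈ lst, ∀ y ∈ X φ 2 l.1, y ≠ 1 → y ∉ St0 F)
    (hneg : ∀ l ∈ lst, ∀ p1 ∈ X φ 2 l.1, ∀ p2 ∈ X φ 2 l.2.1, ∀ p3 ∈ X φ 2 l.2.2, ∀ y ∈ X φ 2 (-l.1), y ≠ 1 →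
      p1 * p2 * p3 * y * (p1 * p2 * p3)⁻¹ ∉ St0 F) : GSide (r0 F) (RE K) (u0 F) := by
  have hu1 : u0 F ∉ Subgroup.zpowers (r0 F) := by
    intro h
    have h1 := mem_zpowers_two (r0_sq' F) h
    -- `u` does not commute with `x_70`
    have h2 : u0 F * xe F 70 (by decide +kernel) = xe F 70 (by decide +kernel) * u0 F := by
      rcases h1 with h1 | h1
      · rw [h1]; group
      · rw [h1]
        exact (RE_comm_r0 F (c_R F)).symm
    have h3 : xe F 46 (by decide +kernel) * c0 F = c0 F * xe F 46 (by decide +kernel) := by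
      have h4 : xe F 46 (by decide +kernel) * c0 F * c0 F = c0 F * (xe F 46 (by decide +kernel) * c0 F) := h2
      rw [← mul_assoc] at h4
      exact mul_right_cancel h4
    exact xe46_not_comm F h3
  refine Cfsg.Agent.H622.Fi.gside_of F (u0_RE F) hu1 (fun a ha hc hQ => ?_) ?_ ?_
    (Cfsg.Agent.H406.EPF.bt F)
  · obtain ⟨k, rfl⟩ := Cfsg.Agent.TwoESix.KeyExtra.exists_conj F ha
    exact tr F hpos hneg k hc hQ
  · obtain ⟨y, h1, h2, h3⟩ := Cfsg.Agent.H891.EPF.exists_y F (p := 7) (Or.inr rfl)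
    exact ⟨y, h2, h1, h3⟩
  · obtain ⟨y, h1, h2, h3⟩ := Cfsg.Agent.H891.EPF.exists_y F (p := 5) (Or.inl rfl)
    exact ⟨y, h2, h1, h3⟩

end Cfsg.Agent.H203.EPX
end

-- part: H891/EPF/Letters
section
/-!
# S5745, `²E₆(2)` and `Fi₂₂`: the letters for the Levi transvections (generated; helper891)
-/

set_option autoImplicit false

namespace Cfsg.Agent.H891.TE6.Eng

open Cfsg Cfsg.Lie

theorem mkL_of {D : ChevalleyDatum} {r : ℕ} {l : Ltr} (h : mkL D r 0 = l) (t : ℕ) :
    mkL D r t = ⟨l.r, t, 2 * t % 3, l.l1, l.l2⟩ := by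
  rw [← h]
  rfl

def k39 : Ltr := ⟨39, 0, 0,
  [(2, 90), (4, 90), (8, 90), (76, 6), (14, 16), (24, 28), (26, 30), (38, 40), (46, 50), (48, 52), (60, 62), (68,
  70), (72, 78), (74, 80), (86, 92), (88, 94), (96, 98), (104, 106), (114, 118), (116, 120), (126, 128), (136, 140),
  (138, 142), (150, 152)],
  [(76, 90)]⟩
theorem k39_eq : mkL chevE6 39 0 = k39 := by decide +kernel

def k44 : Ltr := ⟨44, 0, 0,
  [(0, 100), (2, 100), (4, 100), (8, 100), (10, 100), (66, 4), (66, 6), (66, 8), (14, 24), (16, 28), (20, 32), (36,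
  42), (44, 56), (48, 60), (52, 62), (64, 82), (68, 86), (70, 92), (74, 96), (80, 98), (84, 102), (104, 114), (106,
  118), (110, 122), (124, 130), (134, 146), (138, 150), (142, 152)],
  [(66, 100)]⟩
theorem k44_eq : mkL chevE6 44 0 = k44 := by decide +kernel

def k60 : Ltr := ⟨60, 0, 0,
  [(0, 132), (2, 132), (10, 132), (34, 0), (34, 4), (34, 6), (34, 8), (34, 10), (14, 48), (16, 52), (18, 54), (22,
  58), (24, 60), (28, 62), (36, 84), (38, 88), (40, 94), (42, 102), (64, 124), (72, 126), (78, 128), (82, 130),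
  (104, 138), (106, 142), (108, 144), (112, 148), (114, 150), (118, 152)],
  [(34, 132)]⟩
theorem k60_eq : mkL chevE6 60 0 = k60 := by decide +kernel

def k32 : Ltr := ⟨32, 0, 0,
  [(2, 76), (4, 76), (8, 76), (90, 6), (16, 14), (28, 24), (30, 26), (40, 38), (50, 46), (52, 48), (62, 60), (70,
  68), (78, 72), (80, 74), (92, 86), (94, 88), (98, 96), (106, 104), (118, 114), (120, 116), (128, 126), (140, 136),
  (142, 138), (152, 150)],
  [(90, 76)]⟩
theorem k32_eq : mkL chevE6 32 0 = k32 := by decide +kernel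

def k27 : Ltr := ⟨27, 0, 0,
  [(0, 66), (2, 66), (4, 66), (8, 66), (10, 66), (100, 4), (100, 6), (100, 8), (24, 14), (28, 16), (32, 20), (42,
  36), (56, 44), (60, 48), (62, 52), (82, 64), (86, 68), (92, 70), (96, 74), (98, 80), (102, 84), (114, 104), (118,
  106), (122, 110), (130, 124), (146, 134), (150, 138), (152, 142)],
  [(100, 66)]⟩
theorem k27_eq : mkL chevE6 27 0 = k27 := by decide +kernel

def k11 : Ltr := ⟨11, 0, 0,
  [(0, 34), (2, 34), (10, 34), (132, 0), (132, 4), (132, 6), (132, 8), (132, 10), (48, 14), (52, 16), (54, 18), (58,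
  22), (60, 24), (62, 28), (84, 36), (88, 38), (94, 40), (102, 42), (124, 64), (126, 72), (128, 78), (130, 82),
  (138, 104), (142, 106), (144, 108), (148, 112), (150, 114), (152, 118)],
  [(132, 34)]⟩
theorem k11_eq : mkL chevE6 11 0 = k11 := by decide +kernel

def k40 : Ltr := ⟨40, 0, 0,
  [(2, 92), (4, 92), (6, 92), (8, 92), (10, 92), (74, 6), (74, 8), (14, 18), (22, 28), (26, 32), (36, 40), (44, 50),
  (48, 54), (58, 62), (66, 70), (72, 82), (76, 86), (80, 90), (84, 94), (96, 100), (104, 108), (112, 118), (116,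
  122), (126, 130), (134, 140), (138, 144), (148, 152)],
  [(74, 92)]⟩
theorem k40_eq : mkL chevE6 40 0 = k40 := by decide +kernel

def k43 : Ltr := ⟨43, 0, 0,
  [(0, 98), (2, 98), (4, 98), (6, 98), (8, 98), (68, 4), (68, 6), (14, 22), (18, 28), (20, 30), (38, 42), (46, 56),
  (48, 58), (54, 62), (64, 78), (66, 80), (70, 90), (76, 96), (86, 100), (88, 102), (104, 112), (108, 118), (110,
  120), (124, 128), (136, 146), (138, 148), (144, 152)],
  [(68, 98)]⟩
theorem k43_eq : mkL chevE6 43 0 = k43 := by decide +kernel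

def k41 : Ltr := ⟨41, 0, 0,
  [(2, 94), (4, 94), (6, 94), (10, 94), (72, 6), (72, 8), (72, 10), (14, 20), (22, 30), (24, 32), (34, 40), (44,
  52), (46, 54), (56, 62), (64, 70), (74, 84), (76, 88), (78, 90), (82, 92), (96, 102), (104, 110), (112, 120),
  (114, 122), (126, 132), (134, 142), (136, 144), (146, 152)],
  [(72, 94)]⟩
theorem k41_eq : mkL chevE6 41 0 = k41 := by decide +kernel

def k58 : Ltr := ⟨58, 0, 0,
  [(0, 128), (2, 128), (6, 128), (8, 128), (38, 0), (38, 4), (38, 6), (14, 44), (18, 50), (20, 52), (24, 56), (26,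
  58), (32, 62), (34, 78), (36, 80), (40, 90), (42, 98), (68, 124), (76, 126), (86, 130), (88, 132), (104, 134),
  (108, 140), (110, 142), (114, 146), (116, 148), (122, 152)],
  [(38, 128)]⟩
theorem k58_eq : mkL chevE6 58 0 = k58 := by decide +kernel

def k45 : Ltr := ⟨45, 0, 0,
  [(0, 102), (2, 102), (4, 102), (10, 102), (64, 4), (64, 6), (64, 8), (64, 10), (14, 26), (16, 30), (18, 32), (34,
  42), (44, 58), (46, 60), (50, 62), (66, 84), (68, 88), (70, 94), (72, 96), (78, 98), (82, 100), (104, 116), (106,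
  120), (108, 122), (124, 132), (134, 148), (136, 150), (140, 152)],
  [(64, 102)]⟩
theorem k45_eq : mkL chevE6 45 0 = k45 := by (delta Cfsg.Agent.H891.TE6.Eng.mkL Cfsg.Agent.H891.TE6.Eng.odds Cfsg.Agent.Th.E8Recipe.recipe; rewrite [Cfsg.Agent.ChevFast.E6.chain, Cfsg.Agent.ChevFast.E6.coroot, Cfsg.Agent.ChevFast.E6.negA]; (try set_option simprocs false in simp -zeta only [Cfsg.Agent.ChevFast.E6.cartanR]); decide +kernel)

def k59 : Ltr := ⟨59, 0, 0,
  [(0, 130), (2, 130), (8, 130), (10, 130), (36, 0), (36, 4), (36, 6), (36, 8), (14, 46), (16, 50), (20, 54), (22,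
  56), (26, 60), (30, 62), (34, 82), (38, 86), (40, 92), (42, 100), (66, 124), (74, 126), (80, 128), (84, 132),
  (104, 136), (106, 140), (110, 144), (112, 146), (116, 150), (120, 152)],
  [(36, 130)]⟩
theorem k59_eq : mkL chevE6 59 0 = k59 := by decide +kernel

def k40w1 : Ltr := ⟨40, 1, 2,
  [(2, 92), (4, 92), (6, 92), (8, 92), (10, 92), (74, 6), (74, 8), (14, 18), (22, 28), (26, 32), (36, 40), (44, 50),
  (48, 54), (58, 62), (66, 70), (72, 82), (76, 86), (80, 90), (84, 94), (96, 100), (104, 108), (112, 118), (116,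
  122), (126, 130), (134, 140), (138, 144), (148, 152)],
  [(74, 92)]⟩
theorem k40w1_eq : mkL chevE6 40 1 = k40w1 :=
  mkL_of k40_eq 1

def k40w2 : Ltr := ⟨40, 2, 1,
  [(2, 92), (4, 92), (6, 92), (8, 92), (10, 92), (74, 6), (74, 8), (14, 18), (22, 28), (26, 32), (36, 40), (44, 50),
  (48, 54), (58, 62), (66, 70), (72, 82), (76, 86), (80, 90), (84, 94), (96, 100), (104, 108), (112, 118), (116,
  122), (126, 130), (134, 140), (138, 144), (148, 152)],
  [(74, 92)]⟩
theorem k40w2_eq : mkL chevE6 40 2 = k40w2 :=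
  mkL_of k40_eq 2

def k43w1 : Ltr := ⟨43, 1, 2,
  [(0, 98), (2, 98), (4, 98), (6, 98), (8, 98), (68, 4), (68, 6), (14, 22), (18, 28), (20, 30), (38, 42), (46, 56),
  (48, 58), (54, 62), (64, 78), (66, 80), (70, 90), (76, 96), (86, 100), (88, 102), (104, 112), (108, 118), (110,
  120), (124, 128), (136, 146), (138, 148), (144, 152)],
  [(68, 98)]⟩
theorem k43w1_eq : mkL chevE6 43 1 = k43w1 :=
  mkL_of k43_eq 1

def k43w2 : Ltr := ⟨43, 2, 1,
  [(0, 98), (2, 98), (4, 98), (6, 98), (8, 98), (68, 4), (68, 6), (14, 22), (18, 28), (20, 30), (38, 42), (46, 56),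
  (48, 58), (54, 62), (64, 78), (66, 80), (70, 90), (76, 96), (86, 100), (88, 102), (104, 112), (108, 118), (110,
  120), (124, 128), (136, 146), (138, 148), (144, 152)],
  [(68, 98)]⟩
theorem k43w2_eq : mkL chevE6 43 2 = k43w2 :=
  mkL_of k43_eq 2

def k41w1 : Ltr := ⟨41, 1, 2,
  [(2, 94), (4, 94), (6, 94), (10, 94), (72, 6), (72, 8), (72, 10), (14, 20), (22, 30), (24, 32), (34, 40), (44,
  52), (46, 54), (56, 62), (64, 70), (74, 84), (76, 88), (78, 90), (82, 92), (96, 102), (104, 110), (112, 120),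
  (114, 122), (126, 132), (134, 142), (136, 144), (146, 152)],
  [(72, 94)]⟩
theorem k41w1_eq : mkL chevE6 41 1 = k41w1 :=
  mkL_of k41_eq 1

def k41w2 : Ltr := ⟨41, 2, 1,
  [(2, 94), (4, 94), (6, 94), (10, 94), (72, 6), (72, 8), (72, 10), (14, 20), (22, 30), (24, 32), (34, 40), (44,
  52), (46, 54), (56, 62), (64, 70), (74, 84), (76, 88), (78, 90), (82, 92), (96, 102), (104, 110), (112, 120),
  (114, 122), (126, 132), (134, 142), (136, 144), (146, 152)],
  [(72, 94)]⟩
theorem k41w2_eq : mkL chevE6 41 2 = k41w2 :=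
  mkL_of k41_eq 2

def k58w1 : Ltr := ⟨58, 1, 2,
  [(0, 128), (2, 128), (6, 128), (8, 128), (38, 0), (38, 4), (38, 6), (14, 44), (18, 50), (20, 52), (24, 56), (26,
  58), (32, 62), (34, 78), (36, 80), (40, 90), (42, 98), (68, 124), (76, 126), (86, 130), (88, 132), (104, 134),
  (108, 140), (110, 142), (114, 146), (116, 148), (122, 152)],
  [(38, 128)]⟩
theorem k58w1_eq : mkL chevE6 58 1 = k58w1 :=
  mkL_of k58_eq 1

def k58w2 : Ltr := ⟨58, 2, 1,
  [(0, 128), (2, 128), (6, 128), (8, 128), (38, 0), (38, 4), (38, 6), (14, 44), (18, 50), (20, 52), (24, 56), (26,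
  58), (32, 62), (34, 78), (36, 80), (40, 90), (42, 98), (68, 124), (76, 126), (86, 130), (88, 132), (104, 134),
  (108, 140), (110, 142), (114, 146), (116, 148), (122, 152)],
  [(38, 128)]⟩
theorem k58w2_eq : mkL chevE6 58 2 = k58w2 :=
  mkL_of k58_eq 2

def k45w1 : Ltr := ⟨45, 1, 2,
  [(0, 102), (2, 102), (4, 102), (10, 102), (64, 4), (64, 6), (64, 8), (64, 10), (14, 26), (16, 30), (18, 32), (34,
  42), (44, 58), (46, 60), (50, 62), (66, 84), (68, 88), (70, 94), (72, 96), (78, 98), (82, 100), (104, 116), (106,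
  120), (108, 122), (124, 132), (134, 148), (136, 150), (140, 152)],
  [(64, 102)]⟩
theorem k45w1_eq : mkL chevE6 45 1 = k45w1 :=
  mkL_of k45_eq 1

def k45w2 : Ltr := ⟨45, 2, 1,
  [(0, 102), (2, 102), (4, 102), (10, 102), (64, 4), (64, 6), (64, 8), (64, 10), (14, 26), (16, 30), (18, 32), (34,
  42), (44, 58), (46, 60), (50, 62), (66, 84), (68, 88), (70, 94), (72, 96), (78, 98), (82, 100), (104, 116), (106,
  120), (108, 122), (124, 132), (134, 148), (136, 150), (140, 152)],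
  [(64, 102)]⟩
theorem k45w2_eq : mkL chevE6 45 2 = k45w2 :=
  mkL_of k45_eq 2

def k59w1 : Ltr := ⟨59, 1, 2,
  [(0, 130), (2, 130), (8, 130), (10, 130), (36, 0), (36, 4), (36, 6), (36, 8), (14, 46), (16, 50), (20, 54), (22,
  56), (26, 60), (30, 62), (34, 82), (38, 86), (40, 92), (42, 100), (66, 124), (74, 126), (80, 128), (84, 132),
  (104, 136), (106, 140), (110, 144), (112, 146), (116, 150), (120, 152)],
  [(36, 130)]⟩
theorem k59w1_eq : mkL chevE6 59 1 = k59w1 :=
  mkL_of k59_eq 1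

def k59w2 : Ltr := ⟨59, 2, 1,
  [(0, 130), (2, 130), (8, 130), (10, 130), (36, 0), (36, 4), (36, 6), (36, 8), (14, 46), (16, 50), (20, 54), (22,
  56), (26, 60), (30, 62), (34, 82), (38, 86), (40, 92), (42, 100), (66, 124), (74, 126), (80, 128), (84, 132),
  (104, 136), (106, 140), (110, 144), (112, 146), (116, 150), (120, 152)],
  [(36, 130)]⟩
theorem k59w2_eq : mkL chevE6 59 2 = k59w2 :=
  mkL_of k59_eq 2

/-- the elements of the root group of `40`, `43` -/
def s40 : List (List (ℕ × ℕ) × List Ltr) :=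
  [([], []), ([(40, 0), (43, 0)], [k40, k43]), ([(40, 1), (43, 2)], [k40w1, k43w2]),
    ([(40, 2), (43, 1)], [k40w2, k43w1])]

/-- the elements of the root group of `41`, `58` -/
def s41 : List (List (ℕ × ℕ) × List Ltr) :=
  [([], []), ([(41, 0), (58, 0)], [k41, k58]), ([(41, 1), (58, 2)], [k41w1, k58w2]),
    ([(41, 2), (58, 1)], [k41w2, k58w1])]

/-- the elements of the root group of `45`, `59` -/
def s45 : List (List (ℕ × ℕ) × List Ltr) :=
  [([], []), ([(45, 0), (59, 0)], [k45, k59]), ([(45, 1), (59, 2)], [k45w1, k59w2]),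
    ([(45, 2), (59, 1)], [k45w2, k59w1])]

def s39 : List (List (ℕ × ℕ) × List Ltr) := [([], []), ([(39, 0)], [k39])]

def s44 : List (List (ℕ × ℕ) × List Ltr) := [([], []), ([(44, 0)], [k44])]

def s60 : List (List (ℕ × ℕ) × List Ltr) := [([], []), ([(60, 0)], [k60])]

def s32 : List (List (ℕ × ℕ) × List Ltr) := [([], []), ([(32, 0)], [k32])]

def s27 : List (List (ℕ × ℕ) × List Ltr) := [([], []), ([(27, 0)], [k27])]

def s11 : List (List (ℕ × ℕ) × List Ltr) := [([], []), ([(11, 0)], [k11])]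

end Cfsg.Agent.H891.TE6.Eng
end

-- part: H891/EPF/FourA
section
/-!
# S5745, `²E₆(2)` and `Fi₂₂`: the transvections do not fix `u` modulo `r` (helper891)

* `chk_pos`, `chk_neg` : `t u t⁻¹ u⁻¹ ≠ 1, x_71(1)` for `t = y` or `t = p₁ p₂ p₃ y (p₁ p₂ p₃)⁻¹`.
-/

set_option autoImplicit false
set_option linter.unusedSectionVars false

namespace Cfsg.Agent.H891.TE6.Eng

open Cfsg Cfsg.Lie

/-- different vectors -/
def neqv (a b : ℕ) : Bool := !(Nat.beq (Nat.land (Nat.xor a b) (2 ^ 156 - 1)) 0)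

theorem exists_of_neqv {K : Type*} [Field K] [CharP K 2] {ω : K} (hω : ω ^ 2 + ω + 1 = 0) {a b : ℕ}
    (h : neqv a b = true) : ∃ k < 78, val ω a k ≠ val ω b k := by
  by_contra hcon
  push Not at hcon
  have h1 : Nat.land (Nat.xor a b) (2 ^ 156 - 1) = 0 := by
    apply Nat.eq_of_testBit_eq
    intro i
    have e : (Nat.land (Nat.xor a b) (2 ^ 156 - 1)).testBit i = ((a.testBit i ^^ b.testBit i) && decide (i < 156)) := by
      have : Nat.land (Nat.xor a b) (2 ^ 156 - 1) = (a ^^^ b) &&& (2 ^ 156 - 1) := rfl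
      rw [this, Nat.testBit_and, Nat.testBit_xor, Nat.testBit_two_pow_sub_one]
    rw [e, Nat.zero_testBit]
    by_cases hi : i < 156
    · have h2 := bt_ne_omega hω (hcon (i / 2) (by omega))
      rcases Nat.mod_two_eq_zero_or_one i with h3 | h3
      · have h4 : 2 * (i / 2) = i := by omega
        rw [h4] at h2
        rw [h2.1]
        simp
      · have h4 : 2 * (i / 2) + 1 = i := by omega
        rw [h4] at h2
        rw [h2.2]
        simp
    · simp [hi]
  unfold neqv at h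
  rw [h1] at h
  exact absurd h (by decide)

/-- the check -/
def ck (c : Ltr) (A B C : List (List (ℕ × ℕ) × List Ltr)) (s : ℕ) : Bool :=
  A.all fun a => force (run M78 a.2 s) fun s => B.all fun b => force (run M78 b.2 s) fun s =>
    C.all fun c' => force (run M78 c'.2 s) fun s => neqv (run M78 [c] s) s

theorem ck_spec {c : Ltr} {A B C : List (List (ℕ × ℕ) × List Ltr)} {s : ℕ} (h : ck c A B C s = true) :
    ∀ a ∈ A, ∀ b ∈ B, ∀ c' ∈ C, neqv (run M78 [c] (run M78 (a.2 ++ (b.2 ++ c'.2)) s)) (run M78 (a.2 ++ (b.2 ++ c'.2)) s) =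
      true := by
  intro a ha b hb c' hc'
  unfold ck at h
  have h1 := List.all_eq_true.1 h a ha
  rw [force_eq] at h1
  have h2 := List.all_eq_true.1 h1 b hb
  rw [force_eq] at h2
  have h3 := List.all_eq_true.1 h2 c' hc'
  rw [force_eq] at h3
  rw [run_append, run_append]
  exact h3

/-- the words act as the letters -/
def OkS (A : List (List (ℕ × ℕ) × List Ltr)) : Prop :=
  ∀ a ∈ A, Acts chevE6 a.1 (run M78 a.2) ∧ run M78 a.2 4 = 4

theorem ok40 : OkS s40 := by
  unfold OkS s40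
  simp only [List.forall_mem_cons, List.not_mem_nil, false_imp_iff, implies_true, and_true]
  refine ⟨⟨Acts.nil, rfl⟩, ⟨?_, ?_⟩, ⟨?_, ?_⟩, ⟨?_, ?_⟩⟩
  · exact Acts.of_ltrs msk78 (by decide +kernel) (by simp only [ltrs, List.map_cons, List.map_nil, k40_eq, k43_eq])
  · decide +kernel
  · exact Acts.of_ltrs msk78 (by decide +kernel) (by simp only [ltrs, List.map_cons, List.map_nil, k40w1_eq, k43w2_eq])
  · decide +kernel
  · exact Acts.of_ltrs msk78 (by (delta Cfsg.Agent.H891.TE6.Eng.okL Cfsg.Agent.Th.E8Recipe.good Cfsg.Agent.Th.E8Recipe.recipe; rewrite [Cfsg.Agent.ChevFast.E6.chain, Cfsg.Agent.ChevFast.E6.coroot, Cfsg.Agent.ChevFast.E6.negA]; (try set_option simprocs false in simp -zeta only [Cfsg.Agent.ChevFast.E6.cartanR]); decide +kernel)) (by simp only [ltrs, List.map_cons, List.map_nil, k40w2_eq, k43w1_eq])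
  · decide +kernel

theorem ok41 : OkS s41 := by
  unfold OkS s41
  simp only [List.forall_mem_cons, List.not_mem_nil, false_imp_iff, implies_true, and_true]
  refine ⟨⟨Acts.nil, rfl⟩, ⟨?_, ?_⟩, ⟨?_, ?_⟩, ⟨?_, ?_⟩⟩
  · exact Acts.of_ltrs msk78 (by (delta Cfsg.Agent.H891.TE6.Eng.okL Cfsg.Agent.Th.E8Recipe.good Cfsg.Agent.Th.E8Recipe.recipe; rewrite [Cfsg.Agent.ChevFast.E6.chain, Cfsg.Agent.ChevFast.E6.coroot, Cfsg.Agent.ChevFast.E6.negA]; (try set_option simprocs false in simp -zeta only [Cfsg.Agent.ChevFast.E6.cartanR]); decide +kernel)) (by simp only [ltrs, List.map_cons, List.map_nil, k41_eq, k58_eq])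
  · decide +kernel
  · exact Acts.of_ltrs msk78 (by (delta Cfsg.Agent.H891.TE6.Eng.okL Cfsg.Agent.Th.E8Recipe.good Cfsg.Agent.Th.E8Recipe.recipe; rewrite [Cfsg.Agent.ChevFast.E6.chain, Cfsg.Agent.ChevFast.E6.coroot, Cfsg.Agent.ChevFast.E6.negA]; (try set_option simprocs false in simp -zeta only [Cfsg.Agent.ChevFast.E6.cartanR]); decide +kernel)) (by simp only [ltrs, List.map_cons, List.map_nil, k41w1_eq, k58w2_eq])
  · decide +kernel
  · exact Acts.of_ltrs msk78 (by (delta Cfsg.Agent.H891.TE6.Eng.okL Cfsg.Agent.Th.E8Recipe.good Cfsg.Agent.Th.E8Recipe.recipe; rewrite [Cfsg.Agent.ChevFast.E6.chain, Cfsg.Agent.ChevFast.E6.coroot, Cfsg.Agent.ChevFast.E6.negA]; (try set_option simprocs false in simp -zeta only [Cfsg.Agent.ChevFast.E6.cartanR]); decide +kernel)) (by simp only [ltrs, List.map_cons, List.map_nil, k41w2_eq, k58w1_eq])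
  · decide +kernel

theorem ok45 : OkS s45 := by
  unfold OkS s45
  simp only [List.forall_mem_cons, List.not_mem_nil, false_imp_iff, implies_true, and_true]
  refine ⟨⟨Acts.nil, rfl⟩, ⟨?_, ?_⟩, ⟨?_, ?_⟩, ⟨?_, ?_⟩⟩
  · exact Acts.of_ltrs msk78 (by (delta Cfsg.Agent.H891.TE6.Eng.okL Cfsg.Agent.Th.E8Recipe.good Cfsg.Agent.Th.E8Recipe.recipe; rewrite [Cfsg.Agent.ChevFast.E6.chain, Cfsg.Agent.ChevFast.E6.coroot, Cfsg.Agent.ChevFast.E6.negA]; (try set_option simprocs false in simp -zeta only [Cfsg.Agent.ChevFast.E6.cartanR]); decide +kernel)) (by simp only [ltrs, List.map_cons, List.map_nil, k45_eq, k59_eq])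
  · decide +kernel
  · exact Acts.of_ltrs msk78 (by (delta Cfsg.Agent.H891.TE6.Eng.okL Cfsg.Agent.Th.E8Recipe.good Cfsg.Agent.Th.E8Recipe.recipe; rewrite [Cfsg.Agent.ChevFast.E6.chain, Cfsg.Agent.ChevFast.E6.coroot, Cfsg.Agent.ChevFast.E6.negA]; (try set_option simprocs false in simp -zeta only [Cfsg.Agent.ChevFast.E6.cartanR]); decide +kernel)) (by simp only [ltrs, List.map_cons, List.map_nil, k45w1_eq, k59w2_eq])
  · decide +kernel
  · exact Acts.of_ltrs msk78 (by decide +kernel) (by simp only [ltrs, List.map_cons, List.map_nil, k45w2_eq, k59w1_eq])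
  · decide +kernel

theorem okL_aux {r : ℕ} {l : Ltr} (h : mkL chevE6 r 0 = l) (hok : okL chevE6 r = true) (h4 : run M78 [l] 4 = 4) :
    OkS [([], []), ([(r, 0)], [l])] := by
  unfold OkS
  simp only [List.forall_mem_cons, List.not_mem_nil, false_imp_iff, implies_true, and_true]
  exact ⟨⟨Acts.nil, rfl⟩, ⟨Acts.of_ltrs msk78 (by simp [hok]) (by simp only [ltrs, List.map_cons, List.map_nil, h]),
    h4⟩⟩

theorem ok39 : OkS s39 := okL_aux k39_eq (by decide +kernel) (by decide +kernel)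
theorem ok44 : OkS s44 := okL_aux k44_eq (by (delta Cfsg.Agent.H891.TE6.Eng.okL Cfsg.Agent.Th.E8Recipe.good Cfsg.Agent.Th.E8Recipe.recipe; rewrite [Cfsg.Agent.ChevFast.E6.chain, Cfsg.Agent.ChevFast.E6.coroot, Cfsg.Agent.ChevFast.E6.negA]; (try set_option simprocs false in simp -zeta only [Cfsg.Agent.ChevFast.E6.cartanR]); decide +kernel)) (by decide +kernel)
theorem ok60 : OkS s60 := okL_aux k60_eq (by (delta Cfsg.Agent.H891.TE6.Eng.okL Cfsg.Agent.Th.E8Recipe.good Cfsg.Agent.Th.E8Recipe.recipe; rewrite [Cfsg.Agent.ChevFast.E6.chain, Cfsg.Agent.ChevFast.E6.coroot, Cfsg.Agent.ChevFast.E6.negA]; (try set_option simprocs false in simp -zeta only [Cfsg.Agent.ChevFast.E6.cartanR]); decide +kernel)) (by decide +kernel)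
theorem ok32 : OkS s32 := okL_aux k32_eq (by decide +kernel) (by decide +kernel)
theorem ok27 : OkS s27 := okL_aux k27_eq (by (delta Cfsg.Agent.H891.TE6.Eng.okL Cfsg.Agent.Th.E8Recipe.good Cfsg.Agent.Th.E8Recipe.recipe; rewrite [Cfsg.Agent.ChevFast.E6.chain, Cfsg.Agent.ChevFast.E6.coroot, Cfsg.Agent.ChevFast.E6.negA]; (try set_option simprocs false in simp -zeta only [Cfsg.Agent.ChevFast.E6.cartanR]); decide +kernel)) (by decide +kernel)
theorem ok11 : OkS s11 := okL_aux k11_eq (by decide +kernel) (by decide +kernel)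

/-- the image of the basis vector under `u` -/
def sU : ℕ := run M78 lU 4

theorem sU_r : run M78 [l71] sU = sU := by decide +kernel

theorem ck1 : ck k32 s39 s40 s41 sU = true := by decide +kernel
theorem ck2 : ck k27 s44 s40 s45 sU = true := by decide +kernel
theorem ck3 : ck k11 s60 s41 s45 sU = true := by decide +kernel
theorem ck4 : ck k39 [([], [])] [([], [])] [([], [])] sU = true := by decide +kernel
theorem ck5 : ck k44 [([], [])] [([], [])] [([], [])] sU = true := by decide +kernel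
theorem ck6 : ck k60 [([], [])] [([], [])] [([], [])] sU = true := by decide +kernel

theorem u_r : chkEq chevE6 (fun s => force (run M78 lU s) (run M78 [l71])) (fun s => force (run M78 [l71] s) (run M78 lU)) =
    true := by decide +kernel

end Cfsg.Agent.H891.TE6.Eng

namespace Cfsg.Agent.H891.EPF

open Matrix
open Cfsg.Agent.Nodes.RGDTwGen Cfsg.Agent.Nodes.RGDChev Cfsg.Agent.Nodes.RGDFold
open Cfsg.Lie Cfsg.Agent.ChevalleyStructure Cfsg.Agent.ChevalleyStructure.Elts
open Cfsg.Agent.ChevalleyStructure.TwE6Basic (sg hE6)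
open Cfsg.Agent.Nodes.RGDTwE6 Cfsg.Agent.KFacts.TwESix.Comb Cfsg.Agent.H891.TE6.Eng Cfsg.Agent.H891.TE6
open Cfsg.Agent.TwoESix.LeviA (Four)
open Cfsg.Agent.TwoESix.FlagH (xe)
open Cfsg.Agent.Th.E8Recipe (code)

universe u

/-- linear algebra: `t` does not fix `u` modulo `r` -/
theorem not_fix {ι K : Type*} [Fintype ι] [DecidableEq ι] [Field K] (ξ : ι → K) {v c u r : GL ι K}
    (hv : ξ ᵥ* (v : Matrix ι ι K) = ξ) (hc : ξ ᵥ* (c : Matrix ι ι K) = ξ) (hur : u * r = r * u)
    (hr : (ξ ᵥ* (u : Matrix ι ι K)) ᵥ* (r : Matrix ι ι K) = ξ ᵥ* (u : Matrix ι ι K))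
    (hne : ((ξ ᵥ* (u : Matrix ι ι K)) ᵥ* (v : Matrix ι ι K)) ᵥ* (c : Matrix ι ι K) ≠
      (ξ ᵥ* (u : Matrix ι ι K)) ᵥ* (v : Matrix ι ι K)) {ε : GL ι K} (hε : ε = 1 ∨ ε = r) :
    (v * c * v⁻¹) * u * (v * c * v⁻¹)⁻¹ * u⁻¹ ≠ ε := by
  intro h
  have hA : ∀ (ξ : ι → K) (a b : GL ι K), (ξ ᵥ* (a : Matrix ι ι K)) ᵥ* (b : Matrix ι ι K) =
      ξ ᵥ* ((a * b : GL ι K) : Matrix ι ι K) := fun ξ a b => by
    rw [Matrix.vecMul_vecMul, Units.val_mul]
  have hinv : ∀ (ξ : ι → K) (a : GL ι K), ξ ᵥ* (a : Matrix ι ι K) = ξ → ξ ᵥ* ((a⁻¹ : GL ι K) : Matrix ι ι K) = ξ := by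
    intro ξ a ha
    nth_rewrite 1 [← ha]
    rw [hA, mul_inv_cancel, Units.val_one, Matrix.vecMul_one]
  have ht : ξ ᵥ* ((v * c * v⁻¹ : GL ι K) : Matrix ι ι K) = ξ := by
    rw [← hA, ← hA, hv, hc, hinv ξ v hv]
  have h1 : (v * c * v⁻¹) * u = ε * u * (v * c * v⁻¹) := by
    rw [← h]; group
  have hεu : ε * u = u * ε := by
    rcases hε with rfl | rfl
    · rw [one_mul, mul_one]
    · exact hur.symm
  have hεr : (ξ ᵥ* (u : Matrix ι ι K)) ᵥ* (ε : Matrix ι ι K) = ξ ᵥ* (u : Matrix ι ι K) := by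
    rcases hε with rfl | rfl
    · rw [Units.val_one, Matrix.vecMul_one]
    · exact hr
  have h2 : ξ ᵥ* (u : Matrix ι ι K) = (ξ ᵥ* (u : Matrix ι ι K)) ᵥ* ((v * c * v⁻¹ : GL ι K) : Matrix ι ι K) := by
    calc ξ ᵥ* (u : Matrix ι ι K) = (ξ ᵥ* ((v * c * v⁻¹ : GL ι K) : Matrix ι ι K)) ᵥ* (u : Matrix ι ι K) := by rw [ht]
      _ = ξ ᵥ* ((u * ε * (v * c * v⁻¹) : GL ι K) : Matrix ι ι K) := by rw [hA, h1, hεu]
      _ = ((ξ ᵥ* (u : Matrix ι ι K)) ᵥ* (ε : Matrix ι ι K)) ᵥ* ((v * c * v⁻¹ : GL ι K) : Matrix ι ι K) := by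
        rw [hA, hA, mul_assoc u ε]
      _ = _ := by rw [hεr]
  apply hne
  calc ((ξ ᵥ* (u : Matrix ι ι K)) ᵥ* (v : Matrix ι ι K)) ᵥ* (c : Matrix ι ι K)
      = (ξ ᵥ* (u : Matrix ι ι K)) ᵥ* ((v * c : GL ι K) : Matrix ι ι K) := hA _ _ _
    _ = (ξ ᵥ* (u : Matrix ι ι K)) ᵥ* ((v * c * v⁻¹ * v : GL ι K) : Matrix ι ι K) := by rw [inv_mul_cancel_right]
    _ = ((ξ ᵥ* (u : Matrix ι ι K)) ᵥ* ((v * c * v⁻¹ : GL ι K) : Matrix ι ι K)) ᵥ* (v : Matrix ι ι K) := (hA _ _ _).symm
    _ = _ := by rw [← h2]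

variable {K : Type u} [Field K] [Fintype K] {φ : K →+* K} {ω : K}

set_option maxRecDepth 20000 in
theorem V_longs : ∀ r ∈ ([39, 44, 60, 32, 27, 11] : List (Fin 72)), TwE6Basic.rho r = r ∧ ∀ k < chevE6.nroots,
    (V chevE6 _root_.Cfsg.Agent.Nodes.RGDTwE6.J k = V chevE6 _root_.Cfsg.Agent.Nodes.RGDTwE6.J r.val ↔ k ∈ [r.val]) := by decide +kernel

set_option maxRecDepth 20000 in
theorem V_shorts : ∀ r ∈ ([40, 41, 45] : List (Fin 72)), ∀ k < chevE6.nroots, (V chevE6 _root_.Cfsg.Agent.Nodes.RGDTwE6.J k = V chevE6 _root_.Cfsg.Agent.Nodes.RGDTwE6.J r.val ↔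
    k ∈ [r.val, (TwE6Basic.rho r).val]) := by decide +kernel

set_option maxRecDepth 20000 in
theorem rho_shorts : TwE6Basic.rho 40 = 43 ∧ TwE6Basic.rho 41 = 58 ∧ TwE6Basic.rho 45 = 59 := by decide +kernel

set_option maxRecDepth 20000 in
theorem V_val : V chevE6 _root_.Cfsg.Agent.Nodes.RGDTwE6.J 39 = ![0, 1, 0, 0] ∧ V chevE6 _root_.Cfsg.Agent.Nodes.RGDTwE6.J 44 = ![0, 1, 2, 0] ∧ V chevE6 _root_.Cfsg.Agent.Nodes.RGDTwE6.J 60 = ![0, 1, 2, 2] ∧
    V chevE6 _root_.Cfsg.Agent.Nodes.RGDTwE6.J 32 = -![0, 1, 0, 0] ∧ V chevE6 _root_.Cfsg.Agent.Nodes.RGDTwE6.J 27 = -![0, 1, 2, 0] ∧ V chevE6 _root_.Cfsg.Agent.Nodes.RGDTwE6.J 11 = -![0, 1, 2, 2] ∧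
    V chevE6 _root_.Cfsg.Agent.Nodes.RGDTwE6.J 40 = ![0, 1, 1, 0] ∧ V chevE6 _root_.Cfsg.Agent.Nodes.RGDTwE6.J 41 = ![0, 1, 1, 1] ∧ V chevE6 _root_.Cfsg.Agent.Nodes.RGDTwE6.J 45 = ![0, 1, 2, 1] := by
  decide +kernel

section

variable [CharP K 2]

theorem wdG_ne' (hω : ω ^ 2 + ω + 1 = 0) {w w' : List (ℕ × ℕ)} {f f' : ℕ → ℕ} (h : Acts chevE6 w f)
    (h' : Acts chevE6 w' f') {k : ℕ} (hk : k < 78) (s : ℕ) (hc : neqAt (f s) (f' s) k = true) :
    wdG ω hE6 w ≠ wdG ω hE6 w' := by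
  intro e
  have h1 := vecMul_acts hE6 hω h s
  have h2 := vecMul_acts hE6 hω h' s
  rw [e, h2] at h1
  obtain ⟨a, ha⟩ := Th.E8Recipe.exists_code (D := chevE6) (k := k) (lt_of_lt_of_eq hk (by decide +kernel))
  have h3 := congrFun h1 a
  rw [ha] at h3
  exact val_ne hω hc h3.symm

theorem ne_of (hω : ω ^ 2 + ω + 1 = 0) {r r' t t' : ℕ} {l l' : Ltr} (h : mkL chevE6 r t = l) (h' : mkL chevE6 r' t' = l')
    (hr : okL chevE6 r = true) (hr' : okL chevE6 r' = true) {k : ℕ} (hk : k < 78) (s : ℕ)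
    (hc : neqAt (run M78 [l] s) (run M78 [l'] s) k = true) : xG hE6 r (ω ^ t) ≠ xG hE6 r' (ω ^ t') := by
  have h1 := wdG_ne' hω (Acts.of_ltrs (w := [(r, t)]) msk78 (by simp [hr])
    (by simp only [ltrs, List.map_cons, List.map_nil, h]))
    (Acts.of_ltrs (w := [(r', t')]) msk78 (by simp [hr']) (by simp only [ltrs, List.map_cons, List.map_nil, h']))
    hk s hc
  rw [wdG_cons, wdG_cons] at h1
  intro e
  apply h1
  show _ * 1 = _ * 1
  rw [mul_one, mul_one]
  exact e

theorem wdG_two (r r' i j : ℕ) : wdG ω hE6 [(r, i), (r', j)] = xG hE6 r (ω ^ i) * xG hE6 r' (ω ^ j) := by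
  rw [wdG_cons, wdG_cons]
  show _ * (_ * 1) = _
  rw [mul_one]

variable (hφ : ∀ x, φ x = x ^ 2) (hK : Fintype.card K = 2 ^ 2) (hω : ω ^ 2 + ω + 1 = 0)

include hφ hω in
theorem long_dig {r : Fin 72} {l : Ltr} (hr : r ∈ ([39, 44, 60, 32, 27, 11] : List (Fin 72))) {z : Fin 4 → ℤ}
    (hz : V chevE6 _root_.Cfsg.Agent.Nodes.RGDTwE6.J r.val = z) {g : ↥(twistedE6 K 2)} (hg : g ∈ X φ 2 z) :
    ∃ a ∈ ([([], []), ([(r.val, 0)], [l])] : List (List (ℕ × ℕ) × List Ltr)), (g : GL chevE6.Idx K) = wdG ω hE6 a.1 := by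
  subst hz
  obtain ⟨h1, h2⟩ := V_longs r hr
  rcases long_cases r h1 h2 hφ hg with h | h
  · exact ⟨([], []), by simp, h⟩
  · exact ⟨([(r.val, 0)], [l]), by simp, h.trans (wdG_one r.val).symm⟩

include hφ hω hK in
theorem short_dig {r r' : Fin 72} (hr : r ∈ ([40, 41, 45] : List (Fin 72))) (hr' : TwE6Basic.rho r = r')
    (hrr : r.val ≠ r'.val) (hne : ∀ i < 3, xG hE6 r.val (ω ^ i) ≠ xG hE6 r'.val (ω ^ (2 * i % 3))) {z : Fin 4 → ℤ}
    (hz : V chevE6 _root_.Cfsg.Agent.Nodes.RGDTwE6.J r.val = z) {g : ↥(twistedE6 K 2)} (hg : g ∈ X φ 2 z)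
    {l0 l1 l2 : List Ltr} : ∃ a ∈ ([([], []), ([(r.val, 0), (r'.val, 0)], l0), ([(r.val, 1), (r'.val, 2)], l1),
      ([(r.val, 2), (r'.val, 1)], l2)] : List (List (ℕ × ℕ) × List Ltr)),
      (g : GL chevE6.Idx K) = wdG ω hE6 a.1 := by
  subst hz
  have h2 := V_shorts r hr
  rcases short_cases hK hω r (by rw [hr']; exact hrr) h2 (by rw [hr']; exact hne) hφ hg with h | ⟨i, hi, h⟩
  · exact ⟨([], []), by simp, h⟩
  · rw [hr'] at h
    interval_cases i
    · exact ⟨([(r.val, 0), (r'.val, 0)], l0), by simp, h.trans (wdG_two r.val r'.val 0 0).symm⟩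
    · exact ⟨([(r.val, 1), (r'.val, 2)], l1), by simp, h.trans (wdG_two r.val r'.val 1 2).symm⟩
    · exact ⟨([(r.val, 2), (r'.val, 1)], l2), by simp, h.trans (wdG_two r.val r'.val 2 1).symm⟩

include hω in
/-- the main step -/
theorem main_step {c : Ltr} {rc : ℕ} {A B C : List (List (ℕ × ℕ) × List Ltr)} (hA : OkS A) (hB : OkS B) (hC : OkS C)
    (hcc : OkS [([], []), ([(rc, 0)], [c])]) (hck : ck c A B C sU = true) {a b c' : List (ℕ × ℕ) × List Ltr}
    (ha : a ∈ A) (hb : b ∈ B) (hc' : c' ∈ C) {ε : GL chevE6.Idx K} (hε : ε = 1 ∨ ε = xG hE6 71 (1 : K)) :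
    ((wdG ω hE6 a.1 * wdG ω hE6 b.1 * wdG ω hE6 c'.1) * xG hE6 rc (1 : K) *
      (wdG ω hE6 a.1 * wdG ω hE6 b.1 * wdG ω hE6 c'.1)⁻¹) * (xG hE6 46 (1 : K) * xG hE6 70 (1 : K)) *
      ((wdG ω hE6 a.1 * wdG ω hE6 b.1 * wdG ω hE6 c'.1) * xG hE6 rc (1 : K) *
      (wdG ω hE6 a.1 * wdG ω hE6 b.1 * wdG ω hE6 c'.1)⁻¹)⁻¹ * (xG hE6 46 (1 : K) * xG hE6 70 (1 : K))⁻¹ ≠ ε := by
  have eU : xG hE6 46 (1 : K) * xG hE6 70 (1 : K) = wdG ω hE6 wU := by
    unfold wU
    rw [wdG_append, wdG_one, wdG_one]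
  have eR : xG hE6 71 (1 : K) = wdG ω hE6 [(71, 0)] := (wdG_one 71).symm
  have eC : xG hE6 rc (1 : K) = wdG ω hE6 [(rc, 0)] := (wdG_one rc).symm
  have aV := (hA a ha).1.append ((hB b hb).1.append (hC c' hc').1)
  have aC := hcc ([(rc, 0)], [c]) (by simp)
  have e4 : ∀ s, force (run M78 a.2 s) (fun s => force (run M78 b.2 s) (run M78 c'.2)) =
      run M78 (a.2 ++ (b.2 ++ c'.2)) s := by
    intro s
    rw [force_eq, force_eq, run_append, run_append]
  have eV : wdG ω hE6 a.1 * wdG ω hE6 b.1 * wdG ω hE6 c'.1 = wdG ω hE6 (a.1 ++ (b.1 ++ c'.1)) := by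
    rw [wdG_append, wdG_append, mul_assoc]
  rw [eV, eU, eC]
  rw [eR] at hε
  have key : ∀ {w : List (ℕ × ℕ)} {f : ℕ → ℕ}, Acts chevE6 w f → ∀ s : ℕ,
      (fun a : chevE6.Idx => val ω s (code chevE6 a)) ᵥ* ((wdG ω hE6 w : GL chevE6.Idx K) : Matrix chevE6.Idx chevE6.Idx K) =
      fun a : chevE6.Idx => val ω (f s) (code chevE6 a) := fun h s => vecMul_acts hE6 hω h s
  have hs4 : ∀ (s s' : ℕ), s = s' → (fun a : chevE6.Idx => val ω s (code chevE6 a)) =
      fun a : chevE6.Idx => val ω s' (code chevE6 a) := fun s s' h => by rw [h]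
  refine not_fix (fun a : chevE6.Idx => val ω 4 (code chevE6 a)) ?_ ?_ ?_ ?_ ?_ hε
  · rw [key aV 4]
    apply hs4
    show force (run M78 a.2 4) (fun s => force (run M78 b.2 s) (run M78 c'.2)) = 4
    rw [force_eq, force_eq, (hA a ha).2, (hB b hb).2, (hC c' hc').2]
  · rw [key aC.1 4]
    exact hs4 _ _ aC.2
  · rw [← wdG_append, ← wdG_append]
    exact eq_of_chk hE6 hω (acts_U.append acts_R) (acts_R.append acts_U) u_r
  · rw [key acts_U 4, key acts_R]
    exact hs4 _ _ sU_r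
  · rw [key acts_U 4, key aV, key aC.1]
    intro h
    have h1 := ck_spec hck a ha b hb c' hc'
    obtain ⟨k, hk, hne⟩ := exists_of_neqv hω h1
    obtain ⟨i, hi⟩ := Th.E8Recipe.exists_code (D := chevE6) (k := k) (lt_of_lt_of_eq hk (by decide +kernel))
    have h2 := congrFun h i
    rw [hi] at h2
    apply hne
    rw [← e4]
    exact h2

end

/-- the triples of roots -/
def lst : List ((Fin 4 → ℤ) × (Fin 4 → ℤ) × (Fin 4 → ℤ)) :=
  [(![0, 1, 0, 0], ![0, 1, 1, 0], ![0, 1, 1, 1]), (![0, 1, 2, 0], ![0, 1, 1, 0], ![0, 1, 2, 1]),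
    (![0, 1, 2, 2], ![0, 1, 1, 1], ![0, 1, 2, 1])]

section

variable (F : Four K φ)

include F in
theorem cases_y {r : Fin 72} (hr : r ∈ ([39, 44, 60, 32, 27, 11] : List (Fin 72))) {z : Fin 4 → ℤ}
    (hz : V chevE6 _root_.Cfsg.Agent.Nodes.RGDTwE6.J r.val = z) {y : ↥(twistedE6 K 2)} (hy : y ∈ X φ 2 z) (hy1 : y ≠ 1) :
    (y : GL chevE6.Idx K) = xG hE6 r.val (1 : K) := by
  have := F.charP
  subst hz
  obtain ⟨h1, h2⟩ := V_longs r hr
  rcases long_cases r h1 h2 F.sq hy with h | h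
  · exact absurd (Subtype.ext h) hy1
  · exact h

/-- **the positive cells** -/
theorem chk_pos {b : Fin 4 → ℤ} (hb : b ∈ ([![0, 1, 0, 0], ![0, 1, 2, 0], ![0, 1, 2, 2]] : List (Fin 4 → ℤ)))
    {y : ↥(twistedE6 K 2)} (hy : y ∈ X φ 2 b) (hy1 : y ≠ 1) :
    y * uu F * y⁻¹ * (uu F)⁻¹ ≠ 1 ∧ y * uu F * y⁻¹ * (uu F)⁻¹ ≠ xe F 71 (by decide +kernel) := by
  have := F.charP
  obtain ⟨ω, hω⟩ := exists_omega (K := K) (by rw [F.card]; norm_num)
  have okn : OkS [([], [])] := by
    intro a ha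
    rw [List.mem_singleton] at ha
    subst ha
    exact ⟨Acts.nil, rfl⟩
  have key : ∀ {ε : GL chevE6.Idx K}, ε = 1 ∨ ε = xG hE6 71 (1 : K) →
      (y : GL chevE6.Idx K) * (xG hE6 46 (1 : K) * xG hE6 70 (1 : K)) * (y : GL chevE6.Idx K)⁻¹ *
        (xG hE6 46 (1 : K) * xG hE6 70 (1 : K))⁻¹ ≠ ε := by
    intro ε hε
    have h0 : ∀ {rc : ℕ} {c : Ltr}, OkS [([], []), ([(rc, 0)], [c])] →
        ck c [([], [])] [([], [])] [([], [])] sU = true → (y : GL chevE6.Idx K) = xG hE6 rc (1 : K) →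
        (y : GL chevE6.Idx K) * (xG hE6 46 (1 : K) * xG hE6 70 (1 : K)) * (y : GL chevE6.Idx K)⁻¹ *
        (xG hE6 46 (1 : K) * xG hE6 70 (1 : K))⁻¹ ≠ ε := by
      intro rc c h1 h2 h3
      have h4 := main_step hω okn okn okn h1 h2 (a := ([], [])) (b := ([], [])) (c' := ([], [])) (by simp) (by simp)
        (by simp) hε
      have e1 : wdG ω hE6 ([] : List (ℕ × ℕ)) = 1 := rfl
      rw [h3]
      rw [e1, mul_one, mul_one, one_mul, inv_one, mul_one] at h4
      exact h4
    simp only [List.mem_cons, List.not_mem_nil, or_false] at hb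
    rcases hb with rfl | rfl | rfl
    · exact h0 ok39 ck4 (cases_y F (r := 39) (by simp) V_val.1 hy hy1)
    · exact h0 ok44 ck5 (cases_y F (r := 44) (by simp) V_val.2.1 hy hy1)
    · exact h0 ok60 ck6 (cases_y F (r := 60) (by simp) V_val.2.2.1 hy hy1)
  exact ⟨fun h => key (Or.inl rfl) (congrArg Subtype.val h), fun h => key (Or.inr rfl) (congrArg Subtype.val h)⟩

/-- **the negative cells** -/
theorem chk_neg {l : (Fin 4 → ℤ) × (Fin 4 → ℤ) × (Fin 4 → ℤ)} (hl : l ∈ lst) {p1 p2 p3 y : ↥(twistedE6 K 2)}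
    (h1 : p1 ∈ X φ 2 l.1) (h2 : p2 ∈ X φ 2 l.2.1) (h3 : p3 ∈ X φ 2 l.2.2) (hy : y ∈ X φ 2 (-l.1)) (hy1 : y ≠ 1) :
    ((p1 * p2 * p3) * y * (p1 * p2 * p3)⁻¹) * uu F * ((p1 * p2 * p3) * y * (p1 * p2 * p3)⁻¹)⁻¹ * (uu F)⁻¹ ≠ 1 ∧
    ((p1 * p2 * p3) * y * (p1 * p2 * p3)⁻¹) * uu F * ((p1 * p2 * p3) * y * (p1 * p2 * p3)⁻¹)⁻¹ * (uu F)⁻¹ ≠
      xe F 71 (by decide +kernel) := by
  have := F.charP
  have hK : Fintype.card K = 2 ^ 2 := by rw [F.card]; norm_num
  obtain ⟨ω, hω⟩ := exists_omega (K := K) hK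
  have n40 : ∀ i < 3, xG hE6 40 (ω ^ i) ≠ xG hE6 43 (ω ^ (2 * i % 3)) := by
    intro i hi
    interval_cases i
    · exact ne_of hω k40_eq k43_eq (by (delta Cfsg.Agent.H891.TE6.Eng.okL Cfsg.Agent.Th.E8Recipe.good Cfsg.Agent.Th.E8Recipe.recipe; rewrite [Cfsg.Agent.ChevFast.E6.chain, Cfsg.Agent.ChevFast.E6.coroot, Cfsg.Agent.ChevFast.E6.negA]; (try set_option simprocs false in simp -zeta only [Cfsg.Agent.ChevFast.E6.cartanR]); decide +kernel)) (by decide +kernel) (k := 34) (by norm_num) 16 (by decide +kernel)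
    · exact ne_of hω k40w1_eq k43w2_eq (by decide +kernel) (by decide +kernel) (k := 34) (by norm_num) 16
        (by decide +kernel)
    · exact ne_of hω k40w2_eq k43w1_eq (by decide +kernel) (by decide +kernel) (k := 34) (by norm_num) 16
        (by decide +kernel)
  have n41 : ∀ i < 3, xG hE6 41 (ω ^ i) ≠ xG hE6 58 (ω ^ (2 * i % 3)) := by
    intro i hi
    interval_cases i
    · exact ne_of hω k41_eq k58_eq (by decide +kernel) (by decide +kernel) (k := 19) (by norm_num) 1 (by decide +kernel)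
    · exact ne_of hω k41w1_eq k58w2_eq (by decide +kernel) (by decide +kernel) (k := 19) (by norm_num) 1
        (by decide +kernel)
    · exact ne_of hω k41w2_eq k58w1_eq (by decide +kernel) (by decide +kernel) (k := 19) (by norm_num) 1
        (by decide +kernel)
  have n45 : ∀ i < 3, xG hE6 45 (ω ^ i) ≠ xG hE6 59 (ω ^ (2 * i % 3)) := by
    intro i hi
    interval_cases i
    · exact ne_of hω k45_eq k59_eq (by (delta Cfsg.Agent.H891.TE6.Eng.okL Cfsg.Agent.Th.E8Recipe.good Cfsg.Agent.Th.E8Recipe.recipe; rewrite [Cfsg.Agent.ChevFast.E6.chain, Cfsg.Agent.ChevFast.E6.coroot, Cfsg.Agent.ChevFast.E6.negA]; (try set_option simprocs false in simp -zeta only [Cfsg.Agent.ChevFast.E6.cartanR]); decide +kernel)) (by decide +kernel) (k := 18) (by norm_num) 1 (by decide +kernel)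
    · exact ne_of hω k45w1_eq k59w2_eq (by decide +kernel) (by (delta Cfsg.Agent.H891.TE6.Eng.okL Cfsg.Agent.Th.E8Recipe.good Cfsg.Agent.Th.E8Recipe.recipe; rewrite [Cfsg.Agent.ChevFast.E6.chain, Cfsg.Agent.ChevFast.E6.coroot, Cfsg.Agent.ChevFast.E6.negA]; (try set_option simprocs false in simp -zeta only [Cfsg.Agent.ChevFast.E6.cartanR]); decide +kernel)) (k := 18) (by norm_num) 1
        (by decide +kernel)
    · exact ne_of hω k45w2_eq k59w1_eq (by decide +kernel) (by decide +kernel) (k := 18) (by norm_num) 1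
        (by decide +kernel)
  have d40 : ∀ {g : ↥(twistedE6 K 2)}, g ∈ X φ 2 ![0, 1, 1, 0] → ∃ a ∈ s40, (g : GL chevE6.Idx K) = wdG ω hE6 a.1 :=
    fun hg => short_dig F.sq hK hω (r := 40) (r' := 43) (by simp) rho_shorts.1 (by decide) n40 V_val.2.2.2.2.2.2.1 hg
  have d41 : ∀ {g : ↥(twistedE6 K 2)}, g ∈ X φ 2 ![0, 1, 1, 1] → ∃ a ∈ s41, (g : GL chevE6.Idx K) = wdG ω hE6 a.1 :=
    fun hg => short_dig F.sq hK hω (r := 41) (r' := 58) (by simp) rho_shorts.2.1 (by decide) n41
      V_val.2.2.2.2.2.2.2.1 hg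
  have d45 : ∀ {g : ↥(twistedE6 K 2)}, g ∈ X φ 2 ![0, 1, 2, 1] → ∃ a ∈ s45, (g : GL chevE6.Idx K) = wdG ω hE6 a.1 :=
    fun hg => short_dig F.sq hK hω (r := 45) (r' := 59) (by simp) rho_shorts.2.2 (by decide) n45
      V_val.2.2.2.2.2.2.2.2 hg
  have key : ∀ {ε : GL chevE6.Idx K}, ε = 1 ∨ ε = xG hE6 71 (1 : K) →
      (((p1 : GL chevE6.Idx K) * p2 * p3) * y * ((p1 : GL chevE6.Idx K) * p2 * p3)⁻¹) *
        (xG hE6 46 (1 : K) * xG hE6 70 (1 : K)) *
        (((p1 : GL chevE6.Idx K) * p2 * p3) * y * ((p1 : GL chevE6.Idx K) * p2 * p3)⁻¹)⁻¹ *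
        (xG hE6 46 (1 : K) * xG hE6 70 (1 : K))⁻¹ ≠ ε := by
    intro ε hε
    unfold lst at hl
    simp only [List.mem_cons, List.not_mem_nil, or_false] at hl
    rcases hl with rfl | rfl | rfl
    · obtain ⟨a, ha, e1⟩ := long_dig (l := k39) F.sq hω (r := 39) (by simp) V_val.1 h1
      obtain ⟨b, hb, e2⟩ := d40 h2
      obtain ⟨c, hc, e3⟩ := d41 h3
      rw [e1, e2, e3, cases_y F (r := 32) (by simp) V_val.2.2.2.1 hy hy1]
      exact main_step hω ok39 ok40 ok41 ok32 ck1 ha hb hc hε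
    · obtain ⟨a, ha, e1⟩ := long_dig (l := k44) F.sq hω (r := 44) (by simp) V_val.2.1 h1
      obtain ⟨b, hb, e2⟩ := d40 h2
      obtain ⟨c, hc, e3⟩ := d45 h3
      rw [e1, e2, e3, cases_y F (r := 27) (by simp) V_val.2.2.2.2.1 hy hy1]
      exact main_step hω ok44 ok40 ok45 ok27 ck2 ha hb hc hε
    · obtain ⟨a, ha, e1⟩ := long_dig (l := k60) F.sq hω (r := 60) (by simp) V_val.2.2.1 h1
      obtain ⟨b, hb, e2⟩ := d41 h2
      obtain ⟨c, hc, e3⟩ := d45 h3
      rw [e1, e2, e3, cases_y F (r := 11) (by simp) V_val.2.2.2.2.2.1 hy hy1]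
      exact main_step hω ok60 ok41 ok45 ok11 ck3 ha hb hc hε
  exact ⟨fun h => key (Or.inl rfl) (congrArg Subtype.val h), fun h => key (Or.inr rfl) (congrArg Subtype.val h)⟩

end

end Cfsg.Agent.H891.EPF
end

-- part: H203/EPX/Gside
section
/-!
# S5745, the row `(²E₆(2), Fi₂₂)`: the `²E₆(2)`-side (helper203, with helper406, helper622, helper891)
-/

set_option autoImplicit false

namespace Cfsg.Agent.H203.EPX

open Cfsg.Lie Cfsg.Agent.ChevalleyStructure
open Cfsg.Agent.Nodes.RGDTwE6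
open Cfsg.Agent.TwoESix.LeviA Cfsg.Agent.TwoESix.LongPairs Cfsg.Agent.TwoESix.LongCard Cfsg.Agent.TwoESix.FlagH
  Cfsg.Agent.TwoESix.SheetA
open scoped commutatorElement

universe u

/-- **The facts on `²E₆(2)`.** -/
theorem gside (K : Type u) [Field K] [Fintype K] (hK : Fintype.card K = 4) :
    ∃ (r : ↥(twistedE6 K 2)) (Q : Subgroup ↥(twistedE6 K 2)) (u : ↥(twistedE6 K 2)), GSide r Q u := by
  obtain ⟨-, φ, F⟩ := exists_four K hK
  have key : ∀ t : ↥(twistedE6 K 2), t * u0 F * t⁻¹ * (u0 F)⁻¹ ≠ 1 → t * u0 F * t⁻¹ * (u0 F)⁻¹ ≠ r0 F → t ∉ St0 F := by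
    rintro t h1 h2 ⟨-, h3 | h3⟩
    · apply h1
      rw [h3, mul_inv_cancel]
    · apply h2
      rw [h3, u0_r0 F, mul_inv_cancel_right]
  refine ⟨r0 F, _, u0 F, gside_of_chk F (fun l hl y hy hy1 => ?_) (fun l hl p1 h1 p2 h2 p3 h3 y hy hy1 => ?_)⟩
  · have h := Cfsg.Agent.H891.EPF.chk_pos F (b := l.1) (y := y) (by
      simp only [lst, List.mem_cons, List.not_mem_nil, or_false] at hl
      rcases hl with rfl | rfl | rfl <;> simp) hy hy1
    exact key y h.1 h.2
  · have h := Cfsg.Agent.H891.EPF.chk_neg F (l := l) hl h1 h2 h3 hy hy1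
    exact key _ h.1 h.2

end Cfsg.Agent.H203.EPX
end

private theorem dce_30c46361c900 : _root_.True := by
  try have : _root_.True := by simp only [_root_.Cfsg.Agent.TwoESix.SheetA.a0.congr_simp]
  try have : _root_.True := by simp only [_root_.Cfsg.Agent.H203.EPX.u0.congr_simp]
  try have : _root_.True := by simp only [_root_.Cfsg.Agent.TwoESix.FlagH.xe.congr_simp]
  try have : _root_.True := by simp only [_root_.Cfsg.Agent.H203.EPX.lst.eq_1]
  exact _root_.True.intro
end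

-- part: H286/EPK/EightTwo
section
set_option linter.all false
open scoped Cfsg.Agent.FastGrp

/-!
# S5745 CrossK, E8(2), T = A13, A14 (helper286): the T-side

`E8(2)` has no element of order 143 (helper27, `H27/TS/No143.lean`).
-/

set_option autoImplicit false

namespace Cfsg.Agent.H286.EPK

variable {G : Type*} [Group G] [Finite G] {N : Subgroup G} {T : Type*} [Group T] {k : ℕ}

/-- `G` without elements of order `143 = 11 * 13`: `T` has order prime to 11 or to 13. -/
theorem e8_two (e : N ≃* (Fin k → T)) (hk : 2 ≤ k) (h143 : ∀ x : G, orderOf x ≠ 143)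
    (h11 : 11 ∣ Nat.card T) (h13 : 13 ∣ Nat.card T) : False := by
  obtain ⟨x, -, hx⟩ := exists_order_mul e hk (r := 11) (s := 13) (by norm_num) (by norm_num) (by norm_num) h11 h13
  exact h143 x (by rw [hx])

theorem e8_two_alt (e : N ≃* (Fin k → T)) (hk : 2 ≤ k) (h143 : ∀ x : G, orderOf x ≠ 143) {n : ℕ} (hn : 13 ≤ n)
    (f : T ≃* alternatingGroup (Fin n)) : False := by
  have h0 : Nat.card T = Nat.factorial n / 2 := by
    haveI : Nontrivial (Fin n) := Fin.nontrivial_iff_two_le.2 (by omega)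
    rw [Nat.card_congr f.toEquiv, nat_card_alternatingGroup, Nat.card_fin]
  have h1 : 2 * (11 * 13) ∣ Nat.factorial n := by
    refine (show 2 * (11 * 13) ∣ Nat.factorial 13 by decide).trans (Nat.factorial_dvd_factorial hn)
  have h2 : 11 * 13 ∣ Nat.card T := by
    rw [h0]
    exact (Nat.dvd_div_iff_mul_dvd (dvd_trans (by norm_num) h1)).2 h1
  exact e8_two e hk h143 (dvd_trans (by norm_num) h2) (dvd_trans (by norm_num) h2)

end Cfsg.Agent.H286.EPK
end

-- part: H595/EPX/TD42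
section
prune_inst 0x400000
set_option linter.all false
open scoped Cfsg.Agent.FastGrp

/-!
# Centralizers of elements of order 3 and 7 of `³D₄(2)` (helper595, with the class list of helper347)
-/

set_option autoImplicit false
set_option maxRecDepth 100000
set_option Elab.async false

namespace Cfsg.Agent.H595.EPX.TD42

open Subgroup Cfsg.Agent.H347.HX Cfsg.Agent.H347.HX.D42

theorem pow_ne {w : List ℕ} {k : ℕ} (q : Fin 819) (h : Nat.beq (ap fl (wp w k) q) (ap fl [] q) = false) :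
    (ev s w) ^ k ≠ 1 := by
  rw [poww]
  exact ne_of (v := []) q h

theorem of_three {p : A × Cl} (hp : p ∈ lst) (h1 : p.1 ≠ 1) (hk : p.1 ^ 3 = 1) :
    p = (ev s [4, 0, 4, 0], c3) ∨ p = (ev s [2, 0], c4) := by
  simp only [lst, List.mem_cons, List.not_mem_nil, or_false] at hp
  rcases hp with rfl | rfl | rfl | rfl | rfl | rfl | rfl | rfl | rfl | rfl | rfl | rfl | rfl | rfl | rfl | rfl | rfl | rfl | rfl | rfl | rfl
  · exact absurd rfl h1
  · exact absurd hk (pow_ne 2 (by decide +kernel))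
  · exact absurd hk (pow_ne 1 (by decide +kernel))
  · exact Or.inl rfl
  · exact Or.inr rfl
  · exact absurd hk (pow_ne 1 (by decide +kernel))
  · exact absurd hk (pow_ne 2 (by decide +kernel))
  · exact absurd hk (pow_ne 0 (by decide +kernel))
  · exact absurd hk (pow_ne 0 (by decide +kernel))
  · exact absurd hk (pow_ne 5 (by decide +kernel))
  · exact absurd hk (pow_ne 0 (by decide +kernel))
  · exact absurd hk (pow_ne 3 (by decide +kernel))
  · exact absurd hk (pow_ne 1 (by decide +kernel))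
  · exact absurd hk (pow_ne 1 (by decide +kernel))
  · exact absurd hk (pow_ne 1 (by decide +kernel))
  · exact absurd hk (pow_ne 5 (by decide +kernel))
  · exact absurd hk (pow_ne 0 (by decide +kernel))
  · exact absurd hk (pow_ne 2 (by decide +kernel))
  · exact absurd hk (pow_ne 0 (by decide +kernel))
  · exact absurd hk (pow_ne 0 (by decide +kernel))
  · exact absurd hk (pow_ne 1 (by decide +kernel))

theorem of_seven {p : A × Cl} (hp : p ∈ lst) (h1 : p.1 ≠ 1) (hk : p.1 ^ 7 = 1) :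
    p = (ev s [4, 3, 2, 0], c10) ∨ p = (ev s [1, 0], c11) := by
  simp only [lst, List.mem_cons, List.not_mem_nil, or_false] at hp
  rcases hp with rfl | rfl | rfl | rfl | rfl | rfl | rfl | rfl | rfl | rfl | rfl | rfl | rfl | rfl | rfl | rfl | rfl | rfl | rfl | rfl | rfl
  · exact absurd rfl h1
  · exact absurd hk (pow_ne 2 (by decide +kernel))
  · exact absurd hk (pow_ne 1 (by decide +kernel))
  · exact absurd hk (pow_ne 0 (by decide +kernel))
  · exact absurd hk (pow_ne 1 (by decide +kernel))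
  · exact absurd hk (pow_ne 1 (by decide +kernel))
  · exact absurd hk (pow_ne 2 (by decide +kernel))
  · exact absurd hk (pow_ne 0 (by decide +kernel))
  · exact absurd hk (pow_ne 0 (by decide +kernel))
  · exact absurd hk (pow_ne 1 (by decide +kernel))
  · exact Or.inl rfl
  · exact Or.inr rfl
  · exact absurd hk (pow_ne 1 (by decide +kernel))
  · exact absurd hk (pow_ne 1 (by decide +kernel))
  · exact absurd hk (pow_ne 1 (by decide +kernel))
  · exact absurd hk (pow_ne 1 (by decide +kernel))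
  · exact absurd hk (pow_ne 0 (by decide +kernel))
  · exact absurd hk (pow_ne 2 (by decide +kernel))
  · exact absurd hk (pow_ne 0 (by decide +kernel))
  · exact absurd hk (pow_ne 0 (by decide +kernel))
  · exact absurd hk (pow_ne 5 (by decide +kernel))

theorem bd3 : bd c3.l = 4536 := by decide +kernel
theorem bd4 : bd c4.l = 1944 := by decide +kernel
theorem bd10 : bd c10.l = 147 := by decide +kernel
theorem bd11 : bd c11.l = 1176 := by decide +kernel

theorem cent_le {p : A × Cl} (hp : p ∈ lst) : Nat.card (centralizer ({p.1} : Set A)) ≤ bd p.2.l :=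
  card_le (lst_Rp p hp) hbase (lst_run p hp)

theorem card_cent_conj {G : Type*} [Group G] {x y : G} (h : IsConj x y) :
    Nat.card (centralizer ({x} : Set G)) = Nat.card (centralizer ({y} : Set G)) := by
  obtain ⟨c, rfl⟩ := isConj_iff.1 h
  have h1 : centralizer ({c * x * c⁻¹} : Set G) = (centralizer ({x} : Set G)).map (MulAut.conj c).toMonoidHom := by
    ext z
    rw [mem_centralizer_singleton_iff, Subgroup.mem_map]
    constructor
    · intro hz
      refine ⟨c⁻¹ * z * c, ?_, ?_⟩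
      · rw [mem_centralizer_singleton_iff]
        calc c⁻¹ * z * c * x = c⁻¹ * (z * (c * x * c⁻¹)) * c := by group
          _ = c⁻¹ * (c * x * c⁻¹ * z) * c := by rw [hz]
          _ = x * (c⁻¹ * z * c) := by group
      · show c * (c⁻¹ * z * c) * c⁻¹ = z
        group
    · rintro ⟨w, hw, rfl⟩
      rw [mem_centralizer_singleton_iff] at hw
      show c * w * c⁻¹ * (c * x * c⁻¹) = c * x * c⁻¹ * (c * w * c⁻¹)
      calc c * w * c⁻¹ * (c * x * c⁻¹) = c * (w * x) * c⁻¹ := by group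
        _ = c * (x * w) * c⁻¹ := by rw [hw]
        _ = _ := by group
  rw [h1]
  exact Nat.card_congr ((centralizer ({x} : Set G)).equivMapOfInjective _ (MulAut.conj c).injective).toEquiv

theorem card_cent_sub {x : K} : Nat.card (centralizer ({x} : Set K)) =
    Nat.card (K ⊓ centralizer ({(x : A)} : Set A) : Subgroup A) := by
  refine Nat.card_congr ⟨fun z => ⟨(z : K), (z : K).2, ?_⟩, fun z => ⟨⟨z.1, z.2.1⟩, ?_⟩, fun _ => rfl, fun _ => rfl⟩
  · show ((z : K) : A) ∈ centralizer ({(x : A)} : Set A)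
    rw [mem_centralizer_singleton_iff]
    exact congrArg Subtype.val (mem_centralizer_singleton_iff.1 z.2)
  · rw [mem_centralizer_singleton_iff]
    exact Subtype.ext (mem_centralizer_singleton_iff.1 z.2.2)

theorem σ_comm : σ * ev s [4, 0, 4, 0] = ev s [4, 0, 4, 0] * σ := by
  apply Subtype.ext
  apply Equiv.ext
  intro q
  apply Fin.ext
  have h : (alb 819 fun p => Nat.beq (sf (ap fl [4, 0, 4, 0] p)) (ap fl [4, 0, 4, 0] (sf p))) = true := by decide +kernel
  have h1 : (((σ * ev s [4, 0, 4, 0] : A) : Equiv.Perm (Fin 819)) q : ℕ) = sf (ap fl [4, 0, 4, 0] q) := by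
    show (((σ : Equiv.Perm (Fin 819)) (((ev s [4, 0, 4, 0] : A) : Equiv.Perm (Fin 819)) q) : Fin 819) : ℕ) = _
    rw [rp_σ, Rp.ev rp_s]
  have h2 : (((ev s [4, 0, 4, 0] * σ : A) : Equiv.Perm (Fin 819)) q : ℕ) = ap fl [4, 0, 4, 0] (sf q) := by
    show ((((ev s [4, 0, 4, 0] : A) : Equiv.Perm (Fin 819)) ((σ : Equiv.Perm (Fin 819)) q) : Fin 819) : ℕ) = _
    rw [Rp.ev rp_s, rp_σ]
  rw [h1, h2]
  exact Nat.eq_of_beq_eq_true (of_alb h q q.2)

/-- order 3 -/
theorem cent3 {x : K} (h3 : orderOf x = 3) : Nat.card (centralizer ({x} : Set K)) ≤ 1944 := by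
  obtain ⟨p, hp, hc⟩ := classes x.2
  have ho : orderOf p.1 = 3 := by
    obtain ⟨c, hc⟩ := isConj_iff.1 hc
    have h1 : orderOf ((MulAut.conj c) p.1) = orderOf p.1 := (MulAut.conj c).orderOf_eq p.1
    rw [← h1, MulAut.conj_apply, hc, Subgroup.orderOf_coe, h3]
  have h1 : p.1 ≠ 1 := by
    intro h
    rw [h, orderOf_one] at ho
    omega
  have hk : p.1 ^ 3 = 1 := by rw [← ho, pow_orderOf_eq_one]
  rw [card_cent_sub]
  have hle : Nat.card (K ⊓ centralizer ({(x : A)} : Set A) : Subgroup A) ≤ Nat.card (centralizer ({(x : A)} : Set A)) :=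
    Subgroup.card_le_of_le inf_le_right
  rcases of_three hp h1 hk with rfl | rfl
  · have h2 : Nat.card (centralizer ({(x : A)} : Set A)) ≤ 4536 := by
      rw [← card_cent_conj hc, ← bd3]
      exact cent_le hp
    obtain ⟨g, hg⟩ := isConj_iff.1 hc
    have h4 : g * σ * g⁻¹ ∈ centralizer ({(x : A)} : Set A) := by
      rw [mem_centralizer_singleton_iff, ← hg]
      calc g * σ * g⁻¹ * (g * ev s [4, 0, 4, 0] * g⁻¹) = g * (σ * ev s [4, 0, 4, 0]) * g⁻¹ := by group
        _ = g * (ev s [4, 0, 4, 0] * σ) * g⁻¹ := by rw [σ_comm]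
        _ = _ := by group
    have h5 : g * σ * g⁻¹ ∉ K := by
      intro h
      apply σ_not_mem
      have h6 := normal_K.conj_mem _ h g⁻¹
      have h7 : g⁻¹ * (g * σ * g⁻¹) * g⁻¹⁻¹ = σ := by group
      rwa [h7] at h6
    have hn := normal_K
    have h6 : (K.subgroupOf (centralizer ({(x : A)} : Set A))).index ∣ 3 := by
      rw [← index_K]
      exact Subgroup.relIndex_dvd_index_of_normal K _
    have h7 : (K.subgroupOf (centralizer ({(x : A)} : Set A))).index ≠ 1 := by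
      intro h8
      rw [Subgroup.index_eq_one, Subgroup.subgroupOf_eq_top] at h8
      exact h5 (h8 h4)
    have h8 : (K.subgroupOf (centralizer ({(x : A)} : Set A))).index = 3 :=
      ((Nat.dvd_prime Nat.prime_three).1 h6).resolve_left h7
    have h9 := (K.subgroupOf (centralizer ({(x : A)} : Set A))).card_mul_index
    rw [h8] at h9
    have h10 : Nat.card (K.subgroupOf (centralizer ({(x : A)} : Set A))) =
        Nat.card (K ⊓ centralizer ({(x : A)} : Set A) : Subgroup A) := by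
      rw [← Subgroup.inf_subgroupOf_right]
      exact Nat.card_congr (subgroupOfEquivOfLe inf_le_right).toEquiv
    rw [h10] at h9
    omega
  · have h2 : Nat.card (centralizer ({(x : A)} : Set A)) ≤ 1944 := by
      rw [← card_cent_conj hc, ← bd4]
      exact cent_le hp
    exact hle.trans h2

/-- order 7 -/
theorem cent7 {x : K} (h7 : orderOf x = 7) : Nat.card (centralizer ({x} : Set K)) ≤ 1176 := by
  obtain ⟨p, hp, hc⟩ := classes x.2
  have ho : orderOf p.1 = 7 := by
    obtain ⟨c, hc⟩ := isConj_iff.1 hc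
    have h1 : orderOf ((MulAut.conj c) p.1) = orderOf p.1 := (MulAut.conj c).orderOf_eq p.1
    rw [← h1, MulAut.conj_apply, hc, Subgroup.orderOf_coe, h7]
  have h1 : p.1 ≠ 1 := by
    intro h
    rw [h, orderOf_one] at ho
    omega
  have hk : p.1 ^ 7 = 1 := by rw [← ho, pow_orderOf_eq_one]
  rw [card_cent_sub]
  have hle : Nat.card (K ⊓ centralizer ({(x : A)} : Set A) : Subgroup A) ≤ Nat.card (centralizer ({(x : A)} : Set A)) :=
    Subgroup.card_le_of_le inf_le_right
  have h2 : Nat.card (centralizer ({(x : A)} : Set A)) ≤ 1176 := by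
    rw [← card_cent_conj hc]
    rcases of_seven hp h1 hk with rfl | rfl
    · exact (cent_le hp).trans (by rw [bd10]; norm_num)
    · exact (cent_le hp).trans (by rw [bd11])
  exact hle.trans h2

/-- **Centralizers in `³D₄(2)`.** -/
theorem cent_td4 {F : Type*} [Field F] [Fintype F] (hF : Fintype.card F = 8) (x : ↥(Cfsg.Lie.twistedD4 F 2)) :
    (orderOf x = 3 → Nat.card (centralizer ({x} : Set ↥(Cfsg.Lie.twistedD4 F 2))) ≤ 1944) ∧
      (orderOf x = 7 → Nat.card (centralizer ({x} : Set ↥(Cfsg.Lie.twistedD4 F 2))) ≤ 1176) := by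
  obtain ⟨φ⟩ := iso F hF
  have key : Nat.card (centralizer ({φ.symm x} : Set K)) = Nat.card (centralizer ({x} : Set ↥(Cfsg.Lie.twistedD4 F 2))) := by
    refine Nat.card_congr (Equiv.subtypeEquiv φ.toEquiv fun z => ?_)
    show z ∈ centralizer ({φ.symm x} : Set K) ↔ φ z ∈ centralizer ({x} : Set ↥(Cfsg.Lie.twistedD4 F 2))
    rw [mem_centralizer_singleton_iff, mem_centralizer_singleton_iff]
    constructor
    · intro h
      have h1 := congrArg φ h
      rwa [map_mul, map_mul, φ.apply_symm_apply] at h1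
    · intro h
      apply φ.injective
      rwa [map_mul, map_mul, φ.apply_symm_apply]
  rw [← key, ← MulEquiv.orderOf_eq φ.symm x]
  exact ⟨cent3, cent7⟩

end Cfsg.Agent.H595.EPX.TD42
end

-- part: H153/FH/Fi
section
prune_inst 0x400000
set_option linter.all false
open scoped Cfsg.Agent.FastGrp

/-!
# A subgroup `Fi22` of a group and its 3510 transpositions (helper153)

`FiSet N D` : the facts on the class `D` of the transpositions of a subgroup `N` isomorphic to `Fi22`;
`fiSet e : FiSet N (D e)`.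
-/

set_option autoImplicit false
set_option linter.unusedSectionVars false

namespace Cfsg.Agent.H153.FH

open Subgroup Cfsg Cfsg.Agent.LThreeFi22
open Cfsg.Agent.KFacts.FiTT (TK)
open scoped commutatorElement

universe v

/-! ### In the group `Fi22` -/

section K

variable {K : Type v} [Group K] {T : Set K}

/-- automorphisms preserve the transpositions -/
theorem aut_TK (e : K ≃* Spor.Fi22) (α : K ≃* K) {t : K} (ht : t ∈ TK e) : α t ∈ TK e := by
  rw [Inst.mem_TK] at ht ⊢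
  have h := R08.AutT.aut_mem ((e.symm.trans α).trans e) ht
  simpa using h

/-- `C(d) / <d>` is simple and `C(d)` is perfect -/
theorem quot_TK (e : K ≃* Spor.Fi22) {d : K} (hd : d ∈ TK e) {P : Subgroup K}
    (hP : P ≤ centralizer ({d} : Set K)) (hn : ∀ c ∈ centralizer ({d} : Set K), ∀ p ∈ P, c * p * c⁻¹ ∈ P) :
    P ≤ zpowers d ∨ P = centralizer ({d} : Set K) := by
  obtain ⟨π, lift, B⟩ := Inst.base_at e hd
  have ex := B.lab.ext
  have hs : IsSimpleGroup (PSU 6 SporRec.GF4.F4 2) :=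
    S0283.result Fischer.Unit22.hF 6 (by norm_num) (by norm_num)
  let P' : Subgroup ↥(centralizer ({d} : Set K)) := P.subgroupOf _
  have hN : P'.Normal := ⟨fun p hp c => by
    rw [mem_subgroupOf] at hp ⊢
    exact hn c.1 c.2 p.1 hp⟩
  have hN' : (P'.map π).Normal := hN.map _ ex.surj
  rcases hN'.eq_bot_or_eq_top with h | h
  · left
    intro p hp
    have h1 : π ⟨p, hP hp⟩ = 1 := by
      have : π ⟨p, hP hp⟩ ∈ P'.map π := mem_map_of_mem _ (mem_subgroupOf.2 hp)
      rw [h] at this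
      exact mem_bot.1 this
    rcases (ex.ker _).1 h1 with h2 | h2
    · have : p = 1 := congrArg Subtype.val h2
      rw [this]
      exact one_mem _
    · have : p = d := congrArg Subtype.val h2
      rw [this]
      exact mem_zpowers d
  · right
    apply le_antisymm hP
    have key : ∀ a : ↥(centralizer ({d} : Set K)), ∃ p ∈ P', a = p ∨ a = p * Cfsg.Agent.R01.Start.zel d := by
      intro a
      have ha : π a ∈ P'.map π := by rw [h]; exact mem_top _
      obtain ⟨p, hp, hpa⟩ := ha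
      exact ⟨p, hp, ex.map_eq.1 hpa.symm⟩
    have hz := ex.comm
    have hcom : ∀ a b : ↥(centralizer ({d} : Set K)), ⁅a, b⁆ ∈ P' := by
      intro a b
      obtain ⟨p, hp, ha⟩ := key a
      obtain ⟨q, hq, hb⟩ := key b
      have h1 : ⁅a, b⁆ = ⁅p, q⁆ := by
        set z := Cfsg.Agent.R01.Start.zel d with hzd
        have c1 : ∀ x y : ↥(centralizer ({d} : Set K)), ⁅x * z, y⁆ = ⁅x, y⁆ := by
          intro x y
          rw [commutatorElement_def, commutatorElement_def]
          calc x * z * y * (x * z)⁻¹ * y⁻¹ = x * (z * y) * z⁻¹ * x⁻¹ * y⁻¹ := by group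
            _ = x * (y * z) * z⁻¹ * x⁻¹ * y⁻¹ := by rw [hz y]
            _ = x * y * x⁻¹ * y⁻¹ := by group
        have c2 : ∀ x y : ↥(centralizer ({d} : Set K)), ⁅x, y * z⁆ = ⁅x, y⁆ := by
          intro x y
          rw [← commutatorElement_inv, c1, commutatorElement_inv]
        rcases ha with ha | ha <;> rcases hb with hb | hb <;> rw [ha, hb]
        · exact c2 _ _
        · exact c1 _ _
        · rw [c1, c2]
      rw [h1]
      rw [commutatorElement_def]
      exact P'.mul_mem (P'.mul_mem (P'.mul_mem hp hq) (P'.inv_mem hp)) (P'.inv_mem hq)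
    have h2 : commutator ↥(centralizer ({d} : Set K)) ≤ P' := by
      rw [_root_.commutator_def, commutator_le]
      intro a _ b _
      exact hcom a b
    rw [B.lab.perf] at h2
    intro c hc
    exact mem_subgroupOf.1 (h2 (mem_top ⟨c, hc⟩))

/-- two transpositions commuting with an element of order 7 do not commute and their product has order 3 -/
theorem seven_TK (C : Ctx K T) {y : K} (hy : y ^ 7 = 1) (hy1 : y ≠ 1) {a b : K} (ha : a ∈ T) (hb : b ∈ T)
    (hya : y * a = a * y) (hyb : y * b = b * y) (hab : a ≠ b) :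
    a * b ≠ b * a ∧ {t | t ∈ T ∧ y * t = t * y} = {a, b, a * b * a} := by
  have := C.finite
  have h1 : a * b ≠ b * a := fun h => hab (C.seven_comm hy hy1 ⟨hb, hyb⟩ ⟨ha, hya⟩ h.symm)
  refine ⟨h1, ?_⟩
  have ai := C.inv ha
  have hc : a * b * a ∈ T := by
    have := C.conj b hb a
    rwa [ai] at this
  have hyc : y * (a * b * a) = a * b * a * y := by
    calc y * (a * b * a) = (y * a) * b * a := by group
      _ = a * (y * b) * a := by rw [hya]; group
      _ = a * b * (y * a) := by rw [hyb]; group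
      _ = a * b * a * y := by rw [hya]; group
  have n1 : a ≠ a * b * a := by
    intro h
    have h2 : a * a = a * (a * b * a) := congrArg (a * ·) h
    have h3 : a * (a * b * a) = b * a := by
      calc a * (a * b * a) = (a * a) * (b * a) := by group
        _ = b * a := by rw [C.sq a ha, one_mul]
    rw [h3] at h2
    exact hab (mul_right_cancel h2)
  have n2 : b ≠ a * b * a := by
    intro h
    apply h1
    have h2 : a * (a * b * a) = b * a := by
      calc a * (a * b * a) = (a * a) * (b * a) := by group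
        _ = b * a := by rw [C.sq a ha, one_mul]
    rw [← h] at h2
    exact h2
  symm
  apply Set.eq_of_subset_of_ncard_le
  · rintro x (rfl | rfl | rfl)
    · exact ⟨ha, hya⟩
    · exact ⟨hb, hyb⟩
    · exact ⟨hc, hyc⟩
  · have h3 : {t | t ∈ T ∧ y * t = t * y}.ncard = 3 := C.seven_card hy hy1
    rw [h3, Set.ncard_eq_three.2 ⟨a, b, a * b * a, hab, n1, n2, rfl⟩]
  · exact Set.toFinite _

/-- sets of transpositions commuting with an element of order 5 -/
theorem five_TK (C : Ctx K T) {u : K} (hu : u ^ 5 = 1) (hu1 : u ≠ 1) {d : K} {E : Set K} (hE : E ⊆ T) (hd : d ∈ E)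
    (hud : u * d = d * u) (hcl : ∀ x ∈ E, d * x * d ∈ E) (hn : ∀ x ∈ E, x ≠ d → d * x ≠ x * d) :
    Odd {x | x ∈ E ∧ u * x = x * u}.ncard ∧ {x | x ∈ E ∧ u * x = x * u}.ncard ≤ 7 := by
  classical
  have := C.finite
  have : Fintype K := Fintype.ofFinite K
  have dd := C.sq d (hE hd)
  have hdi := C.inv (hE hd)
  set Q : Set K := {x | (x ∈ E ∧ x ≠ d) ∧ u * x = x * u} with hQ
  have h1 : {x | x ∈ E ∧ u * x = x * u} = insert d Q := by
    ext x
    constructor
    · rintro ⟨h2, h3⟩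
      by_cases h4 : x = d
      · exact Or.inl h4
      · exact Or.inr ⟨⟨h2, h4⟩, h3⟩
    · rintro (rfl | ⟨⟨h2, -⟩, h3⟩)
      · exact ⟨hd, hud⟩
      · exact ⟨h2, h3⟩
  have h2 : d ∉ Q := fun h => h.1.2 rfl
  rw [h1, Set.ncard_insert_of_notMem h2 (Set.toFinite _)]
  have h6 : Q.ncard ≤ 6 := by
    rw [← (C.five_far hu hu1 (d := d) ⟨hE hd, hud⟩).2]
    refine Set.ncard_le_ncard ?_ (Set.toFinite _)
    rintro x ⟨⟨hx, hxd⟩, hux⟩
    exact ⟨⟨hE hx, hux⟩, hn x hx hxd⟩
  have hev : Even Q.ncard := by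
    have hud' : u * d = d * u := hud
    have h7 := fix_modEq Nat.prime_two (y := d) (by rw [pow_two, dd]) (S := Q) (by
      rintro x ⟨⟨hx, hxd⟩, hux⟩
      rw [hdi]
      refine ⟨⟨hcl x hx, ?_⟩, ?_⟩
      · intro h
        apply hxd
        have h8 : d * (d * x * d) * d = x := by
          calc d * (d * x * d) * d = (d * d) * x * (d * d) := by group
            _ = x := by rw [dd, one_mul, mul_one]
        rw [← h8, h, dd, one_mul]
      · calc u * (d * x * d) = (u * d) * x * d := by group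
          _ = d * (u * x) * d := by rw [hud']; group
          _ = d * x * (u * d) := by rw [hux]; group
          _ = d * x * d * u := by rw [hud']; group)
    have h8 : {s | s ∈ Q ∧ d * s = s * d} = ∅ := by
      rw [Set.eq_empty_iff_forall_notMem]
      rintro x ⟨⟨⟨hx, hxd⟩, -⟩, h⟩
      exact hn x hx hxd h
    rw [h8, Set.ncard_empty] at h7
    exact Nat.even_iff.2 h7
  refine ⟨hev.add_one, by omega⟩

end K

/-! ### In a group containing `Fi22` -/

/-- the facts on the class `D` of transpositions of a subgroup `N` isomorphic to `Fi22` -/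
structure FiSet {G : Type v} [Group G] (N : Subgroup G) (D : Set G) : Prop where
  card_N : Nat.card ↥N = 64561751654400
  simple : IsSimpleGroup ↥N
  sub : ∀ d ∈ D, d ∈ N
  gen : closure D = N
  ncard : D.ncard = 3510
  sq : ∀ d ∈ D, d * d = 1
  ne1 : ∀ d ∈ D, d ≠ 1
  conj : ∀ h ∈ normalizer (N : Set G), ∀ d ∈ D, h * d * h⁻¹ ∈ D
  three : ∀ a ∈ D, ∀ b ∈ D, a * b = b * a ∨ a * b * a = b * a * b
  cube : ∀ a ∈ D, ∀ b ∈ D, a * b ≠ b * a → (a * b) ^ 3 = 1
  trans : ∀ a ∈ D, ∀ b ∈ D, ∃ g ∈ N, g * a * g⁻¹ = b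
  transC : ∀ a ∈ D, ∀ b ∈ D, ∀ a' ∈ D, ∀ b' ∈ D, a ≠ b → a' ≠ b' → a * b = b * a → a' * b' = b' * a' →
    ∃ g ∈ N, g * a * g⁻¹ = a' ∧ g * b * g⁻¹ = b'
  transN : ∀ a ∈ D, ∀ b ∈ D, ∀ a' ∈ D, ∀ b' ∈ D, a * b ≠ b * a → a' * b' ≠ b' * a' →
    ∃ g ∈ N, g * a * g⁻¹ = a' ∧ g * b * g⁻¹ = b'
  link : ∀ d ∈ D, {c | c ∈ D ∧ c ≠ d ∧ d * c = c * d}.ncard = 693
  far : ∀ d ∈ D, {c | c ∈ D ∧ d * c ≠ c * d}.ncard = 2816
  card_cent : ∀ d ∈ D, Nat.card ↥(N ⊓ centralizer ({d} : Set G)) = 18393661440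
  quot : ∀ d ∈ D, ∀ J : Subgroup G, J ≤ N ⊓ centralizer ({d} : Set G) →
    (∀ c ∈ N ⊓ centralizer ({d} : Set G), ∀ j ∈ J, c * j * c⁻¹ ∈ J) →
      (∀ j ∈ J, j = 1 ∨ j = d) ∨ J = N ⊓ centralizer ({d} : Set G)
  cc : ∀ d ∈ D, ∀ g ∈ N, (∀ c ∈ N ⊓ centralizer ({d} : Set G), g * c = c * g) → g = 1 ∨ g = d
  seven : ∀ y ∈ N, y ^ 7 = 1 → y ≠ 1 → {t | t ∈ D ∧ y * t = t * y}.ncard = 3 ∧
    ∀ a ∈ D, ∀ b ∈ D, y * a = a * y → y * b = b * y → a ≠ b →
      a * b ≠ b * a ∧ {t | t ∈ D ∧ y * t = t * y} = {a, b, a * b * a}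
  ten : ∀ u ∈ N, u ^ 5 = 1 → u ≠ 1 → ∀ d ∈ D, u * d = d * u →
    {t | t ∈ D ∧ u * t = t * u}.ncard = 10 ∧ {t | t ∈ D ∧ u * t = t * u ∧ d * t ≠ t * d}.ncard = 6
  five : ∀ u ∈ N, u ^ 5 = 1 → u ≠ 1 → ∀ d : G, ∀ E : Set G, E ⊆ D → d ∈ E → u * d = d * u →
    (∀ x ∈ E, d * x * d ∈ E) → (∀ x ∈ E, x ≠ d → d * x ≠ x * d) →
      {x | x ∈ E ∧ u * x = x * u}.ncard % 5 ≠ 4

section G

variable {G : Type v} [Group G] {N : Subgroup G} (e : ↥N ≃* Spor.Fi22)

/-- the transpositions of the subgroup -/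
def D (e : ↥N ≃* Spor.Fi22) : Set G := Subtype.val '' TK e

theorem mem_D {x : G} : x ∈ D e ↔ ∃ h : x ∈ N, (⟨x, h⟩ : ↥N) ∈ TK e := by
  constructor
  · rintro ⟨y, hy, rfl⟩
    exact ⟨y.2, hy⟩
  · rintro ⟨h, h'⟩
    exact ⟨⟨x, h⟩, h', rfl⟩

theorem ncard_val (S : Set ↥N) : (Subtype.val '' S : Set G).ncard = S.ncard :=
  Set.ncard_image_of_injective _ Subtype.val_injective

/-- conjugation by an element of the normalizer -/
def conjN {h : G} (hh : h ∈ normalizer (N : Set G)) : ↥N ≃* ↥N where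
  toFun n := ⟨h * n.1 * h⁻¹, (mem_normalizer_iff.1 hh n.1).1 n.2⟩
  invFun n := ⟨h⁻¹ * n.1 * h, by
    have := (mem_normalizer_iff.1 (inv_mem hh) n.1).1 n.2
    rwa [inv_inv] at this⟩
  left_inv n := by
    apply Subtype.ext
    change h⁻¹ * (h * n.1 * h⁻¹) * h = n.1
    group
  right_inv n := by
    apply Subtype.ext
    change h * (h⁻¹ * n.1 * h) * h⁻¹ = n.1
    group
  map_mul' a b := by
    apply Subtype.ext
    change h * (a.1 * b.1) * h⁻¹ = (h * a.1 * h⁻¹) * (h * b.1 * h⁻¹)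
    group

/-- the centralizer inside `N` -/
theorem cent_map {d : G} (hd : d ∈ N) :
    (centralizer ({(⟨d, hd⟩ : ↥N)} : Set ↥N)).map N.subtype = N ⊓ centralizer ({d} : Set G) := by
  ext x
  rw [mem_map, mem_inf, mem_centralizer_singleton_iff]
  constructor
  · rintro ⟨y, hy, rfl⟩
    exact ⟨y.2, congrArg Subtype.val (mem_centralizer_singleton_iff.1 hy)⟩
  · rintro ⟨h1, h2⟩
    exact ⟨⟨x, h1⟩, mem_centralizer_singleton_iff.2 (Subtype.ext h2), rfl⟩

theorem fiSet : FiSet N (D e) := by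
  have C := Inst.ctx e
  have hfin := C.finite
  obtain ⟨d0, π0, lift0, B0⟩ := Cfsg.Agent.KFacts.FiTT.exists_base_of e
  have hcomm : ∀ {a b : ↥N}, a.1 * b.1 = b.1 * a.1 ↔ a * b = b * a := fun {a b} =>
    ⟨fun h => Subtype.ext h, fun h => congrArg Subtype.val h⟩
  refine
    { card_N := C.card
      simple := B0.simple
      sub := fun d hd => ((mem_D e).1 hd).1
      gen := ?_
      ncard := (ncard_val _).trans C.ncard
      sq := ?_
      ne1 := ?_
      conj := ?_
      three := ?_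
      cube := ?_
      trans := ?_
      transC := ?_
      transN := ?_
      link := ?_
      far := ?_
      card_cent := ?_
      quot := ?_
      cc := ?_
      seven := ?_
      ten := ?_
      five := ?_ }
  · have hs := B0.simple
    have hcl : closure (TK e) = ⊤ := by
      have hn : (closure (TK e)).Normal := by
        have h1 : normalClosure (TK e) = closure (TK e) := by
          apply le_antisymm
          · rw [normalClosure, closure_le]
            intro x hx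
            obtain ⟨a, ha, hc⟩ := Group.mem_conjugatesOfSet_iff.1 hx
            obtain ⟨g, rfl⟩ := isConj_iff.1 hc
            exact subset_closure (C.conj a ha g)
          · exact closure_le_normalClosure
        rw [← h1]
        exact normalClosure_normal
      rcases hn.eq_bot_or_eq_top with h | h
      · exfalso
        have h2 := subset_closure (k := TK e) B0.mem
        rw [h, SetLike.mem_coe, mem_bot] at h2
        exact C.ne1 _ B0.mem h2
      · exact h
    change closure (N.subtype '' TK e) = N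
    rw [← MonoidHom.map_closure, hcl, ← MonoidHom.range_eq_map, range_subtype]
  · rintro _ ⟨x, hx, rfl⟩
    exact congrArg Subtype.val (C.sq x hx)
  · rintro _ ⟨x, hx, rfl⟩ h
    exact C.ne1 x hx (Subtype.ext h)
  · rintro h hh _ ⟨x, hx, rfl⟩
    exact ⟨conjN hh x, aut_TK e (conjN hh) hx, rfl⟩
  · rintro _ ⟨a, ha, rfl⟩ _ ⟨b, hb, rfl⟩
    rcases C.three a ha b hb with h | h
    · exact Or.inl (congrArg Subtype.val h)
    · exact Or.inr (congrArg Subtype.val h)
  · rintro _ ⟨a, ha, rfl⟩ _ ⟨b, hb, rfl⟩ h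
    exact congrArg Subtype.val (C.cube ha hb (fun h' => h (hcomm.2 h')))
  · rintro _ ⟨a, ha, rfl⟩ _ ⟨b, hb, rfl⟩
    obtain ⟨g, hg⟩ := C.trans_one ha hb
    exact ⟨g.1, g.2, congrArg Subtype.val hg⟩
  · rintro _ ⟨a, ha, rfl⟩ _ ⟨b, hb, rfl⟩ _ ⟨a', ha', rfl⟩ _ ⟨b', hb', rfl⟩ h h' hc hc'
    obtain ⟨g, h1, h2⟩ := C.transC a ha b hb a' ha' b' hb' (fun h0 => h (by rw [h0])) (fun h0 => h' (by rw [h0]))
      (hcomm.1 hc) (hcomm.1 hc')
    exact ⟨g.1, g.2, congrArg Subtype.val h1, congrArg Subtype.val h2⟩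
  · rintro _ ⟨a, ha, rfl⟩ _ ⟨b, hb, rfl⟩ _ ⟨a', ha', rfl⟩ _ ⟨b', hb', rfl⟩ hc hc'
    obtain ⟨g, h1, h2⟩ := C.transN a ha b hb a' ha' b' hb' (fun h => hc (hcomm.2 h)) (fun h => hc' (hcomm.2 h))
    exact ⟨g.1, g.2, congrArg Subtype.val h1, congrArg Subtype.val h2⟩
  · rintro _ ⟨d, hd, rfl⟩
    rw [← C.link d hd, ← ncard_val]
    congr 1
    ext x
    constructor
    · rintro ⟨⟨y, hy, rfl⟩, h1, h2⟩
      exact ⟨y, ⟨hy, fun h => h1 (by rw [h]), hcomm.1 h2⟩, rfl⟩
    · rintro ⟨y, ⟨hy, h1, h2⟩, rfl⟩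
      exact ⟨⟨y, hy, rfl⟩, fun h => h1 (Subtype.ext h), hcomm.2 h2⟩
  · rintro _ ⟨d, hd, rfl⟩
    rw [← C.far hd, ← ncard_val]
    congr 1
    ext x
    constructor
    · rintro ⟨⟨y, hy, rfl⟩, h2⟩
      exact ⟨y, ⟨hy, fun h => h2 (hcomm.2 h)⟩, rfl⟩
    · rintro ⟨y, ⟨hy, h2⟩, rfl⟩
      exact ⟨⟨y, hy, rfl⟩, fun h => h2 (hcomm.1 h)⟩
  · rintro _ ⟨d, hd, rfl⟩
    rw [← cent_map d.2, ← C.card_cent hd]
    exact (Nat.card_congr ((centralizer ({d} : Set ↥N)).equivMapOfInjective N.subtype N.subtype_injective).toEquiv).symm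
  · rintro _ ⟨d, hd, rfl⟩ J hJ hn
    have hJN : J ≤ N := hJ.trans inf_le_left
    have h1 : J.subgroupOf N ≤ centralizer ({d} : Set ↥N) := by
      intro j hj
      rw [mem_subgroupOf] at hj
      exact mem_centralizer_singleton_iff.2 (hcomm.1 (mem_centralizer_singleton_iff.1 (hJ hj).2))
    have h2 : ∀ c ∈ centralizer ({d} : Set ↥N), ∀ p ∈ J.subgroupOf N, c * p * c⁻¹ ∈ J.subgroupOf N := by
      intro c hc p hp
      rw [mem_subgroupOf] at hp ⊢
      exact hn c.1 ⟨c.2, mem_centralizer_singleton_iff.2 (hcomm.2 (mem_centralizer_singleton_iff.1 hc))⟩ p.1 hp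
    rcases quot_TK e hd h1 h2 with h | h
    · left
      intro j hj
      have h3 := h (show (⟨j, hJN hj⟩ : ↥N) ∈ J.subgroupOf N from mem_subgroupOf.2 hj)
      obtain ⟨k, hk⟩ := mem_zpowers_iff.1 h3
      have h4 : d ^ k = 1 ∨ d ^ k = d := by
        rcases Int.even_or_odd' k with ⟨m, hm | hm⟩
        · left
          rw [hm, zpow_mul, zpow_two, C.sq d hd, one_zpow]
        · right
          rw [hm, zpow_add, zpow_mul, zpow_two, C.sq d hd, one_zpow, one_mul, zpow_one]
      rcases h4 with h4 | h4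
      · left
        rw [h4] at hk
        exact (congrArg Subtype.val hk).symm
      · right
        rw [h4] at hk
        exact (congrArg Subtype.val hk).symm
    · right
      rw [← cent_map d.2, ← h]
      rw [subgroupOf_map_subtype, inf_eq_left.2 hJN]
  · rintro _ ⟨d, hd, rfl⟩ g hg h
    have h1 := Cfsg.Agent.KFacts.FiTT.cenJ e d hd ⟨g, hg⟩ (hcomm.1 (h d.1 ⟨d.2, mem_centralizer_singleton_iff.2 rfl⟩))
      (fun j hj => hcomm.1 (h j.1 ⟨j.2, mem_centralizer_singleton_iff.2 (hcomm.2 hj)⟩))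
    rcases h1 with h1 | h1
    · exact Or.inl (congrArg Subtype.val h1)
    · exact Or.inr (congrArg Subtype.val h1)
  · intro y hy hy7 hy1
    set y' : ↥N := ⟨y, hy⟩ with hy'
    have e7 : y' ^ 7 = 1 := Subtype.ext hy7
    have e1 : y' ≠ 1 := fun h => hy1 (congrArg Subtype.val h)
    have hset : {t | t ∈ D e ∧ y * t = t * y} = Subtype.val '' {t | t ∈ TK e ∧ y' * t = t * y'} := by
      ext x
      constructor
      · rintro ⟨⟨z, hz, rfl⟩, h2⟩
        exact ⟨z, ⟨hz, Subtype.ext h2⟩, rfl⟩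
      · rintro ⟨z, ⟨hz, h2⟩, rfl⟩
        exact ⟨⟨z, hz, rfl⟩, congrArg Subtype.val h2⟩
    refine ⟨?_, ?_⟩
    · rw [hset, ncard_val]
      exact C.seven_card e7 e1
    · rintro _ ⟨a, ha, rfl⟩ _ ⟨b, hb, rfl⟩ hya hyb hab
      obtain ⟨h1, h2⟩ := seven_TK C e7 e1 ha hb (Subtype.ext hya) (Subtype.ext hyb) (fun h => hab (by rw [h]))
      refine ⟨fun h => h1 (hcomm.1 h), ?_⟩
      rw [hset, h2, Set.image_insert_eq, Set.image_insert_eq, Set.image_singleton]
      rfl
  · rintro u hu hu5 hu1 _ ⟨d, hd, rfl⟩ hud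
    set u' : ↥N := ⟨u, hu⟩ with hu'
    have e5 : u' ^ 5 = 1 := Subtype.ext hu5
    have e1 : u' ≠ 1 := fun h => hu1 (congrArg Subtype.val h)
    obtain ⟨h1, h2⟩ := C.five_far e5 e1 (d := d) ⟨hd, Subtype.ext hud⟩
    rw [← h1, ← h2, ← ncard_val, ← ncard_val]
    constructor
    · congr 1
      ext x
      constructor
      · rintro ⟨⟨z, hz, rfl⟩, h3⟩
        exact ⟨z, ⟨hz, Subtype.ext h3⟩, rfl⟩
      · rintro ⟨z, ⟨hz, h3⟩, rfl⟩
        exact ⟨⟨z, hz, rfl⟩, congrArg Subtype.val h3⟩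
    · congr 1
      ext x
      constructor
      · rintro ⟨⟨z, hz, rfl⟩, h3, h4⟩
        exact ⟨z, ⟨⟨hz, Subtype.ext h3⟩, fun h => h4 (hcomm.2 h)⟩, rfl⟩
      · rintro ⟨z, ⟨⟨hz, h3⟩, h4⟩, rfl⟩
        exact ⟨⟨z, hz, rfl⟩, congrArg Subtype.val h3, fun h => h4 (hcomm.1 h)⟩
  · rintro u hu hu5 hu1 d E hE hd hud hcl hn
    set u' : ↥N := ⟨u, hu⟩ with hu'
    have e5 : u' ^ 5 = 1 := Subtype.ext hu5
    have e1 : u' ≠ 1 := fun h => hu1 (congrArg Subtype.val h)
    obtain ⟨d', hd', rfl⟩ := hE hd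
    have hEi : ∀ x ∈ E, ∃ h : x ∈ N, (⟨x, h⟩ : ↥N) ∈ TK e := fun x hx => (mem_D e).1 (hE hx)
    obtain ⟨h1, h2⟩ := five_TK C e5 e1 (d := d') (E := {x : ↥N | x.1 ∈ E}) (by
        intro x hx
        obtain ⟨_, h⟩ := hEi x.1 hx
        exact h) hd (Subtype.ext hud) (fun x hx => hcl x.1 hx)
        (fun x hx hxd h => hn x.1 hx (fun h' => hxd (Subtype.ext h')) (hcomm.2 h))
    have h3 : {x | x ∈ E ∧ u * x = x * u} = Subtype.val '' {x : ↥N | x ∈ {x : ↥N | x.1 ∈ E} ∧ u' * x = x * u'} := by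
      ext x
      constructor
      · rintro ⟨h3, h4⟩
        obtain ⟨h5, -⟩ := hEi x h3
        exact ⟨⟨x, h5⟩, ⟨h3, Subtype.ext h4⟩, rfl⟩
      · rintro ⟨z, ⟨h3, h4⟩, rfl⟩
        exact ⟨h3, congrArg Subtype.val h4⟩
    rw [h3, ncard_val]
    obtain ⟨k, hk⟩ := h1
    omega

end G

end Cfsg.Agent.H153.FH
end

-- part: H775/EPF/TE6
section
prune_inst 0x4302404082212000000001240001c46ce000100002b0001d9a10b420686df600022af20cd80090350222a0c00340068130004504010000000200400013d07a990ea50063300a10c26009f803087500000000000000000000000000000041000200400000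
set_option linter.all false
open scoped Cfsg.Agent.FastGrp

-- part: H775/EPF/Fi22Abs
section
/-!
# S5745, row (2E6(2), Fi22): the abstract steps (5)-(9) (helper775; paper proof of helper918, tools/plans/S5745_Fi22.md)

* `HSide H N D` : facts on `H` (`N ≤ H`, `D` the 3-transpositions of `N = Fi22`);
* `GSide N H Q D d u x5 x7` : facts on `G` (`d ∈ D` a long root involution, `Q = O_2(C_G(d))`, `u ∈ Q`);
* `false_of` : `EP H → HSide H N D → GSide H N Q D d u x5 x7 → False`.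
-/

set_option autoImplicit false

namespace Cfsg.Agent.H775.EPF

open Subgroup Cfsg.Agent.H284

variable {G : Type*} [Group G]

/-! ### an automorphism of order 2 of a group of odd order -/

section coprime

variable {K : Type*} [Group K] [Finite K]

/-- the fixed points of an automorphism -/
def fixG (φ : MulAut K) : Subgroup K where
  carrier := {x | φ x = x}
  one_mem' := map_one φ
  mul_mem' := by
    intro a b ha hb
    show φ (a * b) = a * b
    rw [map_mul, show φ a = a from ha, show φ b = b from hb]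
  inv_mem' := by
    intro a ha
    show φ a⁻¹ = a⁻¹
    rw [map_inv, show φ a = a from ha]

omit [Finite K] in
theorem mem_fixG {φ : MulAut K} {x : K} : x ∈ fixG φ ↔ φ x = x := Iff.rfl

/-- If every element inverted by the involutory automorphism `φ` has order 1 or 3, then `|K : C_K(φ)|` is a power of 3. -/
theorem index_fixG (φ : MulAut K) (h2 : φ * φ = 1) (hodd : Odd (Nat.card K)) (h3 : ∀ x, φ x = x⁻¹ → x ^ 3 = 1) :
    ∃ a : ℕ, (fixG φ).index = 3 ^ a := by
  classical
  refine ⟨_, Nat.eq_prime_pow_of_unique_prime_dvd Subgroup.index_ne_zero_of_finite ?_⟩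
  intro r hr hrd
  by_contra hr3
  have hrf : Fact r.Prime := ⟨hr⟩
  -- the group of order 2 acting on the Sylow subgroups
  have hP : IsPGroup 2 (Subgroup.zpowers φ) := by
    rw [IsPGroup.iff_card]
    have h4 : orderOf φ ∣ 2 := orderOf_dvd_of_pow_eq_one (by rw [pow_two, h2])
    rcases (Nat.dvd_prime Nat.prime_two).1 h4 with h5 | h5
    · exact ⟨0, by rw [Nat.card_zpowers, h5, pow_zero]⟩
    · exact ⟨1, by rw [Nat.card_zpowers, h5, pow_one]⟩
  have h2f : Fact (Nat.Prime 2) := ⟨Nat.prime_two⟩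
  have hns : ¬ 2 ∣ Nat.card (Sylow r K) := by
    intro h
    obtain ⟨P⟩ : Nonempty (Sylow r K) := inferInstance
    have h5 := (h.trans (P.card_dvd_index)).trans (P : Subgroup K).index_dvd_card
    exact (Nat.not_even_iff_odd.2 hodd) (even_iff_two_dvd.2 h5)
  obtain ⟨P, hPf⟩ := hP.nonempty_fixed_point_of_prime_not_dvd_card (Sylow r K) hns
  have hfix : ∀ x ∈ P, φ x ∈ P := by
    intro x hx
    have h5 : (⟨φ, mem_zpowers φ⟩ : Subgroup.zpowers φ) • P = P := hPf ⟨φ, mem_zpowers φ⟩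
    have h6 : φ x ∈ ((⟨φ, mem_zpowers φ⟩ : Subgroup.zpowers φ) • P : Sylow r K) :=
      Subgroup.smul_mem_pointwise_smul x (⟨φ, mem_zpowers φ⟩ : Subgroup.zpowers φ) (P : Subgroup K) hx
    rwa [h5] at h6
  have hle : (P : Subgroup K) ≤ fixG φ := by
    intro x hx
    rw [mem_fixG]
    have hy : x⁻¹ * φ x ∈ P := mul_mem (inv_mem hx) (hfix x hx)
    have h5 : φ (x⁻¹ * φ x) = (x⁻¹ * φ x)⁻¹ := by
      rw [map_mul, map_inv, mul_inv_rev, inv_inv]
      have h7 : φ (φ x) = x := by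
        have := congrArg (fun ψ : MulAut K => ψ x) h2
        exact this
      rw [h7]
    have h6 := h3 _ h5
    obtain ⟨k, hk⟩ := P.isPGroup' ⟨_, hy⟩
    have hk' : (x⁻¹ * φ x) ^ r ^ k = 1 := congrArg Subtype.val hk
    have h7 : orderOf (x⁻¹ * φ x) ∣ 1 := by
      have hcop : Nat.Coprime 3 (r ^ k) := by
        apply Nat.Coprime.pow_right
        rw [Nat.coprime_primes Nat.prime_three hr]
        exact fun e => hr3 e.symm
      rw [← hcop.gcd_eq_one]
      exact Nat.dvd_gcd (orderOf_dvd_of_pow_eq_one h6) (orderOf_dvd_of_pow_eq_one hk')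
    have h8 : x⁻¹ * φ x = 1 := orderOf_eq_one_iff.1 (Nat.dvd_one.1 h7)
    exact (inv_mul_eq_one.1 h8).symm
  have h9 : (fixG φ).index ∣ (P : Subgroup K).index := Subgroup.index_dvd_of_le hle
  exact P.not_dvd_index (hrd.trans h9)

end coprime

/-! ### counting modulo `p` -/

/-- the conjugates of `d` under `M` -/
def E0 (M : Subgroup G) (d : G) : Set G := {y | ∃ g ∈ M, g * d * g⁻¹ = y}

theorem E0_conj {M : Subgroup G} {d y g : G} (hg : g ∈ M) (hy : y ∈ E0 M d) : g * y * g⁻¹ ∈ E0 M d := by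
  obtain ⟨k, hk, rfl⟩ := hy
  exact ⟨g * k, mul_mem hg hk, by group⟩

/-- An element `x ∈ M` of prime order `p`: the number of its fixed points on `d^M` is congruent to `|d^M|`. -/
theorem E0_modEq [Finite G] {M : Subgroup G} {d x : G} (hx : x ∈ M) {p : ℕ} (hp : p.Prime) (ho : orderOf x = p) :
    (E0 M d).ncard ≡ {e | e ∈ E0 M d ∧ x * e = e * x}.ncard [MOD p] := by
  classical
  have hpf : Fact p.Prime := ⟨hp⟩
  have hfin : Fintype (E0 M d) := Fintype.ofFinite _
  let f : Function.End (E0 M d) := fun e => ⟨x * e.1 * x⁻¹, E0_conj hx e.2⟩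
  have hf : ∀ (k : ℕ) (e : E0 M d), (((f ^ k) e : E0 M d) : G) = x ^ k * e.1 * (x ^ k)⁻¹ := by
    intro k
    induction k with
    | zero =>
      intro e
      rw [pow_zero, pow_zero]
      show (e : G) = 1 * e.1 * 1⁻¹
      group
    | succ k ih =>
      intro e
      rw [pow_succ']
      show x * (((f ^ k) e : E0 M d) : G) * x⁻¹ = _
      rw [ih, pow_succ']
      group
  have hf1 : f ^ p ^ 1 = 1 := by
    funext e
    apply Subtype.ext
    rw [hf, pow_one, ← ho, pow_orderOf_eq_one]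
    show 1 * e.1 * 1⁻¹ = e.1
    group
  have h1 := Equiv.Perm.card_fixedPoints_modEq hf1
  have h2 : Fintype.card (E0 M d) = (E0 M d).ncard := by
    rw [← Nat.card_eq_fintype_card]
    rfl
  have h3 : Fintype.card (Function.fixedPoints f) = {e | e ∈ E0 M d ∧ x * e = e * x}.ncard := by
    rw [← Nat.card_eq_fintype_card]
    have e1 : (fun e : E0 M d => (e : G)) '' Function.fixedPoints f = {e | e ∈ E0 M d ∧ x * e = e * x} := by
      ext y
      constructor
      · rintro ⟨e, he, rfl⟩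
        refine ⟨e.2, ?_⟩
        have h4 : x * e.1 * x⁻¹ = e.1 := congrArg Subtype.val he
        exact mul_inv_eq_iff_eq_mul.1 h4
      · rintro ⟨h4, h5⟩
        refine ⟨⟨y, h4⟩, ?_, rfl⟩
        apply Subtype.ext
        show x * y * x⁻¹ = y
        rw [h5, mul_inv_cancel_right]
    rw [← e1, Set.ncard_image_of_injective _ Subtype.val_injective]
    rfl
  rw [h2, h3] at h1
  exact h1

/-! ### the steps (5)-(9) -/

set_option linter.unusedSectionVars false

section main

variable [Finite G] {H N Q : Subgroup G} {D : Set G} {d u x5 x7 : G}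

theorem HSide.sq (hh : HSide H N D) {a : G} (ha : a ∈ D) : a * a = 1 := by
  rw [← pow_two, ← hh.inv a ha, pow_orderOf_eq_one]

theorem HSide.ne_one (hh : HSide H N D) {a : G} (ha : a ∈ D) : a ≠ 1 := by
  rintro rfl
  have := hh.inv 1 ha
  rw [orderOf_one] at this
  norm_num at this

theorem HSide.inv_eq (hh : HSide H N D) {a : G} (ha : a ∈ D) : a⁻¹ = a :=
  inv_eq_of_mul_eq_one_left (hh.sq ha)

theorem mem_M {y : G} : y ∈ H ⊓ cj u H ↔ y ∈ H ∧ u⁻¹ * y * u ∈ H := by
  rw [Subgroup.mem_inf, mem_cj]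

variable (hh : HSide H N D) (hg : GSide H N Q D d u x5 x7)

include hh hg

theorem dM : d ∈ H ⊓ cj u H := by
  have h1 : d ∈ H := hh.le (hh.sub d hg.dD)
  refine mem_M.2 ⟨h1, ?_⟩
  have h2 : u⁻¹ * d * u = d := by
    rw [mul_assoc, ← hg.cen u hg.uQ, ← mul_assoc, inv_mul_cancel, one_mul]
  rw [h2]
  exact h1

theorem xM {x : G} (hx : x ∈ N) (hxu : x * u = u * x) : x ∈ H ⊓ cj u H := by
  refine mem_M.2 ⟨hh.le hx, ?_⟩
  have h2 : u⁻¹ * x * u = x := by
    rw [mul_assoc, hxu, ← mul_assoc, inv_mul_cancel, one_mul]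
  rw [h2]
  exact hh.le hx

/-- (5) -/
theorem step5 {e : G} (he : e ∈ D) (heM : e ∈ H ⊓ cj u H) (hed : e * d = d * e) : e = d := by
  by_contra hne
  obtain ⟨h1, h2⟩ := mem_M.1 heM
  have hee := hh.inv_eq he
  have h3 : e * (u⁻¹ * e * u) ∈ H := mul_mem h1 h2
  have h4 : e * (u⁻¹ * e * u) ∈ Q := by
    have h5 := hg.nrm e he hed _ (inv_mem hg.uQ)
    rw [hee] at h5
    have h6 := mul_mem h5 hg.uQ
    have h7 : e * u⁻¹ * e * u = e * (u⁻¹ * e * u) := by group
    rwa [h7] at h6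
  obtain ⟨h5, h6⟩ := hg.no e he hed hne
  rcases hg.inf _ h4 h3 with h7 | h7
  · apply h5
    have h8 : u⁻¹ * e * u = e⁻¹ := eq_inv_of_mul_eq_one_right h7
    rw [h8, hee]
  · apply h6
    have h8 : u⁻¹ * e * u = e⁻¹ * d := by rw [← h7]; group
    rw [h8, hee]

/-- distinct elements of `d^M` do not commute -/
theorem E0_comm {y z : G} (hy : y ∈ E0 (H ⊓ cj u H) d) (hz : z ∈ E0 (H ⊓ cj u H) d) (hyz : y * z = z * y) : z = y := by
  obtain ⟨g, hgM, rfl⟩ := hy
  obtain ⟨k, hkM, rfl⟩ := hz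
  have h1 : (g⁻¹ * k) * d * (g⁻¹ * k)⁻¹ ∈ D := hh.conj _ (mul_mem (inv_mem (mem_M.1 hgM).1) (mem_M.1 hkM).1) _ hg.dD
  have hM : g⁻¹ * k ∈ H ⊓ cj u H := mul_mem (inv_mem hgM) hkM
  have h2 : (g⁻¹ * k) * d * (g⁻¹ * k)⁻¹ ∈ H ⊓ cj u H := mul_mem (mul_mem hM (dM hh hg)) (inv_mem hM)
  have h3 : (g⁻¹ * k) * d * (g⁻¹ * k)⁻¹ * d = d * ((g⁻¹ * k) * d * (g⁻¹ * k)⁻¹) := by
    have h4 : (g⁻¹ * k) * d * (g⁻¹ * k)⁻¹ * d = g⁻¹ * (k * d * k⁻¹ * (g * d * g⁻¹)) * g := by group
    have h5 : d * ((g⁻¹ * k) * d * (g⁻¹ * k)⁻¹) = g⁻¹ * (g * d * g⁻¹ * (k * d * k⁻¹)) * g := by group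
    rw [h4, h5, hyz]
  have h6 := step5 hh hg h1 h2 h3
  have h7 : k * d * k⁻¹ = g * ((g⁻¹ * k) * d * (g⁻¹ * k)⁻¹) * g⁻¹ := by group
  rw [h7, h6]

theorem E0_D {y : G} (hy : y ∈ E0 (H ⊓ cj u H) d) : y ∈ D := by
  obtain ⟨g, hgM, rfl⟩ := hy
  exact hh.conj _ (mem_M.1 hgM).1 _ hg.dD

theorem E0_M {y : G} (hy : y ∈ E0 (H ⊓ cj u H) d) : y ∈ H ⊓ cj u H := by
  obtain ⟨g, hgM, rfl⟩ := hy
  exact mul_mem (mul_mem hgM (dM hh hg)) (inv_mem hgM)

/-- (6) -/
theorem step6 (hEP : EP H) : ∃ g ∈ H ⊓ cj u H, g * d ≠ d * g := by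
  by_contra hcon
  push Not at hcon
  let L : Subgroup G := H ⊓ centralizer {d}
  have hL : ∀ x, x ∈ L ↔ x ∈ H ∧ x * d = d * x := by
    intro x
    show x ∈ H ⊓ centralizer {d} ↔ _
    rw [mem_inf, mem_centralizer_iff]
    constructor
    · rintro ⟨h1, h2⟩
      exact ⟨h1, (h2 d rfl).symm⟩
    · rintro ⟨h1, h2⟩
      refine ⟨h1, ?_⟩
      rintro _ rfl
      exact h2.symm
  rcases hEP.two u hg.uH L (fun x hx => (hL x).2 ⟨(mem_inf.1 hx).1, hcon x hx⟩) inf_le_left with h1 | h1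
  · obtain ⟨b, hb, hne, hbd⟩ := hh.comm d hg.dD
    apply hne
    apply step5 hh hg hb _ hbd
    rw [← h1, hL]
    exact ⟨hh.le (hh.sub b hb), hbd⟩
  · obtain ⟨b, hb, hne, -⟩ := hh.seven d hg.dD x7 hg.m7 hg.o7 hg.d7
    have h2 : b ∈ L := by rw [h1]; exact hh.le (hh.sub b hb)
    exact hne ((hL b).1 h2).2.symm

/-- (8) `x7` fixes only `d` in `d^M` -/
theorem step8 {e : G} (he : e ∈ E0 (H ⊓ cj u H) d) (hx : x7 * e = e * x7) : e = d := by
  have hdd := hh.sq hg.dD
  obtain ⟨b, hb, hdb, hxb, hall⟩ := hh.seven d hg.dD x7 hg.m7 hg.o7 hg.d7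
  -- `b ∉ M`
  have hbM : b ∉ H ⊓ cj u H := by
    intro hbM
    obtain ⟨h1, h2⟩ := mem_M.1 hbM
    have hbb := hh.sq hb
    set y := u⁻¹ * b * u with hy
    have hud : u * d = d * u := hg.cen u hg.uQ
    have hud' : u⁻¹ * d * u = d := by rw [mul_assoc, ← hud, ← mul_assoc, inv_mul_cancel, one_mul]
    -- `d * y` has order 3
    have h3 : (d * y) ^ 3 = 1 := by
      have h4 : d * y = u⁻¹ * (d * b) * u := by
        calc d * y = (u⁻¹ * d * u) * (u⁻¹ * b * u) := by rw [hud']
          _ = u⁻¹ * (d * b) * u := by group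
      have h5 : (d * b) ^ 3 = 1 := by
        rcases hh.tri d hg.dD b hb with h6 | h6
        · exact absurd h6 hdb
        · exact h6
      have h6 : (u⁻¹ * (d * b) * u) ^ 3 = u⁻¹ * (d * b) ^ 3 * u := by
        rw [pow_succ, pow_two, pow_succ, pow_two]
        group
      rw [h4, h6, h5]
      group
    have hdH : d ∈ H := hh.le (hh.sub d hg.dD)
    have h4 : y ∈ N := by
      have h5 : d * y ∈ N := hh.cube _ (mul_mem hdH h2) h3
      have h6 := mul_mem (hh.sub d hg.dD) h5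
      rwa [← mul_assoc, hdd, one_mul] at h6
    have h5 : orderOf y = 2 := by
      have h6 : orderOf y = orderOf b := by
        have h7 : y = MulAut.conj u⁻¹ b := by rw [MulAut.conj_apply, inv_inv]
        rw [h7]
        exact MulEquiv.orderOf_eq _ b
      rw [h6, hh.inv b hb]
    have h6 : x7 * y = y * x7 := by
      have h7 := hg.u7
      have h8 : x7 * u⁻¹ = u⁻¹ * x7 := by
        rw [eq_inv_mul_iff_mul_eq, ← mul_assoc, ← h7, mul_inv_cancel_right]
      calc x7 * (u⁻¹ * b * u) = (x7 * u⁻¹) * b * u := by group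
        _ = u⁻¹ * (x7 * b) * u := by rw [h8]; group
        _ = u⁻¹ * b * (x7 * u) := by rw [hxb]; group
        _ = (u⁻¹ * b * u) * x7 := by rw [h7]; group
    have hbd : b * d ≠ d * b := fun e => hdb e.symm
    have hu1 : u ≠ 1 := fun e => hg.uH (e ▸ one_mem _)
    rcases hall y h4 h5 h6 with h7 | h7 | h7
    · -- `y = d`
      apply hdb
      have h8 : b = u * d * u⁻¹ := by rw [← h7, hy]; group
      have h9 : b = d := by rw [h8, hud, mul_inv_cancel_right]
      rw [h9]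
    · -- `y = b`
      apply hu1
      apply hg.opp b hb hbd u hg.uQ
      have h8 : u⁻¹ * b * u = b := by rw [← hy]; exact h7
      calc u * b = u * (u⁻¹ * b * u) := by rw [h8]
        _ = b * u := by group
    · -- `y = d b d`
      have h8 : u * d = 1 := by
        apply hg.opp b hb hbd (u * d) (mul_mem hg.uQ hg.dQ)
        have h9 : u⁻¹ * b * u = d * b * d := by rw [← hy]; exact h7
        have h10 : d * (u⁻¹ * b * u) * d = b := by
          rw [h9]
          calc d * (d * b * d) * d = (d * d) * b * (d * d) := by group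
            _ = b := by rw [hdd]; group
        have hdi : d⁻¹ = d := hh.inv_eq hg.dD
        calc u * d * b = u * d * (d * (u⁻¹ * b * u) * d) := by rw [h10]
          _ = u * (d * d) * u⁻¹ * b * (u * d) := by group
          _ = b * (u * d) := by rw [hdd]; group
      apply hg.uH
      have h9 : u = d⁻¹ := eq_inv_of_mul_eq_one_left h8
      rw [h9]
      exact inv_mem hdH
  have heM := E0_M hh hg he
  have hdM := dM hh hg
  rcases hall e (hh.sub e (E0_D hh hg he)) (hh.inv e (E0_D hh hg he)) hx with h1 | h1 | h1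
  · exact h1
  · exact absurd (h1 ▸ heM) hbM
  · exfalso
    apply hbM
    have h2 : b = d * e * d := by
      rw [h1]
      calc b = (d * d) * b * (d * d) := by rw [hdd]; group
        _ = d * (d * b * d) * d := by group
    rw [h2]
    exact mul_mem (mul_mem hdM heM) hdM

/-- the elements of order 7: `|d^M| ≡ 1 mod 7` -/
theorem mod7 : (E0 (H ⊓ cj u H) d).ncard ≡ 1 [MOD 7] := by
  have h1 := E0_modEq (M := H ⊓ cj u H) (d := d) (xM hh hg hg.m7 hg.u7) (by norm_num : Nat.Prime 7) hg.o7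
  have h2 : {e | e ∈ E0 (H ⊓ cj u H) d ∧ x7 * e = e * x7} = {d} := by
    ext e
    constructor
    · rintro ⟨h3, h4⟩
      exact step8 hh hg h3 h4
    · rintro rfl
      exact ⟨⟨1, one_mem _, by group⟩, hg.d7⟩
  rw [h2, Set.ncard_singleton] at h1
  exact h1

/-- (9) the elements of order 5: `|d^M| ≡ 1` or `3 mod 5` -/
theorem mod5 : (E0 (H ⊓ cj u H) d).ncard ≡ 1 [MOD 5] ∨ (E0 (H ⊓ cj u H) d).ncard ≡ 3 [MOD 5] := by
  classical
  have h1 := E0_modEq (M := H ⊓ cj u H) (d := d) (xM hh hg hg.m5 hg.u5) (by norm_num : Nat.Prime 5) hg.o5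
  have hd : d ∈ E0 (H ⊓ cj u H) d := ⟨1, one_mem _, by group⟩
  by_cases hone : ∀ e ∈ E0 (H ⊓ cj u H) d, x5 * e = e * x5 → e = d
  · left
    have h2 : {e | e ∈ E0 (H ⊓ cj u H) d ∧ x5 * e = e * x5} = {d} := by
      ext e
      constructor
      · rintro ⟨h3, h4⟩
        exact hone e h3 h4
      · rintro rfl
        exact ⟨hd, hg.d5⟩
    rw [h2, Set.ncard_singleton] at h1
    exact h1
  · right
    push Not at hone
    obtain ⟨t, ht, hxt, htd⟩ := hone
    have hdt : d * t ≠ t * d := fun e => htd (E0_comm hh hg hd ht e)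
    have hdD := hg.dD
    have htD := E0_D hh hg ht
    have hdd := hh.sq hdD
    have htt := hh.sq htD
    have hw : d * t * d ∈ E0 (H ⊓ cj u H) d := by
      have h3 := E0_conj (dM hh hg) ht
      rwa [hh.inv_eq hdD] at h3
    have hxw : x5 * (d * t * d) = d * t * d * x5 := by
      calc x5 * (d * t * d) = (x5 * d) * t * d := by group
        _ = d * (x5 * t) * d := by rw [hg.d5]; group
        _ = d * t * (x5 * d) := by rw [hxt]; group
        _ = d * t * d * x5 := by rw [hg.d5]; group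
    have h2 : {e | e ∈ E0 (H ⊓ cj u H) d ∧ x5 * e = e * x5} = {d, t, d * t * d} := by
      ext e
      constructor
      · rintro ⟨h3, h4⟩
        by_contra hcon
        rw [Set.mem_insert_iff, Set.mem_insert_iff, Set.mem_singleton_iff] at hcon
        push Not at hcon
        obtain ⟨c1, c2, c3⟩ := hcon
        rcases hh.five x5 hg.m5 hg.o5 d hdD t htD e (E0_D hh hg h3) hg.d5 hxt h4 hdt c1 c2 c3 with h5 | h5 | h5
        · exact c1 (E0_comm hh hg hd h3 h5.symm)
        · exact c2 (E0_comm hh hg ht h3 h5.symm)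
        · exact c3 (E0_comm hh hg hw h3 h5.symm)
      · rintro (rfl | rfl | rfl)
        · exact ⟨hd, hg.d5⟩
        · exact ⟨ht, hxt⟩
        · exact ⟨hw, hxw⟩
    have h3 : ({d, t, d * t * d} : Set G).ncard = 3 := by
      rw [Set.ncard_eq_three]
      refine ⟨d, t, d * t * d, htd.symm, ?_, ?_, rfl⟩
      · intro e
        apply htd
        have e1 : t * d = 1 := by
          calc t * d = d⁻¹ * (d * t * d) := by group
            _ = d⁻¹ * d := by rw [← e]
            _ = 1 := inv_mul_cancel d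
        exact (eq_inv_of_mul_eq_one_left e1).trans (hh.inv_eq hdD)
      · intro e
        apply hdt
        calc d * t = d * t * (d * d) := by rw [hdd, mul_one]
          _ = d * t * d * d := by group
          _ = t * d := by rw [← e]
    rw [h2, h3] at h1
    exact h1

/-- (7) Glauberman's `Z*`: `|d^M|` is a power of 3 -/
theorem step7 : ∃ a : ℕ, (E0 (H ⊓ cj u H) d).ncard = 3 ^ a := by
  classical
  have hdM := dM hh hg
  have hdD := hg.dD
  have hdd := hh.sq hdD
  have hdi := hh.inv_eq hdD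
  set M : Subgroup G := H ⊓ cj u H with hM
  let v : M := ⟨d, hdM⟩
  have hvv : v * v = 1 := Subtype.ext hdd
  have hvi : v⁻¹ = v := inv_eq_of_mul_eq_one_left hvv
  -- products of two elements of `d^M`
  have key : ∀ y ∈ E0 M d, (d * y) ^ 3 = 1 := by
    intro y hy
    have hyD := E0_D hh hg hy
    rcases hh.tri d hdD y hyD with h1 | h1
    · have h2 : y = d := E0_comm hh hg ⟨1, one_mem _, by group⟩ hy h1
      rw [h2, hdd, one_pow]
    · exact h1
  have hiso : Cfsg.Agent.Involutions.ZStar.Iso v := by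
    refine ⟨hvv, fun g => ?_⟩
    have h1 : (v * (g * v * g⁻¹)) ^ 3 = 1 := by
      apply Subtype.ext
      exact key _ ⟨g, g.2, rfl⟩
    have h2 : orderOf (v * (g * v * g⁻¹)) ∣ 3 := orderOf_dvd_of_pow_eq_one h1
    rcases (Nat.dvd_prime Nat.prime_three).1 h2 with h3 | h3
    · rw [h3]; exact odd_one
    · rw [h3]; decide
  have hcom := Cfsg.Agent.S0215.iso_commutator v hiso
  set O : Subgroup M := Cfsg.pPrimeCore 2 M with hO
  have hOn : O.Normal := Cfsg.Agent.Lib.Cores.pPrimeCore_normal 2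
  have hOodd : Odd (Nat.card O) := by
    have h1 : (Nat.card O).Coprime 2 := Cfsg.Agent.Lib.Cores.pPrimeCore_coprime 2
    exact Nat.coprime_two_right.1 h1
  let φ : MulAut O := MulAut.conjNormal v
  have hφ : ∀ x : O, ((φ x : O) : M) = v * x * v⁻¹ := fun x => MulAut.conjNormal_apply v x
  have h2φ : φ * φ = 1 := by
    show MulAut.conjNormal v * MulAut.conjNormal v = 1
    rw [← map_mul, hvv, map_one]
  -- elements inverted by `d`
  have h3φ : ∀ x : O, φ x = x⁻¹ → x ^ 3 = 1 := by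
    intro x hx
    obtain ⟨m, hm⟩ := hOodd
    have hxn : x ^ (2 * m + 1) = 1 := by rw [← hm, pow_card_eq_one']
    -- `y ^ 2 = x`
    set y : O := x ^ (m + 1) with hy
    have hyx : y ^ 2 = x := by
      rw [hy, ← pow_mul]
      have : (m + 1) * 2 = (2 * m + 1) + 1 := by ring
      rw [this, pow_succ, hxn, one_mul]
    have hφy : φ y = y⁻¹ := by rw [hy, map_pow, hx, inv_pow]
    have h1 : ((v * ((y : M) * v * (y : M)⁻¹) : M)) = (x : M)⁻¹ := by
      have h4 : v * (y : M) * v⁻¹ = (y : M)⁻¹ := by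
        rw [← hφ, hφy]
        rfl
      have h5 : v * ((y : M) * v * (y : M)⁻¹) = (v * (y : M) * v⁻¹) * (v * v) * (y : M)⁻¹ := by group
      have h6 : (x : M) = (y : M) ^ 2 := by
        rw [← hyx]
        rfl
      rw [h5, hvv, h4, h6]
      group
    have h4 : ((v * ((y : M) * v * (y : M)⁻¹) : M)) ^ 3 = 1 := by
      apply Subtype.ext
      exact key _ ⟨(y : M), (y : M).2, rfl⟩
    rw [h1] at h4
    apply Subtype.ext
    show (x : M) ^ 3 = 1
    rw [inv_pow, inv_eq_one] at h4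
    exact h4
  obtain ⟨a, ha⟩ := index_fixG φ h2φ hOodd h3φ
  refine ⟨a, ?_⟩
  rw [← ha]
  -- the orbit
  let f : O → G := fun n => (n : M) * d * ((n : M) : G)⁻¹
  have hf : ∀ n n' : O, f n = f n' ↔ n⁻¹ * n' ∈ fixG φ := by
    intro n n'
    rw [mem_fixG]
    have h1 : φ (n⁻¹ * n') = n⁻¹ * n' ↔ d * (((n : M) : G)⁻¹ * ((n' : M) : G)) = ((n : M) : G)⁻¹ * ((n' : M) : G) * d := by
      rw [Subtype.ext_iff, hφ, mul_inv_eq_iff_eq_mul, Subtype.ext_iff]
      rfl
    rw [h1]
    show ((n : M) : G) * d * ((n : M) : G)⁻¹ = ((n' : M) : G) * d * ((n' : M) : G)⁻¹ ↔ _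
    generalize ((n : M) : G) = a
    generalize ((n' : M) : G) = b
    constructor
    · intro h
      calc d * (a⁻¹ * b) = a⁻¹ * (a * d * a⁻¹) * b := by group
        _ = a⁻¹ * (b * d * b⁻¹) * b := by rw [h]
        _ = a⁻¹ * b * d := by group
    · intro h
      calc a * d * a⁻¹ = a * (d * (a⁻¹ * b)) * b⁻¹ := by group
        _ = a * (a⁻¹ * b * d) * b⁻¹ := by rw [h]
        _ = b * d * b⁻¹ := by group
  have hrange : Set.range f = E0 M d := by
    ext y
    constructor
    · rintro ⟨n, rfl⟩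
      exact ⟨(n : M), (n : M).2, rfl⟩
    · intro hy
      have h3 := key y hy
      have hyD := E0_D hh hg hy
      have hyi := hh.inv_eq hyD
      have hyy := hh.sq hyD
      obtain ⟨g, hgM, hgy⟩ := hy
      have h1 := hcom ⟨g, hgM⟩
      refine ⟨⟨_, h1⟩, ?_⟩
      have h4 : ((v * (⟨g, hgM⟩ : M) * v⁻¹ * (⟨g, hgM⟩ : M)⁻¹ : M) : G) = d * y := by
        show d * g * d⁻¹ * g⁻¹ = d * y
        have h5 : y = g * d⁻¹ * g⁻¹ := by rw [hdi, hgy]
        rw [h5]
        group
      show ((v * (⟨g, hgM⟩ : M) * v⁻¹ * (⟨g, hgM⟩ : M)⁻¹ : M) : G) * d *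
        ((v * (⟨g, hgM⟩ : M) * v⁻¹ * (⟨g, hgM⟩ : M)⁻¹ : M) : G)⁻¹ = y
      rw [h4, mul_inv_rev, hdi, hyi]
      -- `d y d y d = y`
      have h5 : (d * y * d * (y * d)) * y = 1 := by
        rw [← h3, pow_succ, pow_two]
        group
      have h6 := eq_inv_of_mul_eq_one_left h5
      rw [h6, hyi]
  rw [← hrange]
  have hcard : Nat.card (O ⧸ fixG φ) = Nat.card (Set.range f) := by
    apply Nat.card_congr
    refine Equiv.ofBijective (Quotient.lift (fun n => (⟨f n, n, rfl⟩ : Set.range f)) ?_) ⟨?_, ?_⟩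
    · intro n n' h
      apply Subtype.ext
      exact (hf n n').2 (QuotientGroup.leftRel_apply.1 h)
    · intro a b
      induction a using QuotientGroup.induction_on with
      | H a =>
        induction b using QuotientGroup.induction_on with
        | H b =>
          intro h
          rw [QuotientGroup.eq]
          exact (hf a b).1 (congrArg Subtype.val h)
    · rintro ⟨_, n, rfl⟩
      exact ⟨(n : O ⧸ fixG φ), rfl⟩
  rw [Subgroup.index, hcard]
  rfl

/-- **The contradiction.** -/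
theorem false_of (hEP : EP H) : False := by
  obtain ⟨a, ha⟩ := step7 hh hg
  have h7 := mod7 hh hg
  have h5 := mod5 hh hg
  obtain ⟨g, hgM, hgd⟩ := step6 hh hg hEP
  have h1 : 1 < (E0 (H ⊓ cj u H) d).ncard := by
    rw [Set.one_lt_ncard_iff]
    refine ⟨d, g * d * g⁻¹, ⟨1, one_mem _, by group⟩, ⟨g, hgM, rfl⟩, ?_⟩
    intro e
    apply hgd
    rw [← mul_inv_eq_iff_eq_mul]
    exact e.symm
  have h2 : (E0 (H ⊓ cj u H) d).ncard < 3 ^ 12 :=
    lt_of_le_of_lt (Set.ncard_le_ncard (fun y hy => E0_D hh hg hy) (Set.toFinite _)) hh.card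
  rw [ha] at h1 h2 h5 h7
  have h3 : a < 12 := (Nat.pow_lt_pow_iff_right (by norm_num)).1 h2
  unfold Nat.ModEq at h5 h7
  interval_cases a <;> omega

end main

end Cfsg.Agent.H775.EPF
end

-- part: H775/EPF/Glue
section
/-!
# S5745, row (2E6(2), Fi22): from the structure `GSide r Q u` of helper203 and `HSide`, `HSide2` to the contradiction
(helper775; paper proof of helper918)
-/

set_option autoImplicit false

namespace Cfsg.Agent.H775.EPF

open Subgroup Cfsg.Agent.H284
open scoped commutatorElement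

variable {G : Type*} [Group G]

theorem mem_cen {a x : G} : x ∈ centralizer ({a} : Set G) ↔ x * a = a * x := by
  rw [mem_centralizer_iff]
  constructor
  · intro h
    exact (h a rfl).symm
  · rintro h _ rfl
    exact h.symm

theorem mem_cen_conj {a x g : G} : x ∈ centralizer ({g * a * g⁻¹} : Set G) ↔ g⁻¹ * x * g ∈ centralizer ({a} : Set G) := by
  rw [mem_cen, mem_cen]
  constructor
  · intro h
    calc g⁻¹ * x * g * a = g⁻¹ * (x * (g * a * g⁻¹)) * g := by group
      _ = g⁻¹ * ((g * a * g⁻¹) * x) * g := by rw [h]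
      _ = a * (g⁻¹ * x * g) := by group
  · intro h
    calc x * (g * a * g⁻¹) = g * (g⁻¹ * x * g * a) * g⁻¹ := by group
      _ = g * (a * (g⁻¹ * x * g)) * g⁻¹ := by rw [h]
      _ = g * a * g⁻¹ * x := by group

theorem mem_zp {a x : G} (ha : a * a = 1) : x ∈ zpowers a ↔ x = 1 ∨ x = a := by
  constructor
  · rintro ⟨k, rfl⟩
    show a ^ k = 1 ∨ a ^ k = a
    have h2 : a ^ (2 : ℤ) = 1 := by
      rw [zpow_two, ha]
    rcases Int.even_or_odd' k with ⟨m, rfl | rfl⟩
    · left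
      rw [zpow_mul, h2, one_zpow]
    · right
      rw [zpow_add, zpow_mul, h2, one_zpow, zpow_one, one_mul]
  · rintro (rfl | rfl)
    · exact one_mem _
    · exact mem_zpowers _

theorem mem_zp_conj {a x g : G} : x ∈ zpowers (g * a * g⁻¹) ↔ g⁻¹ * x * g ∈ zpowers a := by
  constructor
  · rintro ⟨k, rfl⟩
    refine ⟨k, ?_⟩
    show a ^ k = g⁻¹ * (g * a * g⁻¹) ^ k * g
    rw [conj_zpow]
    group
  · rintro ⟨k, hk⟩
    refine ⟨k, ?_⟩
    show (g * a * g⁻¹) ^ k = x
    have h1 : a ^ k = g⁻¹ * x * g := hk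
    rw [conj_zpow, h1]
    group

theorem conj_comm (g v w : G) : g⁻¹ * ⁅v, w⁆ * g = ⁅g⁻¹ * v * g, g⁻¹ * w * g⁆ := by
  rw [commutatorElement_def, commutatorElement_def]
  group

/-- the structure for a conjugate involution -/
theorem gside_conj {r u : G} {Q : Subgroup G} (h : H203.EPX.GSide r Q u) (g : G) :
    H203.EPX.GSide (g * r * g⁻¹) (cj g Q) (g * u * g⁻¹) where
  rr := by
    calc g * r * g⁻¹ * (g * r * g⁻¹) = g * (r * r) * g⁻¹ := by group
      _ = 1 := by rw [h.rr]; group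
  r1 := by
    intro e
    apply h.r1
    calc r = g⁻¹ * (g * r * g⁻¹) * g := by group
      _ = 1 := by rw [e]; group
  rQ := conj_mem_cj h.rQ
  le := by
    intro x hx
    rw [mem_cen_conj]
    exact h.le (mem_cj.1 hx)
  nor := by
    intro x hx v hv
    rw [mem_cen_conj] at hx
    rw [mem_cj] at hv ⊢
    have h1 := h.nor _ hx _ hv
    have e : g⁻¹ * (x * v * x⁻¹) * g = g⁻¹ * x * g * (g⁻¹ * v * g) * (g⁻¹ * x * g)⁻¹ := by group
    rw [e]
    exact h1
  two := h.two.map _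
  com := by
    intro v hv w hw
    rw [mem_cj] at hv hw
    rw [mem_zp_conj, conj_comm]
    exact h.com _ hv _ hw
  surj := by
    intro v hv hvz
    rw [mem_cj] at hv
    rw [mem_zp_conj] at hvz
    obtain ⟨w, hw, he⟩ := h.surj _ hv hvz
    refine ⟨g * w * g⁻¹, conj_mem_cj hw, ?_⟩
    have e := conj_comm g v (g * w * g⁻¹)
    have e1 : g⁻¹ * (g * w * g⁻¹) * g = w := by group
    rw [e1, he] at e
    calc ⁅v, g * w * g⁻¹⁆ = g * (g⁻¹ * ⁅v, g * w * g⁻¹⁆ * g) * g⁻¹ := by group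
      _ = g * r * g⁻¹ := by rw [e]
  card := by
    have e : centralizer ({g * r * g⁻¹} : Set G) = cj g (centralizer ({r} : Set G)) := by
      ext x
      rw [mem_cen_conj, mem_cj]
    rw [e, card_cj, card_cj, h.card]
  fix := by
    intro v hv hx
    rw [mem_cj] at hv
    rw [mem_zp_conj]
    apply h.fix _ hv
    intro x hxc
    have h1 := hx (g * x * g⁻¹) (by
      rw [mem_cen_conj]
      have e : g⁻¹ * (g * x * g⁻¹) * g = x := by group
      rwa [e])
    rw [mem_zp_conj, conj_comm] at h1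
    have e : g⁻¹ * (g * x * g⁻¹) * g = x := by group
    rwa [e] at h1
  uQ := conj_mem_cj h.uQ
  u1 := by
    rw [mem_zp_conj]
    have e : g⁻¹ * (g * u * g⁻¹) * g = u := by group
    rw [e]
    exact h.u1
  tr := by
    intro k hc hQ
    have e1 : k * (g * r * g⁻¹) * k⁻¹ = g * ((g⁻¹ * k * g) * r * (g⁻¹ * k * g)⁻¹) * g⁻¹ := by group
    have h1 := h.tr (g⁻¹ * k * g) (by
      calc (g⁻¹ * k * g) * r * (g⁻¹ * k * g)⁻¹ * r = g⁻¹ * (k * (g * r * g⁻¹) * k⁻¹ * (g * r * g⁻¹)) * g := by group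
        _ = g⁻¹ * (g * r * g⁻¹ * (k * (g * r * g⁻¹) * k⁻¹)) * g := by rw [hc]
        _ = r * ((g⁻¹ * k * g) * r * (g⁻¹ * k * g)⁻¹) := by group) (by
      intro h2
      apply hQ
      rw [e1]
      exact conj_mem_cj h2)
    intro h2
    apply h1
    rw [mem_zp_conj, conj_comm] at h2
    have e2 : g⁻¹ * (k * (g * r * g⁻¹) * k⁻¹) * g = (g⁻¹ * k * g) * r * (g⁻¹ * k * g)⁻¹ := by group
    have e3 : g⁻¹ * (g * u * g⁻¹) * g = u := by group
    rwa [e2, e3] at h2
  seven := by
    obtain ⟨x, h1, h2, h3⟩ := h.seven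
    refine ⟨g * x * g⁻¹, ?_, ?_, ?_⟩
    · rw [mem_cen_conj]
      have e : g⁻¹ * (g * x * g⁻¹) * g = x := by group
      rwa [e]
    · rw [← h2]
      exact MulEquiv.orderOf_eq (MulAut.conj g) x
    · calc g * x * g⁻¹ * (g * u * g⁻¹) = g * (x * u) * g⁻¹ := by group
        _ = g * u * g⁻¹ * (g * x * g⁻¹) := by rw [h3]; group
  five := by
    obtain ⟨x, h1, h2, h3⟩ := h.five
    refine ⟨g * x * g⁻¹, ?_, ?_, ?_⟩
    · rw [mem_cen_conj]
      have e : g⁻¹ * (g * x * g⁻¹) * g = x := by group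
      rwa [e]
    · rw [← h2]
      exact MulEquiv.orderOf_eq (MulAut.conj g) x
    · calc g * x * g⁻¹ * (g * u * g⁻¹) = g * (x * u) * g⁻¹ := by group
        _ = g * u * g⁻¹ * (g * x * g⁻¹) := by rw [h3]; group
  opp := by
    intro k ho v hv hc
    rw [mem_cj] at hv
    have h1 := h.opp (g⁻¹ * k * g) (by
      rw [← ho]
      have e : k * (g * r * g⁻¹) * k⁻¹ * (g * r * g⁻¹) =
          MulAut.conj g ((g⁻¹ * k * g) * r * (g⁻¹ * k * g)⁻¹ * r) := by
        rw [MulAut.conj_apply]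
        group
      rw [e]
      exact (MulEquiv.orderOf_eq (MulAut.conj g) _).symm) (g⁻¹ * v * g) hv (by
      calc g⁻¹ * v * g * ((g⁻¹ * k * g) * r * (g⁻¹ * k * g)⁻¹) = g⁻¹ * (v * (k * (g * r * g⁻¹) * k⁻¹)) * g := by group
        _ = g⁻¹ * ((k * (g * r * g⁻¹) * k⁻¹) * v) * g := by rw [hc]
        _ = (g⁻¹ * k * g) * r * (g⁻¹ * k * g)⁻¹ * (g⁻¹ * v * g) := by group)
    calc v = g * (g⁻¹ * v * g) * g⁻¹ := by group
      _ = 1 := by rw [h1]; group
  bt := by
    intro d hd h11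
    obtain ⟨k, hk⟩ := h.bt d hd h11
    refine ⟨k * g⁻¹, ?_⟩
    have e : k * g⁻¹ * (g * r * g⁻¹) * (k * g⁻¹)⁻¹ = k * r * k⁻¹ := by group
    rw [e]
    exact hk

/-! ### the position of `C_N(d)` -/

section DR

variable [Finite G] {r u d : G} {Q C : Subgroup G}

/-- `C = 2.U6(2)` inside `C_G(r)`: `C ∩ Q = {1, d}` and `C Q = C_G(r)` -/
theorem pos (GS : H203.EPX.GSide r Q u) (hCr : C ≤ centralizer {r}) (hcard : Nat.card C = 18393661440)
    (hq : ∀ J ≤ C, (∀ c ∈ C, ∀ j ∈ J, c * j * c⁻¹ ∈ J) → (∀ j ∈ J, j = 1 ∨ j = d) ∨ J = C) :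
    (∀ x ∈ C, x ∈ Q → x = 1 ∨ x = d) ∧ d ∈ Q ∧ d ∈ C ∧ ∀ x ∈ centralizer ({r} : Set G), ∃ c ∈ C, ∃ v ∈ Q, x = c * v := by
  classical
  set P : Subgroup G := centralizer ({r} : Set G) with hP
  have hQP : Q ≤ P := GS.le
  have hQn : (Q.subgroupOf P).Normal := by
    constructor
    intro n hn g
    exact GS.nor g g.2 n hn
  -- the homomorphism `C → P / Q`
  let ψ : C →* (P ⧸ Q.subgroupOf P) := (QuotientGroup.mk' (Q.subgroupOf P)).comp (Subgroup.inclusion hCr)
  have hψ : ∀ x : C, x ∈ ψ.ker ↔ (x : G) ∈ Q := by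
    intro x
    rw [MonoidHom.mem_ker]
    show (QuotientGroup.mk' (Q.subgroupOf P)) (Subgroup.inclusion hCr x) = 1 ↔ _
    rw [QuotientGroup.mk'_apply, QuotientGroup.eq_one_iff, mem_subgroupOf]
    rfl
  have hPQ : Nat.card (P ⧸ Q.subgroupOf P) = 9196830720 := by
    have h1 : Nat.card P = Nat.card (P ⧸ Q.subgroupOf P) * Nat.card (Q.subgroupOf P) := card_eq_card_quotient_mul_card_subgroup _
    have h2 : Nat.card (Q.subgroupOf P) = Nat.card Q := Nat.card_congr (subgroupOfEquivOfLe hQP).toEquiv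
    have h3 := GS.card
    rw [h1, h2, mul_comm (Nat.card Q)] at h3
    exact Nat.eq_of_mul_eq_mul_right Nat.card_pos h3
  have hrk : Nat.card ψ.ker * Nat.card ψ.range = 18393661440 := by
    rw [← hcard, ← Subgroup.index_ker, mul_comm, Subgroup.index_mul_card]
  have hrange : Nat.card ψ.range ∣ 9196830720 := by
    rw [← hPQ]
    exact Subgroup.card_subgroup_dvd_card _
  have hker2 : 2 ≤ Nat.card ψ.ker := by
    have h1 := Nat.le_of_dvd (by norm_num) hrange
    by_contra hcon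
    have h2 : Nat.card ψ.ker ≤ 1 := by omega
    have h3 : Nat.card ψ.ker * Nat.card ψ.range ≤ 1 * 9196830720 := Nat.mul_le_mul h2 h1
    omega
  -- the kernel as a subgroup of `G`
  have hJ : Nat.card (C ⊓ Q : Subgroup G) = Nat.card ψ.ker := by
    apply Nat.card_congr
    refine ⟨fun x => ⟨⟨x.1, (mem_inf.1 x.2).1⟩, (hψ _).2 (mem_inf.1 x.2).2⟩,
      fun x => ⟨x.1.1, mem_inf.2 ⟨x.1.2, (hψ _).1 x.2⟩⟩, fun _ => rfl, fun _ => rfl⟩
  rcases hq (C ⊓ Q) inf_le_left (by
    intro c hc j hj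
    exact mem_inf.2 ⟨mul_mem (mul_mem hc (mem_inf.1 hj).1) (inv_mem hc), GS.nor c (hCr hc) j (mem_inf.1 hj).2⟩) with h1 | h1
  · -- `C ∩ Q = {1, d}`
    have hle : ((C ⊓ Q : Subgroup G) : Set G) ⊆ {1, d} := fun x hx => h1 x hx
    have hc : Nat.card (C ⊓ Q : Subgroup G) = 2 := by
      apply le_antisymm
      · have h2 : ((C ⊓ Q : Subgroup G) : Set G).ncard ≤ ({1, d} : Set G).ncard := Set.ncard_le_ncard hle (Set.toFinite _)
        refine h2.trans ((Set.ncard_insert_le _ _).trans ?_)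
        rw [Set.ncard_singleton]
      · rw [hJ]
        exact hker2
    have hd : d ∈ C ⊓ Q := by
      have h2 : Nontrivial (C ⊓ Q : Subgroup G) := by
        rw [← Finite.one_lt_card_iff_nontrivial, hc]
        norm_num
      obtain ⟨x, hx⟩ := exists_ne (1 : (C ⊓ Q : Subgroup G))
      rcases h1 x x.2 with h3 | h3
      · exact absurd (Subtype.ext h3) hx
      · rw [← h3]
        exact x.2
    refine ⟨fun x hxC hxQ => h1 x (mem_inf.2 ⟨hxC, hxQ⟩), (mem_inf.1 hd).2, (mem_inf.1 hd).1, ?_⟩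
    -- surjectivity
    have hr : Nat.card ψ.range = 9196830720 := by
      rw [← hJ, hc] at hrk
      omega
    have htop : ψ.range = ⊤ := by
      apply Subgroup.eq_top_of_card_eq
      rw [hr, hPQ]
    intro x hx
    have h2 : (QuotientGroup.mk' (Q.subgroupOf P)) ⟨x, hx⟩ ∈ ψ.range := by rw [htop]; exact mem_top _
    obtain ⟨c, hc'⟩ := h2
    refine ⟨c, c.2, (c : G)⁻¹ * x, ?_, by group⟩
    have h3 : (Subgroup.inclusion hCr c)⁻¹ * ⟨x, hx⟩ ∈ Q.subgroupOf P := by
      rw [← QuotientGroup.eq]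
      exact hc'
    exact h3
  · -- `C ≤ Q`: impossible
    exfalso
    have hCQ : C ≤ Q := by
      rw [← h1]
      exact inf_le_right
    have h2 : IsPGroup 2 C := GS.two.to_le hCQ
    obtain ⟨n, hn⟩ := IsPGroup.iff_card.1 h2
    rw [hcard] at hn
    have h3 : 3 ∣ 2 ^ n := by
      rw [← hn]
      norm_num
    have h4 := Nat.Prime.dvd_of_dvd_pow Nat.prime_three h3
    omega

/-- `d = r` -/
theorem d_eq (GS : H203.EPX.GSide r Q u) (hCr : C ≤ centralizer {r}) (hCd : C ≤ centralizer {d}) (hd1 : d ≠ 1)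
    (hcard : Nat.card C = 18393661440)
    (hq : ∀ J ≤ C, (∀ c ∈ C, ∀ j ∈ J, c * j * c⁻¹ ∈ J) → (∀ j ∈ J, j = 1 ∨ j = d) ∨ J = C) : d = r := by
  obtain ⟨-, hdQ, hdC, hsur⟩ := pos GS hCr hcard hq
  have h1 : d ∈ zpowers r := by
    apply GS.fix d hdQ
    intro x hx
    obtain ⟨c, hc, v, hv, rfl⟩ := hsur x hx
    have h2 : ⁅v, d⁆ ∈ zpowers r := GS.com v hv d hdQ
    have h3 : c * d = d * c := mem_cen.1 (hCd hc)
    have h4 : ⁅c * v, d⁆ = c * ⁅v, d⁆ * c⁻¹ := by
      rw [commutatorElement_def, commutatorElement_def]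
      calc c * v * d * (c * v)⁻¹ * d⁻¹ = c * v * d * v⁻¹ * (c⁻¹ * d⁻¹) := by group
        _ = c * v * d * v⁻¹ * (d⁻¹ * c⁻¹) := by rw [← mul_inv_rev, ← mul_inv_rev, h3]
        _ = c * (v * d * v⁻¹ * d⁻¹) * c⁻¹ := by group
    rw [h4]
    have h5 : c * r = r * c := mem_cen.1 (hCr hc)
    rcases (mem_zp GS.rr).1 h2 with h6 | h6
    · rw [h6, mul_one, mul_inv_cancel]
      exact one_mem _
    · rw [h6, h5, mul_inv_cancel_right]
      exact mem_zpowers _
  rcases (mem_zp GS.rr).1 h1 with h2 | h2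
  · exact absurd h2 hd1
  · exact h2

omit [Finite G] in
/-- lifting an element of order `p = 2 k + 1` of `C_G(r)` centralising `u` into `C` -/
theorem lift (GS : H203.EPX.GSide r Q u) (hCr : C ≤ centralizer {r})
    (hint : ∀ x ∈ C, x ∈ Q → x = 1 ∨ x = r) (hsur : ∀ x ∈ centralizer ({r} : Set G), ∃ c ∈ C, ∃ v ∈ Q, x = c * v)
    {p : ℕ} (hp : p.Prime) (hp2 : p ≠ 2) {x : G} (hx : x ∈ centralizer ({r} : Set G)) (hxo : orderOf x = p)
    (hxu : x * u = u * x) : ∃ y ∈ C, orderOf y = p ∧ y * u = u * y := by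
  classical
  obtain ⟨c, hc, v, hv, hxcv⟩ := hsur x hx
  set P : Subgroup G := centralizer ({r} : Set G) with hP
  have hQP : Q ≤ P := GS.le
  have hQn : (Q.subgroupOf P).Normal := by
    constructor
    intro n hn g
    exact GS.nor g g.2 n hn
  have hcP : c ∈ P := hCr hc
  let π := QuotientGroup.mk' (Q.subgroupOf P)
  have hπ : ∀ (a : P), π a = 1 ↔ (a : G) ∈ Q := by
    intro a
    rw [QuotientGroup.mk'_apply, QuotientGroup.eq_one_iff, mem_subgroupOf]
  have hcx : π ⟨c, hcP⟩ = π ⟨x, hx⟩ := by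
    rw [QuotientGroup.mk'_apply, QuotientGroup.mk'_apply, QuotientGroup.eq, mem_subgroupOf]
    show c⁻¹ * x ∈ Q
    rw [hxcv, inv_mul_cancel_left]
    exact hv
  have hxp : x ^ p = 1 := by rw [← hxo, pow_orderOf_eq_one]
  have hcpQ : c ^ p ∈ Q := by
    have h1 : π (⟨c, hcP⟩ ^ p) = 1 := by
      rw [map_pow, hcx, ← map_pow]
      have h2 : (⟨x, hx⟩ : P) ^ p = 1 := Subtype.ext hxp
      rw [h2, map_one]
    exact (hπ _).1 h1
  have hcp2 : (c ^ p) ^ 2 = 1 := by
    rcases hint _ (pow_mem hc p) hcpQ with h1 | h1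
    · rw [h1, one_pow]
    · rw [h1, pow_two, GS.rr]
  obtain ⟨k, hk⟩ : ∃ k, p + 1 = 2 * k := by
    rcases hp.eq_two_or_odd' with h | h
    · exact absurd h hp2
    · obtain ⟨m, hm⟩ := h
      exact ⟨m + 1, by omega⟩
  have hyp : (c ^ (p + 1)) ^ p = 1 := by
    rw [← pow_mul, mul_comm, pow_mul, hk, pow_mul, hcp2, one_pow]
  have hxQ : x ∉ Q := by
    intro h
    obtain ⟨m, hm⟩ := GS.two ⟨x, h⟩
    have hm' : x ^ 2 ^ m = 1 := congrArg Subtype.val hm
    have h1 : p ∣ 2 ^ m := by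
      rw [← hxo]
      exact orderOf_dvd_of_pow_eq_one hm'
    exact hp2 ((Nat.prime_dvd_prime_iff_eq hp Nat.prime_two).1 (hp.dvd_of_dvd_pow h1))
  have hy1 : c ^ (p + 1) ≠ 1 := by
    intro h
    apply hxQ
    have h1 : π (⟨c, hcP⟩ ^ (p + 1)) = 1 := by
      have h2 : (⟨c, hcP⟩ : P) ^ (p + 1) = 1 := Subtype.ext h
      rw [h2, map_one]
    rw [map_pow, hcx, ← map_pow] at h1
    have h3 := (hπ _).1 h1
    have h4 : x ^ (p + 1) ∈ Q := h3
    rwa [pow_succ, hxp, one_mul] at h4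
  refine ⟨c ^ (p + 1), pow_mem hc _, ?_, ?_⟩
  · have := Fact.mk hp
    exact orderOf_eq_prime hyp hy1
  · -- `c ^ 2` commutes with `u`
    have hxr : x * r = r * x := mem_cen.1 hx
    have hcr : c * r = r * c := mem_cen.1 hcP
    have hz := GS.com v⁻¹ (inv_mem hv) u GS.uQ
    have hzc : c * ⁅v⁻¹, u⁆ = ⁅v⁻¹, u⁆ * c ∧ ⁅v⁻¹, u⁆ * ⁅v⁻¹, u⁆ = 1 ∧ x * ⁅v⁻¹, u⁆ = ⁅v⁻¹, u⁆ * x := by
      rcases (mem_zp GS.rr).1 hz with h1 | h1
      · rw [h1]
        simp
      · rw [h1]
        exact ⟨hcr, GS.rr, hxr⟩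
    obtain ⟨hz1, hz2, hz3⟩ := hzc
    have hcv : c = x * v⁻¹ := by rw [hxcv]; group
    have hcu : c * u = ⁅v⁻¹, u⁆ * u * c := by
      have h1 : v⁻¹ * u = ⁅v⁻¹, u⁆ * u * v⁻¹ := by
        rw [commutatorElement_def]
        group
      calc c * u = x * (v⁻¹ * u) := by rw [hcv]; group
        _ = (x * ⁅v⁻¹, u⁆) * u * v⁻¹ := by rw [h1]; group
        _ = ⁅v⁻¹, u⁆ * (x * u) * v⁻¹ := by rw [hz3]; group
        _ = ⁅v⁻¹, u⁆ * u * (x * v⁻¹) := by rw [hxu]; group
        _ = ⁅v⁻¹, u⁆ * u * c := by rw [← hcv]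
    have hccu : Commute (c * c) u := by
      show c * c * u = u * (c * c)
      calc c * c * u = c * (c * u) := by group
        _ = (c * ⁅v⁻¹, u⁆) * u * c := by rw [hcu]; group
        _ = ⁅v⁻¹, u⁆ * (c * u) * c := by rw [hz1]; group
        _ = (⁅v⁻¹, u⁆ * ⁅v⁻¹, u⁆) * u * c * c := by rw [hcu]; group
        _ = u * (c * c) := by rw [hz2]; group
    have h1 : c ^ (p + 1) = (c * c) ^ k := by rw [hk, pow_mul, pow_two]
    rw [h1]
    exact (hccu.pow_left k).eq

end DR

/-- **The row (2E6(2), Fi22).** -/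
theorem kill [Finite G] {H N : Subgroup G} {D : Set G} {r u : G} {Q : Subgroup G} (GS : H203.EPX.GSide r Q u) (hEP : EP H)
    (hh : HSide H N D) (hx : HSide2 H N D) : False := by
  classical
  obtain ⟨d, hd⟩ := hx.ne
  have hdd := hh.sq hd
  have hd1 := hh.ne_one hd
  set C : Subgroup G := N ⊓ centralizer {d} with hC
  have hcard : Nat.card C = 18393661440 := hx.cardC d hd
  have hCd : C ≤ centralizer {d} := inf_le_right
  -- Borel-Tits
  obtain ⟨g, hg⟩ := GS.bt d (hh.inv d hd) (by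
    have h1 : Nat.card C ∣ Nat.card (centralizer ({d} : Set G)) := Subgroup.card_dvd_of_le hCd
    refine Dvd.dvd.trans ?_ h1
    rw [hcard]
    norm_num)
  have GS' := gside_conj GS g
  have hdr : d = g * r * g⁻¹ := d_eq GS' (hCd.trans hg) hCd hd1 hcard (hx.quot d hd)
  obtain ⟨hint, hdQ, hdC, hsur⟩ := pos GS' (hCd.trans hg) hcard (hx.quot d hd)
  generalize g * u * g⁻¹ = u' at GS'
  generalize cj g Q = Q' at GS' hint hdQ hsur
  rw [← hdr] at GS' hsur
  have hzd : ∀ x : G, x ∈ zpowers d ↔ x = 1 ∨ x = d := fun x => mem_zp hdd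
  -- `Q ∩ H = ⟨d⟩`
  have hinf : ∀ x ∈ Q', x ∈ H → x = 1 ∨ x = d := by
    intro v hv hvH
    rw [← hzd]
    apply GS'.fix v hv
    intro x hxc
    obtain ⟨c, hc, w, hw, rfl⟩ := hsur x hxc
    have h1 : ⁅w, v⁆ ∈ zpowers d := GS'.com w hw v hv
    have hcN : c ∈ N := (mem_inf.1 hc).1
    have hcd : c * d = d * c := mem_cen.1 (mem_inf.1 hc).2
    have hvd : v * d = d * v := mem_cen.1 (GS'.le hv)
    have h2 : ⁅c, v⁆ ∈ zpowers d := by
      rw [hzd]
      apply hint
      · refine mem_inf.2 ⟨?_, ?_⟩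
        · rw [commutatorElement_def]
          have h3 := hx.norm v hvH c⁻¹ (inv_mem hcN)
          have h4 := mul_mem hcN h3
          have e : c * (v * c⁻¹ * v⁻¹) = c * v * c⁻¹ * v⁻¹ := by group
          rwa [e] at h4
        · rw [commutatorElement_def]
          exact mul_mem (mul_mem (mul_mem (mem_inf.1 hc).2 (GS'.le hv)) (inv_mem (mem_inf.1 hc).2)) (inv_mem (GS'.le hv))
      · rw [commutatorElement_def]
        exact mul_mem (GS'.nor c (mem_inf.1 hc).2 v hv) (inv_mem hv)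
    have h3 : ⁅c * w, v⁆ = c * ⁅w, v⁆ * c⁻¹ * ⁅c, v⁆ := by
      rw [commutatorElement_def, commutatorElement_def, commutatorElement_def]
      group
    rw [h3]
    apply mul_mem _ h2
    rcases (hzd _).1 h1 with h4 | h4
    · rw [h4, mul_one, mul_inv_cancel]
      exact one_mem _
    · rw [h4, hcd, mul_inv_cancel_right]
      exact mem_zpowers _
  -- elements of order 7 and 5
  obtain ⟨y7, k1, k2, k3⟩ := GS'.seven
  obtain ⟨x7, hx7C, hx7o, hx7u⟩ := lift GS' hCd hint hsur (by norm_num : Nat.Prime 7) (by norm_num) k1 k2 k3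
  obtain ⟨y5, l1, l2, l3⟩ := GS'.five
  obtain ⟨x5, hx5C, hx5o, hx5u⟩ := lift GS' hCd hint hsur (by norm_num : Nat.Prime 5) (by norm_num) l1 l2 l3
  refine false_of (H := H) (N := N) (Q := Q') (D := D) (d := d) (u := u') (x5 := x5) (x7 := x7) hh ?_ hEP
  exact
    { dD := hd
      dQ := hdQ
      uQ := GS'.uQ
      uH := fun h => GS'.u1 ((hzd _).2 (hinf _ GS'.uQ h))
      cen := fun x hx => mem_cen.1 (GS'.le hx)
      inf := hinf
      nrm := fun e _ hed x hx => GS'.nor e (mem_cen.2 hed) x hx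
      no := by
        intro e he hed hne
        obtain ⟨k, hk⟩ := hx.cl d hd e he
        have heC : e ∈ C := mem_inf.2 ⟨hh.sub e he, mem_cen.2 hed⟩
        have heQ : e ∉ Q' := by
          intro h
          rcases hint e heC h with h1 | h1
          · exact hh.ne_one he h1
          · exact hne h1
        have h1 := GS'.tr k (by rw [hk]; exact hed) (by rw [hk]; exact heQ)
        rw [hk] at h1
        have hud : u' * d = d * u' := mem_cen.1 (GS'.le GS'.uQ)
        constructor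
        · intro h2
          apply h1
          have h3 : ⁅e, u'⁆ = 1 := by
            rw [commutatorElement_def]
            have h4 : e * u' = u' * e := by
              calc e * u' = u' * (u'⁻¹ * e * u') := by group
                _ = u' * e := by rw [h2]
            rw [h4]
            group
          rw [h3]
          exact one_mem _
        · intro h2
          apply h1
          have h3 : ⁅e, u'⁆ = d := by
            rw [commutatorElement_def]
            have h4 : e * u' = d * u' * e := by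
              calc e * u' = u' * (u'⁻¹ * e * u') := by group
                _ = u' * (e * d) := by rw [h2]
                _ = u' * (d * e) := by rw [hed]
                _ = (u' * d) * e := by group
                _ = d * u' * e := by rw [hud]
            rw [h4]
            group
          rw [h3]
          exact mem_zpowers _
      m5 := (mem_inf.1 hx5C).1
      o5 := hx5o
      d5 := mem_cen.1 (mem_inf.1 hx5C).2
      u5 := hx5u
      m7 := (mem_inf.1 hx7C).1
      o7 := hx7o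
      d7 := mem_cen.1 (mem_inf.1 hx7C).2
      u7 := hx7u
      opp := by
        intro e he hed v hv hve
        obtain ⟨k, hk⟩ := hx.cl d hd e he
        apply GS'.opp k ?_ v hv (by rw [hk]; exact hve)
        rw [hk]
        rcases hh.tri e he d hd with h1 | h1
        · exact absurd h1 hed
        · have := Fact.mk Nat.prime_three
          apply orderOf_eq_prime h1
          intro h2
          apply hed
          have h3 : e = d⁻¹ := eq_inv_of_mul_eq_one_left h2
          rw [h3]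
          group }

end Cfsg.Agent.H775.EPF
end

-- part: H153/FH/Side
section
/-!
# S5745, row (2E6(2), Fi22): the facts on `H` (helper153)

`hSide`, `hSide2` : the structures `HSide`, `HSide2` of helper775 for `N ≤ H`, `N` isomorphic to `Fi22`, normalised by `H`,
with trivial centralizer in `H`.
-/

set_option autoImplicit false
set_option linter.unusedSectionVars false

namespace Cfsg.Agent.H153.FH

open Subgroup Cfsg Cfsg.Agent.LThreeFi22
open Cfsg.Agent.KFacts.FiTT (TK)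
open Cfsg.Agent.H775.EPF (HSide HSide2)

universe v

section K

variable {K : Type v} [Group K] {T : Set K}

/-- automorphisms of order 3 are inner -/
theorem inner_of_cube (e : K ≃* Spor.Fi22) {α : MulAut K} (h : α ^ 3 = 1) : ∃ g : K, α = MulAut.conj g := by
  set β : MulAut Spor.Fi22 := MulAut.congr e α with hβ
  have h3 : β ^ 3 = 1 := by rw [hβ, ← map_pow, h, map_one]
  have key : ∃ g : Spor.Fi22, β = MulAut.conj g := by
    by_contra hcon
    push Not at hcon
    obtain ⟨x, hx⟩ := Cfsg.Agent.OddHalf.Table.OutFi22.mul_outer β β hcon hcon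
    apply hcon x⁻¹
    rw [map_inv, ← hx]
    rw [eq_inv_iff_mul_eq_one, ← mul_assoc]
    rw [pow_succ, pow_two] at h3
    exact h3
  obtain ⟨g, hg⟩ := key
  refine ⟨e.symm g, ?_⟩
  apply MulEquiv.ext
  intro k
  have h1 := congrArg (fun γ : MulAut Spor.Fi22 => γ (e k)) hg
  have h2 : e (α k) = g * e k * g⁻¹ := by
    have h3 : β (e k) = e (α k) := by
      rw [hβ]
      change e (α (e.symm (e k))) = _
      rw [e.symm_apply_apply]
    rw [← h3]
    exact h1
  apply e.injective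
  rw [h2, MulAut.conj_apply, map_mul, map_mul, map_inv, e.apply_symm_apply]

/-- the involutions commuting with an element of order 7 -/
theorem inv_seven (e : K ≃* Spor.Fi22) {x a b y : K} (hx : x ^ 7 = 1) (hx1 : x ≠ 1) (ha : a ∈ TK e) (hb : b ∈ TK e)
    (hxa : x * a = a * x) (hxb : x * b = b * x) (hab : a * b ≠ b * a) (hy : y * y = 1) (hxy : x * y = y * x) :
    y = 1 ∨ y = a ∨ y = b ∨ y = a * b * a := by
  have I := Cfsg.Agent.H836.inv_of_iso e
  have C := I.ctx
  have hfin := C.finite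
  have h42 := I.card_seven hx hx1
  have aa := C.sq a ha
  have bb := C.sq b hb
  have hc3 := C.cube ha hb hab
  have hbr : a * b * a = b * a * b := (C.three a ha b hb).resolve_left hab
  have hp7 : Fact (Nat.Prime 7) := ⟨by norm_num⟩
  have hord : orderOf x = 7 := orderOf_eq_prime hx hx1
  -- the seven elements times the six elements
  let S : Fin 6 → K := ![1, a * b, b * a, a, b, a * b * a]
  have hSc : ∀ i, x * S i = S i * x := by
    intro i
    fin_cases i
    · change x * 1 = 1 * x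
      rw [mul_one, one_mul]
    · exact ((show Commute x a from hxa).mul_right hxb).eq
    · exact ((show Commute x b from hxb).mul_right hxa).eq
    · exact hxa
    · exact hxb
    · exact (((show Commute x a from hxa).mul_right hxb).mul_right hxa).eq
  have hS2 : ∀ i, S i ^ 6 = 1 := by
    intro i
    have hp : ∀ s : K, s * s = 1 → s ^ 6 = 1 := by
      intro s hs
      rw [show (6 : ℕ) = 2 * 3 from rfl, pow_mul, pow_two, hs, one_pow]
    have hq : ∀ s : K, s ^ 3 = 1 → s ^ 6 = 1 := by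
      intro s hs
      rw [show (6 : ℕ) = 3 * 2 from rfl, pow_mul, hs, one_pow]
    fin_cases i
    · exact one_pow 6
    · exact hq _ hc3
    · apply hq
      have h1 : b * a = (a * b)⁻¹ := by
        rw [mul_inv_rev, C.inv ha, C.inv hb]
      change (b * a) ^ 3 = 1
      rw [h1, inv_pow, hc3, inv_one]
    · exact hp _ aa
    · exact hp _ bb
    · apply hp
      calc a * b * a * (a * b * a) = a * b * (a * a) * b * a := by group
        _ = a * (b * b) * a := by rw [aa]; group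
        _ = 1 := by rw [bb, mul_one, aa]
  have hSi : Function.Injective S := by
    have e1 : a * b ≠ 1 := fun h => hab (by
      have : b = a := by
        calc b = (a * a) * b := by rw [aa, one_mul]
          _ = a * (a * b) := by group
          _ = a := by rw [h, mul_one]
      rw [this])
    have e2 : b * a ≠ 1 := fun h => hab (by
      have : a = b := by
        calc a = (b * b) * a := by rw [bb, one_mul]
          _ = b * (b * a) := by group
          _ = b := by rw [h, mul_one]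
      rw [this])
    have a1 := C.ne1 a ha
    have b1 := C.ne1 b hb
    have nab : a ≠ b := fun h => hab (by rw [h])
    have c1 : a * b * a ≠ 1 := by
      intro h
      apply b1
      calc b = a * (a * b * a) * a := by
            calc b = (a * a) * b * (a * a) := by rw [aa, one_mul, mul_one]
              _ = a * (a * b * a) * a := by group
        _ = 1 := by rw [h, mul_one, aa]
    have c2 : a * b * a ≠ a := by
      intro h
      apply e1
      exact mul_right_cancel (h.trans (one_mul a).symm)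
    have c3 : a * b * a ≠ b := by
      intro h
      apply hab
      calc a * b = a * b * (a * a) := by rw [aa, mul_one]
        _ = (a * b * a) * a := by group
        _ = b * a := by rw [h]
    have c4 : a * b ≠ a * b * a := fun h => a1 (mul_left_cancel (h.symm.trans (mul_one _).symm))
    have c5 : b * a ≠ a * b * a := by
      rw [hbr]
      intro h
      exact b1 (mul_left_cancel (h.symm.trans (mul_one _).symm))
    have c6 : a * b ≠ a := fun h => b1 (mul_left_cancel (h.trans (mul_one a).symm))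
    have c7 : a * b ≠ b := fun h => a1 (mul_right_cancel (h.trans (one_mul b).symm))
    have c8 : b * a ≠ a := fun h => b1 (mul_right_cancel (h.trans (one_mul a).symm))
    have c9 : b * a ≠ b := fun h => a1 (mul_left_cancel (h.trans (mul_one b).symm))
    intro i j h
    fin_cases i <;> fin_cases j <;> [rfl; exact absurd h e1.symm; exact absurd h e2.symm; exact absurd h a1.symm; exact absurd h b1.symm; exact absurd h c1.symm; exact absurd h e1; rfl;
                                     exact absurd h hab; exact absurd h c6; exact absurd h c7; exact absurd h c4; exact absurd h e2; exact absurd h hab.symm; rfl; exact absurd h c8;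
                                     exact absurd h c9; exact absurd h c5; exact absurd h a1; exact absurd h c6.symm; exact absurd h c8.symm; rfl; exact absurd h nab;
                                     exact absurd h c2.symm; exact absurd h b1; exact absurd h c7.symm; exact absurd h c9.symm; exact absurd h nab.symm; rfl; exact absurd h c3.symm;
                                     exact absurd h c1; exact absurd h c4.symm; exact absurd h c5.symm; exact absurd h c2; exact absurd h c3; rfl]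
  let F : Fin 7 × Fin 6 → ↥(centralizer ({x} : Set K)) := fun p =>
    ⟨x ^ p.1.val * S p.2, by
      rw [mem_centralizer_singleton_iff]
      exact (((Commute.refl x).pow_left p.1.val).mul_left (show Commute (S p.2) x from (hSc p.2).symm)).eq⟩
  have hFi : Function.Injective F := by
    rintro ⟨i, j⟩ ⟨i', j'⟩ h
    have h1 : x ^ i.val * S j = x ^ i'.val * S j' := congrArg Subtype.val h
    -- take the sixth power
    have hp : ∀ (i : Fin 7) (j : Fin 6), (x ^ i.val * S j) ^ 6 = x ^ (i.val * 6) := by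
      intro i j
      rw [(show Commute (x ^ i.val) (S j) from (show Commute x (S j) from hSc j).pow_left _).mul_pow, hS2, mul_one,
        ← pow_mul]
    have h2 := congrArg (· ^ 6) h1
    simp only [hp] at h2
    rw [pow_eq_pow_iff_modEq, hord] at h2
    have h3 : i = i' := by
      apply Fin.ext
      have := i.2
      have := i'.2
      unfold Nat.ModEq at h2
      omega
    subst h3
    have h4 := hSi (mul_left_cancel h1)
    rw [h4]
  have hFs : Function.Surjective F := by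
    have : Fintype ↥(centralizer ({x} : Set K)) := Fintype.ofFinite _
    refine ((Fintype.bijective_iff_injective_and_card F).2 ⟨hFi, ?_⟩).2
    rw [← Nat.card_eq_fintype_card (α := ↥(centralizer ({x} : Set K))), h42]
    decide
  obtain ⟨⟨i, j⟩, hij⟩ := hFs ⟨y, mem_centralizer_singleton_iff.2 hxy.symm⟩
  have h1 : x ^ i.val * S j = y := congrArg Subtype.val hij
  have h2 : x ^ (i.val * 6) = 1 := by
    have hp : (x ^ i.val * S j) ^ 6 = x ^ (i.val * 6) := by
      rw [(show Commute (x ^ i.val) (S j) from (show Commute x (S j) from hSc j).pow_left _).mul_pow, hS2, mul_one,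
        ← pow_mul]
    rw [← hp, h1, show (6 : ℕ) = 2 * 3 from rfl, pow_mul, pow_two, hy, one_pow]
  have h3 : i.val = 0 := by
    have h4 := orderOf_dvd_of_pow_eq_one h2
    rw [hord] at h4
    have := i.2
    omega
  rw [h3, pow_zero, one_mul] at h1
  have hne : ∀ s : K, s ^ 3 = 1 → s * s = 1 → s = 1 := by
    intro s hs hs'
    rw [pow_succ, pow_two, hs', one_mul] at hs
    exact hs
  fin_cases j
  · exact Or.inl h1.symm
  · left
    have h4 : y = a * b := h1.symm
    exact hne y (by rw [h4, hc3]) hy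
  · left
    have h4 : y = b * a := h1.symm
    apply hne y ?_ hy
    have h5 : b * a = (a * b)⁻¹ := by rw [mul_inv_rev, C.inv ha, C.inv hb]
    rw [h4, h5, inv_pow, hc3, inv_one]
  · exact Or.inr (Or.inl h1.symm)
  · exact Or.inr (Or.inr (Or.inl h1.symm))
  · exact Or.inr (Or.inr (Or.inr h1.symm))

/-- the transpositions commuting with an element of order 5 -/
theorem five_four (C : Ctx K T) {x s t w : K} (hx : x ^ 5 = 1) (hx1 : x ≠ 1) (hs : s ∈ T) (ht : t ∈ T) (hw : w ∈ T)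
    (hxs : x * s = s * x) (hxt : x * t = t * x) (hxw : x * w = w * x) (hst : s * t ≠ t * s) (hws : w ≠ s)
    (hwt : w ≠ t) (hwr : w ≠ s * t * s) :
    w * s = s * w ∨ w * t = t * w ∨ w * (s * t * s) = s * t * s * w := by
  have hfin := C.finite
  have fs : s ∈ Fx T x := ⟨hs, hxs⟩
  have ft : t ∈ Fx T x := ⟨ht, hxt⟩
  have fw : w ∈ Fx T x := ⟨hw, hxw⟩
  have ss := C.sq s hs
  have fr : s * t * s ∈ Fx T x := by
    have := C.fx_conj (x := s) hxs.symm ft
    rwa [C.inv hs] at this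
  obtain ⟨c, hc, hcs, h1, h2⟩ := C.five_common hx fs ft hst
  have hct : c ≠ t := by
    rintro rfl
    exact hst h1
  have h3 : c * (s * t * s) = s * t * s * c := by
    have k1 : Commute c s := h1.symm
    have k2 : Commute c t := h2.symm
    exact ((k1.mul_right k2).mul_right k1).eq
  have hst' : s ≠ t := fun h => hst (by rw [h])
  have hsr : s ≠ s * t * s := by
    intro h
    apply hst
    have h4 : s * t = 1 := mul_right_cancel (h.symm.trans (one_mul s).symm)
    have h5 : t = s := by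
      calc t = (s * s) * t := by rw [ss, one_mul]
        _ = s * (s * t) := by group
        _ = s := by rw [h4, mul_one]
    rw [h5]
  have htr : t ≠ s * t * s := by
    intro h
    apply hst
    calc s * t = s * (s * t * s) := by rw [← h]
      _ = (s * s) * (t * s) := by group
      _ = t * s := by rw [ss, one_mul]
  have hcr : c ≠ s * t * s := by
    intro h
    rw [h] at h1
    apply hst
    -- s commutes with s t s, hence with t
    calc s * t = (s * t * s) * s := by rw [mul_assoc _ s s, ss, mul_one]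
      _ = s * (s * t * s) := h1.symm
      _ = (s * s) * (t * s) := by group
      _ = t * s := by rw [ss, one_mul]
  have hN := C.five_link hx hx1 hc
  have hset : ({s, t, s * t * s} : Set K) = {e | e ∈ Fx T x ∧ e ≠ c ∧ c * e = e * c} := by
    apply Set.eq_of_subset_of_ncard_le
    · rintro z (rfl | rfl | rfl)
      · exact ⟨fs, hcs.symm, h1.symm⟩
      · exact ⟨ft, hct.symm, h2.symm⟩
      · exact ⟨fr, hcr.symm, h3⟩
    · rw [hN, Set.ncard_eq_three.2 ⟨s, t, s * t * s, hst', hsr, htr, rfl⟩]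
    · exact Set.toFinite _
  have hmem : ∀ e, e ∈ Fx T x → e ≠ c → c * e = e * c → e = s ∨ e = t ∨ e = s * t * s := by
    intro e h4 h5 h6
    have : e ∈ ({s, t, s * t * s} : Set K) := by
      rw [hset]
      exact ⟨h4, h5, h6⟩
    exact this
  by_cases hwc : w = c
  · left
    rw [hwc]
    exact h1.symm
  · by_cases h4 : c * w = w * c
    · rcases hmem w fw hwc h4 with h5 | h5 | h5
      · exact absurd h5 hws
      · exact absurd h5 hwt
      · exact absurd h5 hwr
    · obtain ⟨f, hf, hfc, h5, h6⟩ := C.five_common hx hc fw h4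
      rcases hmem f hf hfc h5 with rfl | rfl | rfl
      · exact Or.inl h6
      · exact Or.inr (Or.inl h6)
      · exact Or.inr (Or.inr h6)

end K

section G

variable {G : Type v} [Group G] {H N : Subgroup G} (e : ↥N ≃* Spor.Fi22)

theorem norm_mem (hle : N ≤ H) (hn : ∀ h ∈ H, ∀ n ∈ N, h * n * h⁻¹ ∈ N) {h : G} (hh : h ∈ H) :
    h ∈ normalizer (N : Set G) := by
  rw [mem_normalizer_iff]
  intro n
  constructor
  · exact hn h hh n
  · intro h1
    have h2 := hn h⁻¹ (inv_mem hh) _ h1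
    rw [inv_inv] at h2
    have h3 : h⁻¹ * (h * n * h⁻¹) * h = n := by group
    rwa [h3] at h2

/-- **the facts on `H`** -/
theorem hSide (hle : N ≤ H) (hn : ∀ h ∈ H, ∀ n ∈ N, h * n * h⁻¹ ∈ N)
    (hC : ∀ h ∈ H, (∀ n ∈ N, h * n = n * h) → h = 1) : HSide H N (D e) := by
  have F := fiSet e
  have C := Inst.ctx e
  have hfin := C.finite
  refine
    { le := hle
      cube := ?_
      sub := F.sub
      conj := fun h hh a ha => F.conj h (norm_mem hle hn hh) a ha
      inv := fun a ha => orderOf_eq_prime (by rw [pow_two, F.sq a ha]) (F.ne1 a ha)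
      tri := ?_
      card := by rw [F.ncard]; norm_num
      comm := ?_
      seven := ?_
      five := ?_ }
  · intro x hx hx3
    have hxN := norm_mem hle hn hx
    set α : MulAut ↥N := conjN hxN with hα
    have hα3 : α ^ 3 = 1 := by
      apply MulEquiv.ext
      intro n
      apply Subtype.ext
      change x * (x * (x * n.1 * x⁻¹) * x⁻¹) * x⁻¹ = n.1
      calc x * (x * (x * n.1 * x⁻¹) * x⁻¹) * x⁻¹ = x ^ 3 * n.1 * (x ^ 3)⁻¹ := by
            rw [pow_succ, pow_two]; group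
        _ = n.1 := by rw [hx3, one_mul, inv_one, mul_one]
    obtain ⟨g, hg⟩ := inner_of_cube e hα3
    have h1 : ∀ n ∈ N, x * n * x⁻¹ = g.1 * n * (g.1)⁻¹ := by
      intro n hnN
      have h2 := congrArg (fun β : MulAut ↥N => ((β ⟨n, hnN⟩ : ↥N) : G)) hg
      exact h2
    have h2 : (g.1)⁻¹ * x = 1 := by
      apply hC _ (H.mul_mem (H.inv_mem (hle g.2)) hx)
      intro n hnN
      have h3 := h1 n hnN
      calc (g.1)⁻¹ * x * n = (g.1)⁻¹ * (x * n * x⁻¹) * x := by group
        _ = (g.1)⁻¹ * (g.1 * n * (g.1)⁻¹) * x := by rw [h3]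
        _ = n * ((g.1)⁻¹ * x) := by group
    have h3 : x = g.1 := (inv_mul_eq_one.1 h2).symm
    rw [h3]
    exact g.2
  · intro a ha b hb
    by_cases h : a * b = b * a
    · exact Or.inl h
    · exact Or.inr (F.cube a ha b hb h)
  · rintro _ ⟨a, ha, rfl⟩
    obtain ⟨b, hb, h1, h2⟩ := C.exists_link ha
    exact ⟨b.1, ⟨b, hb, rfl⟩, fun h => h1 (Subtype.ext h), congrArg Subtype.val h2.symm⟩
  · rintro _ ⟨a, ha, rfl⟩ x hx hx7 hxa
    have e7 : (⟨x, hx⟩ : ↥N) ^ 7 = 1 := by
      apply Subtype.ext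
      change x ^ 7 = 1
      rw [← hx7]
      exact pow_orderOf_eq_one x
    have e1 : (⟨x, hx⟩ : ↥N) ≠ 1 := by
      intro h
      have h1 : x = 1 := congrArg Subtype.val h
      rw [h1, orderOf_one] at hx7
      omega
    have hxa' : (⟨x, hx⟩ : ↥N) * a = a * ⟨x, hx⟩ := Subtype.ext hxa
    -- another transposition
    obtain ⟨b, hb, hba⟩ : ∃ b ∈ Fx (TK e) (⟨x, hx⟩ : ↥N), b ≠ a := by
      by_contra hcon
      push Not at hcon
      have h1 : Fx (TK e) (⟨x, hx⟩ : ↥N) ⊆ {a} := fun b hb => hcon b hb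
      have h2 := Set.ncard_le_ncard h1 (Set.toFinite _)
      rw [C.seven_card e7 e1, Set.ncard_singleton] at h2
      omega
    have hab : a * b ≠ b * a := fun h => hba (C.seven_comm e7 e1 ⟨ha, hxa'⟩ hb h)
    refine ⟨b.1, ⟨b, hb.1, rfl⟩, fun h => hab (Subtype.ext h), congrArg Subtype.val hb.2, ?_⟩
    intro y hy hy2 hxy
    have hyy : y * y = 1 := by
      rw [← pow_two, ← hy2]
      exact pow_orderOf_eq_one y
    have h1 := inv_seven e (y := ⟨y, hy⟩) e7 e1 ha hb.1 hxa' hb.2 hab (Subtype.ext hyy) (Subtype.ext hxy)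
    rcases h1 with h1 | h1 | h1 | h1
    · exfalso
      have h2 : y = 1 := congrArg Subtype.val h1
      rw [h2, orderOf_one] at hy2
      omega
    · exact Or.inl (congrArg Subtype.val h1)
    · exact Or.inr (Or.inl (congrArg Subtype.val h1))
    · exact Or.inr (Or.inr (congrArg Subtype.val h1))
  · rintro x hx hx5 _ ⟨s, hs, rfl⟩ _ ⟨t, ht, rfl⟩ _ ⟨w, hw, rfl⟩ hxs hxt hxw hst hws hwt hwr
    have e5 : (⟨x, hx⟩ : ↥N) ^ 5 = 1 := by
      apply Subtype.ext
      change x ^ 5 = 1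
      rw [← hx5]
      exact pow_orderOf_eq_one x
    have e1 : (⟨x, hx⟩ : ↥N) ≠ 1 := by
      intro h
      have h1 : x = 1 := congrArg Subtype.val h
      rw [h1, orderOf_one] at hx5
      omega
    have h1 := five_four C e5 e1 hs ht hw (Subtype.ext hxs) (Subtype.ext hxt) (Subtype.ext hxw)
      (fun h => hst (congrArg Subtype.val h)) (fun h => hws (by rw [h])) (fun h => hwt (by rw [h]))
      (fun h => hwr (congrArg Subtype.val h))
    rcases h1 with h1 | h1 | h1
    · exact Or.inl (congrArg Subtype.val h1)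
    · exact Or.inr (Or.inl (congrArg Subtype.val h1))
    · exact Or.inr (Or.inr (congrArg Subtype.val h1))

/-- **more facts on `H`** -/
theorem hSide2 (hn : ∀ h ∈ H, ∀ n ∈ N, h * n * h⁻¹ ∈ N) : HSide2 H N (D e) := by
  have F := fiSet e
  refine
    { norm := hn
      ne := ?_
      cl := fun a ha b hb => by
        obtain ⟨g, -, hg⟩ := F.trans a ha b hb
        exact ⟨g, hg⟩
      cardC := F.card_cent
      quot := F.quot }
  rw [← Set.ncard_pos (Set.finite_of_ncard_ne_zero (by rw [F.ncard]; norm_num)), F.ncard]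
  norm_num

end G

end Cfsg.Agent.H153.FH
end

-- part: H775/EPF/Row
section
/-!
# S5745, row (2E6(2), Fi22): the socle `Fi22` is impossible in a group with a structure `GSide` (helper775)
-/

set_option autoImplicit false

namespace Cfsg.Agent.H775.EPF

open Subgroup Cfsg.Agent.H284 Cfsg.Agent.H209.EPX

/-- **S5745**: no stabiliser with socle `Fi22` in a group with the structure `GSide` (`²E₆(2)`). -/
theorem kill_row {G : Type*} [Group G] [Finite G] {r u : G} {Q : Subgroup G} (GS : H203.EPX.GSide r Q u)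
    {H N : Subgroup G} {T : Type} [Group T] {e : N ≃* (Fin 1 → T)} (h : EPS H N e) (hT : Spor.IsoFi22 T) : False := by
  obtain ⟨e1⟩ := hT
  have e2 : N ≃* Cfsg.Spor.Fi22 := (e.trans (MulEquiv.funUnique (Fin 1) T)).trans e1
  refine kill GS h.ep (Cfsg.Agent.H153.FH.hSide e2 h.le h.nrm ?_) (Cfsg.Agent.H153.FH.hSide2 e2 h.nrm)
  intro c _ hc
  have h1 : c ∈ Subgroup.centralizer (N : Set G) := by
    rw [mem_centralizer_iff]
    intro n hn
    exact (hc n hn).symm
  rw [h.cent, mem_bot] at h1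
  exact h1

end Cfsg.Agent.H775.EPF
end

-- part: H775/EPF/TE6
section
/-!
# S5745: the cell `(²E₆(2), Fi₂₂)` (helper775; G-side helper203, 622, 891, 406; H-side helper153; proof of helper918)
-/

set_option autoImplicit false

namespace Cfsg.Agent.H775.EPF

open Subgroup Cfsg.Agent.H284 Cfsg.Agent.H209.EPX

/-- **S5745, the cell `(²E₆(2), Fi₂₂)`.** -/
theorem te6_fi22 (K : Type) [Field K] [Fintype K] (hK : Fintype.card K = 4) (H N : Subgroup ↥(Lie.twistedE6 K 2))
    (T : Type) [Group T] (e : N ≃* (Fin 1 → T)) (h : EPS H N e) (hT : Spor.IsoFi22 T) : False := by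
  obtain ⟨r, Q, u, GS⟩ := H203.EPX.gside K hK
  have hfin : Finite ↥(Lie.twistedE6 K 2) := inferInstance
  exact kill_row GS h hT

end Cfsg.Agent.H775.EPF
end
end

-- part: H679/EPX/Resid
section
prune_inst 0x241064043022120000180012c0001c66de000100002b0001d8e10a400687df602022af21c7a009034022a24c0034006813000450421000000a200400013d07a990cb4206b348a10c26009f801084400000000000000000000000000000041000200400000
set_option linter.all false
open scoped Cfsg.Agent.FastGrp

/-!
# Elements of order 5 are not self-centralising (S5745, row `te6.2.O7(3)`)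

`M` of order not divisible by 25 with a normal subgroup `A₉`, `PSp₆(2)` or `G₂(3)`.
-/

set_option autoImplicit false

namespace Cfsg.Agent.H679.EPX

section Abs

variable {M : Type*} [Group M] [Finite M]

theorem of_comm (h25 : ¬ 25 ∣ Nat.card M) {y u v : M} (hy : orderOf y = 5) (hu : orderOf u = 5)
    (huv : v * u = u * v) (hv : v ∉ Subgroup.zpowers u) : ∃ z : M, z * y = y * z ∧ z ∉ Subgroup.zpowers y := by
  have h5 : Fact (Nat.Prime 5) := ⟨Nat.prime_five⟩
  have hs : ∀ w : M, orderOf w = 5 → ∃ S : Sylow 5 M, (S : Subgroup M) = Subgroup.zpowers w := by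
    intro w hw
    have hp : IsPGroup 5 (Subgroup.zpowers w) := IsPGroup.of_card (n := 1) (by rw [Nat.card_zpowers, hw, pow_one])
    refine ⟨hp.toSylow fun h => h25 ?_, rfl⟩
    rw [← (Subgroup.zpowers w).card_mul_index, Nat.card_zpowers, hw]
    exact Nat.mul_dvd_mul_left 5 h
  obtain ⟨S, hS⟩ := hs u hu
  obtain ⟨T, hT⟩ := hs y hy
  obtain ⟨g, hg⟩ := MulAction.exists_smul_eq M S T
  have h1 : (T : Subgroup M) = (Subgroup.zpowers u).map (MulAut.conj g).toMonoidHom := by
    rw [← hg, ← hS]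
    rfl
  have h2 : y ∈ (Subgroup.zpowers u).map (MulAut.conj g).toMonoidHom := by
    rw [← h1, hT]
    exact Subgroup.mem_zpowers y
  obtain ⟨_, ⟨m, rfl⟩, hm⟩ := h2
  have hm : g * u ^ m * g⁻¹ = y := hm
  refine ⟨g * v * g⁻¹, ?_, fun h => hv ?_⟩
  · have h3 : v * u ^ m = u ^ m * v := (Commute.zpow_right (show Commute v u from huv) m).eq
    rw [← hm]
    calc g * v * g⁻¹ * (g * u ^ m * g⁻¹) = g * (v * u ^ m) * g⁻¹ := by group
      _ = g * (u ^ m * v) * g⁻¹ := by rw [h3]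
      _ = _ := by group
  · rw [← hT, h1] at h
    obtain ⟨w, hw, e⟩ := h
    have e : g * w * g⁻¹ = g * v * g⁻¹ := e
    have : w = v := mul_left_cancel (mul_right_cancel e)
    rwa [← this]

omit [Finite M] in
theorem comm_of_norm {y d : M} (hy : y ^ 5 = 1) (hd : orderOf d = 13) (h : y * d * y⁻¹ ∈ Subgroup.zpowers d) :
    y * d = d * y := by
  obtain ⟨k, hk⟩ := h
  have hk : d ^ k = y * d * y⁻¹ := hk
  have h1 : ∀ n : ℕ, y ^ n * d * (y ^ n)⁻¹ = d ^ (k ^ n) := by
    intro n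
    induction n with
    | zero => simp
    | succ n ih =>
      have h2 : y ^ (n + 1) * d * (y ^ (n + 1))⁻¹ = y * (y ^ n * d * (y ^ n)⁻¹) * y⁻¹ := by
        rw [pow_succ']
        group
      rw [h2, ih, ← conj_zpow, ← hk, ← zpow_mul, pow_succ']
  have h2 := h1 5
  rw [hy, one_mul, inv_one, mul_one] at h2
  have h3 : ((orderOf d : ℕ) : ℤ) ∣ k ^ 5 - 1 := by
    rw [orderOf_dvd_iff_zpow_eq_one, zpow_sub, zpow_one, ← h2, mul_inv_cancel]
  have h4 : ((k : ZMod 13)) ^ 5 = 1 := by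
    rw [hd] at h3
    have h5 := (ZMod.intCast_zmod_eq_zero_iff_dvd (k ^ 5 - 1) 13).2 h3
    push_cast at h5
    exact sub_eq_zero.1 h5
  have h5 : ∀ a : ZMod 13, a ^ 5 = 1 → a = 1 := by decide
  have h6 : ((orderOf d : ℕ) : ℤ) ∣ k - 1 := by
    rw [hd]
    apply (ZMod.intCast_zmod_eq_zero_iff_dvd (k - 1) 13).1
    push_cast
    rw [h5 _ h4, sub_self]
  rw [orderOf_dvd_iff_zpow_eq_one, zpow_sub, zpow_one, mul_inv_eq_one] at h6
  rw [h6] at hk
  calc y * d = y * d * y⁻¹ * y := by group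
    _ = d * y := by rw [← hk]

theorem of_normal (P : Subgroup M) [P.Normal] (h5 : ¬ 5 ∣ Nat.card P) (h13 : 13 ∣ Nat.card P)
    (h169 : ¬ 169 ∣ Nat.card P) {y : M} (hy : orderOf y = 5) :
    ∃ z : M, z * y = y * z ∧ z ∉ Subgroup.zpowers y := by
  have hp5 : Fact (Nat.Prime 5) := ⟨Nat.prime_five⟩
  have hp13 : Fact (Nat.Prime 13) := ⟨by norm_num⟩
  let _ : MulDistribMulAction (Subgroup.zpowers y) P := MulDistribMulAction.compHom P
    ((MulAut.conjNormal : M →* MulAut P).comp (Subgroup.zpowers y).subtype)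
  have hG : IsPGroup 5 (Subgroup.zpowers y) := IsPGroup.of_card (n := 1) (by rw [Nat.card_zpowers, hy, pow_one])
  obtain ⟨S, hS⟩ := hG.nonempty_fixed_point_of_prime_not_dvd_card (Sylow 13 P) (by
    intro h
    obtain ⟨S⟩ := (inferInstance : Nonempty (Sylow 13 P))
    exact h5 (h.trans (S.card_dvd_index.trans (Subgroup.index_dvd_card _))))
  obtain ⟨n, hn⟩ := IsPGroup.iff_card.1 S.isPGroup'
  have hidx : ¬ 13 ∣ (S : Subgroup P).index := S.not_dvd_index
  have hn1 : n = 1 := by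
    have h1 := (S : Subgroup P).card_mul_index
    have h2 : n ≠ 0 := by
      rintro rfl
      rw [hn, pow_zero, one_mul] at h1
      exact hidx (h1 ▸ h13)
    by_contra h3
    apply h169
    have h4 : 13 ^ 2 ∣ 13 ^ n := pow_dvd_pow 13 (by omega)
    rw [← h1, hn]
    exact Dvd.dvd.mul_right h4 _
  subst hn1
  obtain ⟨d, hd⟩ := exists_prime_orderOf_dvd_card' (G := (S : Subgroup P)) 13 (by rw [hn, pow_one])
  have hd' : orderOf ((d : P) : M) = 13 := by rw [Subgroup.orderOf_coe, Subgroup.orderOf_coe, hd]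
  have hz : Subgroup.zpowers (d : P) = (S : Subgroup P) := by
    refine Subgroup.eq_of_le_of_card_ge ?_ ?_
    · rw [Subgroup.zpowers_le]
      exact d.2
    · rw [hn, Nat.card_zpowers, Subgroup.orderOf_coe, hd, pow_one]
  have h1 : (⟨y, Subgroup.mem_zpowers y⟩ : Subgroup.zpowers y) • (d : P) ∈ (S : Subgroup P) := by
    have h2 := hS ⟨y, Subgroup.mem_zpowers y⟩
    have h3 : (⟨y, Subgroup.mem_zpowers y⟩ : Subgroup.zpowers y) • (d : P) ∈
        (((⟨y, Subgroup.mem_zpowers y⟩ : Subgroup.zpowers y) • S : Sylow 13 P) : Subgroup P) :=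
      Subgroup.smul_mem_pointwise_smul _ _ _ d.2
    rw [h2] at h3
    exact h3
  have h1' : (⟨y, Subgroup.mem_zpowers y⟩ : Subgroup.zpowers y) • (d : P) ∈ Subgroup.zpowers (d : P) := by
    rw [hz]
    exact h1
  obtain ⟨m, hm⟩ := h1'
  have hm : ((d : P) : M) ^ m = y * ((d : P) : M) * y⁻¹ := congrArg (Subtype.val : P → M) hm
  have h4 := comm_of_norm (y := y) (d := ((d : P) : M)) (by rw [← hy, pow_orderOf_eq_one]) hd' ⟨m, hm⟩
  refine ⟨((d : P) : M), h4.symm, fun h => ?_⟩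
  have h5 := orderOf_dvd_of_mem_zpowers h
  rw [hd', hy] at h5
  omega

end Abs

section Alt

/-- a 5-cycle -/
def c5 : alternatingGroup (Fin 9) :=
  ⟨Equiv.swap (0 : Fin 9) 1 * Equiv.swap (1 : Fin 9) 2 * Equiv.swap (2 : Fin 9) 3 * Equiv.swap (3 : Fin 9) 4, by
    rw [Equiv.Perm.mem_alternatingGroup]
    simp⟩

/-- a 3-cycle -/
def c3 : alternatingGroup (Fin 9) :=
  ⟨Equiv.swap (5 : Fin 9) 6 * Equiv.swap (6 : Fin 9) 7, by
    rw [Equiv.Perm.mem_alternatingGroup]
    simp⟩

theorem order_c5 : orderOf c5 = 5 := by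
  have : Fact (Nat.Prime 5) := ⟨Nat.prime_five⟩
  refine orderOf_eq_prime ?_ ?_
  · apply Subtype.ext
    show (Equiv.swap (0 : Fin 9) 1 * Equiv.swap (1 : Fin 9) 2 * Equiv.swap (2 : Fin 9) 3 * Equiv.swap (3 : Fin 9) 4 : Equiv.Perm (Fin 9)) ^ 5 = 1
    decide +kernel
  · intro h
    have h1 : (Equiv.swap (0 : Fin 9) 1 * Equiv.swap (1 : Fin 9) 2 * Equiv.swap (2 : Fin 9) 3 * Equiv.swap (3 : Fin 9) 4 : Equiv.Perm (Fin 9)) = 1 :=
      congrArg Subtype.val h
    exact absurd h1 (by decide +kernel)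

theorem order_c3 : orderOf c3 = 3 := by
  have : Fact (Nat.Prime 3) := ⟨Nat.prime_three⟩
  refine orderOf_eq_prime ?_ ?_
  · apply Subtype.ext
    show (Equiv.swap (5 : Fin 9) 6 * Equiv.swap (6 : Fin 9) 7 : Equiv.Perm (Fin 9)) ^ 3 = 1
    decide +kernel
  · intro h
    have h1 : (Equiv.swap (5 : Fin 9) 6 * Equiv.swap (6 : Fin 9) 7 : Equiv.Perm (Fin 9)) = 1 := congrArg Subtype.val h
    exact absurd h1 (by decide +kernel)

theorem comm_c : c3 * c5 = c5 * c3 := by
  apply Subtype.ext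
  show (Equiv.swap (5 : Fin 9) 6 * Equiv.swap (6 : Fin 9) 7 * (Equiv.swap (0 : Fin 9) 1 * Equiv.swap (1 : Fin 9) 2 * Equiv.swap (2 : Fin 9) 3 * Equiv.swap (3 : Fin 9) 4) :
    Equiv.Perm (Fin 9)) = Equiv.swap (0 : Fin 9) 1 * Equiv.swap (1 : Fin 9) 2 * Equiv.swap (2 : Fin 9) 3 * Equiv.swap (3 : Fin 9) 4 *
      (Equiv.swap (5 : Fin 9) 6 * Equiv.swap (6 : Fin 9) 7)
  decide +kernel

end Alt

section Sp

/-- the numbering -/
def jx : Fin 3 ⊕ Fin 3 → Fin 6
  | .inl i => ![0, 1, 2] i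
  | .inr i => ![3, 4, 5] i

/-- the matrix of a table -/
def mk6 (M : Matrix (Fin 6) (Fin 6) (ZMod 2)) : Matrix (Fin 3 ⊕ Fin 3) (Fin 3 ⊕ Fin 3) (ZMod 2) :=
  fun i j => M (jx i) (jx j)

/-- an element of order 5 -/
def sU : Matrix (Fin 6) (Fin 6) (ZMod 2) := ![![0, 0, 0, 0, 1, 0], ![0, 0, 0, 1, 1, 0], ![0, 0, 1, 0, 0, 0], ![1, 1, 0, 0, 1, 0], ![1, 0, 0, 1, 1, 0], ![0, 0, 0, 0, 0, 1]]

/-- its square -/
def sU2 : Matrix (Fin 6) (Fin 6) (ZMod 2) := ![![1, 0, 0, 1, 1, 0], ![0, 1, 0, 1, 0, 0], ![0, 0, 1, 0, 0, 0], ![1, 0, 0, 0, 1, 0], ![0, 1, 0, 1, 1, 0], ![0, 0, 0, 0, 0, 1]]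

/-- its fourth power -/
def sU4 : Matrix (Fin 6) (Fin 6) (ZMod 2) := ![![0, 1, 0, 0, 1, 0], ![1, 1, 0, 1, 1, 0], ![0, 0, 1, 0, 0, 0], ![1, 1, 0, 0, 0, 0], ![1, 0, 0, 0, 0, 0], ![0, 0, 0, 0, 0, 1]]

/-- an element of order 3 -/
def sV : Matrix (Fin 6) (Fin 6) (ZMod 2) := ![![1, 0, 0, 0, 0, 0], ![0, 1, 0, 0, 0, 0], ![0, 0, 0, 0, 0, 1], ![0, 0, 0, 1, 0, 0], ![0, 0, 0, 0, 1, 0], ![0, 0, 1, 0, 0, 1]]

/-- its square -/
def sV2 : Matrix (Fin 6) (Fin 6) (ZMod 2) := ![![1, 0, 0, 0, 0, 0], ![0, 1, 0, 0, 0, 0], ![0, 0, 1, 0, 0, 1], ![0, 0, 0, 1, 0, 0], ![0, 0, 0, 0, 1, 0], ![0, 0, 1, 0, 0, 0]]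

/-- a permutation -/
def sW : Matrix (Fin 6) (Fin 6) (ZMod 2) := ![![0, 0, 1, 0, 0, 0], ![0, 1, 0, 0, 0, 0], ![1, 0, 0, 0, 0, 0], ![0, 0, 0, 0, 0, 1], ![0, 0, 0, 0, 1, 0], ![0, 0, 0, 1, 0, 0]]


open Matrix

/-- the symplectic group -/
abbrev Sp6 : Type := ↥(Matrix.symplecticGroup (Fin 3) (ZMod 2))

/-- the element of order 5 -/
def gU : Sp6 := ⟨mk6 sU, by rw [SymplecticGroup.mem_iff]; decide +kernel⟩

/-- the element of order 3 -/
def gV : Sp6 := ⟨mk6 sV, by rw [SymplecticGroup.mem_iff]; decide +kernel⟩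

/-- the permutation -/
def gW : Sp6 := ⟨mk6 sW, by rw [SymplecticGroup.mem_iff]; decide +kernel⟩

theorem gU_pow : gU ^ 5 = 1 := by
  apply Subtype.ext
  show mk6 sU ^ 5 = 1
  have h2 : mk6 sU ^ 2 = mk6 sU2 := by rw [sq]; decide +kernel
  have h4 : mk6 sU2 ^ 2 = mk6 sU4 := by rw [sq]; decide +kernel
  have h5 : mk6 sU ^ 5 = (mk6 sU ^ 2) ^ 2 * mk6 sU := by rw [← pow_mul, ← pow_succ]
  rw [h5, h2, h4]
  decide +kernel

theorem gV_pow : gV ^ 3 = 1 := by
  apply Subtype.ext
  show mk6 sV ^ 3 = 1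
  have h2 : mk6 sV ^ 2 = mk6 sV2 := by rw [sq]; decide +kernel
  rw [pow_succ, h2]
  decide +kernel

theorem gUV : gV * gU = gU * gV := by
  apply Subtype.ext
  show mk6 sV * mk6 sU = mk6 sU * mk6 sV
  decide +kernel

theorem gU_not : gU ∉ Subgroup.center Sp6 := by
  intro h
  have h1 := congrArg Subtype.val ((Subgroup.mem_center_iff.1 h) gW)
  have h2 : mk6 sW * mk6 sU = mk6 sU * mk6 sW := h1
  exact absurd h2 (by decide +kernel)

theorem gV_not : gV ∉ Subgroup.center Sp6 := by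
  intro h
  have h1 := congrArg Subtype.val ((Subgroup.mem_center_iff.1 h) gW)
  have h2 : mk6 sW * mk6 sV = mk6 sV * mk6 sW := h1
  exact absurd h2 (by decide +kernel)

theorem sp_elts : ∃ u v : Cfsg.PSp 3 (ZMod 2), orderOf u = 5 ∧ orderOf v = 3 ∧ v * u = u * v := by
  have : Fact (Nat.Prime 3) := ⟨Nat.prime_three⟩
  have : Fact (Nat.Prime 5) := ⟨Nat.prime_five⟩
  refine ⟨QuotientGroup.mk' _ gU, QuotientGroup.mk' _ gV, orderOf_eq_prime ?_ ?_, orderOf_eq_prime ?_ ?_, ?_⟩
  · rw [← map_pow, gU_pow, map_one]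
  · intro h
    rw [← MonoidHom.mem_ker, QuotientGroup.ker_mk'] at h
    exact gU_not h
  · rw [← map_pow, gV_pow, map_one]
  · intro h
    rw [← MonoidHom.mem_ker, QuotientGroup.ker_mk'] at h
    exact gV_not h
  · rw [← map_mul, ← map_mul, gUV]

end Sp

theorem of_elts {M : Type*} [Group M] [Finite M] {P : Subgroup M} {T : Type*} [Group T] (e : P ≃* T) {u v : T}
    (hu : orderOf u = 5) (hv : orderOf v = 3) (huv : v * u = u * v) (h25 : ¬ 25 ∣ Nat.card M) {y : M}
    (hy : orderOf y = 5) : ∃ z : M, z * y = y * z ∧ z ∉ Subgroup.zpowers y := by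
  have hu' : orderOf ((e.symm u : P) : M) = 5 := by rw [Subgroup.orderOf_coe, MulEquiv.orderOf_eq, hu]
  have hv' : orderOf ((e.symm v : P) : M) = 3 := by rw [Subgroup.orderOf_coe, MulEquiv.orderOf_eq, hv]
  refine of_comm h25 hy hu' (v := ((e.symm v : P) : M)) ?_ fun h => ?_
  · rw [← Subgroup.coe_mul, ← Subgroup.coe_mul, ← map_mul, ← map_mul, huv]
  · have h5 := orderOf_dvd_of_mem_zpowers h
    rw [hu', hv'] at h5
    omega

/-- **Elements of order 5 are not self-centralising.** -/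
theorem resid {M : Type} [Group M] [Finite M] (P : Subgroup M) [P.Normal] (h25 : ¬ 25 ∣ Nat.card M) (y : M)
    (hy : orderOf y = 5) (hP : Nonempty (P ≃* alternatingGroup (Fin 9)) ∨ Nonempty (P ≃* Cfsg.PSp 3 (ZMod 2)) ∨
      Nonempty (P ≃* Cfsg.Lie.G2 (ZMod 3))) : ∃ z : M, z * y = y * z ∧ z ∉ Subgroup.zpowers y := by
  rcases hP with ⟨⟨e⟩⟩ | ⟨⟨e⟩⟩ | ⟨⟨e⟩⟩
  · exact of_elts e order_c5 order_c3 comm_c h25 hy
  · obtain ⟨u, v, hu, hv, huv⟩ := sp_elts
    exact of_elts e hu hv huv h25 hy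
  · have hc : Nat.card P = 4245696 := by
      rw [Nat.card_congr e.toEquiv, H638.G2Iso.card_G2 (F := ZMod 3), Nat.card_zmod]
      norm_num
    refine of_normal P ?_ ?_ ?_ hy
    · rw [hc]; norm_num
    · rw [hc]; norm_num
    · rw [hc]; norm_num

end Cfsg.Agent.H679.EPX
end

-- part: H332/EPO/TwoD
section
set_option linter.all false
open scoped Cfsg.Agent.FastGrp

/-!
# S5745 OWN q2, THEOREM D, abstract part (helper332)

`dich` : a finite group `X ≠ 1` with `O_2(X) = 1` and `|C_X(y)|_2 ≤ 2 ^ c` for all `y` of odd prime order: either there is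
an elementary abelian `r`-subgroup `M`, `r` odd, with `|X|_2 ≤ 2 ^ c |Aut M|_2`, or a simple nonabelian `L ≤ X` and `m > 0`
with `|L| ^ m ∣ |X|` and `|X|_2 ≤ |Aut L|_2` (`m = 1`) or `|L|_2 ≤ 2 ^ c` and `|X|_2 ≤ m_2 |Aut L|_2 2 ^ c`.
-/

set_option autoImplicit false

namespace Cfsg.Agent.H332.EPO

open Subgroup

theorem fac_mono {a b : ℕ} (h : a ∣ b) (hb : b ≠ 0) : a.factorization 2 ≤ b.factorization 2 :=
  (Nat.factorization_le_iff_dvd (ne_zero_of_dvd_ne_zero hb h) hb).2 h 2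

theorem fac_mul {a b : ℕ} (ha : a ≠ 0) (hb : b ≠ 0) :
    (a * b).factorization 2 = a.factorization 2 + b.factorization 2 := by
  rw [Nat.factorization_mul ha hb, Finsupp.add_apply]

section

variable {X : Type*} [Group X]

/-- `|N(L)|` divides `|C(L)| |Aut L|` -/
theorem card_normalizer_dvd [Finite X] (L : Subgroup X) :
    Nat.card (normalizer (L : Set X)) ∣ Nat.card (centralizer (L : Set X)) * Nat.card (MulAut L) := by
  have h1 := (normalizerMonoidHom L).ker.card_mul_index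
  rw [index_ker] at h1
  have h2 : Nat.card (normalizerMonoidHom L).ker = Nat.card (centralizer (L : Set X)) := by
    rw [normalizerMonoidHom_ker]
    exact Nat.card_congr (subgroupOfEquivOfLe (centralizer_le_normalizer (L : Set X))).toEquiv
  rw [← h1, h2]
  exact Nat.mul_dvd_mul_left _ (Subgroup.card_subgroup_dvd_card _)

theorem exists_odd [Finite X] {H : Subgroup X} (h : ¬ IsPGroup 2 H) : ∃ y ∈ H, (orderOf y).Prime ∧ orderOf y ≠ 2 := by
  by_contra hcon
  push Not at hcon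
  apply h
  have h0 : Nat.card H ≠ 0 := Nat.card_pos.ne'
  refine IsPGroup.of_card (n := (Nat.card H).primeFactorsList.length) ?_
  refine Nat.eq_prime_pow_of_unique_prime_dvd h0 ?_
  intro p hp hd
  have := Fact.mk hp
  obtain ⟨y, hy⟩ := exists_prime_orderOf_dvd_card' p hd
  have h1 : orderOf (y : X) = p := by rw [Subgroup.orderOf_coe, hy]
  have h2 := hcon y y.2 (by rw [h1]; exact hp)
  rw [h1] at h2
  exact h2

/-- a nonabelian simple group is not a 2-group -/
theorem not_two [Finite X] {L : Subgroup X} (hL : IsSimpleGroup L) (hna : ∃ a b : L, a * b ≠ b * a) :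
    ¬ IsPGroup 2 L := by
  intro h
  have h1 := h.center_nontrivial
  rcases hL.eq_bot_or_eq_top_of_normal (center L) inferInstance with h2 | h2
  · rw [h2] at h1
    exact (Subgroup.nontrivial_iff_ne_bot _).1 h1 rfl
  · obtain ⟨a, b, hab⟩ := hna
    apply hab
    have h3 : a ∈ center L := by rw [h2]; trivial
    exact ((Subgroup.mem_center_iff.1 h3) b).symm

theorem cent_le {L : Subgroup X} {y : X} (hy : y ∈ L) : centralizer (L : Set X) ≤ centralizer ({y} : Set X) :=
  centralizer_le (Set.singleton_subset_iff.2 hy)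

theorem map_conj_map_conj (g h : X) (S : Subgroup X) :
    (S.map (MulAut.conj h).toMonoidHom).map (MulAut.conj g).toMonoidHom = S.map (MulAut.conj (g * h)).toMonoidHom := by
  rw [Subgroup.map_map]
  congr 1
  ext x
  simp [mul_assoc]

/-- The normalizer of a factor has index `m` (as in `H504.AN.index_normalizer`). -/
theorem index_nz {m : ℕ} {S : Fin m → Subgroup X} (hinj : Function.Injective S)
    (hconj : ∀ (g : X) i, ∃ j, S j = (S i).map (MulAut.conj g).toMonoidHom)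
    (htrans : ∀ i j, ∃ g : X, S j = (S i).map (MulAut.conj g).toMonoidHom) (o : Fin m) :
    (normalizer (S o : Set X) : Subgroup X).index = m := by
  classical
  choose f hf using hconj
  have hf1 : ∀ i, f 1 i = i := by
    intro i
    apply hinj
    rw [hf]
    ext x
    simp
  have hf2 : ∀ x y i, f (x * y) i = f x (f y i) := by
    intro x y i
    apply hinj
    rw [hf, hf x, hf y, map_conj_map_conj]
  let act : MulAction X (Fin m) :=
    { smul := f
      one_smul := hf1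
      mul_smul := hf2 }
  have hsm : ∀ (x : X) i, x • i = f x i := fun _ _ => rfl
  have htr : MulAction.IsPretransitive X (Fin m) := by
    constructor
    intro i j
    obtain ⟨g, hg⟩ := htrans i j
    refine ⟨g, ?_⟩
    apply hinj
    rw [hsm, hf, hg]
  have hst : MulAction.stabilizer X o = (normalizer (S o : Set X) : Subgroup X) := by
    ext x
    rw [MulAction.mem_stabilizer_iff, Subgroup.mem_normalizer_iff_map_conj_eq, hsm]
    constructor
    · intro h
      exact (hf x o).symm.trans (congrArg S h)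
    · intro h
      exact hinj ((hf x o).trans h)
  rw [← hst, MulAction.index_stabilizer_of_transitive, Nat.card_fin]

variable [Finite X]

theorem exists_minNormal [Nontrivial X] : ∃ M : Subgroup X, M.Normal ∧ M ≠ ⊥ ∧
    ∀ K : Subgroup X, K.Normal → K ≤ M → K = ⊥ ∨ K = M := by
  have hfin : {T : Subgroup X | T.Normal ∧ T ≠ ⊥}.Finite := Set.toFinite _
  have hne : {T : Subgroup X | T.Normal ∧ T ≠ ⊥}.Nonempty := ⟨⊤, inferInstance, top_ne_bot⟩
  obtain ⟨M, ⟨hn, h0⟩, hm⟩ := hfin.exists_minimal hne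
  refine ⟨M, hn, h0, fun K hK hle => ?_⟩
  by_cases hK0 : K = ⊥
  · exact Or.inl hK0
  · exact Or.inr (le_antisymm hle (hm ⟨hK, hK0⟩ hle))

/-- the centraliser of `L` has a 2-part bounded by `c`, if `L` has an element of odd prime order -/
theorem cent_fac {c : ℕ}
    (hC : ∀ y : X, (orderOf y).Prime → orderOf y ≠ 2 → (Nat.card (centralizer ({y} : Set X))).factorization 2 ≤ c)
    {L : Subgroup X} (hL : ¬ IsPGroup 2 L) : (Nat.card (centralizer (L : Set X))).factorization 2 ≤ c := by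
  obtain ⟨y, hy, h1, h2⟩ := exists_odd hL
  exact (fac_mono (Subgroup.card_dvd_of_le (cent_le hy)) Nat.card_pos.ne').trans (hC y h1 h2)

/-- a subgroup commuting with a subgroup which is not a 2-group -/
theorem fac_of_comm {c : ℕ}
    (hC : ∀ y : X, (orderOf y).Prime → orderOf y ≠ 2 → (Nat.card (centralizer ({y} : Set X))).factorization 2 ≤ c)
    {L R : Subgroup X} (hR : ¬ IsPGroup 2 R) (h : L ≤ centralizer (R : Set X)) : (Nat.card L).factorization 2 ≤ c :=
  (fac_mono (Subgroup.card_dvd_of_le h) Nat.card_pos.ne').trans (cent_fac hC hR)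

theorem card_fac (L : Subgroup X) : (Nat.card X).factorization 2 ≤
    (normalizer (L : Set X)).index.factorization 2 + (Nat.card (MulAut L)).factorization 2 +
      (Nat.card (centralizer (L : Set X))).factorization 2 := by
  have h1 := (normalizer (L : Set X)).card_mul_index
  rw [← h1, fac_mul Nat.card_pos.ne' index_ne_zero_of_finite]
  have h2 := fac_mono (card_normalizer_dvd L) (Nat.mul_ne_zero Nat.card_pos.ne' Nat.card_pos.ne')
  rw [fac_mul Nat.card_pos.ne' Nat.card_pos.ne'] at h2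
  omega

/-- **The dichotomy.** -/
theorem dich [Nontrivial X] {c : ℕ}
    (hC : ∀ y : X, (orderOf y).Prime → orderOf y ≠ 2 → (Nat.card (centralizer ({y} : Set X))).factorization 2 ≤ c)
    (hO : ∀ E : Subgroup X, E.Normal → IsPGroup 2 E → E = ⊥) :
    (∃ (r m : ℕ) (M : Subgroup X), r.Prime ∧ r ≠ 2 ∧ 0 < m ∧ Nat.card M = r ^ m ∧ (∀ x ∈ M, x ^ r = 1) ∧
      (Nat.card X).factorization 2 ≤ c + (Nat.card (MulAut M)).factorization 2) ∨
    (∃ (L : Subgroup X) (m : ℕ), IsSimpleGroup L ∧ (∃ a b : L, a * b ≠ b * a) ∧ 0 < m ∧ Nat.card L ^ m ∣ Nat.card X ∧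
      ((m = 1 ∧ (Nat.card X).factorization 2 ≤ (Nat.card (MulAut L)).factorization 2) ∨
        ((Nat.card L).factorization 2 ≤ c ∧ (Nat.card X).factorization 2 ≤
          m.factorization 2 + (Nat.card (MulAut L)).factorization 2 + c))) := by
  classical
  obtain ⟨M, hMn, hM0, hMm⟩ := exists_minNormal (X := X)
  by_cases hab : ∀ x ∈ M, ∀ y ∈ M, Commute x y
  · left
    obtain ⟨S, m, hSM, hS, hm, ⟨e⟩⟩ := Cfsg.Agent.Lib.MinNormal.exists_mulEquiv_pi M hM0 hMm
    have hcS : ∀ a b : S, a * b = b * a := fun a b => Subtype.ext (hab a (hSM a.2) b (hSM b.2))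
    let _ : CommGroup S := { (inferInstance : Group S) with mul_comm := hcS }
    have hpr : (Nat.card S).Prime := IsSimpleGroup.prime_card
    have hcM : Nat.card M = Nat.card S ^ m := by
      rw [Nat.card_congr e.toEquiv, Nat.card_pi, Finset.prod_const, Finset.card_univ, Fintype.card_fin]
    have hex : ∀ x ∈ M, x ^ Nat.card S = 1 := by
      intro x hx
      have h1 : (⟨x, hx⟩ : M) ^ Nat.card S = 1 := by
        apply e.injective
        rw [map_pow, map_one]
        funext i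
        exact pow_card_eq_one'
      exact congrArg Subtype.val h1
    have hr2 : Nat.card S ≠ 2 := by
      intro h
      apply hM0
      refine hO M hMn (IsPGroup.of_card (n := m) ?_)
      rw [hcM, h]
    refine ⟨Nat.card S, m, M, hpr, hr2, hm, hcM, hex, ?_⟩
    have h1 := card_fac M
    have h2 : (normalizer (M : Set X)).index = 1 := by
      rw [index_eq_one, normalizer_eq_top_iff]
      exact hMn
    rw [h2, Nat.factorization_one, Finsupp.zero_apply, zero_add] at h1
    have h3 : ¬ IsPGroup 2 M := by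
      intro h
      exact hM0 (hO M hMn h)
    have h4 := cent_fac hC h3
    omega
  · right
    obtain ⟨m, S, e, hm, hS, hna, hinj, hSM, -, hconj, htrans, he, hcoord⟩ :=
      Cfsg.Agent.PermutationGroups.OnanScott.exists_coordinates M hMm hab
    obtain ⟨o, -⟩ : ∃ o : Fin m, True := ⟨⟨0, hm⟩, trivial⟩
    have hcard : ∀ i, Nat.card (S i) = Nat.card (S o) := by
      intro i
      obtain ⟨g, hg⟩ := htrans o i
      rw [hg]
      exact Nat.card_congr ((S o).equivMapOfInjective _ (MulAut.conj g).injective).toEquiv.symm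
    have hcM : Nat.card M = Nat.card (S o) ^ m := by
      rw [Nat.card_congr e.toEquiv, Nat.card_pi, Finset.prod_congr rfl (fun i _ => hcard i), Finset.prod_const,
        Finset.card_univ, Fintype.card_fin]
    have hn2 : ¬ IsPGroup 2 (S o) := not_two (hS _) (hna _)
    have hidx := index_nz hinj hconj htrans o
    have hfac := card_fac (S o)
    rw [hidx] at hfac
    refine ⟨S o, m, hS _, hna _, hm, hcM ▸ Subgroup.card_subgroup_dvd_card M, ?_⟩
    by_cases hm1 : m = 1
    · -- `M` is simple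
      have hML : M = S o := by
        symm
        apply Subgroup.eq_of_le_of_card_ge (hSM _)
        rw [hcM, hm1, pow_one]
      have hm2 : m.factorization 2 = 0 := by rw [hm1, Nat.factorization_one, Finsupp.zero_apply]
      by_cases hc0 : centralizer ((S o : Subgroup X) : Set X) = ⊥
      · left
        refine ⟨hm1, ?_⟩
        rw [hc0, Subgroup.card_bot, hm2, Nat.factorization_one, Finsupp.zero_apply] at hfac
        omega
      · right
        have hnc : (centralizer ((S o : Subgroup X) : Set X)).Normal := by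
          rw [← hML]
          infer_instance
        have h1 : ¬ IsPGroup 2 (centralizer ((S o : Subgroup X) : Set X)) := fun h => hc0 (hO _ hnc h)
        refine ⟨fac_of_comm hC h1 ?_, ?_⟩
        · intro x hx y hy
          exact ((mem_centralizer_iff.1 hy) x hx).symm
        · have h2 := cent_fac hC hn2
          omega
    · right
      obtain ⟨o', ho'⟩ : ∃ o' : Fin m, o' ≠ o := by
        have : Nontrivial (Fin m) := Fin.nontrivial_iff_two_le.2 (by omega)
        exact exists_ne o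
      have h1 : S o ≤ centralizer ((S o' : Subgroup X) : Set X) := by
        intro x hx y hy
        have h2 : e (⟨x, hSM _ hx⟩ : M) o' = 1 := by
          have h3 := he o ⟨x, hx⟩
          have h4 : (⟨x, hSM _ hx⟩ : M) = e.symm (Pi.mulSingle o ⟨x, hx⟩) := Subtype.ext h3.symm
          rw [h4, MulEquiv.apply_symm_apply, Pi.mulSingle_eq_of_ne ho']
        have h3 := (hcoord (⟨x, hSM _ hx⟩ : M) o').1 h2 y hy
        exact h3.eq.symm
      refine ⟨fac_of_comm hC (not_two (hS _) (hna _)) h1, ?_⟩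
      have h2 := cent_fac hC hn2
      omega

end

end Cfsg.Agent.H332.EPO
end
end
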